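import Mathlib
import Cfsg.Prelude.Def_PLocal

/-!
# The Thompson subgroup of a subgroup, at the level of the ambient group

`gMaxEA p X` is the set of elementary abelian `p`-subgroups of `G` contained in `X` of largest order.
`thompsonSubgroupOf p X` is the join of this family; monotonicity and conjugation naturality.
-/

namespace Cfsg.Agent.Lib.PGroup.ThompsonG

open Cfsg

section Basic

variable {G : Type*} [Group G] {p : ℕ}

/-- The elementary abelian subgroups of largest order inside `X`, as subgroups of `G`. -/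
def gMaxEA (p : ℕ) (X : Subgroup G) : Set (Subgroup G) :=
  {A | A ≤ X ∧ IsElementaryAbelian p A ∧
    ∀ B : Subgroup G, B ≤ X → IsElementaryAbelian p B → Nat.card B ≤ Nat.card A}

theorem ea_mono {A B : Subgroup G} (hA : IsElementaryAbelian p A) (h : B ≤ A) :
    IsElementaryAbelian p B := by
  refine ⟨⟨⟨fun x y => ?_⟩⟩, fun a ha => hA.2 a (h ha)⟩
  have := hA.1.is_comm.comm (⟨x.1, h x.2⟩ : A) ⟨y.1, h y.2⟩
  exact Subtype.ext (show x.1 * y.1 = y.1 * x.1 from congrArg Subtype.val this)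

theorem ea_comm {A : Subgroup G} (hA : IsElementaryAbelian p A) {a b : G} (ha : a ∈ A)
    (hb : b ∈ A) : a * b = b * a :=
  congrArg Subtype.val (hA.1.is_comm.comm (⟨a, ha⟩ : A) ⟨b, hb⟩)

theorem ea_of_map {H : Type*} [Group H] {f : G →* H} (hf : Function.Injective f) {A : Subgroup G}
    (hA : IsElementaryAbelian p (A.map f)) : IsElementaryAbelian p A := by
  refine ⟨⟨⟨fun x y => Subtype.ext (hf ?_)⟩⟩, fun a ha => hf ?_⟩
  · have := ea_comm hA (Subgroup.mem_map_of_mem f x.2) (Subgroup.mem_map_of_mem f y.2)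
    simpa using this
  · have := hA.2 _ (Subgroup.mem_map_of_mem f ha)
    simpa using this

theorem ea_map {H : Type*} [Group H] (f : G →* H) {A : Subgroup G}
    (hA : IsElementaryAbelian p A) : IsElementaryAbelian p (A.map f) := by
  refine ⟨⟨⟨?_⟩⟩, ?_⟩
  · rintro ⟨_, a, ha, rfl⟩ ⟨_, b, hb, rfl⟩
    apply Subtype.ext
    show f a * f b = f b * f a
    rw [← map_mul, ea_comm hA ha hb, map_mul]
  · rintro _ ⟨a, ha, rfl⟩
    rw [← map_pow, hA.2 a ha, map_one]

theorem card_map_subtype {X : Subgroup G} (A : Subgroup X) :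
    Nat.card (A.map X.subtype) = Nat.card A :=
  Nat.card_congr (A.equivMapOfInjective _ X.subtype_injective).toEquiv.symm

theorem map_subgroupOf {X B : Subgroup G} (h : B ≤ X) : (B.subgroupOf X).map X.subtype = B :=
  Subgroup.map_subgroupOf_eq_of_le h

theorem mem_gMaxEA_of_mem {X : Subgroup G} {A : Subgroup X}
    (hA : A ∈ maxElementaryAbelianSubgroups p X) : A.map X.subtype ∈ gMaxEA p X := by
  refine ⟨Subgroup.map_subtype_le A, ea_map _ hA.1, fun B hBX hB => ?_⟩
  rw [card_map_subtype, ← map_subgroupOf hBX, card_map_subtype]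
  refine hA.2 _ (ea_of_map X.subtype_injective ?_)
  rwa [map_subgroupOf hBX]

theorem subgroupOf_mem_of_mem_gMaxEA {X B : Subgroup G} (hB : B ∈ gMaxEA p X) :
    B.subgroupOf X ∈ maxElementaryAbelianSubgroups p X := by
  obtain ⟨hBX, hBe, hBm⟩ := hB
  refine ⟨ea_of_map X.subtype_injective ?_, fun C hC => ?_⟩
  · rwa [map_subgroupOf hBX]
  · rw [← card_map_subtype C, ← card_map_subtype (B.subgroupOf X), map_subgroupOf hBX]
    exact hBm _ (Subgroup.map_subtype_le C) (ea_map _ hC)

/-- The Thompson subgroup of `X` is the join of the ambient family `gMaxEA p X`. -/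
theorem thompsonSubgroupOf_eq (X : Subgroup G) : thompsonSubgroupOf p X = sSup (gMaxEA p X) := by
  apply le_antisymm
  · unfold thompsonSubgroupOf thompsonSubgroup
    rw [Subgroup.map_le_iff_le_comap]
    refine sSup_le fun A hA => ?_
    rw [← Subgroup.map_le_iff_le_comap]
    exact le_sSup (mem_gMaxEA_of_mem hA)
  · refine sSup_le fun B hB => ?_
    rw [← map_subgroupOf hB.1]
    exact Subgroup.map_mono (le_sSup (subgroupOf_mem_of_mem_gMaxEA hB))

theorem le_thompsonSubgroupOf {X A : Subgroup G} (hA : A ∈ gMaxEA p X) :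
    A ≤ thompsonSubgroupOf p X := by
  rw [thompsonSubgroupOf_eq]
  exact le_sSup hA

theorem thompsonSubgroupOf_le_iff {X K : Subgroup G} :
    thompsonSubgroupOf p X ≤ K ↔ ∀ A ∈ gMaxEA p X, A ≤ K := by
  rw [thompsonSubgroupOf_eq]
  exact sSup_le_iff

theorem thompsonSubgroupOf_le_self (X : Subgroup G) : thompsonSubgroupOf p X ≤ X :=
  Subgroup.map_subtype_le _

/-- If `X ≤ Y` and some member of the family of `Y` lies in `X`, it also belongs to the family of
`X`. -/
theorem mem_gMaxEA_of_le {X Y A : Subgroup G} (hXY : X ≤ Y) (hA : A ∈ gMaxEA p Y) (hAX : A ≤ X) :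
    A ∈ gMaxEA p X :=
  ⟨hAX, hA.2.1, fun B hBX hB => hA.2.2 B (hBX.trans hXY) hB⟩

/-- If `X ≤ Y` and some member of the family of `Y` lies in `X`, then the family of `X` lies in
the family of `Y`. -/
theorem gMaxEA_subset_of_le [Finite G] {X Y A : Subgroup G} (hXY : X ≤ Y) (hA : A ∈ gMaxEA p Y)
    (hAX : A ≤ X) : gMaxEA p X ⊆ gMaxEA p Y := by
  intro B hB
  refine ⟨hB.1.trans hXY, hB.2.1, fun C hCY hC => ?_⟩
  have h1 := hA.2.2 C hCY hC
  have h2 := hB.2.2 A hAX hA.2.1
  omega

theorem thompsonSubgroupOf_mono [Finite G] {X Y A : Subgroup G} (hXY : X ≤ Y)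
    (hA : A ∈ gMaxEA p Y) (hAX : A ≤ X) : thompsonSubgroupOf p X ≤ thompsonSubgroupOf p Y := by
  rw [thompsonSubgroupOf_eq, thompsonSubgroupOf_eq]
  exact sSup_le_sSup (gMaxEA_subset_of_le hXY hA hAX)

theorem exists_mem_gMaxEA [Finite G] (X : Subgroup G) : ∃ A, A ∈ gMaxEA p X := by
  obtain ⟨A, hA, hmax⟩ := Set.exists_max_image {A : Subgroup G | A ≤ X ∧ IsElementaryAbelian p A}
    (fun A => Nat.card A) (Set.toFinite _)
    ⟨⊥, bot_le, by
      refine ⟨inferInstance, fun a ha => ?_⟩
      rw [Subgroup.mem_bot] at ha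
      simp [ha]⟩
  exact ⟨A, hA.1, hA.2, fun B hBX hB => hmax B ⟨hBX, hB⟩⟩

/-- If `J(Y) ≤ X ≤ Y` then `J(X) = J(Y)`. -/
theorem thompsonSubgroupOf_eq_of_le [Finite G] {X Y : Subgroup G} (hXY : X ≤ Y)
    (hJ : thompsonSubgroupOf p Y ≤ X) : thompsonSubgroupOf p X = thompsonSubgroupOf p Y := by
  obtain ⟨A, hA⟩ := exists_mem_gMaxEA (p := p) Y
  have hAX : A ≤ X := (le_thompsonSubgroupOf hA).trans hJ
  apply le_antisymm (thompsonSubgroupOf_mono hXY hA hAX)
  rw [thompsonSubgroupOf_le_iff]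
  intro B hB
  exact le_thompsonSubgroupOf (mem_gMaxEA_of_le hXY hB ((le_thompsonSubgroupOf hB).trans hJ))

theorem card_map_conj (g : G) (A : Subgroup G) :
    Nat.card (A.map (MulAut.conj g).toMonoidHom) = Nat.card A :=
  Nat.card_congr (A.equivMapOfInjective _ (MulAut.conj g).injective).toEquiv.symm

theorem map_conj_map_conj_inv (g : G) (A : Subgroup G) :
    (A.map (MulAut.conj g⁻¹).toMonoidHom).map (MulAut.conj g).toMonoidHom = A := by
  ext x
  simp only [Subgroup.mem_map, MulEquiv.coe_toMonoidHom, MulAut.conj_apply]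
  constructor
  · rintro ⟨_, ⟨y, hy, rfl⟩, rfl⟩
    simpa [mul_assoc] using hy
  · intro hx
    exact ⟨_, ⟨x, hx, rfl⟩, by simp [mul_assoc]⟩

theorem map_conj_eq_of_mem_normalizer {X : Subgroup G} {n : G}
    (hn : n ∈ Subgroup.normalizer (X : Set G)) : X.map (MulAut.conj n).toMonoidHom = X := by
  ext x
  rw [Subgroup.mem_normalizer_iff] at hn
  simp only [Subgroup.mem_map, MulEquiv.coe_toMonoidHom, MulAut.conj_apply]
  constructor
  · rintro ⟨y, hy, rfl⟩
    exact (hn y).1 hy
  · intro hx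
    refine ⟨n⁻¹ * x * n, (hn _).2 ?_, by group⟩
    have : n * (n⁻¹ * x * n) * n⁻¹ = x := by group
    rwa [this]

/-- Conjugation carries the family of `X` to the family of `gXg⁻¹`. -/
theorem map_conj_mem_gMaxEA {X A : Subgroup G} (g : G) (hA : A ∈ gMaxEA p X) :
    A.map (MulAut.conj g).toMonoidHom ∈ gMaxEA p (X.map (MulAut.conj g).toMonoidHom) := by
  refine ⟨Subgroup.map_mono hA.1, ea_map _ hA.2.1, fun B hBX hB => ?_⟩
  rw [card_map_conj]
  have h1 : B.map (MulAut.conj g⁻¹).toMonoidHom ≤ X := by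
    rw [Subgroup.map_le_iff_le_comap]
    intro b hb
    obtain ⟨x, hx, hxb⟩ := hBX hb
    have : (MulAut.conj g⁻¹).toMonoidHom b = x := by
      rw [← hxb]
      simp [MulAut.conj_apply, mul_assoc]
    show (MulAut.conj g⁻¹).toMonoidHom b ∈ X
    rwa [this]
  have h2 := hA.2.2 _ h1 (ea_map _ hB)
  rwa [card_map_conj] at h2

theorem map_conj_thompsonSubgroupOf_le (g : G) (X : Subgroup G) :
    (thompsonSubgroupOf p X).map (MulAut.conj g).toMonoidHom ≤
      thompsonSubgroupOf p (X.map (MulAut.conj g).toMonoidHom) := by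
  rw [Subgroup.map_le_iff_le_comap, thompsonSubgroupOf_le_iff]
  intro A hA
  rw [← Subgroup.map_le_iff_le_comap]
  exact le_thompsonSubgroupOf (map_conj_mem_gMaxEA g hA)

/-- The Thompson subgroup is natural under conjugation. -/
theorem map_conj_thompsonSubgroupOf (g : G) (X : Subgroup G) :
    (thompsonSubgroupOf p X).map (MulAut.conj g).toMonoidHom =
      thompsonSubgroupOf p (X.map (MulAut.conj g).toMonoidHom) := by
  apply le_antisymm (map_conj_thompsonSubgroupOf_le g X)
  have h := map_conj_thompsonSubgroupOf_le (p := p) g⁻¹ (X.map (MulAut.conj g).toMonoidHom)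
  have h2 : (X.map (MulAut.conj g).toMonoidHom).map (MulAut.conj g⁻¹).toMonoidHom = X := by
    have := map_conj_map_conj_inv g⁻¹ X
    rwa [inv_inv] at this
  rw [h2] at h
  have h3 := Subgroup.map_mono (f := (MulAut.conj g).toMonoidHom) h
  rwa [map_conj_map_conj_inv] at h3

/-- The normalizer of `X` normalizes `J(X)`. -/
theorem normalizer_le_normalizer_thompson (X : Subgroup G) :
    Subgroup.normalizer (X : Set G) ≤
      Subgroup.normalizer (thompsonSubgroupOf p X : Set G) := by
  intro n hn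
  have h1 := map_conj_thompsonSubgroupOf (p := p) n X
  rw [map_conj_eq_of_mem_normalizer hn] at h1
  rw [Subgroup.mem_normalizer_iff]
  intro j
  constructor
  · intro hj
    have : n * j * n⁻¹ ∈ (thompsonSubgroupOf p X).map (MulAut.conj n).toMonoidHom :=
      ⟨j, hj, rfl⟩
    rwa [h1] at this
  · intro hj
    rw [← h1] at hj
    obtain ⟨y, hy, hyj⟩ := hj
    have : y = j := by
      have h5 : n * y * n⁻¹ = n * j * n⁻¹ := hyj
      simpa using h5
    exact this ▸ hy

end Basic

end Cfsg.Agent.Lib.PGroup.ThompsonG
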