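import Cfsg.Agent.Lib.PGroup.Timmesfeld
import Cfsg.Agent.Lib.Coprime.GenerationE
import Cfsg.Agent.Lib.Coprime.Coset
import Cfsg.Agent.Lib.Components.Transport
import Cfsg.Agent.Lib.Components.LayerProduct
import Cfsg.Agent.Lib.Coprime.Three
import Cfsg.Agent.S0028
import Mathlib

/-!
# Failure of factorization: the basic hyperplane lemma

`H` acts faithfully on the elementary abelian `p`-group `V`, with `C_H(O_{p'}(H)) ≤ O_{p'}(H)`.
A nontrivial best offender `A ≤ H` has a hyperplane `B` with `|B| |C_V(B)| = |A| |C_V(A)|`, by coprime generation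
and Thompson's `P × Q` lemma.
-/

set_option autoImplicit false
set_option linter.unusedSectionVars false
set_option linter.style.haveILetI false
open Cfsg
open scoped commutatorElement

namespace Cfsg.Agent.Lib.PGroup.FFPair

open Cfsg.Agent.Lib.PGroup.Timmesfeld

variable {G : Type*} [Group G] [Finite G] {p : ℕ} [hp : Fact p.Prime]

/-- The image in `G` of `O_{p'}(H)`. -/
noncomputable abbrev core (p : ℕ) (H : Subgroup G) : Subgroup G :=
  (Cfsg.pPrimeCore p ↥H).map H.subtype

/-- The hypotheses common to the failure of factorization statements. -/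
structure Setup (p : ℕ) (V H : Subgroup G) : Prop where
  hV : Cfsg.IsElementaryAbelian p V
  hHV : H ≤ Subgroup.normalizer (V : Set G)
  hf : H ⊓ Subgroup.centralizer (V : Set G) = ⊥
  hS1 : Subgroup.centralizer (Cfsg.pPrimeCore p ↥H : Set ↥H) ≤ Cfsg.pPrimeCore p ↥H

theorem core_le (H : Subgroup G) : core p H ≤ H := by
  rintro _ ⟨x, -, rfl⟩
  exact x.2

theorem core_coprime (H : Subgroup G) : (Nat.card (core p H)).Coprime p := by
  have h := Cfsg.Agent.Lib.Components.Transport.coprime_card_pPrimeCore (G := ↥H) p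
  have h2 : Nat.card (core p H) = Nat.card (Cfsg.pPrimeCore p ↥H) :=
    Nat.card_congr (Subgroup.equivMapOfInjective _ _ H.subtype_injective).symm.toEquiv
  rw [h2]
  exact h

theorem core_not_dvd (H : Subgroup G) : ¬ p ∣ Nat.card (core p H) := by
  intro hd
  have h := core_coprime (p := p) H
  have := Nat.dvd_gcd hd (dvd_refl p)
  rw [h.gcd_eq_one] at this
  exact hp.out.one_lt.ne' (Nat.dvd_one.mp this)

theorem le_normalizer_core (H : Subgroup G) : H ≤ Subgroup.normalizer (core p H : Set G) := by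
  intro h hh
  rw [Subgroup.mem_normalizer_iff]
  intro x
  constructor
  · rintro ⟨y, hy, rfl⟩
    refine ⟨⟨h, hh⟩ * y * ⟨h, hh⟩⁻¹, (Cfsg.pPrimeCore_normal p ↥H).conj_mem y hy _, ?_⟩
    simp
  · rintro ⟨y, hy, hyx⟩
    have hxH : x = h⁻¹ * (h * x * h⁻¹) * h := by group
    have hxH' : x = ((⟨h, hh⟩ : ↥H)⁻¹ * y * (⟨h, hh⟩ : ↥H)⁻¹⁻¹ : ↥H) := by
      rw [hxH]
      rw [← hyx]
      simp
    rw [hxH']
    exact ⟨_, (Cfsg.pPrimeCore_normal p ↥H).conj_mem y hy _, rfl⟩

theorem isEA_of_best {V H A : Subgroup G} (S : Setup p V H) (hAH : A ≤ H)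
    (hA : Cfsg.IsBestOffenderOn p V A) : Cfsg.IsElementaryAbelian p A := by
  refine ⟨⟨⟨?_⟩⟩, ?_⟩
  · rintro ⟨a, ha⟩ ⟨b, hb⟩
    apply Subtype.ext
    have h1 : ⁅a, b⁆ ∈ H ⊓ Subgroup.centralizer (V : Set G) := by
      refine ⟨?_, hA.2.1 (Subgroup.commutator_mem_commutator ha hb)⟩
      exact H.mul_mem (H.mul_mem (H.mul_mem (hAH ha) (hAH hb)) (H.inv_mem (hAH ha))) (H.inv_mem (hAH hb))
    rw [S.hf] at h1
    have h2 : ⁅a, b⁆ = 1 := h1
    exact commutatorElement_eq_one_iff_mul_comm.mp h2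
  · intro a ha
    have h1 : a ^ p ∈ H ⊓ Subgroup.centralizer (V : Set G) := ⟨H.pow_mem (hAH ha) p, hA.2.2 a ha⟩
    rw [S.hf] at h1
    exact h1

theorem isPGroup_of_isEA {A : Subgroup G} (hA : Cfsg.IsElementaryAbelian p A) : IsPGroup p A :=
  Cfsg.Agent.Lib.Coprime.GenerationE.isPGroup_of_isElementaryAbelian hA

/-- A `p`-subgroup of `H` centralizing the core is trivial. -/
theorem eq_bot_of_le_centralizer_core {V H K : Subgroup G} (S : Setup p V H) (hK : K ≤ H)
    (hKp : IsPGroup p K) (hKc : K ≤ Subgroup.centralizer (core p H : Set G)) : K = ⊥ := by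
  have hKX : K ≤ core p H := by
    intro k hk
    have h1 : (⟨k, hK hk⟩ : ↥H) ∈ Subgroup.centralizer (Cfsg.pPrimeCore p ↥H : Set ↥H) := by
      rw [Subgroup.mem_centralizer_iff]
      intro h hh
      apply Subtype.ext
      exact (Subgroup.mem_centralizer_iff.mp (hKc hk)) h.1 ⟨h, hh, rfl⟩
    exact ⟨_, S.hS1 h1, rfl⟩
  have hbot : K ⊓ core p H = ⊥ := by
    apply Cfsg.Agent.Lib.Coprime.Coset.inf_eq_bot_of_coprime
    obtain ⟨n, hn⟩ := (IsPGroup.iff_card).mp hKp
    rw [hn]
    exact Nat.Coprime.pow_left n (core_coprime H).symm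
  rw [eq_bot_iff]
  intro k hk
  have : k ∈ K ⊓ core p H := ⟨hk, hKX hk⟩
  rwa [hbot] at this

/-- A *good* hyperplane of `A`: a subgroup `B` of index at most `p` in `A` such that `A` does not centralize
`C_X(B)`. -/
def IsGood (p : ℕ) (H A B : Subgroup G) : Prop :=
  B ≤ A ∧ B.relIndex A ≤ p ∧ ¬ (core p H ⊓ Subgroup.centralizer (B : Set G) ≤ Subgroup.centralizer (A : Set G))

/-- The intersection of all good hyperplanes is trivial. -/
theorem eq_bot_of_le_good {V H A K : Subgroup G} (S : Setup p V H) (hAH : A ≤ H)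
    (hA : Cfsg.IsBestOffenderOn p V A) (hKA : K ≤ A) (hK : ∀ B, IsGood p H A B → K ≤ B) : K = ⊥ := by
  have hEA := isEA_of_best S hAH hA
  have hgen := Cfsg.Agent.Lib.Coprime.GenerationE.le_iSup_relIndex_le A (core p H) hEA (core_not_dvd H)
    (hAH.trans (le_normalizer_core H))
  have hK2 : K ≤ Subgroup.centralizer (core p H : Set G) := by
    rw [Subgroup.le_centralizer_iff]
    refine hgen.trans (iSup_le ?_)
    rintro ⟨B, hB1, hB2⟩
    by_cases hg : core p H ⊓ Subgroup.centralizer (B : Set G) ≤ Subgroup.centralizer (A : Set G)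
    · exact hg.trans (Subgroup.centralizer_le hKA)
    · have := hK B ⟨hB1, hB2, hg⟩
      exact inf_le_right.trans (Subgroup.centralizer_le this)
  have hKp : IsPGroup p K := (isPGroup_of_isEA hEA).to_le hKA
  exact eq_bot_of_le_centralizer_core S (hKA.trans hAH) hKp hK2

theorem exists_good {V H A : Subgroup G} (S : Setup p V H) (hAH : A ≤ H)
    (hA : Cfsg.IsBestOffenderOn p V A) (hA1 : A ≠ ⊥) : ∃ B, IsGood p H A B := by
  by_contra hno
  push Not at hno
  exact hA1 (eq_bot_of_le_good S hAH hA le_rfl (fun B hB => absurd hB (hno B)))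

/-- The core of the matter: if `A` does not centralize `C_X(B)`, then it acts nontrivially on `C_V(B)`. -/
theorem not_le_of_good {V H A B : Subgroup G} (S : Setup p V H) (hAH : A ≤ H)
    (hA : Cfsg.IsBestOffenderOn p V A) (hB : IsGood p H A B) :
    ¬ (V ⊓ Subgroup.centralizer (B : Set G) ≤ Subgroup.centralizer (A : Set G)) := by
  intro hle
  obtain ⟨hBA, -, hg⟩ := hB
  have hEA := isEA_of_best S hAH hA
  have hab : ∀ a ∈ A, ∀ b ∈ A, a * b = b * a := by
    intro a ha b hb
    have := hEA.1.is_comm.comm ⟨a, ha⟩ ⟨b, hb⟩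
    simpa using congrArg Subtype.val this
  -- find `y ∈ C_X(B)`, `a ∈ A` that do not commute
  have : ∃ y ∈ core p H ⊓ Subgroup.centralizer (B : Set G), ∃ a ∈ A, a * y ≠ y * a := by
    by_contra hno
    push Not at hno
    apply hg
    intro y hy
    rw [Subgroup.mem_centralizer_iff]
    intro a ha
    exact hno y hy a ha
  obtain ⟨y, ⟨hyX, hyB⟩, a, ha, hne⟩ := this
  have hXN := le_normalizer_core (p := p) H
  have haH := hAH ha
  have hyH : y ∈ H := core_le H hyX
  -- `c = y a y⁻¹ a⁻¹`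
  set c : G := y * (a * y⁻¹ * a⁻¹) with hc
  have hcX : c ∈ core p H := by
    refine (core p H).mul_mem hyX ?_
    have := (Subgroup.mem_normalizer_iff.mp (hXN haH) y⁻¹).mp ((core p H).inv_mem hyX)
    exact this
  have hcB : c ∈ Subgroup.centralizer (B : Set G) := by
    rw [Subgroup.mem_centralizer_iff]
    intro b hb
    have hby : b * y = y * b := Subgroup.mem_centralizer_iff.mp hyB b hb
    have hba : b * a = a * b := hab b (hBA hb) a ha
    have hby' : b * y⁻¹ = y⁻¹ * b := by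
      rw [eq_inv_mul_iff_mul_eq, ← mul_assoc, ← hby, mul_assoc, mul_inv_cancel, mul_one]
    have hba' : b * a⁻¹ = a⁻¹ * b := by
      rw [eq_inv_mul_iff_mul_eq, ← mul_assoc, ← hba, mul_assoc, mul_inv_cancel, mul_one]
    rw [hc]
    calc b * (y * (a * y⁻¹ * a⁻¹)) = (b * y) * a * y⁻¹ * a⁻¹ := by group
      _ = y * (b * a) * y⁻¹ * a⁻¹ := by rw [hby]; group
      _ = y * a * (b * y⁻¹) * a⁻¹ := by rw [hba]; group
      _ = y * a * y⁻¹ * (b * a⁻¹) := by rw [hby']; group
      _ = y * a * y⁻¹ * a⁻¹ * b := by rw [hba']; group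
      _ = _ := by group
  have hcne : c ≠ 1 := by
    intro h1
    apply hne
    rw [hc] at h1
    have h2 : y * a * y⁻¹ * a⁻¹ = 1 := by rw [← h1]; group
    have h3 : y * a = a * y := by
      calc y * a = (y * a * y⁻¹ * a⁻¹) * (a * y) := by group
        _ = a * y := by rw [h2, one_mul]
    exact h3.symm
  -- Thompson's P × Q
  have hQ : Subgroup.zpowers c ≤ core p H := by
    rw [Subgroup.zpowers_le]; exact hcX
  have hQcop : (Nat.card (Subgroup.zpowers c)).Coprime p :=
    Nat.Coprime.coprime_dvd_left (Subgroup.card_dvd_of_le hQ) (core_coprime H)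
  have hVp : IsPGroup p V := isPGroup_of_isEA S.hV
  have hBp : IsPGroup p B := (isPGroup_of_isEA hEA).to_le hBA
  have hfin := Cfsg.Agent.S0028.result p B (Subgroup.zpowers c) V hBp hQcop hVp
    (by
      intro b hb
      rw [Subgroup.mem_centralizer_iff]
      rintro q ⟨k, rfl⟩
      have h1 : c * b = b * c := (Subgroup.mem_centralizer_iff.mp hcB b hb).symm
      exact (Commute.zpow_left h1 k))
    ((hBA.trans hAH).trans S.hHV)
    ((hQ.trans (core_le H)).trans S.hHV)
    (by
      rintro v ⟨hvV, hvB⟩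
      rw [Subgroup.mem_centralizer_iff]
      rintro q ⟨k, rfl⟩
      suffices h : c * v = v * c from (Commute.zpow_left h k)
      -- `a` fixes `v`, and `y⁻¹ v y ∈ C_V(B)`
      have hav : a * v = v * a := Subgroup.mem_centralizer_iff.mp (hle ⟨hvV, hvB⟩) a ha
      have hw : y⁻¹ * v * y ∈ V ⊓ Subgroup.centralizer (B : Set G) := by
        constructor
        · have h1 := (Subgroup.mem_normalizer_iff.mp (S.hHV (H.inv_mem hyH)) v).mp hvV
          simpa using h1
        · apply Subgroup.mem_centralizer_iff.mpr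
          intro b hb
          have hby : b * y = y * b := Subgroup.mem_centralizer_iff.mp hyB b hb
          have hby' : b * y⁻¹ = y⁻¹ * b := by
            rw [eq_inv_mul_iff_mul_eq, ← mul_assoc, ← hby, mul_assoc, mul_inv_cancel, mul_one]
          have hbv : b * v = v * b := Subgroup.mem_centralizer_iff.mp hvB b hb
          calc b * (y⁻¹ * v * y) = (b * y⁻¹) * v * y := by group
            _ = y⁻¹ * (b * v) * y := by rw [hby']; group
            _ = y⁻¹ * v * (b * y) := by rw [hbv]; group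
            _ = y⁻¹ * v * y * b := by rw [hby]; group
      have haw : a * (y⁻¹ * v * y) = (y⁻¹ * v * y) * a :=
        Subgroup.mem_centralizer_iff.mp (hle hw) a ha
      -- compute
      have hav' : a⁻¹ * v * a = v := by
        rw [mul_assoc, ← hav]; group
      have haw' : a * (y⁻¹ * v * y) * a⁻¹ = y⁻¹ * v * y := by
        rw [haw]; group
      have h5 : c * v * c⁻¹ = v := by
        rw [hc]
        calc y * (a * y⁻¹ * a⁻¹) * v * (y * (a * y⁻¹ * a⁻¹))⁻¹
            = y * a * y⁻¹ * (a⁻¹ * v * a) * y * a⁻¹ * y⁻¹ := by group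
          _ = y * (a * (y⁻¹ * v * y) * a⁻¹) * y⁻¹ := by rw [hav']; group
          _ = v := by rw [haw']; group
      calc c * v = (c * v * c⁻¹) * c := by group
        _ = v * c := by rw [h5])
  have hc1 : c ∈ H ⊓ Subgroup.centralizer (V : Set G) :=
    ⟨core_le H hcX, hfin (Subgroup.mem_zpowers c)⟩
  rw [S.hf] at hc1
  exact hcne hc1

/-- Numerics of a good hyperplane. -/
theorem good_spec {V H A B : Subgroup G} (S : Setup p V H) (hAH : A ≤ H)
    (hA : Cfsg.IsBestOffenderOn p V A) (hB : IsGood p H A B) :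
    B.relIndex A = p ∧ mval V B = mval V A := by
  have hnot := not_le_of_good S hAH hA hB
  obtain ⟨hBA, hidx, hg⟩ := hB
  have hEA := isEA_of_best S hAH hA
  have hAp := isPGroup_of_isEA hEA
  -- relIndex
  have hne : B ≠ A := by
    rintro rfl
    exact hg inf_le_right
  have hidx1 : B.relIndex A ≠ 1 := by
    intro h1
    apply hne
    exact le_antisymm hBA (Subgroup.relIndex_eq_one.mp h1)
  have hdvd : B.relIndex A ∣ Nat.card A := Subgroup.relIndex_dvd_card _ _
  obtain ⟨n, hn⟩ := (IsPGroup.iff_card).mp hAp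
  rw [hn] at hdvd
  obtain ⟨k, -, hk⟩ := (Nat.dvd_prime_pow hp.out).mp hdvd
  have hkpos : k ≠ 0 := by
    rintro rfl
    apply hidx1
    simpa using hk
  have hpdvd : p ∣ B.relIndex A := by
    rw [hk]; exact dvd_pow_self p hkpos
  have hidxpos : 0 < B.relIndex A := by
    rw [hk]; exact pow_pos hp.out.pos _
  have hidxp : B.relIndex A = p := le_antisymm hidx (Nat.le_of_dvd hidxpos hpdvd)
  refine ⟨hidxp, ?_⟩
  -- values
  have h1 : Nat.card B * p = Nat.card A := by
    rw [← hidxp]; exact card_mul_relIndex' hBA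
  have hle : V ⊓ Subgroup.centralizer (A : Set G) ≤ V ⊓ Subgroup.centralizer (B : Set G) :=
    inf_le_inf_left _ (Subgroup.centralizer_le hBA)
  have h2 := card_mul_relIndex' hle
  have hne2 : (V ⊓ Subgroup.centralizer (A : Set G)).relIndex (V ⊓ Subgroup.centralizer (B : Set G)) ≠ 1 := by
    intro h1
    apply hnot
    exact (Subgroup.relIndex_eq_one.mp h1).trans inf_le_right
  have hVp : IsPGroup p ↥(V ⊓ Subgroup.centralizer (B : Set G)) :=
    (isPGroup_of_isEA S.hV).to_le inf_le_left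
  have hdvd2 := Subgroup.relIndex_dvd_card (V ⊓ Subgroup.centralizer (A : Set G))
    (V ⊓ Subgroup.centralizer (B : Set G))
  obtain ⟨m, hm⟩ := (IsPGroup.iff_card).mp hVp
  rw [hm] at hdvd2
  obtain ⟨j, -, hj⟩ := (Nat.dvd_prime_pow hp.out).mp hdvd2
  have hjpos : j ≠ 0 := by
    rintro rfl
    apply hne2
    simpa using hj
  have hge : p ≤ (V ⊓ Subgroup.centralizer (A : Set G)).relIndex (V ⊓ Subgroup.centralizer (B : Set G)) := by
    rw [hj]
    calc p = p ^ 1 := (pow_one p).symm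
      _ ≤ p ^ j := Nat.pow_le_pow_right hp.out.pos (Nat.one_le_iff_ne_zero.mpr hjpos)
  apply le_antisymm (hA.1 B hBA)
  rw [← h1, ← h2, mul_assoc]
  apply Nat.mul_le_mul_left
  rw [mul_comm]
  exact Nat.mul_le_mul_left _ hge

theorem best_of_le {V A B : Subgroup G} (hA : Cfsg.IsBestOffenderOn p V A) (hBA : B ≤ A)
    (h : mval V B = mval V A) : Cfsg.IsBestOffenderOn p V B := by
  refine ⟨?_, (Subgroup.commutator_mono hBA hBA).trans hA.2.1, fun b hb => hA.2.2 b (hBA hb)⟩
  intro C hC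
  have := hA.1 C (hC.trans hBA)
  unfold mval at h
  rw [h]
  exact this

theorem mval_bot (V : Subgroup G) : mval V (⊥ : Subgroup G) = Nat.card V := by
  unfold mval
  have h1 : Subgroup.centralizer ((⊥ : Subgroup G) : Set G) = ⊤ := by
    rw [Subgroup.coe_bot, Subgroup.centralizer_eq_top_iff_subset]
    simp
  rw [h1, inf_top_eq]
  simp

/-- **S0610**: the value on a best offender is `|V|`. -/
theorem mval_eq_card {V H : Subgroup G} (S : Setup p V H) :
    ∀ A : Subgroup G, A ≤ H → Cfsg.IsBestOffenderOn p V A → mval V A = Nat.card V := by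
  suffices h : ∀ n, ∀ A : Subgroup G, Nat.card A = n → A ≤ H → Cfsg.IsBestOffenderOn p V A →
      mval V A = Nat.card V from fun A => h _ A rfl
  intro n
  induction n using Nat.strong_induction_on with
  | _ n ih =>
  intro A hn hAH hA
  by_cases hA1 : A = ⊥
  · rw [hA1]; exact mval_bot V
  obtain ⟨B, hB⟩ := exists_good S hAH hA hA1
  obtain ⟨h1, h2⟩ := good_spec S hAH hA hB
  have hcard := card_mul_relIndex' hB.1
  rw [h1] at hcard
  have hlt : Nat.card B < n := by
    rw [← hn, ← hcard]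
    have hpos : 0 < Nat.card B := Nat.card_pos
    have := hp.out.one_lt
    nlinarith
  rw [← h2]
  exact ih _ hlt B rfl (hB.1.trans hAH) (best_of_le hA hB.1 h2)

theorem eq_bot_of_commutator_eq_bot {V H B : Subgroup G} (S : Setup p V H) (hBH : B ≤ H)
    (h : ⁅V, B⁆ = ⊥) : B = ⊥ := by
  rw [eq_bot_iff]
  intro b hb
  have : b ∈ H ⊓ Subgroup.centralizer (V : Set G) := by
    refine ⟨hBH hb, ?_⟩
    apply Subgroup.mem_centralizer_iff.mpr
    intro v hv
    have h1 : ⁅v, b⁆ = 1 := by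
      have := Subgroup.commutator_mem_commutator hv hb
      rw [h] at this
      exact this
    exact commutatorElement_eq_one_iff_mul_comm.mp h1
  rwa [S.hf] at this

/-- A minimal best offender has order `p`. -/
theorem card_eq_of_minimal {V H A : Subgroup G} (S : Setup p V H) (hAH : A ≤ H)
    (hA : Cfsg.IsBestOffenderOn p V A) (hAV : ⁅V, A⁆ ≠ ⊥)
    (hmin : ∀ B : Subgroup G, B ≤ A → Cfsg.IsBestOffenderOn p V B → ⁅V, B⁆ ≠ ⊥ → B = A) :
    Nat.card A = p := by
  have hA1 : A ≠ ⊥ := by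
    rintro rfl
    exact hAV (Subgroup.commutator_bot_right V)
  obtain ⟨B, hB⟩ := exists_good S hAH hA hA1
  obtain ⟨h1, h2⟩ := good_spec S hAH hA hB
  have hbest := best_of_le hA hB.1 h2
  have hB0 : B = ⊥ := by
    by_contra hne
    have hVB : ⁅V, B⁆ ≠ ⊥ := fun h => hne (eq_bot_of_commutator_eq_bot S (hB.1.trans hAH) h)
    have := hmin B hB.1 hbest hVB
    rw [this] at h1
    rw [Subgroup.relIndex_self] at h1
    exact hp.out.one_lt.ne h1
  rw [hB0] at h1
  rw [← Subgroup.relIndex_bot_left]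
  exact h1

/-- The commutator subgroup with a cyclic group: the image of the map `v ↦ [v, a]`. -/
noncomputable def commHom {V : Subgroup G} (hVc : ∀ x ∈ V, ∀ y ∈ V, x * y = y * x) (a : G)
    (ha : a ∈ Subgroup.normalizer (V : Set G)) : ↥V →* ↥V where
  toFun v := ⟨⁅(v : G), a⁆, by
    rw [commutatorElement_def]
    have := (Subgroup.mem_normalizer_iff.mp ha (v : G)⁻¹).mp (V.inv_mem v.2)
    have h2 := V.mul_mem v.2 this
    simpa [mul_assoc] using h2⟩
  map_one' := by
    apply Subtype.ext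
    simp
  map_mul' := by
    rintro ⟨v, hv⟩ ⟨w, hw⟩
    apply Subtype.ext
    show ⁅v * w, a⁆ = ⁅v, a⁆ * ⁅w, a⁆
    have hv' : a * v⁻¹ * a⁻¹ ∈ V := (Subgroup.mem_normalizer_iff.mp ha v⁻¹).mp (V.inv_mem hv)
    have hw' : a * w⁻¹ * a⁻¹ ∈ V := (Subgroup.mem_normalizer_iff.mp ha w⁻¹).mp (V.inv_mem hw)
    rw [commutatorElement_def, commutatorElement_def, commutatorElement_def]
    have h1 := hVc v hv w hw
    have h2 := hVc w hw (a * v⁻¹ * a⁻¹) hv'
    have h3 : a * (v * w)⁻¹ * a⁻¹ = (a * v⁻¹ * a⁻¹) * (a * w⁻¹ * a⁻¹) := by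
      rw [h1]; group
    have h4 := hVc (a * w⁻¹ * a⁻¹) hw' (a * v⁻¹ * a⁻¹) hv'
    calc v * w * a * (v * w)⁻¹ * a⁻¹ = v * w * (a * (v * w)⁻¹ * a⁻¹) := by group
      _ = v * w * ((a * v⁻¹ * a⁻¹) * (a * w⁻¹ * a⁻¹)) := by rw [h3]
      _ = v * (w * (a * v⁻¹ * a⁻¹)) * (a * w⁻¹ * a⁻¹) := by group
      _ = v * ((a * v⁻¹ * a⁻¹) * w) * (a * w⁻¹ * a⁻¹) := by rw [h2]
      _ = v * a * v⁻¹ * a⁻¹ * (w * a * w⁻¹ * a⁻¹) := by group

/-- `[V, ⟨a⟩]` is the image of `v ↦ [v, a]`. -/
theorem commutator_zpowers_eq {V : Subgroup G} (hVc : ∀ x ∈ V, ∀ y ∈ V, x * y = y * x) (a : G)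
    (ha : a ∈ Subgroup.normalizer (V : Set G)) :
    ⁅V, Subgroup.zpowers a⁆ = (commHom hVc a ha).range.map V.subtype := by
  apply le_antisymm
  · rw [Subgroup.commutator_le]
    rintro v hv _ ⟨k, rfl⟩
    dsimp only
    -- finite order: use a natural power
    obtain ⟨n, hn⟩ : ∃ n : ℕ, a ^ k = a ^ n := by
      obtain ⟨m, hm⟩ := (mem_powers_iff_mem_zpowers (x := a) (y := a ^ k)).mpr ⟨k, rfl⟩
      exact ⟨m, hm.symm⟩
    rw [hn]
    clear hn
    induction n with
    | zero =>
      simp only [pow_zero, commutatorElement_one_right]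
      exact Subgroup.one_mem _
    | succ n ih =>
      have hann : a ^ n ∈ Subgroup.normalizer (V : Set G) := Subgroup.pow_mem _ ha n
      have haconj : a ^ n * v * (a ^ n)⁻¹ ∈ V := (Subgroup.mem_normalizer_iff.mp hann v).mp hv
      have h2 : ⁅v, a ^ (n + 1)⁆ = ⁅v, a ^ n⁆ * ⁅a ^ n * v * (a ^ n)⁻¹, a⁆ := by
        simp only [commutatorElement_def, pow_succ]
        group
      rw [h2]
      refine Subgroup.mul_mem _ ih ?_
      exact ⟨_, ⟨⟨_, haconj⟩, rfl⟩, rfl⟩
  · rw [Subgroup.map_le_iff_le_comap]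
    rintro _ ⟨v, rfl⟩
    exact Subgroup.commutator_mem_commutator v.2 (Subgroup.mem_zpowers a)

theorem card_commutator_zpowers {V : Subgroup G} (hVc : ∀ x ∈ V, ∀ y ∈ V, x * y = y * x) (a : G)
    (ha : a ∈ Subgroup.normalizer (V : Set G)) :
    Nat.card ↥⁅V, Subgroup.zpowers a⁆ * Nat.card ↥(V ⊓ Subgroup.centralizer ({a} : Set G)) = Nat.card V := by
  rw [commutator_zpowers_eq hVc a ha]
  have h1 : Nat.card ↥((commHom hVc a ha).range.map V.subtype) = Nat.card (commHom hVc a ha).range :=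
    Nat.card_congr (Subgroup.equivMapOfInjective _ _ V.subtype_injective).symm.toEquiv
  have h2 : Nat.card ↥(V ⊓ Subgroup.centralizer ({a} : Set G)) = Nat.card (commHom hVc a ha).ker := by
    have hle : (commHom hVc a ha).ker.map V.subtype = V ⊓ Subgroup.centralizer ({a} : Set G) := by
      ext x
      constructor
      · rintro ⟨⟨v, hv⟩, hk, rfl⟩
        refine Subgroup.mem_inf.mpr ⟨hv, ?_⟩
        have h3 : ⁅v, a⁆ = 1 := congrArg Subtype.val (MonoidHom.mem_ker.mp hk)
        apply Subgroup.mem_centralizer_singleton_iff.mpr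
        exact commutatorElement_eq_one_iff_mul_comm.mp h3
      · intro hx'
        obtain ⟨hx, hxa⟩ := Subgroup.mem_inf.mp hx'
        refine ⟨⟨x, hx⟩, ?_, rfl⟩
        rw [Subgroup.mem_centralizer_singleton_iff] at hxa
        apply MonoidHom.mem_ker.mpr
        apply Subtype.ext
        exact commutatorElement_eq_one_iff_mul_comm.mpr hxa
    rw [← hle]
    exact Nat.card_congr (Subgroup.equivMapOfInjective _ _ V.subtype_injective).symm.toEquiv
  rw [h1, h2, mul_comm, ← Subgroup.index_ker]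
  exact Subgroup.card_mul_index _

theorem exists_gen_of_card_prime {A : Subgroup G} (hc : Nat.card A = p) :
    ∃ a : G, A = Subgroup.zpowers a := by
  haveI : Fact (Nat.card A).Prime := ⟨by rw [hc]; exact hp.out⟩
  haveI : IsCyclic A := isCyclic_of_prime_card rfl
  obtain ⟨g, hg⟩ := IsCyclic.exists_generator (α := A)
  refine ⟨g.1, ?_⟩
  ext x
  constructor
  · intro hx
    obtain ⟨k, hk⟩ := hg ⟨x, hx⟩
    exact ⟨k, by simpa using congrArg Subtype.val hk⟩
  · rintro ⟨k, rfl⟩
    exact A.zpow_mem g.2 k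

theorem centralizer_zpowers_eq (a : G) :
    Subgroup.centralizer ((Subgroup.zpowers a : Subgroup G) : Set G) = Subgroup.centralizer ({a} : Set G) := by
  rw [Subgroup.zpowers_eq_closure, Subgroup.centralizer_closure]

/-- **S0611 numerics.** -/
theorem minimal_spec {V H A : Subgroup G} (S : Setup p V H) (hAH : A ≤ H)
    (hA : Cfsg.IsBestOffenderOn p V A) (hAV : ⁅V, A⁆ ≠ ⊥)
    (hmin : ∀ B : Subgroup G, B ≤ A → Cfsg.IsBestOffenderOn p V B → ⁅V, B⁆ ≠ ⊥ → B = A) :
    Nat.card A = p ∧ Nat.card ↥(⁅V, A⁆) = p ∧ ((V ⊓ Subgroup.centralizer (A : Set G))).relIndex V = p := by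
  have hc := card_eq_of_minimal S hAH hA hAV hmin
  have hm := mval_eq_card S A hAH hA
  refine ⟨hc, ?_, ?_⟩
  · obtain ⟨a, ha⟩ := exists_gen_of_card_prime hc
    have haA : a ∈ A := by rw [ha]; exact Subgroup.mem_zpowers a
    have hVc : ∀ x ∈ V, ∀ y ∈ V, x * y = y * x := by
      intro x hx y hy
      have := S.hV.1.is_comm.comm ⟨x, hx⟩ ⟨y, hy⟩
      simpa using congrArg Subtype.val this
    have h1 := card_commutator_zpowers hVc a (S.hHV (hAH haA))
    rw [← centralizer_zpowers_eq, ← ha] at h1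
    unfold mval at hm
    rw [hc] at hm
    have hpos : 0 < Nat.card ↥(V ⊓ Subgroup.centralizer (A : Set G)) := Nat.card_pos
    exact Nat.eq_of_mul_eq_mul_right hpos (h1.trans hm.symm)
  · have h1 := card_mul_relIndex' (inf_le_left : V ⊓ Subgroup.centralizer (A : Set G) ≤ V)
    unfold mval at hm
    rw [hc, mul_comm] at hm
    have hpos : 0 < Nat.card ↥(V ⊓ Subgroup.centralizer (A : Set G)) := Nat.card_pos
    exact Nat.eq_of_mul_eq_mul_left hpos (h1.trans hm.symm)

/-- A subgroup of prime order of `H` which is a best offender is minimal. -/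
theorem minimal_of_card_prime {V E : Subgroup G} (hc : Nat.card E = p) :
    ∀ C : Subgroup G, C ≤ E → Cfsg.IsBestOffenderOn p V C → ⁅V, C⁆ ≠ ⊥ → C = E := by
  intro C hC _ hVC
  have hC1 : C ≠ ⊥ := by
    rintro rfl
    exact hVC (Subgroup.commutator_bot_right V)
  have hd : Nat.card C ∣ p := hc ▸ Subgroup.card_dvd_of_le hC
  rcases (Nat.dvd_prime hp.out).mp hd with h1 | h1
  · exact absurd (Subgroup.eq_bot_of_card_eq C h1) hC1
  · exact Subgroup.eq_of_le_of_card_ge hC (by rw [hc, h1])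

/-- The recursion step for S0612: a good hyperplane `D₁` of `D` has a complement of order `p` that is a
best offender. -/
theorem exists_complement {V H D D₁ : Subgroup G} (S : Setup p V H) (hDH : D ≤ H)
    (hD : Cfsg.IsBestOffenderOn p V D) (hD₁ : IsGood p H D D₁) :
    ∃ E : Subgroup G, E ≤ D ∧ Cfsg.IsBestOffenderOn p V E ∧ Nat.card E = p ∧ E ⊓ D₁ = ⊥ ∧ E ⊔ D₁ = D := by
  classical
  obtain ⟨hidx, hval⟩ := good_spec S hDH hD hD₁
  have hD₁D := hD₁.1
  -- minimal element
  let P : Subgroup G → Prop := fun E => E ≤ D ∧ Cfsg.IsBestOffenderOn p V E ∧ ¬ E ≤ D₁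
  have hneq : ¬ D ≤ D₁ := by
    intro hle
    have : D₁ = D := le_antisymm hD₁D hle
    rw [this, Subgroup.relIndex_self] at hidx
    exact hp.out.one_lt.ne hidx
  have hP : P D := ⟨le_rfl, hD, hneq⟩
  obtain ⟨E, hE, hEmin⟩ : ∃ E, P E ∧ ∀ E', P E' → Nat.card E ≤ Nat.card E' := by
    have hset : {E | P E}.Nonempty := ⟨D, hP⟩
    obtain ⟨E, hE, hmin⟩ := Set.exists_min_image {E | P E} (fun E : Subgroup G => Nat.card E) (Set.toFinite _) hset
    exact ⟨E, hE, hmin⟩
  obtain ⟨hED, hEb, hEn⟩ := hE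
  have hEH := hED.trans hDH
  have hD₁comm : ∀ a ∈ D, ∀ b ∈ D, a * b = b * a := by
    intro a ha b hb
    have := (isEA_of_best S hDH hD).1.is_comm.comm ⟨a, ha⟩ ⟨b, hb⟩
    simpa using congrArg Subtype.val this
  have hnorm : E ≤ Subgroup.normalizer (D₁ : Set G) := by
    intro e he
    apply Cfsg.Agent.Lib.Coprime.Three.mem_normalizer_of_conj_mem
    intro x hx
    have : e * x * e⁻¹ = x := by
      rw [hD₁comm e (hED he) x (hD₁D hx)]; group
    rw [this]; exact hx
  have hE1 : E ≠ ⊥ := by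
    rintro rfl
    exact hEn bot_le
  set K := E ⊓ D₁ with hK
  have hKE : K ≤ E := inf_le_left
  have hKne : K.relIndex E ≠ 1 := by
    intro h1
    exact hEn ((Subgroup.relIndex_eq_one.mp h1).trans inf_le_right)
  have hKbot : K = ⊥ := by
    apply eq_bot_of_le_good S hEH hEb hKE
    intro B hB
    obtain ⟨hBidx, hBval⟩ := good_spec S hEH hEb hB
    have hBb := best_of_le hEb hB.1 hBval
    have hcard := card_mul_relIndex' hB.1
    rw [hBidx] at hcard
    have hlt : Nat.card B < Nat.card E := by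
      rw [← hcard]
      have hpos : 0 < Nat.card B := Nat.card_pos
      have := hp.out.one_lt
      nlinarith
    have hBD₁ : B ≤ D₁ := by
      by_contra hno
      have := hEmin B ⟨hB.1.trans hED, hBb, hno⟩
      omega
    have hBK : B ≤ K := le_inf hB.1 hBD₁
    have h3 := Subgroup.relIndex_mul_relIndex B K E hBK hKE
    rw [hBidx] at h3
    have h4 : K.relIndex E ∣ p := ⟨B.relIndex K, by rw [← h3, mul_comm]⟩
    rcases (Nat.dvd_prime hp.out).mp h4 with h5 | h5
    · exact absurd h5 hKne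
    · rw [h5] at h3
      have h6 : B.relIndex K = 1 := by
        have hpp := hp.out.pos
        nlinarith
      exact Subgroup.relIndex_eq_one.mp h6
  have hcardsup := card_sup_mul_card_inf_of_le_normalizer E D₁ hnorm
  rw [← hK, hKbot] at hcardsup
  simp only [Subgroup.card_bot, mul_one] at hcardsup
  have hsupD : E ⊔ D₁ ≤ D := sup_le hED hD₁D
  have hcD := card_mul_relIndex' hD₁D
  rw [hidx] at hcD
  have hle2 : Nat.card ↥(E ⊔ D₁) ≤ Nat.card D := Subgroup.card_le_of_le hsupD
  have hEle : Nat.card E ≤ p := by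
    have hposD : 0 < Nat.card D₁ := Nat.card_pos
    have : Nat.card E * Nat.card D₁ ≤ p * Nat.card D₁ := by
      rw [← hcardsup, mul_comm p, hcD]
      exact hle2
    exact Nat.le_of_mul_le_mul_right this hposD
  have hEp : IsPGroup p E := (isPGroup_of_isEA (isEA_of_best S hEH hEb))
  have hEc : Nat.card E = p := by
    obtain ⟨n, hn⟩ := (IsPGroup.iff_card).mp hEp
    rcases Nat.eq_zero_or_pos n with rfl | hnpos
    · exact absurd (Subgroup.eq_bot_of_card_eq E (by simpa using hn)) hE1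
    · have h7 : p ^ 1 ≤ p ^ n := Nat.pow_le_pow_right hp.out.pos hnpos
      rw [pow_one] at h7
      rw [hn] at hEle ⊢
      omega
  refine ⟨E, hED, hEb, hEc, hKbot, ?_⟩
  apply Subgroup.eq_of_le_of_card_ge hsupD
  rw [hcardsup, hEc, mul_comm, hcD]

/-- **S0612**. -/
theorem exists_decomposition {V H : Subgroup G} (S : Setup p V H) :
    ∀ A : Subgroup G, A ≤ H → Cfsg.IsBestOffenderOn p V A →
    ∃ (k : ℕ) (B : Fin k → Subgroup G), (∀ i, B i ≤ A ∧ Cfsg.IsBestOffenderOn p V (B i) ∧ ⁅V, B i⁆ ≠ ⊥ ∧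
        ∀ C : Subgroup G, C ≤ B i → Cfsg.IsBestOffenderOn p V C → ⁅V, C⁆ ≠ ⊥ → C = B i) ∧
      iSupIndep B ∧ ⨆ i, B i = A := by
  suffices h : ∀ n, ∀ A : Subgroup G, Nat.card A = n → A ≤ H → Cfsg.IsBestOffenderOn p V A →
      ∃ (k : ℕ) (B : Fin k → Subgroup G), (∀ i, B i ≤ A ∧ Cfsg.IsBestOffenderOn p V (B i) ∧ ⁅V, B i⁆ ≠ ⊥ ∧
        ∀ C : Subgroup G, C ≤ B i → Cfsg.IsBestOffenderOn p V C → ⁅V, C⁆ ≠ ⊥ → C = B i) ∧
      iSupIndep B ∧ ⨆ i, B i = A from fun A => h _ A rfl
  intro n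
  induction n using Nat.strong_induction_on with
  | _ n ih =>
  intro A hn hAH hA
  by_cases hA1 : A = ⊥
  · refine ⟨0, Fin.elim0, fun i => i.elim0, ?_, ?_⟩
    · intro i; exact i.elim0
    · rw [hA1]; exact iSup_of_empty _
  obtain ⟨D₁, hD₁⟩ := exists_good S hAH hA hA1
  obtain ⟨hidx, hval⟩ := good_spec S hAH hA hD₁
  obtain ⟨E, hEA, hEb, hEc, hinf, hsup⟩ := exists_complement S hAH hA hD₁
  have hcard := card_mul_relIndex' hD₁.1
  rw [hidx] at hcard
  have hlt : Nat.card D₁ < n := by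
    rw [← hn, ← hcard]
    have hpos : 0 < Nat.card D₁ := Nat.card_pos
    have := hp.out.one_lt
    nlinarith
  obtain ⟨k, B, hB, hind, hBsup⟩ := ih _ hlt D₁ rfl (hD₁.1.trans hAH) (best_of_le hA hD₁.1 hval)
  have hAcomm : ∀ a ∈ A, ∀ b ∈ A, a * b = b * a := by
    intro a ha b hb
    have := (isEA_of_best S hAH hA).1.is_comm.comm ⟨a, ha⟩ ⟨b, hb⟩
    simpa using congrArg Subtype.val this
  have hEne : ⁅V, E⁆ ≠ ⊥ := by
    intro h
    have := eq_bot_of_commutator_eq_bot S (hEA.trans hAH) h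
    rw [this, Subgroup.card_bot] at hEc
    exact hp.out.one_lt.ne hEc
  refine ⟨k + 1, Fin.cons E B, ?_, ?_, ?_⟩
  · intro i
    refine Fin.cases ?_ (fun j => ?_) i
    · exact ⟨hEA, hEb, hEne, minimal_of_card_prime hEc⟩
    · obtain ⟨h1, h2, h3, h4⟩ := hB j
      exact ⟨h1.trans hD₁.1, h2, h3, h4⟩
  · rw [iSupIndep_def]
    intro i
    refine Fin.cases ?_ (fun j => ?_) i
    · -- `E` against the rest
      have hle : (⨆ j, ⨆ (_ : j ≠ (0 : Fin (k + 1))), (Fin.cons E B : Fin (k + 1) → Subgroup G) j) ≤ D₁ := by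
        refine iSup₂_le fun j hj => ?_
        obtain ⟨j', rfl⟩ := Fin.exists_succ_eq.mpr hj
        simp only [Fin.cons_succ]
        rw [← hBsup]
        exact le_iSup B j'
      simp only [Fin.cons_zero]
      rw [disjoint_iff_inf_le]
      exact (inf_le_inf_left _ hle).trans hinf.le
    · -- `B j` against the rest
      have hind' := (iSupIndep_def.mp hind) j
      set R := ⨆ j', ⨆ (_ : j' ≠ j), B j' with hR
      have hRD : R ≤ D₁ := by
        rw [← hBsup]
        exact iSup₂_le fun j' _ => le_iSup B j'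
      have hle : (⨆ j', ⨆ (_ : j' ≠ Fin.succ j), (Fin.cons E B : Fin (k + 1) → Subgroup G) j') ≤ E ⊔ R := by
        refine iSup₂_le fun j' hj' => ?_
        refine Fin.cases ?_ (fun j'' hj'' => ?_) j' hj'
        · intro _
          simp only [Fin.cons_zero]
          exact le_sup_left
        · simp only [Fin.cons_succ]
          refine le_trans ?_ le_sup_right
          exact le_iSup₂_of_le j'' (fun h => hj'' (by rw [h])) le_rfl
      simp only [Fin.cons_succ]
      rw [disjoint_iff_inf_le]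
      intro x hx
      obtain ⟨hx1, hx2⟩ := Subgroup.mem_inf.mp hx
      have hx3 := hle hx2
      obtain ⟨e, he, r, hr, rfl⟩ := Cfsg.Agent.Lib.Components.LayerProduct.mem_sup_of_commute
        (fun a ha b hb => hAcomm a (hEA ha) b (hD₁.1 (hRD hb))) hx3
      have hBjD : B j ≤ D₁ := by
        rw [← hBsup]; exact le_iSup B j
      have he1 : e ∈ D₁ := by
        have : e = (e * r) * r⁻¹ := by group
        rw [this]
        exact D₁.mul_mem (hBjD hx1) (D₁.inv_mem (hRD hr))
      have he2 : e ∈ E ⊓ D₁ := Subgroup.mem_inf.mpr ⟨he, he1⟩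
      rw [hinf] at he2
      have he3 : e = 1 := he2
      subst he3
      rw [one_mul] at hx1 ⊢
      have hr2 : r ∈ B j ⊓ R := Subgroup.mem_inf.mpr ⟨hx1, hr⟩
      exact (disjoint_iff_inf_le.mp hind') hr2
  · apply le_antisymm
    · refine iSup_le fun i => ?_
      refine Fin.cases ?_ (fun j => ?_) i
      · exact hEA
      · exact (hB j).1.trans hD₁.1
    · rw [← hsup]
      refine sup_le ?_ ?_
      · exact le_iSup_of_le (0 : Fin (k + 1)) le_rfl
      · rw [← hBsup]
        refine iSup_le fun j => ?_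
        exact le_iSup_of_le (Fin.succ j) le_rfl

end Cfsg.Agent.Lib.PGroup.FFPair
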