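import Cfsg.Agent.Lib.PGroup.FFDich
import Cfsg.Agent.Lib.Coprime.Coset
import Mathlib

/-!
# The structure theorem for failure of factorization
-/

set_option autoImplicit false
set_option linter.unusedSectionVars false
set_option linter.style.haveILetI false
open Cfsg
open scoped commutatorElement

namespace Cfsg.Agent.Lib.PGroup.FFStruct

open Cfsg.Agent.Lib.PGroup.Timmesfeld Cfsg.Agent.Lib.PGroup.FFPair Cfsg.Agent.Lib.PGroup.FFTv
  Cfsg.Agent.Lib.PGroup.FFDuo Cfsg.Agent.Lib.PGroup.FFDich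
open Cfsg.Agent.Lib.Components.LayerProduct (mem_sup_of_commute)

variable {G : Type*} [Group G] [Finite G] {p : ℕ} [hp : Fact p.Prime] {V H : Subgroup G}

/-- Minimal best offenders. -/
def IsMinBO (p : ℕ) (V H A : Subgroup G) : Prop :=
  A ≤ H ∧ Cfsg.IsBestOffenderOn p V A ∧ ⁅V, A⁆ ≠ ⊥ ∧
    ∀ B : Subgroup G, B ≤ A → Cfsg.IsBestOffenderOn p V B → ⁅V, B⁆ ≠ ⊥ → B = A

theorem duo_of_not_comm (S : Setup p V H) {a x : G} (ha : IsTv p V H a) (hx : x ∈ core p H)
    (hne : x * a ≠ a * x) : Duo p V H a (x * a * x⁻¹) := by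
  refine ⟨ha, ha.conj S (core_le H hx), (Cl.conj_core S ha (Cl.self ha) hx).2, ?_⟩
  intro h
  apply hne
  calc x * a = (x * a * x⁻¹) * x := by group
    _ = a * x := by rw [← h]

theorem exists_duo (S : Setup p V H) {a : G} (ha : IsTv p V H a) :
    ∃ x ∈ core p H, Duo p V H a (x * a * x⁻¹) := by
  by_contra hno
  push Not at hno
  have hcomm : ∀ x ∈ core p H, x * a = a * x := by
    intro x hx
    by_contra hne
    exact hno x hx (duo_of_not_comm S ha hx hne)
  have hord : orderOf a = p := orderOf_eq_prime ha.pow (ne_one_of_isTv ha)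
  have hle : Subgroup.zpowers a ≤ Subgroup.centralizer (core p H : Set G) := by
    rw [Subgroup.zpowers_le]
    exact Subgroup.mem_centralizer_iff.mpr hcomm
  have hpg : IsPGroup p (Subgroup.zpowers a) := by
    rw [IsPGroup.iff_card, Nat.card_zpowers, hord]
    exact ⟨1, (pow_one p).symm⟩
  have hb := eq_bot_of_le_centralizer_core S ((Subgroup.zpowers_le).mpr ha.mem) hpg hle
  rw [Subgroup.zpowers_eq_bot] at hb
  exact ne_one_of_isTv ha hb

theorem comm_core_le (a : G) (ha : a ∈ H) : ⁅core p H, Subgroup.zpowers a⁆ ≤ core p H := by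
  rw [Subgroup.commutator_le]
  rintro y hy g ⟨k, rfl⟩
  dsimp only
  have h1 := core_conj (p := p) (H.zpow_mem ha k) ((core p H).inv_mem hy)
  rw [commutatorElement_def]
  have : y * a ^ k * y⁻¹ * (a ^ k)⁻¹ = y * (a ^ k * y⁻¹ * (a ^ k)⁻¹) := by group
  rw [this]
  exact (core p H).mul_mem hy h1

theorem comm_core_le_E (S : Setup p V H) {a b : G} (D : Duo p V H a b) :
    ⁅core p H, Subgroup.zpowers a⁆ ≤ EE a b := by
  rw [Subgroup.commutator_le]
  rintro y hy g ⟨k, rfl⟩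
  dsimp only
  have h1 : y * a * y⁻¹ ∈ EE a b := mem_E_of_cl S D (D.cl_a.conj_core S D.ha hy)
  have h2 : ⁅y, a ^ k⁆ = (y * a * y⁻¹) ^ k * (a ^ k)⁻¹ := by
    rw [commutatorElement_def, conj_zpow]
  rw [h2]
  exact (EE a b).mul_mem ((EE a b).zpow_mem h1 k) ((EE a b).inv_mem ((EE a b).zpow_mem a_mem_E k))

theorem sup_eq_E (S : Setup p V H) {a x : G} (hx : x ∈ core p H) (D : Duo p V H a (x * a * x⁻¹)) :
    ⁅core p H, Subgroup.zpowers a⁆ ⊔ Subgroup.zpowers a = EE a (x * a * x⁻¹) := by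
  apply le_antisymm
  · exact sup_le (comm_core_le_E S D) le_sup_left
  · refine sup_le le_sup_right ?_
    rw [Subgroup.zpowers_le]
    have h1 : x * a * x⁻¹ = ⁅x, a⁆ * a := by
      rw [commutatorElement_def]; group
    rw [h1]
    exact Subgroup.mul_mem _
      ((le_sup_left : _ ≤ ⁅core p H, Subgroup.zpowers a⁆ ⊔ Subgroup.zpowers a)
        (Subgroup.commutator_mem_commutator hx (Subgroup.mem_zpowers a)))
      ((le_sup_right : _ ≤ ⁅core p H, Subgroup.zpowers a⁆ ⊔ Subgroup.zpowers a) (Subgroup.mem_zpowers a))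

/-- Representing data of a minimal best offender. -/
theorem exists_rep (S : Setup p V H) {A : Subgroup G} (hA : IsMinBO p V H A) :
    ∃ a x : G, x ∈ core p H ∧ Duo p V H a (x * a * x⁻¹) ∧ A = Subgroup.zpowers a ∧
      ⁅core p H, A⁆ ⊔ A = EE a (x * a * x⁻¹) := by
  obtain ⟨a, rfl, ha⟩ := isTv_of_minimal S hA.1 hA.2.1 hA.2.2.1 hA.2.2.2
  obtain ⟨x, hx, D⟩ := exists_duo S ha
  exact ⟨a, x, hx, D, rfl, sup_eq_E S hx D⟩

/-- The elements of the commutator of the core with `A` form a normal `p`-complement in `E`. -/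
theorem mem_comm_of_mem_core (S : Setup p V H) {a x g : G} (hx : x ∈ core p H) (D : Duo p V H a (x * a * x⁻¹))
    (hg : g ∈ EE a (x * a * x⁻¹)) (hgX : g ∈ core p H) : g ∈ ⁅core p H, Subgroup.zpowers a⁆ := by
  have hn : Subgroup.zpowers a ≤ Subgroup.normalizer ((⁅core p H, Subgroup.zpowers a⁆ : Subgroup G) : Set G) :=
    Cfsg.Agent.Lib.Coprime.Coset.commutator_le_normalizer_right
      ((Subgroup.zpowers_le).mpr ((le_normalizer_core H) D.ha.mem))
  have hset := Subgroup.coe_mul_of_right_le_normalizer_left _ _ hn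
  rw [sup_eq_E S hx D] at hset
  have hg' : g ∈ (↑(EE a (x * a * x⁻¹)) : Set G) := hg
  rw [hset] at hg'
  obtain ⟨k, hk, c, hc, rfl⟩ := Set.mem_mul.mp hg'
  have hkX : k ∈ core p H := comm_core_le a D.ha.mem hk
  have hcX : c ∈ core p H := by
    have : c = k⁻¹ * (k * c) := by group
    rw [this]
    exact (core p H).mul_mem ((core p H).inv_mem hkX) hgX
  have hord : orderOf a = p := orderOf_eq_prime D.ha.pow (ne_one_of_isTv D.ha)
  have hbot : Subgroup.zpowers a ⊓ core p H = ⊥ := by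
    apply Cfsg.Agent.Lib.Coprime.Coset.inf_eq_bot_of_coprime
    rw [Nat.card_zpowers, hord]
    exact (core_coprime H).symm
  have hc1 : c ∈ Subgroup.zpowers a ⊓ core p H := Subgroup.mem_inf.mpr ⟨hc, hcX⟩
  rw [hbot] at hc1
  have hc2 : c = 1 := hc1
  rw [hc2, mul_one]
  exact hk

section Main

variable (S : Setup p V H)
include S

/-- Generation of `H` by minimal best offenders. -/
theorem H_le_sSup (hS3 : H = ⨆ A : {A : Subgroup G // A ≤ H ∧ Cfsg.IsBestOffenderOn p V A}, (A : Subgroup G)) :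
    H ≤ sSup {A | IsMinBO p V H A} := by
  conv_lhs => rw [hS3]
  refine iSup_le ?_
  rintro ⟨A, hAH, hA⟩
  obtain ⟨k, B, hB, -, hsup⟩ := exists_decomposition S A hAH hA
  show A ≤ _
  conv_lhs => rw [← hsup]
  refine iSup_le fun i => ?_
  obtain ⟨h1, h2, h3, h4⟩ := hB i
  exact le_sSup ⟨h1.trans hAH, h2, h3, h4⟩

/-- Dichotomy for a minimal best offender and a duo. -/
theorem minBO_dich {a b : G} (D : Duo p V H a b) {B : Subgroup G} (hB : IsMinBO p V H B) :
    B ≤ EE a b ∨ (B ≤ Subgroup.centralizer ((EE a b : Subgroup G) : Set G) ∧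
      B ≤ Subgroup.centralizer ((WW V a b : Subgroup G) : Set G)) := by
  obtain ⟨c, x, hx, D₂, rfl, -⟩ := exists_rep S hB
  rcases dichotomy S D D₂ with ⟨h, -⟩ | ⟨-, h1, h2, h3⟩
  · left
    rw [h]
    exact le_sup_left
  · right
    constructor
    · rw [Subgroup.zpowers_le]
      apply Subgroup.mem_centralizer_iff.mpr
      intro g hg
      exact h3 g hg c a_mem_E
    · rw [Subgroup.zpowers_le]
      apply Subgroup.mem_centralizer_iff.mpr
      intro w hw
      exact (h2 c a_mem_E w hw).symm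

/-- `E` is normalized by `H`. -/
theorem H_le_normalizer {a b : G} (D : Duo p V H a b)
    (hH : H ≤ sSup {A | IsMinBO p V H A}) : H ≤ Subgroup.normalizer ((EE a b : Subgroup G) : Set G) := by
  refine hH.trans (sSup_le ?_)
  intro B hB
  rcases minBO_dich S D hB with h | ⟨h, -⟩
  · exact h.trans Subgroup.le_normalizer
  · exact h.trans (Subgroup.centralizer_le_normalizer _) 

/-- The complement `F = C_H(W)`. -/
noncomputable abbrev FF (V H : Subgroup G) (a b : G) : Subgroup G :=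
  H ⊓ Subgroup.centralizer ((WW V a b : Subgroup G) : Set G)

theorem E_inf_F {a b : G} (D : Duo p V H a b) : EE a b ⊓ FF V H a b = ⊥ := by
  rw [eq_bot_iff, ← E_inf_centralizer S D]
  exact inf_le_inf_left _ inf_le_right

theorem E_sup_F {a b : G} (D : Duo p V H a b) (hH : H ≤ sSup {A | IsMinBO p V H A}) :
    EE a b ⊔ FF V H a b = H := by
  apply le_antisymm (sup_le (EE_le D) inf_le_left)
  refine hH.trans (sSup_le ?_)
  intro B hB
  rcases minBO_dich S D hB with h | ⟨-, h⟩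
  · exact h.trans le_sup_left
  · exact (le_inf hB.1 h).trans le_sup_right

theorem E_comm_F {a b g f : G} (D : Duo p V H a b) (hH : H ≤ sSup {A | IsMinBO p V H A})
    (hg : g ∈ EE a b) (hf : f ∈ FF V H a b) : g * f = f * g := by
  obtain ⟨hfH, hfC⟩ := Subgroup.mem_inf.mp hf
  have hgH := EE_le D hg
  have hN := H_le_normalizer S D hH
  have h1 : f * g⁻¹ * f⁻¹ ∈ EE a b :=
    (Subgroup.mem_normalizer_iff.mp (hN hfH) g⁻¹).mp ((EE a b).inv_mem hg)
  have h2 : g * f * g⁻¹ ∈ FF V H a b := by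
    refine Subgroup.mem_inf.mpr ⟨H.mul_mem (H.mul_mem hgH hfH) (H.inv_mem hgH), ?_⟩
    apply Subgroup.mem_centralizer_iff.mpr
    intro w hw
    have hw' : g⁻¹ * w * g ∈ WW V a b := by
      have := E_conj_W S D ((EE a b).inv_mem hg) hw
      simpa using this
    have h3 := (Subgroup.mem_centralizer_iff.mp hfC) _ hw'
    calc w * (g * f * g⁻¹) = g * ((g⁻¹ * w * g) * f) * g⁻¹ := by group
      _ = g * (f * (g⁻¹ * w * g)) * g⁻¹ := by rw [h3]
      _ = (g * f * g⁻¹) * w := by group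
  have h3 : g * f * g⁻¹ * f⁻¹ ∈ EE a b ⊓ FF V H a b := by
    refine Subgroup.mem_inf.mpr ⟨?_, (FF V H a b).mul_mem h2 ((FF V H a b).inv_mem hf)⟩
    have h4 := (EE a b).mul_mem hg h1
    have h5 : g * (f * g⁻¹ * f⁻¹) = g * f * g⁻¹ * f⁻¹ := by group
    rwa [h5] at h4
  rw [E_inf_F S D] at h3
  have h4 : g * f * g⁻¹ * f⁻¹ = 1 := h3
  calc g * f = (g * f * g⁻¹ * f⁻¹) * (f * g) := by group
    _ = f * g := by rw [h4, one_mul]

theorem comm_V_F_le {a b : G} (D : Duo p V H a b) (hH : H ≤ sSup {A | IsMinBO p V H A}) :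
    ⁅V, FF V H a b⁆ ≤ V ⊓ Subgroup.centralizer ((EE a b : Subgroup G) : Set G) := by
  rw [Subgroup.commutator_le]
  intro v hv f hf
  obtain ⟨hfH, hfC⟩ := Subgroup.mem_inf.mp hf
  have hvf : ⁅v, f⁆ ∈ V := cen_le S hfH (comm_mem_cen hv)
  refine Subgroup.mem_inf.mpr ⟨hvf, ?_⟩
  apply Subgroup.mem_centralizer_iff.mpr
  intro g hg
  have hcomm := E_comm_F S D hH hg hf
  have hw := comm_mem_W S D hg hv
  set w := g * v * g⁻¹ * v⁻¹ with hwdef
  have hgv : g * v * g⁻¹ = w * v := by rw [hwdef]; group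
  have hfw : f * w = w * f := ((Subgroup.mem_centralizer_iff.mp hfC) w hw).symm
  have hfinv : g * f⁻¹ = f⁻¹ * g := by
    calc g * f⁻¹ = f⁻¹ * (f * g) * f⁻¹ := by group
      _ = f⁻¹ * (g * f) * f⁻¹ := by rw [hcomm]
      _ = f⁻¹ * g := by group
  have hfvinv : f * v⁻¹ * f⁻¹ ∈ V := conj_mem S hfH (V.inv_mem hv)
  have h1 : g * ⁅v, f⁆ * g⁻¹ = ⁅v, f⁆ := by
    have hc := comm S (WW_le S D hw) hvf
    have hgf : g * f * g⁻¹ = f := by rw [hcomm]; group
    calc g * ⁅v, f⁆ * g⁻¹ = (g * v * g⁻¹) * (g * f * g⁻¹) * (g * v * g⁻¹)⁻¹ * (g * f * g⁻¹)⁻¹ := by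
          rw [commutatorElement_def]; group
      _ = (w * v) * f * (w * v)⁻¹ * f⁻¹ := by rw [hgv, hgf]
      _ = w * (v * (f * v⁻¹ * f⁻¹)) * (f * w⁻¹ * f⁻¹) := by group
      _ = w * ⁅v, f⁆ * (f * w⁻¹ * f⁻¹) := by rw [commutatorElement_def]; group
      _ = w * ⁅v, f⁆ * w⁻¹ := by
        have : f * w⁻¹ * f⁻¹ = w⁻¹ := by
          have h2 : f * w⁻¹ = w⁻¹ * f := by
            calc f * w⁻¹ = w⁻¹ * (w * f) * w⁻¹ := by group
              _ = w⁻¹ * (f * w) * w⁻¹ := by rw [hfw]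
              _ = w⁻¹ * f := by group
          rw [h2]; group
        rw [this]
      _ = ⁅v, f⁆ := by rw [hc]; group
  calc g * ⁅v, f⁆ = (g * ⁅v, f⁆ * g⁻¹) * g := by group
    _ = ⁅v, f⁆ * g := by rw [h1]

end Main

/-- The index set of the components. -/
abbrev Idx (p : ℕ) (V H : Subgroup G) :=
  {E : Subgroup G // ∃ A : Subgroup G, A ≤ H ∧ Cfsg.IsBestOffenderOn p V A ∧ ⁅V, A⁆ ≠ ⊥ ∧
    (∀ B : Subgroup G, B ≤ A → Cfsg.IsBestOffenderOn p V B → ⁅V, B⁆ ≠ ⊥ → B = A) ∧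
    E = ⁅((Cfsg.pPrimeCore p ↥H).map H.subtype), A⁆ ⊔ A}

section Idx

variable (S : Setup p V H)
include S

theorem idx_rep (E : Idx p V H) :
    ∃ a x : G, x ∈ core p H ∧ Duo p V H a (x * a * x⁻¹) ∧ E.1 = EE a (x * a * x⁻¹) := by
  obtain ⟨A, h1, h2, h3, h4, h5⟩ := E.2
  obtain ⟨a, x, hx, D, -, hE⟩ := exists_rep S (⟨h1, h2, h3, h4⟩ : IsMinBO p V H A)
  exact ⟨a, x, hx, D, h5.trans hE⟩

theorem idx_E_le (E : Idx p V H) : E.1 ≤ H := by
  obtain ⟨a, x, hx, D, hE⟩ := idx_rep S E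
  rw [hE]
  exact EE_le D

theorem idx_W_le (E : Idx p V H) : ⁅V, E.1⁆ ≤ V := by
  obtain ⟨a, x, hx, D, hE⟩ := idx_rep S E
  rw [hE, comm_W S D]
  exact WW_le S D

theorem idx_inf (E : Idx p V H) : ⁅V, E.1⁆ ⊓ (V ⊓ Subgroup.centralizer ((E.1 : Subgroup G) : Set G)) = ⊥ := by
  obtain ⟨a, x, hx, D, hE⟩ := idx_rep S E
  rw [hE, comm_W S D]
  exact W_inf_Z S D

theorem idx_sup (E : Idx p V H) : ⁅V, E.1⁆ ⊔ (V ⊓ Subgroup.centralizer ((E.1 : Subgroup G) : Set G)) = V := by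
  obtain ⟨a, x, hx, D, hE⟩ := idx_rep S E
  rw [hE, comm_W S D]
  exact W_sup_Z S D

theorem idx_faithful (E : Idx p V H) : E.1 ⊓ Subgroup.centralizer ((⁅V, E.1⁆ : Subgroup G) : Set G) = ⊥ := by
  obtain ⟨a, x, hx, D, hE⟩ := idx_rep S E
  rw [hE, comm_W S D]
  exact E_inf_centralizer S D

theorem idx_fix {E E' : Idx p V H} (hne : E ≠ E') {g w : G} (hg : g ∈ E'.1) (hw : w ∈ ⁅V, E.1⁆) :
    g * w = w * g := by
  obtain ⟨a, x, hx, D, hE⟩ := idx_rep S E
  obtain ⟨a', x', hx', D', hE'⟩ := idx_rep S E'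
  rw [hE, comm_W S D] at hw
  rw [hE'] at hg
  rcases dichotomy S D D' with ⟨h, -⟩ | ⟨-, -, h2, -⟩
  · exact absurd (Subtype.ext (hE.trans (h.trans hE'.symm))) hne
  · exact h2 g hg w hw

theorem idx_W_le_Z {E E' : Idx p V H} (hne : E ≠ E') :
    ⁅V, E.1⁆ ≤ V ⊓ Subgroup.centralizer ((E'.1 : Subgroup G) : Set G) := by
  intro w hw
  refine Subgroup.mem_inf.mpr ⟨idx_W_le S E hw, ?_⟩
  apply Subgroup.mem_centralizer_iff.mpr
  intro g hg
  exact idx_fix S hne hg hw

theorem idx_iSupIndep : iSupIndep (fun E : Idx p V H => E.1) := by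
  rw [iSupIndep_def]
  intro E
  rw [disjoint_iff_inf_le]
  refine le_trans ?_ (idx_faithful S E).le
  apply inf_le_inf_left
  refine iSup₂_le fun E' hE' => ?_
  intro g hg
  apply Subgroup.mem_centralizer_iff.mpr
  intro w hw
  exact (idx_fix S (Ne.symm hE') hg hw).symm

theorem idx_iSup (hH : H ≤ sSup {A | IsMinBO p V H A}) : (⨆ E : Idx p V H, E.1) = H := by
  apply le_antisymm (iSup_le fun E => idx_E_le S E)
  refine hH.trans (sSup_le ?_)
  intro B hB
  have hB' := hB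
  obtain ⟨h1, h2, h3, h4⟩ := hB'
  let E : Idx p V H := ⟨⁅((Cfsg.pPrimeCore p ↥H).map H.subtype), B⁆ ⊔ B, B, h1, h2, h3, h4, rfl⟩
  exact (le_sup_right : B ≤ E.1).trans (le_iSup (fun E : Idx p V H => E.1) E)

theorem idx_disjoint_core (s : Finset (Idx p V H)) :
    ∀ u ∈ (⨆ E ∈ s, ⁅V, E.1⁆ : Subgroup G), u ∈ V ⊓ Subgroup.centralizer (H : Set G) → u = 1 := by
  classical
  induction s using Finset.induction_on with
  | empty =>
    intro u hu _
    simpa using hu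
  | insert E₀ s' hE₀ ih =>
    intro u hu huC
    rw [Finset.iSup_insert] at hu
    have hrest : (⨆ E ∈ s', ⁅V, E.1⁆ : Subgroup G) ≤ V ⊓ Subgroup.centralizer ((E₀.1 : Subgroup G) : Set G) := by
      refine iSup₂_le fun E hE => idx_W_le_Z S ?_
      rintro rfl
      exact hE₀ hE
    obtain ⟨w, hw, y, hy, rfl⟩ := mem_sup_of_commute
      (fun _ hx _ hy' => comm S (idx_W_le S E₀ hx) ((Subgroup.mem_inf.mp (hrest hy')).1)) hu
    have huC2 : w * y ∈ V ⊓ Subgroup.centralizer ((E₀.1 : Subgroup G) : Set G) :=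
      (inf_le_inf_left _ (Subgroup.centralizer_le (idx_E_le S E₀))) huC
    have hw2 : w ∈ V ⊓ Subgroup.centralizer ((E₀.1 : Subgroup G) : Set G) := by
      have : w = (w * y) * y⁻¹ := by group
      rw [this]
      exact Subgroup.mul_mem _ huC2 (Subgroup.inv_mem _ (hrest hy))
    have hw3 : w ∈ ⁅V, E₀.1⁆ ⊓ (V ⊓ Subgroup.centralizer ((E₀.1 : Subgroup G) : Set G)) :=
      Subgroup.mem_inf.mpr ⟨hw, hw2⟩
    rw [idx_inf S E₀] at hw3
    have hw4 : w = 1 := hw3
    rw [hw4, one_mul] at huC ⊢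
    exact ih y hy huC

theorem idx_decomp (s : Finset (Idx p V H)) :
    ∀ v ∈ V, ∃ w ∈ (⨆ E ∈ s, ⁅V, E.1⁆ : Subgroup G), ∃ z ∈ V,
      (∀ E ∈ s, ∀ g ∈ E.1, g * z = z * g) ∧ v = w * z := by
  classical
  induction s using Finset.induction_on with
  | empty =>
    intro v hv
    exact ⟨1, Subgroup.one_mem _, v, hv, by simp, by simp⟩
  | insert E₀ s' hE₀ ih =>
    intro v hv
    obtain ⟨w, hw, z, hz, hfix, rfl⟩ := ih v hv
    have hz' : z ∈ ⁅V, E₀.1⁆ ⊔ (V ⊓ Subgroup.centralizer ((E₀.1 : Subgroup G) : Set G)) := by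
      rw [idx_sup S E₀]; exact hz
    obtain ⟨w', hw', z', hz'', rfl⟩ := mem_sup_of_commute
      (fun _ hx _ hy' => comm S (idx_W_le S E₀ hx) ((Subgroup.mem_inf.mp hy').1)) hz'
    refine ⟨w * w', ?_, z', (Subgroup.mem_inf.mp hz'').1, ?_, by group⟩
    · rw [Finset.iSup_insert]
      exact Subgroup.mul_mem _ ((le_sup_right : _ ≤ ⁅V, E₀.1⁆ ⊔ _) hw) ((le_sup_left : _ ≤ ⁅V, E₀.1⁆ ⊔ _) hw')
    · intro E hE g hg
      rcases Finset.mem_insert.mp hE with rfl | hE'
      · exact (Subgroup.mem_centralizer_iff.mp (Subgroup.mem_inf.mp hz'').2) g hg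
      · have hne : E₀ ≠ E := by
          rintro rfl
          exact hE₀ hE'
        have h1 := hfix E hE' g hg
        have h2 := idx_fix S hne hg hw'
        have h3 : w' * (g * z') = w' * (z' * g) := by
          calc w' * (g * z') = (w' * g) * z' := by group
            _ = (g * w') * z' := by rw [h2]
            _ = g * (w' * z') := by group
            _ = (w' * z') * g := h1
            _ = w' * (z' * g) := by group
        exact mul_left_cancel h3

end Idx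

end Cfsg.Agent.Lib.PGroup.FFStruct
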