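import Mathlib
import Cfsg.Prelude.Def_LocalStructure
import Cfsg.Agent.Lib.PGroup.Basic
import Cfsg.Agent.Lib.Basic.SylowUtil

/-!
# Weakly closed subgroups

Basic consequences of `Cfsg.IsWeaklyClosedSubgroup`: Sylow conjugacy statements, the equivalent
forms, behaviour in overgroups.
-/

namespace Cfsg.Agent.Lib.PGroup.WeaklyClosed

open Subgroup
open scoped commutatorElement

variable {H : Type*} [Group H] {p : ℕ}

/-- The conjugate `g Q g⁻¹`. -/
abbrev cj (g : H) (Q : Subgroup H) : Subgroup H := Q.map (MulAut.conj g).toMonoidHom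

theorem mem_cj {g x : H} {Q : Subgroup H} : x ∈ cj g Q ↔ g⁻¹ * x * g ∈ Q :=
  Cfsg.Agent.Lib.Basic.Conj.mem_map_conj_iff

theorem conj_mem_cj {g x : H} {Q : Subgroup H} (hx : x ∈ Q) : g * x * g⁻¹ ∈ cj g Q :=
  Cfsg.Agent.Lib.Basic.Conj.conj_mem_map_conj hx

theorem cj_mul (g h : H) (Q : Subgroup H) : cj (g * h) Q = cj g (cj h Q) := by
  ext x
  simp only [mem_cj, mul_inv_rev]
  have : h⁻¹ * g⁻¹ * x * (g * h) = h⁻¹ * (g⁻¹ * x * g) * h := by group
  rw [this]

@[simp] theorem cj_one (Q : Subgroup H) : cj 1 Q = Q := by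
  ext x
  simp [mem_cj]

@[simp] theorem cj_inv_cj (g : H) (Q : Subgroup H) : cj g⁻¹ (cj g Q) = Q := by
  rw [← cj_mul, inv_mul_cancel, cj_one]

@[simp] theorem cj_cj_inv (g : H) (Q : Subgroup H) : cj g (cj g⁻¹ Q) = Q := by
  rw [← cj_mul, mul_inv_cancel, cj_one]

theorem cj_mono {g : H} {A B : Subgroup H} (h : A ≤ B) : cj g A ≤ cj g B := Subgroup.map_mono h

theorem cj_le_cj_iff {g : H} {A B : Subgroup H} : cj g A ≤ cj g B ↔ A ≤ B := by
  constructor
  · intro h
    have := cj_mono (g := g⁻¹) h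
    simpa using this
  · exact cj_mono

theorem cj_inj {g : H} {A B : Subgroup H} (h : cj g A = cj g B) : A = B :=
  le_antisymm (cj_le_cj_iff.1 h.le) (cj_le_cj_iff.1 h.ge)

theorem cj_eq_self_iff {g : H} {Q : Subgroup H} : cj g Q = Q ↔ g ∈ normalizer (Q : Set H) :=
  Cfsg.Agent.Lib.Basic.Conj.conj_smul_eq_self_iff

theorem cj_eq_of_mem {g : H} {Q : Subgroup H} (hg : g ∈ Q) : cj g Q = Q :=
  cj_eq_self_iff.2 (Subgroup.le_normalizer hg)

theorem cj_le_of_mem {g : H} {Q R : Subgroup H} (hg : g ∈ R) (hQ : Q ≤ R) : cj g Q ≤ R := by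
  have := cj_mono (g := g) hQ
  rwa [cj_eq_of_mem hg] at this

theorem cj_cj_of_mem_normalizer {g x : H} {Q : Subgroup H} (hx : x ∈ normalizer (Q : Set H)) :
    cj (g * x) Q = cj g Q := by
  rw [cj_mul, cj_eq_self_iff.2 hx]

theorem isPGroup_cj {g : H} {Q : Subgroup H} (hQ : IsPGroup p Q) : IsPGroup p (cj g Q) :=
  hQ.map _

theorem card_cj (g : H) (Q : Subgroup H) : Nat.card (cj g Q) = Nat.card Q :=
  Cfsg.Agent.Lib.Basic.Conj.card_map_conj g Q

theorem coe_sylow_smul [Fact p.Prime] (g : H) (T : Sylow p H) :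
    ((g • T : Sylow p H) : Subgroup H) = cj g (T : Subgroup H) :=
  Sylow.coe_subgroup_smul

section WC

variable [Finite H] [Fact p.Prime] {Q : Subgroup H}

/-- The basic property: a weakly closed subgroup is the only conjugate of itself in any `p`-subgroup
containing it. -/
theorem eq_of_le (hwc : Cfsg.IsWeaklyClosedSubgroup p Q) {R : Subgroup H} (hR : IsPGroup p R)
    (hQR : Q ≤ R) {g : H} (hg : cj g Q ≤ R) : cj g Q = Q := by
  obtain ⟨T, -, hT⟩ := hwc
  obtain ⟨T', hT'⟩ := hR.exists_le_sylow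
  obtain ⟨h, hh⟩ := MulAction.exists_smul_eq H T' T
  have hle : cj h R ≤ (T : Subgroup H) := by
    rw [← hh, coe_sylow_smul]
    exact cj_mono hT'
  have h1 : cj h Q = Q := hT h ((cj_mono hQR).trans hle)
  have h2 : cj (h * g) Q = Q := hT _ (by
    change cj (h * g) Q ≤ _
    rw [cj_mul]
    exact (cj_mono hg).trans hle)
  apply cj_inj (g := h)
  rw [← cj_mul, h1, h2]

/-- The weak closedness passes from some Sylow subgroup to all overgroups. -/
theorem normalizes (hwc : Cfsg.IsWeaklyClosedSubgroup p Q) {R : Subgroup H} (hR : IsPGroup p R)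
    (hQR : Q ≤ R) : R ≤ normalizer (Q : Set H) := fun _ ht =>
  cj_eq_self_iff.1 (eq_of_le hwc hR hQR (cj_le_of_mem ht hQR))

/-- Conjugates of `Q` in an overgroup are conjugate inside the overgroup. -/
theorem exists_conj_in_overgroup (hwc : Cfsg.IsWeaklyClosedSubgroup p Q) (hQp : IsPGroup p Q)
    {K : Subgroup H} (hQK : Q ≤ K) {g : H} (hg : cj g Q ≤ K) : ∃ k ∈ K, cj g Q = cj k Q := by
  have hA : IsPGroup p (Q.subgroupOf K) := hQp.comap_subtype
  have hB : IsPGroup p ((cj g Q).subgroupOf K) := (isPGroup_cj hQp).comap_subtype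
  obtain ⟨S₁, hS₁⟩ := hA.exists_le_sylow
  obtain ⟨S₂, hS₂⟩ := hB.exists_le_sylow
  obtain ⟨k, hk⟩ := MulAction.exists_smul_eq K S₂ S₁
  have hR : IsPGroup p ((S₁ : Subgroup K).map K.subtype) := S₁.isPGroup'.map _
  have hQR : Q ≤ (S₁ : Subgroup K).map K.subtype := by
    intro x hx
    exact ⟨⟨x, hQK hx⟩, hS₁ hx, rfl⟩
  have h1 : cj ((k : H) * g) Q ≤ (S₁ : Subgroup K).map K.subtype := by
    rw [cj_mul]
    intro x hx
    rw [mem_cj] at hx
    have hy : (k : H)⁻¹ * x * k ∈ cj g Q := hx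
    have hyK : (k : H)⁻¹ * x * k ∈ K := hg hy
    have hxK : x ∈ K := by
      have := K.mul_mem (K.mul_mem k.2 hyK) (K.inv_mem k.2)
      have h4 : (k : H) * ((k : H)⁻¹ * x * k) * (k : H)⁻¹ = x := by group
      rwa [h4] at this
    refine ⟨⟨x, hxK⟩, ?_, rfl⟩
    rw [← hk, Sylow.coe_subgroup_smul]
    refine (Subgroup.mem_pointwise_smul_iff_inv_smul_mem).2 ?_
    apply hS₂
    rw [Subgroup.mem_subgroupOf]
    have h5 : (((MulAut.conj k)⁻¹ • (⟨x, hxK⟩ : K) : K) : H) = (k : H)⁻¹ * x * k := by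
      simp [MulAut.smul_def, MulAut.conj_apply, ← map_inv, mul_assoc]
    rw [h5]
    exact hy
  have h2 := eq_of_le hwc hR hQR h1
  refine ⟨((k⁻¹ : K) : H), K.inv_mem k.2, ?_⟩
  apply cj_inj (g := (k : H))
  have h3 : cj (k : H) (cj ((k⁻¹ : K) : H) Q) = Q := by
    rw [← cj_mul]
    simp
  rw [← cj_mul, h2, h3]

/-- `Q.subgroupOf K` is weakly closed in `K`. -/
theorem isWeaklyClosedSubgroup_subgroupOf (hwc : Cfsg.IsWeaklyClosedSubgroup p Q)
    (hQp : IsPGroup p Q) {K : Subgroup H} (hQK : Q ≤ K) :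
    Cfsg.IsWeaklyClosedSubgroup p (Q.subgroupOf K) := by
  have hA : IsPGroup p (Q.subgroupOf K) := hQp.comap_subtype
  obtain ⟨S, hS⟩ := hA.exists_le_sylow
  refine ⟨S, hS, fun g hg => ?_⟩
  have hR : IsPGroup p ((S : Subgroup K).map K.subtype) := S.isPGroup'.map _
  have hQR : Q ≤ (S : Subgroup K).map K.subtype := by
    intro x hx
    exact ⟨⟨x, hQK hx⟩, hS hx, rfl⟩
  have h1 : cj (g : H) Q ≤ (S : Subgroup K).map K.subtype := by
    rintro _ ⟨y, hy, rfl⟩
    have hyK : y ∈ K := hQK hy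
    refine ⟨g * ⟨y, hyK⟩ * g⁻¹, hg ⟨⟨y, hyK⟩, hy, rfl⟩, ?_⟩
    simp
  have h2 := eq_of_le hwc hR hQR h1
  ext x
  constructor
  · rintro ⟨y, hy, rfl⟩
    have hy' : (y : H) ∈ Q := hy
    change ((g * y * g⁻¹ : K) : H) ∈ Q
    rw [← h2]
    exact conj_mem_cj hy'
  · intro hx
    have hx' : (x : H) ∈ Q := hx
    rw [← h2, mem_cj] at hx'
    refine ⟨g⁻¹ * x * g, ?_, by simp [mul_assoc]⟩
    exact hx'

end WC

section Equivalent

variable [Finite H] [Fact p.Prime] {Q : Subgroup H}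

omit [Finite H] [Fact p.Prime] in
/-- If all elements of `A` conjugate `Q` into `Q`, then `A` normalizes `Q`. -/
theorem le_normalizer_of_conj_mem {A : Subgroup H} (h : ∀ y ∈ A, ∀ q ∈ Q, y * q * y⁻¹ ∈ Q) :
    A ≤ normalizer (Q : Set H) := by
  intro y hy
  rw [mem_normalizer_iff]
  intro q
  refine ⟨h y hy q, fun hq => ?_⟩
  have := h y⁻¹ (A.inv_mem hy) _ hq
  simpa [mul_assoc] using this

omit [Finite H] [Fact p.Prime] in
/-- Mutually normalizing subgroups satisfy `[A, B] ≤ A ∩ B`. -/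
theorem commutator_le_inf_of_normalize {A B : Subgroup H} (hA : A ≤ normalizer (B : Set H))
    (hB : B ≤ normalizer (A : Set H)) : ⁅A, B⁆ ≤ A ⊓ B := by
  rw [Subgroup.commutator_le]
  intro a ha b hb
  refine Subgroup.mem_inf.2 ⟨?_, ?_⟩
  · rw [commutatorElement_def, mul_assoc, mul_assoc, ← mul_assoc b]
    exact A.mul_mem ha ((mem_normalizer_iff.1 (hB hb) _).1 (A.inv_mem ha))
  · rw [commutatorElement_def]
    exact B.mul_mem ((mem_normalizer_iff.1 (hA ha) _).1 hb) (B.inv_mem hb)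

omit [Finite H] [Fact p.Prime] in
/-- Conversely `[A, B] ≤ A ∩ B` means that they normalize each other. -/
theorem normalize_of_commutator_le_inf {A B : Subgroup H} (h : ⁅A, B⁆ ≤ A ⊓ B) :
    A ≤ normalizer (B : Set H) ∧ B ≤ normalizer (A : Set H) := by
  constructor
  · apply le_normalizer_of_conj_mem
    intro a ha b hb
    have h1 : ⁅a, b⁆ ∈ A ⊓ B := h (Subgroup.commutator_mem_commutator ha hb)
    have h2 : a * b * a⁻¹ = ⁅a, b⁆ * b := by
      rw [commutatorElement_def]; group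
    rw [h2]
    exact B.mul_mem (Subgroup.mem_inf.1 h1).2 hb
  · apply le_normalizer_of_conj_mem
    intro b hb a ha
    have h1 : ⁅a, b⁆ ∈ A ⊓ B := h (Subgroup.commutator_mem_commutator ha hb)
    have h3 : b * a * b⁻¹ = ⁅a, b⁆⁻¹ * a := by
      rw [commutatorElement_def]; group
    rw [h3]
    exact A.mul_mem (A.inv_mem (Subgroup.mem_inf.1 h1).1) ha

/-- If a `p`-subgroup `T` contains two distinct conjugates of `Q`, it contains two distinct conjugates
of `Q` which normalize each other. -/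
theorem exists_mutual_normalizing : ∀ (n : ℕ) (T : Subgroup H), IsPGroup p T → Nat.card T ≤ n →
    ∀ a b : H, cj a Q ≤ T → cj b Q ≤ T → cj a Q ≠ cj b Q →
    ∃ a' b' : H, cj a' Q ≠ cj b' Q ∧ cj a' Q ≤ normalizer (cj b' Q : Set H) ∧
      cj b' Q ≤ normalizer (cj a' Q : Set H) := by
  intro n
  induction n with
  | zero =>
    intro T _ hT
    exact absurd hT (by have := Nat.card_pos (α := T); omega)
  | succ n ih =>
    intro T hTp hT a b ha hb hne
    -- descent lemma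
    have descend : ∀ c : H, cj c Q ≤ T → ¬ T ≤ normalizer (cj c Q : Set H) →
        ∃ a' b' : H, cj a' Q ≠ cj b' Q ∧ cj a' Q ≤ normalizer (cj b' Q : Set H) ∧
          cj b' Q ≤ normalizer (cj a' Q : Set H) := by
      intro c hc hnc
      obtain ⟨t, htT, htn⟩ := SetLike.not_le_iff_exists.1 hnc
      have hne' : (cj c Q).subgroupOf T ≠ ⊤ := by
        intro htop
        rw [Subgroup.subgroupOf_eq_top] at htop
        exact htn (Subgroup.le_normalizer (htop htT))
      obtain ⟨M, hMle, hMn, hMi⟩ := Cfsg.Agent.Lib.PGroup.Basic.exists_normal_index_ge hTp hne'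
      set M' : Subgroup H := M.map T.subtype with hM'
      have hM'p : IsPGroup p M' := (hTp.to_subgroup M).map _
      have hcM : cj c Q ≤ M' := by
        intro x hx
        exact ⟨⟨x, hc hx⟩, hMle hx, rfl⟩
      have hnorm : ∀ y ∈ M', t * y * t⁻¹ ∈ M' := by
        rintro _ ⟨y, hy, rfl⟩
        refine ⟨⟨t, htT⟩ * y * ⟨t, htT⟩⁻¹, hMn.conj_mem y hy _, ?_⟩
        simp
      have hcard : Nat.card M' ≤ n := by
        have h1 : Nat.card M' = Nat.card M :=
          Subgroup.card_map_of_injective T.subtype_injective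
        have h2 := Subgroup.card_mul_index M
        rw [hMi] at h2
        have hp2 : 2 ≤ p := (Fact.out : p.Prime).two_le
        have hpos : 0 < Nat.card M := Nat.card_pos
        have h3 : Nat.card M < Nat.card T := by
          rw [← h2]
          nlinarith
        omega
      refine ih M' hM'p hcard c (t * c) hcM ?_ ?_
      · rw [cj_mul]
        intro x hx
        rw [mem_cj] at hx
        have := hnorm _ (hcM hx)
        have h4 : t * (t⁻¹ * x * t) * t⁻¹ = x := by group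
        rwa [h4] at this
      · intro heq
        rw [cj_mul] at heq
        exact htn (cj_eq_self_iff.1 heq.symm)
    by_cases h1 : T ≤ normalizer (cj a Q : Set H)
    · by_cases h2 : T ≤ normalizer (cj b Q : Set H)
      · exact ⟨a, b, hne, ha.trans h2, hb.trans h1⟩
      · exact descend b hb h2
    · exact descend a ha h1

/-- Criterion (ii) for weak closure. -/
theorem isWeaklyClosedSubgroup_of_commutator (hQp : IsPGroup p Q)
    (h : ∀ g : H, ⁅Q, cj g Q⁆ ≤ Q ⊓ cj g Q → cj g Q = Q) :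
    Cfsg.IsWeaklyClosedSubgroup p Q := by
  obtain ⟨T, hT⟩ := hQp.exists_le_sylow
  refine ⟨T, hT, fun g hg => ?_⟩
  by_contra hne
  obtain ⟨a, b, hab, h1, h2⟩ := exists_mutual_normalizing (Q := Q) _ (T : Subgroup H) T.isPGroup' le_rfl
    1 g (by simpa using hT) hg (by
      rw [cj_one]
      exact fun h => hne h.symm)
  -- conjugate by `a⁻¹`
  have hN : ∀ x : H, ∀ A B : Subgroup H, A ≤ normalizer (B : Set H) →
      cj x A ≤ normalizer (cj x B : Set H) := by
    intro x A B hAB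
    intro y hy
    rw [mem_cj] at hy
    have h3 := hAB hy
    rw [← cj_eq_self_iff] at h3 ⊢
    have h4 : y = x * (x⁻¹ * y * x) * x⁻¹ := by group
    rw [h4, cj_mul, cj_mul, cj_inv_cj, h3]
  have h3 := h (a⁻¹ * b) (by
    apply commutator_le_inf_of_normalize
    · have := hN a⁻¹ _ _ h1
      rwa [cj_inv_cj, ← cj_mul] at this
    · have := hN a⁻¹ _ _ h2
      rwa [cj_inv_cj, ← cj_mul] at this)
  apply hab
  apply cj_inj (g := a⁻¹)
  rw [cj_inv_cj, ← cj_mul, h3]

/-- Direct part: weakly closed implies criterion (ii). -/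
theorem eq_of_commutator_le (hwc : Cfsg.IsWeaklyClosedSubgroup p Q) (hQp : IsPGroup p Q) {g : H}
    (h : ⁅Q, cj g Q⁆ ≤ Q ⊓ cj g Q) : cj g Q = Q := by
  obtain ⟨-, h2⟩ := normalize_of_commutator_le_inf h
  have hR : IsPGroup p (Q ⊔ cj g Q : Subgroup H) := hQp.to_sup_of_normal_left' (isPGroup_cj hQp) h2
  exact eq_of_le hwc hR le_sup_left le_sup_right

/-- Criterion (iii): if `N(R) ≤ N(Q)` for `p`-subgroups `R ≥ Q`, then the normalizer of `Q` is transitive on
Sylow subgroups containing `Q`. -/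
theorem sylow_transitive (hyp : ∀ R : Subgroup H, IsPGroup p R → Q ≤ R →
      normalizer (R : Set H) ≤ normalizer (Q : Set H)) :
    ∀ (k : ℕ) (T₁ T₂ : Sylow p H), Nat.card H - Nat.card ((T₁ : Subgroup H) ⊓ T₂ : Subgroup H) ≤ k →
      Q ≤ (T₁ : Subgroup H) → Q ≤ (T₂ : Subgroup H) →
      ∃ n ∈ normalizer (Q : Set H), n • T₁ = T₂ := by
  intro k
  induction k with
  | zero =>
    intro T₁ T₂ hk _ _
    have hle : Nat.card ((T₁ : Subgroup H) ⊓ T₂ : Subgroup H) ≤ Nat.card H :=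
      Subgroup.card_le_card_group _
    have h1 : ((T₁ : Subgroup H) ⊓ T₂ : Subgroup H) = ⊤ := by
      apply Subgroup.eq_top_of_card_eq
      omega
    have h2 : (T₁ : Subgroup H) = T₂ := by
      have h3 : (T₁ : Subgroup H) = ⊤ := top_le_iff.1 (h1 ▸ inf_le_left)
      have h4 : (T₂ : Subgroup H) = ⊤ := top_le_iff.1 (h1 ▸ inf_le_right)
      rw [h3, h4]
    exact ⟨1, Subgroup.one_mem _, by rw [one_smul]; exact Sylow.ext h2⟩
  | succ k ih =>
    intro T₁ T₂ hk hQ₁ hQ₂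
    by_cases heq : T₁ = T₂
    · exact ⟨1, Subgroup.one_mem _, by rw [one_smul]; exact heq⟩
    set D : Subgroup H := (T₁ : Subgroup H) ⊓ T₂ with hD
    have hQD : Q ≤ D := le_inf hQ₁ hQ₂
    have hDp : IsPGroup p D := T₁.isPGroup'.to_le inf_le_left
    have hD₁ : D < T₁ := by
      refine lt_of_le_of_ne inf_le_left (fun h => heq ?_)
      have : (T₁ : Subgroup H) ≤ T₂ := by rw [← h]; exact inf_le_right
      exact Sylow.ext (T₁.is_maximal' T₂.isPGroup' this).symm ▸ rfl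
    have hD₂ : D < T₂ := by
      refine lt_of_le_of_ne inf_le_right (fun h => heq ?_)
      have : (T₂ : Subgroup H) ≤ T₁ := by rw [← h]; exact inf_le_left
      exact Sylow.ext (T₂.is_maximal' T₁.isPGroup' this)
    set ND : Subgroup H := normalizer (D : Set H) with hND
    have hNDQ : ND ≤ normalizer (Q : Set H) := hyp D hDp hQD
    -- p-subgroups of N(D)
    have hA₁ : IsPGroup p (((T₁ : Subgroup H)).subgroupOf ND) := T₁.isPGroup'.comap_subtype
    have hA₂ : IsPGroup p (((T₂ : Subgroup H)).subgroupOf ND) := T₂.isPGroup'.comap_subtype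
    obtain ⟨S₁, hS₁⟩ := hA₁.exists_le_sylow
    obtain ⟨S₂, hS₂⟩ := hA₂.exists_le_sylow
    obtain ⟨n, hn⟩ := MulAction.exists_smul_eq ND S₁ S₂
    obtain ⟨T₃, hT₃⟩ := (S₁.isPGroup'.map ND.subtype).exists_le_sylow
    have hT₁T₃ : (T₁ : Subgroup H) ⊓ ND ≤ (T₃ : Subgroup H) := by
      rintro x ⟨hx₁, hx₂⟩
      exact hT₃ ⟨⟨x, hx₂⟩, hS₁ hx₁, rfl⟩
    have hDND : D ≤ ND := Subgroup.le_normalizer
    -- the strict increases
    obtain ⟨x₁, hx₁T, hx₁D, hx₁N⟩ := Cfsg.Agent.Lib.PGroup.Basic.exists_mem_normalizer_of_lt T₁.isPGroup' hD₁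
    obtain ⟨x₂, hx₂T, hx₂D, hx₂N⟩ := Cfsg.Agent.Lib.PGroup.Basic.exists_mem_normalizer_of_lt T₂.isPGroup' hD₂
    set T₄ : Sylow p H := (n : H) • T₃ with hT₄
    have hT₂T₄ : (T₂ : Subgroup H) ⊓ ND ≤ (T₄ : Subgroup H) := by
      rintro x ⟨hx₁, hx₂⟩
      have h1 : (⟨x, hx₂⟩ : ND) ∈ (S₂ : Subgroup ND) := hS₂ hx₁
      rw [← hn, Sylow.coe_subgroup_smul] at h1
      rw [hT₄, coe_sylow_smul, mem_cj]
      apply hT₃
      have h2 := Subgroup.mem_pointwise_smul_iff_inv_smul_mem.1 h1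
      refine ⟨_, h2, ?_⟩
      simp [MulAut.smul_def, MulAut.conj_apply, ← map_inv, mul_assoc]
    have hcard₁ : Nat.card H - Nat.card ((T₁ : Subgroup H) ⊓ T₃ : Subgroup H) ≤ k := by
      have hlt : D < (T₁ : Subgroup H) ⊓ T₃ := by
        refine lt_of_le_of_ne (le_inf inf_le_left ((le_inf inf_le_left hDND).trans hT₁T₃)) (fun h => hx₁D ?_)
        rw [h]
        exact ⟨hx₁T, hT₁T₃ ⟨hx₁T, hx₁N⟩⟩
      have hlt' := Set.ncard_lt_ncard (show (D : Set H) ⊂ ((T₁ : Subgroup H) ⊓ T₃ : Subgroup H) from hlt) (Set.toFinite _)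
      have e1 : Nat.card D = (D : Set H).ncard := by
        rw [← Nat.card_coe_set_eq]; rfl
      have e2 : Nat.card ((T₁ : Subgroup H) ⊓ T₃ : Subgroup H) = (((T₁ : Subgroup H) ⊓ T₃ : Subgroup H) : Set H).ncard := by
        rw [← Nat.card_coe_set_eq]; rfl
      have hle : Nat.card ((T₁ : Subgroup H) ⊓ T₃ : Subgroup H) ≤ Nat.card H :=
        Subgroup.card_le_card_group _
      omega
    have hcard₂ : Nat.card H - Nat.card ((T₄ : Subgroup H) ⊓ T₂ : Subgroup H) ≤ k := by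
      have hlt : D < (T₄ : Subgroup H) ⊓ T₂ := by
        refine lt_of_le_of_ne (le_inf ((le_inf inf_le_right hDND).trans hT₂T₄) inf_le_right) (fun h => hx₂D ?_)
        rw [h]
        exact ⟨hT₂T₄ ⟨hx₂T, hx₂N⟩, hx₂T⟩
      have hlt' := Set.ncard_lt_ncard (show (D : Set H) ⊂ ((T₄ : Subgroup H) ⊓ T₂ : Subgroup H) from hlt) (Set.toFinite _)
      have e1 : Nat.card D = (D : Set H).ncard := by
        rw [← Nat.card_coe_set_eq]; rfl
      have e2 : Nat.card ((T₄ : Subgroup H) ⊓ T₂ : Subgroup H) = (((T₄ : Subgroup H) ⊓ T₂ : Subgroup H) : Set H).ncard := by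
        rw [← Nat.card_coe_set_eq]; rfl
      have hle : Nat.card ((T₄ : Subgroup H) ⊓ T₂ : Subgroup H) ≤ Nat.card H :=
        Subgroup.card_le_card_group _
      omega
    have hQ₃ : Q ≤ (T₃ : Subgroup H) := (le_inf hQ₁ (hQD.trans hDND)).trans hT₁T₃
    have hQ₄ : Q ≤ (T₄ : Subgroup H) := (le_inf hQ₂ (hQD.trans hDND)).trans hT₂T₄
    obtain ⟨n₁, hn₁, hn₁T⟩ := ih T₁ T₃ hcard₁ hQ₁ hQ₃
    obtain ⟨n₂, hn₂, hn₂T⟩ := ih T₄ T₂ hcard₂ hQ₄ hQ₂
    refine ⟨n₂ * (n : H) * n₁, Subgroup.mul_mem _ (Subgroup.mul_mem _ hn₂ (hNDQ n.2)) hn₁, ?_⟩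
    rw [mul_smul, mul_smul, hn₁T, ← hT₄, hn₂T]

/-- Criterion (iii) for weak closure. -/
theorem isWeaklyClosedSubgroup_of_normalizer (hQp : IsPGroup p Q)
    (hyp : ∀ R : Subgroup H, IsPGroup p R → Q ≤ R →
      normalizer (R : Set H) ≤ normalizer (Q : Set H)) :
    Cfsg.IsWeaklyClosedSubgroup p Q := by
  obtain ⟨T, hT⟩ := hQp.exists_le_sylow
  refine ⟨T, hT, fun g hg => ?_⟩
  have h1 : Q ≤ ((g⁻¹ • T : Sylow p H) : Subgroup H) := by
    rw [coe_sylow_smul]
    have := cj_mono (g := g⁻¹) hg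
    rwa [cj_inv_cj] at this
  obtain ⟨n, hn, hnT⟩ := sylow_transitive hyp _ T (g⁻¹ • T) le_rfl hT h1
  have h2 : (g * n) • T = T := by
    rw [mul_smul, hnT, smul_inv_smul]
  have h3 : g * n ∈ normalizer ((T : Subgroup H) : Set H) := Sylow.smul_eq_iff_mem_normalizer.1 h2
  have h4 := hyp T T.isPGroup' hT h3
  have h5 : g ∈ normalizer (Q : Set H) := by
    have := Subgroup.mul_mem _ h4 (Subgroup.inv_mem _ hn)
    simpa using this
  exact cj_eq_self_iff.2 h5

end Equivalent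

end Cfsg.Agent.Lib.PGroup.WeaklyClosed
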