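import Mathlib
import Cfsg.Prelude.Def_LocalStructure
import Cfsg.Agent.Lib.PGroup.WeaklyClosed
import Cfsg.Agent.Lib.Basic.PCore

/-!
# Large subgroups (the `Q!` property)
-/

namespace Cfsg.Agent.Lib.PGroup.LargeSub

open Subgroup Cfsg.Agent.Lib.PGroup.WeaklyClosed

variable {H : Type*} [Group H] {p : ℕ}

theorem centralizer_cj (g : H) (Q : Subgroup H) :
    centralizer ((cj g Q : Subgroup H) : Set H) = cj g (centralizer (Q : Set H)) :=
  Cfsg.Agent.Lib.Basic.Conj.centralizer_conj_smul g Q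

theorem normalizer_cj (g : H) (Q : Subgroup H) :
    normalizer ((cj g Q : Subgroup H) : Set H) = cj g (normalizer (Q : Set H)) :=
  Cfsg.Agent.Lib.Basic.Conj.normalizer_conj_smul g Q

theorem cj_eq_bot_iff {g : H} {U : Subgroup H} : cj g U = ⊥ ↔ U = ⊥ := by
  constructor
  · intro h
    apply cj_inj (g := g)
    rw [h]
    exact (Subgroup.map_bot _).symm
  · rintro rfl
    exact Subgroup.map_bot _

/-- Large subgroups are stable under conjugation. -/
theorem isLarge_cj {Q : Subgroup H} (hL : Cfsg.IsLarge Q) (g : H) : Cfsg.IsLarge (cj g Q) := by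
  refine ⟨?_, fun U hU hU1 => ?_⟩
  · rw [centralizer_cj]
    exact cj_mono hL.1
  · rw [centralizer_cj] at hU
    have h1 : cj g⁻¹ U ≤ centralizer (Q : Set H) := by
      have := cj_mono (g := g⁻¹) hU
      rwa [cj_inv_cj] at this
    have h2 := hL.2 (cj g⁻¹ U) h1 (fun h => hU1 (cj_eq_bot_iff.1 h))
    rw [normalizer_cj] at h2
    have := cj_mono (g := g) h2
    rw [cj_cj_inv] at this
    rw [normalizer_cj]
    exact this

/-- The centre of a subgroup, as a subgroup of the ambient group. -/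
abbrev zS (T : Subgroup H) : Subgroup H := T ⊓ centralizer (T : Set H)

theorem zS_ne_bot [Finite H] [Fact p.Prime] {T : Subgroup H} (hT : IsPGroup p T) (hne : T ≠ ⊥) :
    zS T ≠ ⊥ := by
  have : Nontrivial T := (Subgroup.nontrivial_iff_ne_bot T).2 hne
  have h1 := hT.center_nontrivial
  obtain ⟨z, hz⟩ := exists_ne (1 : Subgroup.center T)
  intro h
  apply hz
  have hz1 : ((z : T) : H) ∈ zS T := by
    refine Subgroup.mem_inf.2 ⟨(z : T).2, ?_⟩
    rw [Subgroup.mem_centralizer_iff]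
    intro t ht
    have := Subgroup.mem_center_iff.1 z.2 ⟨t, ht⟩
    exact congrArg Subtype.val this
  rw [h, Subgroup.mem_bot] at hz1
  exact Subtype.ext (Subtype.ext hz1)

theorem zS_le_centralizer {A T : Subgroup H} (h : A ≤ T) : zS T ≤ centralizer (A : Set H) :=
  inf_le_right.trans (Subgroup.centralizer_le h)

theorem normalizer_le_normalizer_zS (T : Subgroup H) :
    normalizer (T : Set H) ≤ normalizer (zS T : Set H) := by
  apply le_normalizer_of_conj_mem
  rintro y hy x ⟨hxT, hxC⟩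
  refine Subgroup.mem_inf.2 ⟨(mem_normalizer_iff.1 hy x).1 hxT, ?_⟩
  rw [Subgroup.mem_centralizer_iff]
  intro t ht
  have ht' : y⁻¹ * t * y ∈ T := by
    have := (mem_normalizer_iff.1 (Subgroup.inv_mem _ hy) t).1 ht
    simpa using this
  have h1 := Subgroup.mem_centralizer_iff.1 hxC _ ht'
  calc t * (y * x * y⁻¹) = y * ((y⁻¹ * t * y) * x) * y⁻¹ := by group
    _ = y * (x * (y⁻¹ * t * y)) * y⁻¹ := by rw [h1]
    _ = y * x * y⁻¹ * t := by group

/-- Two Sylow subgroups inside a subgroup are conjugate in this subgroup. -/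
theorem exists_conj_of_sylow_le [Finite H] [Fact p.Prime] (T₁ T₂ : Sylow p H) (X : Subgroup H)
    (h₁ : (T₁ : Subgroup H) ≤ X) (h₂ : (T₂ : Subgroup H) ≤ X) : ∃ x ∈ X, x • T₁ = T₂ := by
  obtain ⟨x, hx⟩ := MulAction.exists_smul_eq X (T₁.subtype h₁) (T₂.subtype h₂)
  refine ⟨x, x.2, ?_⟩
  rw [Sylow.smul_subtype] at hx
  exact Sylow.subtype_injective hx

variable [Finite H] [Fact p.Prime] {Q : Subgroup H}

/-- Sylow subgroups over a large subgroup normalize it. -/
theorem le_normalizer_of_isPGroup (hQ1 : Q ≠ ⊥) (hL : Cfsg.IsLarge Q) {R : Subgroup H}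
    (hR : IsPGroup p R) (hQR : Q ≤ R) : R ≤ normalizer (Q : Set H) := by
  have hne : R ≠ ⊥ := fun h => hQ1 (le_bot_iff.1 (h ▸ hQR))
  have h1 := hL.2 (zS R) (zS_le_centralizer hQR) (zS_ne_bot hR hne)
  exact (Subgroup.le_normalizer.trans (normalizer_le_normalizer_zS R)).trans h1

/-- A large subgroup is weakly closed. -/
theorem isWeaklyClosedSubgroup (hQp : IsPGroup p Q) (hQ1 : Q ≠ ⊥) (hL : Cfsg.IsLarge Q) :
    Cfsg.IsWeaklyClosedSubgroup p Q := by
  obtain ⟨T, hT⟩ := hQp.exists_le_sylow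
  refine ⟨T, hT, fun g hg => ?_⟩
  have hgb : cj g Q ≠ ⊥ := fun h => hQ1 (cj_eq_bot_iff.1 h)
  have hTne : (T : Subgroup H) ≠ ⊥ := fun h => hQ1 (le_bot_iff.1 (h ▸ hT))
  set U := zS (T : Subgroup H) with hU
  have hU1 : U ≠ ⊥ := zS_ne_bot T.isPGroup' hTne
  have hN₁ : normalizer (U : Set H) ≤ normalizer (Q : Set H) :=
    hL.2 U (zS_le_centralizer hT) hU1
  have hN₂ : normalizer (U : Set H) ≤ normalizer (cj g Q : Set H) :=
    (isLarge_cj hL g).2 U (zS_le_centralizer hg) hU1
  have hNT : normalizer ((T : Subgroup H) : Set H) ≤ normalizer (U : Set H) :=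
    normalizer_le_normalizer_zS _
  have hTU : (T : Subgroup H) ≤ normalizer (U : Set H) := Subgroup.le_normalizer.trans hNT
  have hT₁ : (T : Subgroup H) ≤ normalizer (cj g Q : Set H) := hTU.trans hN₂
  have hT₂ : ((g • T : Sylow p H) : Subgroup H) ≤ normalizer (cj g Q : Set H) := by
    rw [coe_sylow_smul, normalizer_cj]
    exact cj_mono (hTU.trans hN₁)
  obtain ⟨x, hx, hxT⟩ := exists_conj_of_sylow_le (g • T) T _ hT₂ hT₁
  have h3 : x * g ∈ normalizer ((T : Subgroup H) : Set H) := by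
    apply Sylow.smul_eq_iff_mem_normalizer.1
    rw [mul_smul, hxT]
  have h4 : x * g ∈ normalizer (Q : Set H) := hN₁ (hNT h3)
  have h5 := cj_eq_self_iff.2 h4
  rw [cj_mul, cj_eq_self_iff.2 hx] at h5
  exact h5

/-- `C(Q) ∩ C(Q^g) = 1` outside `N(Q)`. -/
theorem centralizer_inf_eq_bot (hQp : IsPGroup p Q) (hQ1 : Q ≠ ⊥) (hL : Cfsg.IsLarge Q) {g : H}
    (hg : g ∉ normalizer (Q : Set H)) :
    centralizer (Q : Set H) ⊓ centralizer (cj g Q : Set H) = ⊥ := by
  by_contra hU
  set U := centralizer (Q : Set H) ⊓ centralizer (cj g Q : Set H) with hUdef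
  have hN₁ : normalizer (U : Set H) ≤ normalizer (Q : Set H) := hL.2 U inf_le_left hU
  have hN₂ : normalizer (U : Set H) ≤ normalizer (cj g Q : Set H) :=
    (isLarge_cj hL g).2 U inf_le_right hU
  have h1 : Q ≤ centralizer (U : Set H) := by
    rw [Subgroup.le_centralizer_iff]
    exact inf_le_left
  have h2 : cj g Q ≤ centralizer (U : Set H) := by
    rw [Subgroup.le_centralizer_iff]
    exact inf_le_right
  have h3 : centralizer (U : Set H) ≤ normalizer (U : Set H) :=
    Subgroup.centralizer_le_normalizer _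
  have h4 : cj g Q ≤ normalizer (Q : Set H) := (h2.trans h3).trans hN₁
  have hR : IsPGroup p (Q ⊔ cj g Q : Subgroup H) := hQp.to_sup_of_normal_left' (isPGroup_cj hQp) h4
  have h5 := eq_of_le (isWeaklyClosedSubgroup hQp hQ1 hL) hR le_sup_left le_sup_right
  exact hg (cj_eq_self_iff.1 h5)

section Bullet

theorem le_largeBullet {Q : Subgroup H} (hQp : IsPGroup p Q) : Q ≤ Cfsg.largeBullet p Q := by
  intro x hx
  have hn : (Q.subgroupOf (normalizer (Q : Set H))).Normal := Subgroup.normal_in_normalizer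
  have hp : IsPGroup p (Q.subgroupOf (normalizer (Q : Set H))) := hQp.comap_subtype
  exact ⟨⟨x, Subgroup.le_normalizer hx⟩, Cfsg.Agent.Lib.Basic.PCore.le_pCore hn hp hx, rfl⟩

theorem isPGroup_largeBullet (Q : Subgroup H) : IsPGroup p (Cfsg.largeBullet p Q) :=
  (Cfsg.Agent.Lib.Basic.PCore.pCore_isPGroup p).map _

theorem normalizer_le_normalizer_largeBullet (Q : Subgroup H) :
    normalizer (Q : Set H) ≤ normalizer (Cfsg.largeBullet p Q : Set H) := by
  apply le_normalizer_of_conj_mem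
  rintro y hy _ ⟨x, hx, rfl⟩
  have := (Cfsg.Agent.Lib.Basic.PCore.pCore_normal p _).conj_mem x hx ⟨y, hy⟩
  exact ⟨_, this, by simp⟩

/-- For a weakly closed `p`-subgroup, `N(Q) = N(Q•)`. -/
theorem normalizer_eq_normalizer_largeBullet (hQp : IsPGroup p Q)
    (hwc : Cfsg.IsWeaklyClosedSubgroup p Q) :
    normalizer (Q : Set H) = normalizer (Cfsg.largeBullet p Q : Set H) := by
  refine le_antisymm (normalizer_le_normalizer_largeBullet Q) (fun y hy => ?_)
  have hle := le_largeBullet hQp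
  have h1 : cj y Q ≤ Cfsg.largeBullet p Q := by
    have := cj_mono (g := y) hle
    rwa [cj_eq_self_iff.2 hy] at this
  exact cj_eq_self_iff.1 (eq_of_le hwc (isPGroup_largeBullet Q) hle h1)

/-- `Q•` is large. -/
theorem isLarge_largeBullet (hQp : IsPGroup p Q) (hQ1 : Q ≠ ⊥) (hL : Cfsg.IsLarge Q) :
    Cfsg.IsLarge (Cfsg.largeBullet p Q) := by
  have hle := le_largeBullet hQp
  have hC := Subgroup.centralizer_le hle
  refine ⟨(hC.trans hL.1).trans hle, fun U hU hU1 => ?_⟩
  rw [← normalizer_eq_normalizer_largeBullet hQp (isWeaklyClosedSubgroup hQp hQ1 hL)]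
  exact hL.2 U (hU.trans hC) hU1

end Bullet

end Cfsg.Agent.Lib.PGroup.LargeSub
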