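import Mathlib
import Cfsg.Prelude.Def_LocalStructure
import Cfsg.Agent.Lib.PGroup.LargeSub

/-!
# `O_p` of subgroups and commutator arguments for weakly closed subgroups
-/

namespace Cfsg.Agent.Lib.PGroup.LargeSub2

open Subgroup Cfsg.Agent.Lib.PGroup.WeaklyClosed Cfsg.Agent.Lib.PGroup.LargeSub
open scoped commutatorElement

variable {H : Type*} [Group H] {p : ℕ}

theorem pCoreOf_le (L : Subgroup H) : Cfsg.pCoreOf p L ≤ L := by
  rintro _ ⟨y, -, rfl⟩
  exact y.2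

theorem conj_mem_pCoreOf {L : Subgroup H} {g z : H} (hg : g ∈ L) (hz : z ∈ Cfsg.pCoreOf p L) :
    g * z * g⁻¹ ∈ Cfsg.pCoreOf p L := by
  obtain ⟨y, hy, rfl⟩ := hz
  have : (⟨g, hg⟩ : L) * y * (⟨g, hg⟩ : L)⁻¹ ∈ Cfsg.pCore p L :=
    (Cfsg.Agent.Lib.Basic.PCore.pCore_normal p L).conj_mem y hy ⟨g, hg⟩
  exact ⟨_, this, rfl⟩

/-- A `p`-subgroup of `L` normalized by `L` lies in `O_p(L)`. -/
theorem le_pCoreOf {L A : Subgroup H} (hAL : A ≤ L) (hA : IsPGroup p A)
    (hn : L ≤ normalizer (A : Set H)) : A ≤ Cfsg.pCoreOf p L := by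
  intro x hx
  refine ⟨⟨x, hAL hx⟩, ?_, rfl⟩
  have hN : (A.subgroupOf L).Normal := by
    refine ⟨fun a ha g => ?_⟩
    exact (mem_normalizer_iff.1 (hn g.2) a).1 ha
  have hP : IsPGroup p (A.subgroupOf L) := hA.comap_subtype
  exact Cfsg.Agent.Lib.Basic.PCore.le_pCore hN hP hx

section Finite

variable [Finite H] [Fact p.Prime]

theorem isPGroup_pCoreOf (L : Subgroup H) : IsPGroup p (Cfsg.pCoreOf p L) :=
  (Cfsg.Agent.Lib.Basic.PCore.pCore_isPGroup p).map _

/-- The normalizer of `L` normalizes `O_p(L)`. -/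
theorem normalizer_le_normalizer_pCoreOf (L : Subgroup H) :
    normalizer (L : Set H) ≤ normalizer (Cfsg.pCoreOf p L : Set H) := by
  intro g hg
  have hle : cj g (Cfsg.pCoreOf p L) ≤ Cfsg.pCoreOf p L := by
    apply le_pCoreOf
    · have h1 := cj_mono (g := g) (pCoreOf_le (p := p) L)
      rwa [cj_eq_self_iff.2 hg] at h1
    · exact isPGroup_cj (isPGroup_pCoreOf L)
    · apply le_normalizer_of_conj_mem
      intro m hm x hx
      rw [mem_cj] at hx ⊢
      have hm' : g⁻¹ * m * g ∈ L := by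
        have := (mem_normalizer_iff.1 (Subgroup.inv_mem _ hg) m).1 hm
        simpa using this
      have h2 := conj_mem_pCoreOf hm' hx
      have h3 : g⁻¹ * (m * x * m⁻¹) * g = g⁻¹ * m * g * (g⁻¹ * x * g) * (g⁻¹ * m * g)⁻¹ := by group
      rw [h3]
      exact h2
  exact Cfsg.Agent.Lib.Basic.Conj.mem_normalizer_of_conj_smul_le hle

/-- `O_p` of a normal subgroup of `L` lies in `O_p(L)`. -/
theorem pCoreOf_le_pCoreOf {M L : Subgroup H} (hML : M ≤ L) (hn : L ≤ normalizer (M : Set H)) :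
    Cfsg.pCoreOf p M ≤ Cfsg.pCoreOf p L :=
  le_pCoreOf ((pCoreOf_le M).trans hML) (isPGroup_pCoreOf M)
    (hn.trans (normalizer_le_normalizer_pCoreOf M))

/-- If `Q` is a `p`-group normalizing a nontrivial `p`-group `Y`, it centralizes a nontrivial element
of `Y`. -/
theorem exists_mem_centralizer {Q Y : Subgroup H} (hQ : IsPGroup p Q) (hY : IsPGroup p Y)
    (hQY : Q ≤ normalizer (Y : Set H)) (hY1 : Y ≠ ⊥) :
    ∃ z ∈ Y, z ≠ 1 ∧ z ∈ centralizer (Q : Set H) := by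
  have hR : IsPGroup p (Q ⊔ Y : Subgroup H) := hQ.to_sup_of_normal_right' hY hQY
  set R : Subgroup H := Q ⊔ Y with hRdef
  have hN : (Y.subgroupOf R).Normal := by
    refine ⟨fun a ha g => ?_⟩
    have hg : (g : H) ∈ normalizer (Y : Set H) := by
      have hg' : R ≤ normalizer (Y : Set H) :=
        sup_le hQY Subgroup.le_normalizer
      exact hg' g.2
    exact (mem_normalizer_iff.1 hg a).1 ha
  have hYR : Y ≤ R := le_sup_right
  have hne : Y.subgroupOf R ≠ ⊥ := by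
    intro h
    rw [Subgroup.subgroupOf_eq_bot, disjoint_iff, inf_eq_left.2 hYR] at h
    exact hY1 h
  have h2 := Cfsg.Agent.Lib.Basic.SylowUtil.inf_center_ne_bot_of_isPGroup hR hne
  obtain ⟨⟨⟨z, hzR⟩, hz⟩, hz1⟩ := Subgroup.ne_bot_iff_exists_ne_one.1 h2
  refine ⟨z, hz.1, fun h => hz1 (Subtype.ext (Subtype.ext h)), ?_⟩
  rw [Subgroup.mem_centralizer_iff]
  intro q hq
  have h3 := Subgroup.mem_center_iff.1 hz.2 ⟨q, (le_sup_left : Q ≤ R) hq⟩
  exact congrArg Subtype.val h3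

/-- Commutators with a join of subgroups. -/
theorem commutator_iSup_le {ι : Type*} (G : ι → Subgroup H) (X S : Subgroup H)
    (hn : ∀ i, G i ≤ normalizer (S : Set H)) (h : ∀ i, ⁅G i, X⁆ ≤ S) :
    ⁅⨆ i, G i, X⁆ ≤ S := by
  rw [Subgroup.commutator_le]
  intro g hg x hx
  have hmem : g ∈ normalizer (S : Set H) ∧ ⁅g, x⁆ ∈ S := by
    induction hg using Subgroup.iSup_induction' with
    | hp i y hy =>
      exact ⟨hn i hy, h i (Subgroup.commutator_mem_commutator hy hx)⟩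
    | h1 => simp [Subgroup.one_mem]
    | hmul a b _ _ ha hb =>
      refine ⟨Subgroup.mul_mem _ ha.1 hb.1, ?_⟩
      have h1 : ⁅a * b, x⁆ = a * ⁅b, x⁆ * a⁻¹ * ⁅a, x⁆ := by
        simp only [commutatorElement_def]; group
      rw [h1]
      exact S.mul_mem ((mem_normalizer_iff.1 ha.1 _).1 hb.2) ha.2
  exact hmem.2

end Finite

end Cfsg.Agent.Lib.PGroup.LargeSub2
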