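import Mathlib
import Cfsg.Prelude.Def_BaumannBlocks
import Cfsg.Agent.Lib.PGroup.ThompsonG
import Cfsg.Agent.Lib.PGroup.LargeSub2
import Cfsg.Agent.Lib.Coprime.InvSylow

/-!
# `p`-subgroups normalized by the Baumann subgroup

`B(T)` for `T` Sylow: if `S` is a `p`-subgroup with `B(T) ≤ S` then `S` normalizes `B(T)`
(any Sylow subgroup containing `J(T)` has the same Thompson subgroup).

`normalizer_of_commutator`: if `D` is a `p`-group normalized by `E` and `B`, `D` normalizes `B`,
`B` normalizes `E`, `E = O^p(E) = [E, B]`, then `D` normalizes `E`.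
-/

namespace Cfsg.Agent.Lib.PGroup.BaumannNorm

open Subgroup Cfsg Cfsg.Agent.Lib.PGroup.ThompsonG
open scoped commutatorElement

variable {G : Type*} [Group G]

/-- The conjugation image of a subgroup. -/
abbrev cjg (g : G) (X : Subgroup G) : Subgroup G := X.map (MulAut.conj g).toMonoidHom

theorem mem_cjg {g x : G} {X : Subgroup G} : x ∈ cjg g X ↔ g⁻¹ * x * g ∈ X := by
  simp only [Subgroup.mem_map, MulEquiv.coe_toMonoidHom, MulAut.conj_apply]
  constructor
  · rintro ⟨y, hy, rfl⟩
    simpa [mul_assoc] using hy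
  · intro h
    exact ⟨_, h, by simp [mul_assoc]⟩

theorem cjg_inf (g : G) (X Y : Subgroup G) : cjg g (X ⊓ Y) = cjg g X ⊓ cjg g Y := by
  ext x
  simp only [mem_cjg, Subgroup.mem_inf]

theorem cjg_centralizer (g : G) (X : Subgroup G) :
    cjg g (centralizer (X : Set G)) = centralizer (cjg g X : Set G) := by
  ext x
  rw [mem_cjg, Subgroup.mem_centralizer_iff, Subgroup.mem_centralizer_iff]
  constructor
  · intro h y hy
    have h1 := h _ (mem_cjg.1 hy)
    have h2 : g * (g⁻¹ * y * g * (g⁻¹ * x * g)) * g⁻¹ = g * (g⁻¹ * x * g * (g⁻¹ * y * g)) * g⁻¹ := by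
      rw [h1]
    simpa [mul_assoc] using h2
  · intro h y hy
    have h1 := h (g * y * g⁻¹) (mem_cjg.2 (by simpa [mul_assoc] using hy))
    have h2 : g⁻¹ * (g * y * g⁻¹ * x) * g = g⁻¹ * (x * (g * y * g⁻¹)) * g := by rw [h1]
    simpa [mul_assoc] using h2

theorem cjg_omegaOne {p : ℕ} (g : G) (X : Subgroup G) :
    cjg g (omegaOne p X) = omegaOne p (cjg g X) := by
  unfold omegaOne cjg
  rw [MonoidHom.map_closure]
  congr 1
  ext x
  simp only [Set.mem_image, Set.mem_setOf_eq, Subgroup.mem_map, MulEquiv.coe_toMonoidHom,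
    MulAut.conj_apply]
  constructor
  · rintro ⟨y, ⟨hy, hp⟩, rfl⟩
    refine ⟨⟨y, hy, rfl⟩, ?_⟩
    rw [conj_pow, hp]
    simp
  · rintro ⟨⟨y, hy, rfl⟩, hp⟩
    refine ⟨y, ⟨hy, ?_⟩, rfl⟩
    rw [conj_pow] at hp
    have := conj_eq_one_iff.1 hp
    exact this

theorem cjg_centerThompsonOf {p : ℕ} (g : G) (X : Subgroup G) :
    cjg g (centerThompsonOf p X) = centerThompsonOf p (cjg g X) := by
  unfold centerThompsonOf
  rw [cjg_inf, cjg_centralizer]
  have := map_conj_thompsonSubgroupOf (p := p) g X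
  simp only [cjg]
  rw [this]

theorem cjg_baumann {p : ℕ} (g : G) (X : Subgroup G) :
    cjg g (baumannSubgroupOf p X) = baumannSubgroupOf p (cjg g X) := by
  unfold baumannSubgroupOf
  rw [cjg_inf, cjg_centralizer, cjg_omegaOne, cjg_centerThompsonOf]

/-- `J(T) ≤ B(T)`. -/
theorem thompson_le_baumann {p : ℕ} (X : Subgroup G) :
    thompsonSubgroupOf p X ≤ baumannSubgroupOf p X := by
  intro x hx
  refine Subgroup.mem_inf.2 ⟨thompsonSubgroupOf_le_self X hx, Subgroup.mem_centralizer_iff.2 ?_⟩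
  intro y hy
  have hy2 : y ∈ centerThompsonOf p X := by
    have h3 : omegaOne p (centerThompsonOf p X) ≤ centerThompsonOf p X := by
      unfold omegaOne
      rw [Subgroup.closure_le]
      intro z hz
      exact hz.1
    exact h3 hy
  exact (Subgroup.mem_centralizer_iff.1 hy2.2 x hx).symm

theorem baumann_le (X : Subgroup G) {p : ℕ} : baumannSubgroupOf p X ≤ X := inf_le_left

variable [Finite G] {p : ℕ} [hp : Fact p.Prime]

theorem card_cjg (g : G) (X : Subgroup G) : Nat.card (cjg g X) = Nat.card X :=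
  card_map_conj g X

/-- Sylow conjugacy in the present notation. -/
theorem exists_cjg_eq (T T₂ : Sylow p G) : ∃ g : G, cjg g (T : Subgroup G) = T₂ := by
  obtain ⟨g, hg⟩ := MulAction.exists_smul_eq G T T₂
  refine ⟨g, ?_⟩
  have : ((g • T : Sylow p G) : Subgroup G) = cjg g (T : Subgroup G) := by
    rw [Sylow.coe_subgroup_smul]
    rfl
  rw [← this, hg]

/-- Any Sylow subgroup containing `J(T)` has the same Thompson subgroup. -/
theorem thompson_eq_of_le (T T₂ : Sylow p G) (h : thompsonSubgroupOf p (T : Subgroup G) ≤ T₂) :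
    thompsonSubgroupOf p (T₂ : Subgroup G) = thompsonSubgroupOf p (T : Subgroup G) := by
  obtain ⟨g, hg⟩ := exists_cjg_eq T T₂
  have hle : thompsonSubgroupOf p (T : Subgroup G) ≤ thompsonSubgroupOf p (T₂ : Subgroup G) := by
    rw [thompsonSubgroupOf_le_iff]
    intro A hA
    apply le_thompsonSubgroupOf
    refine ⟨(le_thompsonSubgroupOf hA).trans h, hA.2.1, fun C hC hCe => ?_⟩
    -- transport `C` back to `T`
    have h1 : cjg g⁻¹ C ≤ T := by
      intro x hx
      have hx' := mem_cjg.1 hx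
      have h2 : g⁻¹⁻¹ * x * g⁻¹ ∈ cjg g (T : Subgroup G) := by
        rw [hg]; exact hC hx'
      have h3 := mem_cjg.1 h2
      simpa [mul_assoc] using h3
    have h2 := hA.2.2 _ h1 (ea_map _ hCe)
    rwa [card_cjg] at h2
  have hcard : Nat.card (thompsonSubgroupOf p (T₂ : Subgroup G)) =
      Nat.card (thompsonSubgroupOf p (T : Subgroup G)) := by
    rw [← hg]
    have := map_conj_thompsonSubgroupOf (p := p) g (T : Subgroup G)
    simp only [cjg]
    rw [← this]
    exact card_map_conj _ _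
  exact (Subgroup.eq_of_le_of_card_ge hle hcard.le).symm

/-- Any Sylow subgroup containing `B(T)` has the same Baumann subgroup. -/
theorem baumann_eq_of_le (T T₂ : Sylow p G) (h : baumannSubgroupOf p (T : Subgroup G) ≤ T₂) :
    baumannSubgroupOf p (T₂ : Subgroup G) = baumannSubgroupOf p (T : Subgroup G) := by
  obtain ⟨g, hg⟩ := exists_cjg_eq T T₂
  have hJ := thompson_eq_of_le T T₂ ((thompson_le_baumann _).trans h)
  have hC : centerThompsonOf p (T₂ : Subgroup G) = centerThompsonOf p (T : Subgroup G) := by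
    unfold centerThompsonOf
    rw [hJ]
  have hle : baumannSubgroupOf p (T : Subgroup G) ≤ baumannSubgroupOf p (T₂ : Subgroup G) := by
    intro x hx
    refine ⟨h hx, ?_⟩
    rw [hC]
    exact hx.2
  have hcard : Nat.card (baumannSubgroupOf p (T₂ : Subgroup G)) =
      Nat.card (baumannSubgroupOf p (T : Subgroup G)) := by
    rw [← hg, ← cjg_baumann]
    exact card_cjg _ _
  exact (Subgroup.eq_of_le_of_card_ge hle hcard.le).symm

/-- `T` normalizes `B(T)`. -/
theorem le_normalizer_baumann (X : Subgroup G) :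
    X ≤ normalizer (baumannSubgroupOf p X : Set G) := by
  intro t ht
  have hc : cjg t X = X := map_conj_eq_of_mem_normalizer (Subgroup.le_normalizer ht)
  have h1 := cjg_baumann (p := p) t X
  rw [hc] at h1
  have hiff : ∀ y, y ∈ baumannSubgroupOf p X ↔ t⁻¹ * y * t ∈ baumannSubgroupOf p X := fun y => by
    conv_lhs => rw [← h1]
    exact mem_cjg
  rw [Subgroup.mem_normalizer_iff]
  intro x
  have h2 := hiff (t * x * t⁻¹)
  have h3 : t⁻¹ * (t * x * t⁻¹) * t = x := by group
  rw [h3] at h2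
  exact h2.symm

/-- A `p`-subgroup containing `B(T)` normalizes `B(T)`. -/
theorem le_normalizer_baumann_of_le (T : Sylow p G) {S : Subgroup G} (hS : IsPGroup p S)
    (hBS : baumannSubgroupOf p (T : Subgroup G) ≤ S) :
    S ≤ normalizer (baumannSubgroupOf p (T : Subgroup G) : Set G) := by
  obtain ⟨T₂, hT₂⟩ := hS.exists_le_sylow
  have h := baumann_eq_of_le T T₂ (hBS.trans hT₂)
  rw [← h]
  exact hT₂.trans (le_normalizer_baumann _)

omit [Finite G] hp in
/-- In `⟨n⟩E`, powers of `n * e` are powers of `n` modulo `E`. -/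
theorem exists_pow_mul {E : Subgroup G} {n e : G} (hn : n ∈ normalizer (E : Set G)) (he : e ∈ E)
    (m : ℕ) : ∃ f ∈ E, (n * e) ^ m = n ^ m * f := by
  induction m with
  | zero => exact ⟨1, E.one_mem, by simp⟩
  | succ m ih =>
    obtain ⟨f, hf, h⟩ := ih
    refine ⟨n⁻¹ * f * n * e, E.mul_mem ?_ he, ?_⟩
    · have := (mem_normalizer_iff.1 (Subgroup.inv_mem _ hn) f).1 hf
      simpa using this
    · rw [pow_succ, h, pow_succ]
      group

/-- A `p`-element `n` normalizing `E` with `n * e` of order prime to `p` lies in `E`. -/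
theorem mem_of_coprime_mul {E : Subgroup G} {n e : G} (hn : n ∈ normalizer (E : Set G)) (he : e ∈ E)
    {k : ℕ} (hk : orderOf n = p ^ k) (hc : (orderOf (n * e)).Coprime p) : n ∈ E := by
  obtain ⟨f, hf, h⟩ := exists_pow_mul hn he (orderOf (n * e))
  rw [pow_orderOf_eq_one] at h
  have h1 : n ^ orderOf (n * e) = f⁻¹ := by
    exact eq_inv_of_mul_eq_one_left h.symm
  have h2 : n ^ orderOf (n * e) ∈ E := by
    rw [h1]; exact E.inv_mem hf
  have hc2 : (orderOf (n * e)).Coprime (orderOf n) := by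
    rw [hk]; exact hc.pow_right k
  obtain ⟨a, ha⟩ := exists_pow_eq_self_of_coprime hc2
  rw [← ha]
  exact E.pow_mem h2 a

omit [Finite G] hp in
theorem orderOf_conj (x e : G) : orderOf (x * e * x⁻¹) = orderOf e := by
  have := orderOf_injective (MulAut.conj x).toMonoidHom (MulAut.conj x).injective e
  simpa using this

/-- Elements of `E` are generated by elements of order prime to `p` when `O^p(E) = E`. -/
theorem forall_mem_of_pResidualOf {E X : Subgroup G} (hE : pResidualOf p E = E)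
    (h : ∀ e ∈ E, (orderOf e).Coprime p → e ∈ X) : E ≤ X := by
  rw [← hE]
  unfold pResidualOf pResidual
  rw [Subgroup.map_le_iff_le_comap, Subgroup.closure_le]
  intro g hg
  have hg' : (orderOf (g : G)).Coprime p := by
    rw [Subgroup.orderOf_coe]; exact hg
  exact h _ g.2 hg'

/-- **Core lemma.** Let `D` be a `p`-group normalized by `E` and `B`, with `D` normalizing `B`, `B`
normalizing `E`, and `E = O^p(E) = [E, B]`. Then `D` normalizes `E`. -/
theorem normalizer_of_commutator {D B E : Subgroup G} (hD : IsPGroup p D)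
    (hDB : D ≤ normalizer (B : Set G)) (hBD : B ≤ normalizer (D : Set G))
    (hBE : B ≤ normalizer (E : Set G)) (hED : E ≤ normalizer (D : Set G))
    (hE1 : pResidualOf p E = E) (hE2 : ⁅E, B⁆ = E) : D ≤ normalizer (E : Set G) := by
  classical
  set N : Subgroup G := D ⊓ normalizer (E : Set G) with hN
  set N₂ : Subgroup G := D ⊓ normalizer (N : Set G) with hN₂
  -- `Lc`: elements normalizing `D` and `E`, hence `N` and `N₂`
  set Lc : Subgroup G := normalizer (D : Set G) ⊓ normalizer (E : Set G) with hLc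
  have hself : ∀ {Y : Subgroup G} {l x : G}, l ∈ Y → (x ∈ Y ↔ l * x * l⁻¹ ∈ Y) := by
    intro Y l x hl
    constructor
    · intro hx
      exact Y.mul_mem (Y.mul_mem hl hx) (Y.inv_mem hl)
    · intro hx
      have := Y.mul_mem (Y.mul_mem (Y.inv_mem hl) hx) hl
      simpa [mul_assoc] using this
  have hLcN : Lc ≤ normalizer (N : Set G) := by
    intro l hl
    rw [Subgroup.mem_normalizer_iff]
    intro x
    have h1 := mem_normalizer_iff.1 hl.1 x
    have h2 : x ∈ normalizer (E : Set G) ↔ l * x * l⁻¹ ∈ normalizer (E : Set G) := hself hl.2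
    simp only [hN, Subgroup.mem_inf]
    exact Iff.and h1 h2
  have hLcN₂ : Lc ≤ normalizer (N₂ : Set G) := by
    intro l hl
    rw [Subgroup.mem_normalizer_iff]
    intro x
    have h1 := mem_normalizer_iff.1 hl.1 x
    have h2 : x ∈ normalizer (N : Set G) ↔ l * x * l⁻¹ ∈ normalizer (N : Set G) := hself (hLcN hl)
    simp only [hN₂, Subgroup.mem_inf]
    exact Iff.and h1 h2
  let K : Subgroup G :=
    { carrier := {g | g ∈ Lc ∧ ∀ x ∈ N₂, g * x * g⁻¹ * x⁻¹ ∈ N}
      one_mem' := ⟨Lc.one_mem, fun x _ => by simp [N.one_mem]⟩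
      mul_mem' := by
        rintro a b ⟨ha, ha'⟩ ⟨hb, hb'⟩
        refine ⟨Lc.mul_mem ha hb, fun x hx => ?_⟩
        have h1 := ha' x hx
        have h2 := hb' x hx
        have h3 : a * (b * x * b⁻¹ * x⁻¹) * a⁻¹ ∈ N := (mem_normalizer_iff.1 (hLcN ha) _).1 h2
        have h4 : a * b * x * (a * b)⁻¹ * x⁻¹ =
            a * (b * x * b⁻¹ * x⁻¹) * a⁻¹ * (a * x * a⁻¹ * x⁻¹) := by group
        rw [h4]
        exact N.mul_mem h3 h1
      inv_mem' := by
        rintro a ⟨ha, ha'⟩
        refine ⟨Lc.inv_mem ha, fun x hx => ?_⟩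
        have hy : a⁻¹ * x * a ∈ N₂ := by
          have := (mem_normalizer_iff.1 (hLcN₂ (Lc.inv_mem ha)) x).1 hx
          simpa using this
        have h1 := ha' _ hy
        have h2 : a * (a⁻¹ * x * a) * a⁻¹ * (a⁻¹ * x * a)⁻¹ = x * (a⁻¹ * x * a)⁻¹ := by group
        rw [h2] at h1
        have h3 := N.inv_mem h1
        have h4 : (x * (a⁻¹ * x * a)⁻¹)⁻¹ = a⁻¹ * x * a⁻¹⁻¹ * x⁻¹ := by group
        rwa [h4] at h3 }
  have hKconj : ∀ l ∈ Lc, ∀ g ∈ K, l * g * l⁻¹ ∈ K := by
    rintro l hl g ⟨hg, hg'⟩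
    refine ⟨Lc.mul_mem (Lc.mul_mem hl hg) (Lc.inv_mem hl), fun x hx => ?_⟩
    have hy : l⁻¹ * x * l ∈ N₂ := by
      have := (mem_normalizer_iff.1 (hLcN₂ (Lc.inv_mem hl)) x).1 hx
      simpa using this
    have h1 := hg' _ hy
    have h2 := (mem_normalizer_iff.1 (hLcN hl) _).1 h1
    have h3 : l * (g * (l⁻¹ * x * l) * g⁻¹ * (l⁻¹ * x * l)⁻¹) * l⁻¹ =
        l * g * l⁻¹ * x * (l * g * l⁻¹)⁻¹ * x⁻¹ := by group
    rwa [h3] at h2
  have hBLc : B ≤ Lc := le_inf hBD hBE
  have hELc : E ≤ Lc := le_inf hED Subgroup.le_normalizer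
  have hBK : B ≤ K := by
    intro b hb
    refine ⟨hBLc hb, fun x hx => ?_⟩
    refine ⟨?_, ?_⟩
    · have h1 : b * x * b⁻¹ ∈ N₂ := (mem_normalizer_iff.1 (hLcN₂ (hBLc hb)) x).1 hx
      exact D.mul_mem h1.1 (D.inv_mem hx.1)
    · have h1 : x * b⁻¹ * x⁻¹ ∈ B :=
        (mem_normalizer_iff.1 (hDB hx.1) _).1 (B.inv_mem hb)
      have h2 : b * x * b⁻¹ * x⁻¹ = b * (x * b⁻¹ * x⁻¹) := by group
      rw [h2]
      exact hBE (B.mul_mem hb h1)
  have hEK : E ≤ K := by
    have h : ⁅E, B⁆ ≤ K := by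
      rw [Subgroup.commutator_le]
      intro e he b hb
      rw [commutatorElement_def]
      exact K.mul_mem (hKconj e (hELc he) b (hBK hb)) (K.inv_mem (hBK hb))
    rwa [hE2] at h
  have hcomm : ∀ e ∈ E, ∀ x ∈ N₂, e * x * e⁻¹ * x⁻¹ ∈ N := fun e he x hx => (hEK he).2 x hx
  have hN₂E : N₂ ≤ normalizer (E : Set G) := by
    apply Cfsg.Agent.Lib.Coprime.InvSylow.le_normalizer_of_forall_conj_mem
    intro x hx
    have hX : E ≤ E.comap (MulAut.conj x).toMonoidHom := by
      apply forall_mem_of_pResidualOf hE1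
      intro e he hc
      have hn : x * e * x⁻¹ * e⁻¹ ∈ N := by
        have h1 := N.inv_mem (hcomm e he x hx)
        have h2 : (e * x * e⁻¹ * x⁻¹)⁻¹ = x * e * x⁻¹ * e⁻¹ := by group
        rwa [h2] at h1
      obtain ⟨k, hk⟩ := (IsPGroup.iff_orderOf.mp hD) ⟨_, hn.1⟩
      have hk' : orderOf (x * e * x⁻¹ * e⁻¹) = p ^ k := by
        rw [← hk]
        exact (Subgroup.orderOf_mk _ hn.1).symm
      have hc' : (orderOf ((x * e * x⁻¹ * e⁻¹) * e)).Coprime p := by
        have h3 : x * e * x⁻¹ * e⁻¹ * e = x * e * x⁻¹ := by group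
        rw [h3, orderOf_conj]
        exact hc
      have h4 := mem_of_coprime_mul hn.2 he hk' hc'
      have h5 : x * e * x⁻¹ = x * e * x⁻¹ * e⁻¹ * e := by group
      show (MulAut.conj x).toMonoidHom e ∈ E
      simp only [MulEquiv.coe_toMonoidHom, MulAut.conj_apply]
      rw [h5]
      exact E.mul_mem h4 he
    intro e he
    have := hX he
    simpa using this
  have hN₂N : N₂ ≤ N := fun x hx => ⟨hx.1, hN₂E hx⟩
  -- normalizer condition in `D`
  have : Group.IsNilpotent D := hD.isNilpotent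
  have hnc := Group.normalizerCondition_of_isNilpotent (G := D)
  rw [normalizerCondition_iff_only_full_group_self_normalizing] at hnc
  have htop := hnc (N.subgroupOf D) (by
    apply le_antisymm
    · intro y hy
      have hyN₂ : (y : G) ∈ N₂ := by
        refine Subgroup.mem_inf.2 ⟨y.2, ?_⟩
        rw [Subgroup.mem_normalizer_iff]
        intro z
        constructor
        · intro hz
          have hzD : z ∈ D := hz.1
          have h1 := (mem_normalizer_iff.1 hy ⟨z, hzD⟩).1 (by exact hz)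
          exact h1
        · intro hz
          have hzD : z ∈ D := by
            have h1 := D.mul_mem (D.mul_mem (D.inv_mem y.2) hz.1) y.2
            simpa [mul_assoc] using h1
          have h1 := (mem_normalizer_iff.1 hy ⟨z, hzD⟩).2 (by exact hz)
          exact h1
      exact hN₂N hyN₂
    · exact Subgroup.le_normalizer)
  intro d hd
  have h1 : (⟨d, hd⟩ : D) ∈ N.subgroupOf D := by
    rw [htop]
    exact Subgroup.mem_top _
  exact (Subgroup.mem_subgroupOf.1 h1).2

omit [Finite G] hp in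
/-- `E = [E, B]` forces `B` to normalize `E`. -/
theorem le_normalizer_of_commutator_eq {E B : Subgroup G} (hE2 : ⁅E, B⁆ = E) :
    B ≤ normalizer (E : Set G) := by
  apply Cfsg.Agent.Lib.Coprime.InvSylow.le_normalizer_of_forall_conj_mem
  intro b hb e he
  have h1 : ⁅e, b⁆ ∈ E := by
    have := Subgroup.commutator_mem_commutator he hb
    rwa [hE2] at this
  rw [commutatorElement_def] at h1
  have h2 := E.mul_mem (E.inv_mem he) h1
  have h3 : e⁻¹ * (e * b * e⁻¹ * b⁻¹) = b * e⁻¹ * b⁻¹ := by group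
  rw [h3] at h2
  have h4 := E.inv_mem h2
  have h5 : (b * e⁻¹ * b⁻¹)⁻¹ = b * e * b⁻¹ := by group
  rwa [h5] at h4

/-- **S2983 core.** Let `T` be Sylow, and `D` a `p`-subgroup normalized by `B(T)` and by `E`, where
`E = O^p(E) = [E, B(T)]`. Then `D` normalizes `E`. -/
theorem le_normalizer_block (T : Sylow p G) {E D : Subgroup G} (hD : IsPGroup p D)
    (hE1 : pResidualOf p E = E) (hE2 : ⁅E, baumannSubgroupOf p (T : Subgroup G)⁆ = E)
    (hBD : baumannSubgroupOf p (T : Subgroup G) ≤ normalizer (D : Set G))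
    (hED : E ≤ normalizer (D : Set G)) : D ≤ normalizer (E : Set G) := by
  have hBp : IsPGroup p (baumannSubgroupOf p (T : Subgroup G)) :=
    T.isPGroup'.to_le (baumann_le _)
  have hS : IsPGroup p (D ⊔ baumannSubgroupOf p (T : Subgroup G) : Subgroup G) :=
    hD.to_sup_of_normal_left' hBp hBD
  have h1 := le_normalizer_baumann_of_le T hS le_sup_right
  exact normalizer_of_commutator hD (le_sup_left.trans h1) hBD
    (le_normalizer_of_commutator_eq hE2) hED hE1 hE2

end Cfsg.Agent.Lib.PGroup.BaumannNorm
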