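import Mathlib

/-!
# The natural module of `SL₂(F)'` and the even-weight module of `Alt(2m+1)` are irreducible
-/

namespace Cfsg.Agent.Lib.PGroup.SL2NatIrr

open scoped commutatorElement

section SL2

variable {F : Type*} [Field F]

local notation "SL₂" => Matrix.SpecialLinearGroup (Fin 2) F

/-- Upper elementary matrix. -/
def e12 (s : F) : SL₂ := ⟨!![1, s; 0, 1], by simp [Matrix.det_fin_two]⟩

/-- Lower elementary matrix. -/
def e21 (s : F) : SL₂ := ⟨!![1, 0; s, 1], by simp [Matrix.det_fin_two]⟩

/-- Diagonal matrix. -/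
def dg (t : F) (ht : t ≠ 0) : SL₂ := ⟨!![t, 0; 0, t⁻¹], by simp [Matrix.det_fin_two, ht]⟩

/-- The commutator of `e12 s` and `e21 t`. -/
def cc (s t : F) : SL₂ :=
  ⟨!![1 + s * t + s ^ 2 * t ^ 2, -(s ^ 2 * t); s * t ^ 2, 1 - s * t], by
    simp [Matrix.det_fin_two]; ring⟩

theorem commutator_eq {G : Type*} [Group G] {a b c : G} (h : a * b = c * b * a) : ⁅a, b⁆ = c := by
  rw [commutatorElement_def, h]
  group

theorem cc_eq (s t : F) : ⁅e12 s, e21 t⁆ = cc s t := by
  apply commutator_eq
  apply Subtype.ext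
  show ((e12 s * e21 t : SL₂) : Matrix (Fin 2) (Fin 2) F) = ((cc s t * e21 t * e12 s : SL₂) : Matrix (Fin 2) (Fin 2) F)
  rw [Matrix.SpecialLinearGroup.coe_mul, Matrix.SpecialLinearGroup.coe_mul, Matrix.SpecialLinearGroup.coe_mul]
  simp only [e12, e21, cc]
  ext i j
  fin_cases i <;> fin_cases j <;>
    simp [Matrix.mul_apply, Fin.sum_univ_two] <;> ring

theorem dg_e12 (t : F) (ht : t ≠ 0) (s : F) : ⁅dg t ht, e12 s⁆ = e12 ((t ^ 2 - 1) * s) := by
  apply commutator_eq
  apply Subtype.ext
  show ((dg t ht * e12 s : SL₂) : Matrix (Fin 2) (Fin 2) F) = ((e12 ((t ^ 2 - 1) * s) * e12 s * dg t ht : SL₂) : Matrix (Fin 2) (Fin 2) F)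
  rw [Matrix.SpecialLinearGroup.coe_mul, Matrix.SpecialLinearGroup.coe_mul, Matrix.SpecialLinearGroup.coe_mul]
  simp only [e12, dg]
  ext i j
  fin_cases i <;> fin_cases j <;>
    simp [Matrix.mul_apply, Fin.sum_univ_two] <;> field_simp <;> ring

theorem dg_e21 (t : F) (ht : t ≠ 0) (s : F) : ⁅dg t ht, e21 s⁆ = e21 ((t⁻¹ ^ 2 - 1) * s) := by
  apply commutator_eq
  apply Subtype.ext
  show ((dg t ht * e21 s : SL₂) : Matrix (Fin 2) (Fin 2) F) = ((e21 ((t⁻¹ ^ 2 - 1) * s) * e21 s * dg t ht : SL₂) : Matrix (Fin 2) (Fin 2) F)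
  rw [Matrix.SpecialLinearGroup.coe_mul, Matrix.SpecialLinearGroup.coe_mul, Matrix.SpecialLinearGroup.coe_mul]
  simp only [e21, dg]
  ext i j
  fin_cases i <;> fin_cases j <;>
    simp [Matrix.mul_apply, Fin.sum_univ_two] <;> field_simp <;> ring

theorem mem_comm (a b : SL₂) : ⁅a, b⁆ ∈ commutator SL₂ :=
  Subgroup.commutator_mem_commutator (Subgroup.mem_top a) (Subgroup.mem_top b)

theorem mulVec_two (p q r s a b : F) :
    (!![p, q; r, s] : Matrix (Fin 2) (Fin 2) F).mulVec ![a, b] = ![p * a + q * b, r * a + s * b] := by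
  ext i
  fin_cases i <;> simp [Matrix.mulVec, dotProduct, Fin.sum_univ_two]

theorem vec_eta (v : Fin 2 → F) : v = ![v 0, v 1] := by
  funext i
  fin_cases i <;> rfl

theorem exists_ne_zero (S : AddSubgroup (Fin 2 → F)) (h : S ≠ ⊥) : ∃ v ∈ S, v ≠ 0 := by
  by_contra hcon
  push Not at hcon
  apply h
  rw [eq_bot_iff]
  intro x hx
  exact (AddSubgroup.mem_bot).2 (hcon x hx)

theorem cc_mem (s t : F) : cc s t ∈ commutator SL₂ := by
  rw [← cc_eq]
  exact mem_comm _ _

/-- An element of the commutator subgroup moving a vector. -/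
theorem exists_move : ∃ g ∈ commutator SL₂, (g : Matrix (Fin 2) (Fin 2) F).mulVec ![1, 0] ≠ ![1, 0] := by
  refine ⟨cc 1 1, cc_mem _ _, ?_⟩
  intro h
  have h1 := congrFun h 1
  simp only [cc] at h1
  rw [mulVec_two] at h1
  simp at h1

/-- Irreducibility for fields in which all elementary matrices lie in the commutator subgroup. -/
theorem irr_of_elementary (S : AddSubgroup (Fin 2 → F))
    (h12 : ∀ x : F, e12 x ∈ commutator SL₂) (h21 : ∀ x : F, e21 x ∈ commutator SL₂)
    (hS : ∀ g ∈ commutator SL₂, ∀ v ∈ S, (g : Matrix (Fin 2) (Fin 2) F).mulVec v ∈ S) :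
    S = ⊥ ∨ S = ⊤ := by
  by_cases hbot : S = ⊥
  · exact Or.inl hbot
  right
  obtain ⟨v, hv, hv0⟩ := exists_ne_zero S hbot
  have hu : ∀ (x a b : F), ![a, b] ∈ S → ![x * b, 0] ∈ S := by
    intro x a b hab
    have h1 := hS _ (h12 x) _ hab
    simp only [e12] at h1
    rw [mulVec_two] at h1
    have h2 := S.sub_mem h1 hab
    convert h2 using 1
    funext i
    fin_cases i <;> simp
  have hl : ∀ (x a b : F), ![a, b] ∈ S → ![0, x * a] ∈ S := by
    intro x a b hab
    have h1 := hS _ (h21 x) _ hab
    simp only [e21] at h1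
    rw [mulVec_two] at h1
    have h2 := S.sub_mem h1 hab
    convert h2 using 1
    funext i
    fin_cases i <;> simp
  have hall : ∀ y : F, ![y, 0] ∈ S ∧ ![0, y] ∈ S := by
    rw [vec_eta v] at hv
    have hv0' : v 0 ≠ 0 ∨ v 1 ≠ 0 := by
      by_contra hcon
      push Not at hcon
      apply hv0
      rw [vec_eta v, hcon.1, hcon.2]
      funext i
      fin_cases i <;> rfl
    rcases hv0' with h0 | h1
    · -- first coordinate nonzero
      have h2 : ∀ y, ![0, y] ∈ S := by
        intro y
        have := hl (y / v 0) _ _ hv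
        rwa [div_mul_cancel₀ _ h0] at this
      have h3 : ∀ y, ![y, 0] ∈ S := by
        intro y
        have := hu y 0 1 (h2 1)
        simpa using this
      exact fun y => ⟨h3 y, h2 y⟩
    · have h2 : ∀ y, ![y, 0] ∈ S := by
        intro y
        have := hu (y / v 1) _ _ hv
        rwa [div_mul_cancel₀ _ h1] at this
      have h3 : ∀ y, ![0, y] ∈ S := by
        intro y
        have := hl y 1 0 (h2 1)
        simpa using this
      exact fun y => ⟨h2 y, h3 y⟩
  rw [eq_top_iff]
  intro w _
  rw [vec_eta w]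
  have h4 := S.add_mem (hall (w 0)).1 (hall (w 1)).2
  convert h4 using 1
  funext i
  fin_cases i <;> simp

variable [Fintype F]

theorem exists_good_t (hF : 4 ≤ Fintype.card F) : ∃ t : F, t ≠ 0 ∧ t ^ 2 ≠ 1 := by
  classical
  by_contra hcon
  push Not at hcon
  have hsub : (Finset.univ : Finset F) ⊆ {0, 1, -1} := by
    intro t _
    simp only [Finset.mem_insert, Finset.mem_singleton]
    by_cases ht : t = 0
    · exact Or.inl ht
    · have h1 := hcon t ht
      have h2 : t * t = 1 := by rw [← sq]; exact h1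
      exact Or.inr (mul_self_eq_one_iff.1 h2)
  have h2 := Finset.card_le_card hsub
  have h3 : ({0, 1, -1} : Finset F).card ≤ 3 := Finset.card_le_three
  rw [Finset.card_univ] at h2
  omega

theorem irr_of_four_le (hF : 4 ≤ Fintype.card F) (S : AddSubgroup (Fin 2 → F))
    (hS : ∀ g ∈ commutator SL₂, ∀ v ∈ S, (g : Matrix (Fin 2) (Fin 2) F).mulVec v ∈ S) :
    S = ⊥ ∨ S = ⊤ := by
  obtain ⟨t, ht0, ht1⟩ := exists_good_t hF
  refine irr_of_elementary S (fun x => ?_) (fun x => ?_) hS
  · have h1 : t ^ 2 - 1 ≠ 0 := sub_ne_zero.2 ht1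
    have h2 := dg_e12 t ht0 (x / (t ^ 2 - 1))
    rw [mul_div_cancel₀ _ h1] at h2
    rw [← h2]
    exact mem_comm _ _
  · have h1 : t⁻¹ ^ 2 - 1 ≠ 0 := by
      apply sub_ne_zero.2
      intro h
      apply ht1
      rw [inv_pow] at h
      have := inv_eq_one.1 h
      exact this
    have h2 := dg_e21 t ht0 (x / (t⁻¹ ^ 2 - 1))
    rw [mul_div_cancel₀ _ h1] at h2
    rw [← h2]
    exact mem_comm _ _

/-- For small fields every element is an integer multiple of `1`: membership from `1`. -/
theorem irr_of_two (hF : Fintype.card F = 2) (S : AddSubgroup (Fin 2 → F))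
    (hS : ∀ g ∈ commutator SL₂, ∀ v ∈ S, (g : Matrix (Fin 2) (Fin 2) F).mulVec v ∈ S) :
    S = ⊥ ∨ S = ⊤ := by
  have h01 : ∀ x : F, x = 0 ∨ x = 1 := by
    intro x
    by_cases hx : x = 0
    · exact Or.inl hx
    · right
      have := FiniteField.pow_card_sub_one_eq_one x hx
      rwa [hF, show 2 - 1 = 1 from rfl, pow_one] at this
  have h20 : (2 : F) = 0 := by
    have := FiniteField.cast_card_eq_zero F
    rw [hF] at this
    exact_mod_cast this
  have hm1 : (-1 : F) = 1 := by
    have : (1 : F) + 1 = 0 := by rw [one_add_one_eq_two]; exact h20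
    exact (eq_neg_of_add_eq_zero_left this).symm
  have hc : ∀ a b : F, ![a, b] ∈ S → ![a + b, a] ∈ S := by
    intro a b hab
    have h1 := hS _ (cc_mem (1 : F) 1) _ hab
    simp only [cc] at h1
    rw [mulVec_two] at h1
    convert h1 using 1
    funext i
    fin_cases i
    · simp only [Matrix.cons_val_zero]
      have : (1 + 1 * 1 + (1 : F) ^ 2 * 1 ^ 2) = 1 := by
        norm_num
        linear_combination h20
      rw [this]
      simp [hm1]
    · simp
  by_cases hbot : S = ⊥
  · exact Or.inl hbot
  right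
  obtain ⟨v, hv, hv0⟩ := exists_ne_zero S hbot
  rw [vec_eta v] at hv
  have hone : ![(1 : F), 0] ∈ S := by
    rcases h01 (v 0) with h0 | h0 <;> rcases h01 (v 1) with h1 | h1
    · exfalso
      apply hv0
      rw [vec_eta v, h0, h1]
      funext i
      fin_cases i <;> rfl
    · rw [h0, h1] at hv
      have := hc _ _ hv
      simpa using this
    · rw [h0, h1] at hv
      exact hv
    · rw [h0, h1] at hv
      have h2 := hc _ _ hv
      rw [one_add_one_eq_two, h20] at h2
      have h3 := hc _ _ h2
      simpa using h3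
  have htwo : ![(0 : F), 1] ∈ S := by
    have h2 := hc _ _ hone
    have h3 := S.sub_mem h2 hone
    convert h3 using 1
    funext i
    fin_cases i <;> simp
  rw [eq_top_iff]
  intro w _
  rw [vec_eta w]
  have hz : ![(0 : F), 0] ∈ S := by
    have := S.zero_mem
    convert this using 1
    funext i
    fin_cases i <;> rfl
  rcases h01 (w 0) with h0 | h0 <;> rcases h01 (w 1) with h1 | h1 <;> rw [h0, h1]
  · exact hz
  · exact htwo
  · exact hone
  · have h3 := S.add_mem hone htwo
    convert h3 using 1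
    funext i
    fin_cases i <;> simp

theorem irr_of_three (hF : Fintype.card F = 3) (S : AddSubgroup (Fin 2 → F))
    (hS : ∀ g ∈ commutator SL₂, ∀ v ∈ S, (g : Matrix (Fin 2) (Fin 2) F).mulVec v ∈ S) :
    S = ⊥ ∨ S = ⊤ := by
  have h30 : (3 : F) = 0 := by
    have := FiniteField.cast_card_eq_zero F
    rw [hF] at this
    exact_mod_cast this
  have h01 : ∀ x : F, x = 0 ∨ x = 1 ∨ x = -1 := by
    intro x
    by_cases hx : x = 0
    · exact Or.inl hx
    · right
      have := FiniteField.pow_card_sub_one_eq_one x hx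
      rw [hF, show 3 - 1 = 2 from rfl] at this
      have h2 : x * x = 1 := by rw [← sq]; exact this
      exact mul_self_eq_one_iff.1 h2
  have h2m : (2 : F) = -1 := by linear_combination h30
  have hc : ∀ a b : F, ![a, b] ∈ S → ![-b, a] ∈ S := by
    intro a b hab
    have h1 := hS _ (cc_mem (1 : F) 1) _ hab
    simp only [cc] at h1
    rw [mulVec_two] at h1
    convert h1 using 1
    funext i
    fin_cases i
    · simp only [Matrix.cons_val_zero]
      have : (1 + 1 * 1 + (1 : F) ^ 2 * 1 ^ 2) = 0 := by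
        norm_num
        linear_combination h30
      rw [this]
      simp
    · simp
  have hd : ∀ a b : F, ![a, b] ∈ S → ![a + b, a - b] ∈ S := by
    intro a b hab
    have h1 := hS _ (cc_mem (1 : F) (-1)) _ hab
    simp only [cc] at h1
    rw [mulVec_two] at h1
    convert h1 using 1
    funext i
    fin_cases i
    · simp
    · simp
      linear_combination (-b) * h30
  by_cases hbot : S = ⊥
  · exact Or.inl hbot
  right
  obtain ⟨v, hv, hv0⟩ := exists_ne_zero S hbot
  rw [vec_eta v] at hv
  have hneg : ∀ a b : F, ![a, b] ∈ S → ![-a, -b] ∈ S := by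
    intro a b hab
    have := S.neg_mem hab
    convert this using 1
    funext i
    fin_cases i <;> simp
  have hfirst : ∀ b : F, b ≠ 0 → ![(0 : F), b] ∈ S → ![(1 : F), 0] ∈ S := by
    intro b hb hab
    have h1 := hc _ _ hab
    rcases h01 b with h | h | h
    · exact absurd h hb
    · subst h
      have h2 := hneg _ _ h1
      simpa using h2
    · subst h
      simpa using h1
  have hfirst' : ∀ a : F, a ≠ 0 → ![a, (0 : F)] ∈ S → ![(1 : F), 0] ∈ S := by
    intro a ha hab
    rcases h01 a with h | h | h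
    · exact absurd h ha
    · subst h
      exact hab
    · subst h
      have h2 := hneg _ _ hab
      simpa using h2
  have hm : (-1 : F) ≠ 0 := neg_ne_zero.2 one_ne_zero
  have hone : ![(1 : F), 0] ∈ S := by
    rcases h01 (v 0) with h0 | h0 | h0 <;> rcases h01 (v 1) with h1 | h1 | h1
    · exfalso
      apply hv0
      rw [vec_eta v, h0, h1]
      funext i
      fin_cases i <;> rfl
    · rw [h0, h1] at hv
      exact hfirst 1 one_ne_zero hv
    · rw [h0, h1] at hv
      exact hfirst (-1) hm hv
    · rw [h0, h1] at hv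
      exact hv
    · rw [h0, h1] at hv
      have h2 := hd _ _ hv
      have h3 : (1 : F) + 1 = -1 := by rw [one_add_one_eq_two]; exact h2m
      rw [h3, sub_self] at h2
      exact hfirst' (-1) hm h2
    · rw [h0, h1] at hv
      have h2 := hd _ _ hv
      have h3 : (1 : F) - -1 = -1 := by rw [sub_neg_eq_add, one_add_one_eq_two]; exact h2m
      rw [add_neg_cancel, h3] at h2
      exact hfirst (-1) hm h2
    · rw [h0, h1] at hv
      exact hfirst' (-1) hm hv
    · rw [h0, h1] at hv
      have h2 := hd _ _ hv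
      have h3 : (-1 : F) - 1 = 1 := by linear_combination -h30
      rw [neg_add_cancel, h3] at h2
      exact hfirst 1 one_ne_zero h2
    · rw [h0, h1] at hv
      have h2 := hd _ _ hv
      have h3 : (-1 : F) + -1 = 1 := by linear_combination -h30
      rw [h3, sub_self] at h2
      exact h2
  have htwo : ![(0 : F), 1] ∈ S := by
    have h2 := hc _ _ hone
    simpa using h2
  rw [eq_top_iff]
  intro w _
  rw [vec_eta w]
  have hz : ![(0 : F), 0] ∈ S := by
    have := S.zero_mem
    convert this using 1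
    funext i
    fin_cases i <;> rfl
  have hu : ∀ x : F, ![x, 0] ∈ S := by
    intro x
    rcases h01 x with h | h | h <;> subst h
    · exact hz
    · exact hone
    · have := hneg _ _ hone
      simpa using this
  have hv' : ∀ x : F, ![0, x] ∈ S := by
    intro x
    rcases h01 x with h | h | h <;> subst h
    · exact hz
    · exact htwo
    · have := hneg _ _ htwo
      simpa using this
  have h3 := S.add_mem (hu (w 0)) (hv' (w 1))
  convert h3 using 1
  funext i
  fin_cases i <;> simp

/-- **Irreducibility of the natural module for `SL₂(F)'`.** -/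
theorem irr (S : AddSubgroup (Fin 2 → F))
    (hS : ∀ g ∈ commutator SL₂, ∀ v ∈ S, (g : Matrix (Fin 2) (Fin 2) F).mulVec v ∈ S) :
    S = ⊥ ∨ S = ⊤ := by
  have hcard : 2 ≤ Fintype.card F := Fintype.one_lt_card
  by_cases h4 : 4 ≤ Fintype.card F
  · exact irr_of_four_le h4 S hS
  · have h23 : Fintype.card F = 2 ∨ Fintype.card F = 3 := by omega
    rcases h23 with h | h
    · exact irr_of_two h S hS
    · exact irr_of_three h S hS

end SL2

section Alt

variable {n : ℕ}

open Equiv

/-- The weight two vector with support `{a, b}`. -/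
def ee (a b : Fin n) : Fin n → ZMod 2 := Pi.single a 1 + Pi.single b 1

theorem ee_comm (a b : Fin n) : ee a b = ee b a := add_comm _ _

theorem ee_self (a : Fin n) : ee a a = 0 := by
  funext k
  simp only [ee, Pi.add_apply, Pi.zero_apply, Pi.single_apply]
  split_ifs <;> decide

theorem ee_comp (τ : Perm (Fin n)) (a b : Fin n) :
    (fun k => ee a b (τ⁻¹ k)) = ee (τ a) (τ b) := by
  funext k
  simp only [ee, Pi.add_apply, Pi.single_apply, Perm.inv_eq_iff_eq]

theorem zmod2_eq (x : ZMod 2) : x = 0 ∨ x = 1 := by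
  revert x
  decide

/-- Even permutation moving an unordered pair to an unordered pair. -/
theorem exists_even_perm {i j a b : Fin n} (hij : i ≠ j) (hab : a ≠ b) :
    ∃ τ ∈ alternatingGroup (Fin n), ee (τ i) (τ j) = ee a b := by
  set j' := swap i a j with hj'
  have hj'a : a ≠ j' := by
    intro h
    have : swap i a j' = swap i a a := by rw [h]
    rw [hj', swap_apply_self, swap_apply_right] at this
    exact hij this.symm
  set τ := swap j' b * swap i a with hτ
  have hτi : τ i = a := by
    simp only [hτ, Perm.mul_apply, swap_apply_left]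
    exact swap_apply_of_ne_of_ne hj'a hab
  have hτj : τ j = b := by
    simp only [hτ, Perm.mul_apply]
    rw [← hj', swap_apply_left]
  by_cases hs : Perm.sign τ = 1
  · exact ⟨τ, Perm.mem_alternatingGroup.2 hs, by rw [hτi, hτj]⟩
  · refine ⟨τ * swap i j, ?_, ?_⟩
    · rw [Perm.mem_alternatingGroup, Perm.sign_mul, Perm.sign_swap hij]
      rcases Int.units_eq_one_or (Perm.sign τ) with h | h
      · exact absurd h hs
      · rw [h]; decide
    · simp only [Perm.mul_apply, swap_apply_left, swap_apply_right]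
      rw [hτi, hτj, ee_comm]

/-- Irreducibility of the even-weight module for `Alt(n)`, `n` odd, `n ≥ 3`. -/
theorem alt_irr (hn : 3 ≤ n) (hodd : Odd n) (S : AddSubgroup (Fin n → ZMod 2))
    (hS0 : ∀ v ∈ S, ∑ i, v i = 0)
    (hinv : ∀ σ ∈ alternatingGroup (Fin n), ∀ v ∈ S, (fun i => v (σ⁻¹ i)) ∈ S) :
    S = ⊥ ∨ ∀ v : Fin n → ZMod 2, ∑ i, v i = 0 → v ∈ S := by
  by_cases hbot : S = ⊥
  · exact Or.inl hbot
  right
  obtain ⟨v, hv, hv0⟩ : ∃ v ∈ S, v ≠ 0 := by
    by_contra hcon
    push Not at hcon
    apply hbot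
    rw [eq_bot_iff]
    intro x hx
    exact (AddSubgroup.mem_bot).2 (hcon x hx)
  -- a coordinate equal to one
  obtain ⟨i, hi⟩ : ∃ i, v i = 1 := by
    by_contra hcon
    push Not at hcon
    apply hv0
    funext k
    rcases zmod2_eq (v k) with h | h
    · exact h
    · exact absurd h (hcon k)
  obtain ⟨i', hi', hii'⟩ : ∃ i', v i' = 1 ∧ i' ≠ i := by
    by_contra hcon
    push Not at hcon
    have h1 : ∑ k, v k = v i := by
      apply Finset.sum_eq_single i
      · intro k _ hk
        rcases zmod2_eq (v k) with h | h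
        · exact h
        · exact absurd (hcon k h) hk
      · simp
    rw [hS0 v hv, hi] at h1
    exact absurd h1 (by decide)
  obtain ⟨j, hj⟩ : ∃ j, v j = 0 := by
    by_contra hcon
    push Not at hcon
    have h1 : ∑ k, v k = (n : ZMod 2) := by
      have : ∀ k, v k = 1 := fun k => (zmod2_eq (v k)).resolve_left (hcon k)
      simp [this]
    rw [hS0 v hv] at h1
    obtain ⟨r, hr⟩ := hodd
    rw [hr] at h1
    have h2 : ((2 * r + 1 : ℕ) : ZMod 2) = 1 := by
      push_cast
      have : (2 : ZMod 2) = 0 := by decide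
      rw [this]
      simp
    rw [h2] at h1
    exact absurd h1 (by decide)
  have hji : j ≠ i := by
    intro h; rw [h, hi] at hj; exact absurd hj (by decide)
  have hji' : j ≠ i' := by
    intro h; rw [h, hi'] at hj; exact absurd hj (by decide)
  -- the three-cycle
  set σ : Perm (Fin n) := swap i j * swap i i' with hσ
  have hσi : σ i = i' := by
    simp only [hσ, Perm.mul_apply, swap_apply_left]
    exact swap_apply_of_ne_of_ne hii' hji'.symm
  have hσi' : σ i' = j := by
    simp only [hσ, Perm.mul_apply, swap_apply_right, swap_apply_left]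
  have hσj : σ j = i := by
    simp only [hσ, Perm.mul_apply]
    rw [swap_apply_of_ne_of_ne hji hji', swap_apply_right]
  have hσk : ∀ k, k ≠ i → k ≠ i' → k ≠ j → σ k = k := by
    intro k h1 h2 h3
    simp only [hσ, Perm.mul_apply]
    rw [swap_apply_of_ne_of_ne h1 h2, swap_apply_of_ne_of_ne h1 h3]
  have hσalt : σ ∈ alternatingGroup (Fin n) := by
    rw [Perm.mem_alternatingGroup, hσ, Perm.sign_mul, Perm.sign_swap hji.symm,
      Perm.sign_swap hii'.symm]
    decide
  have h1 : (fun k => v (σ k)) ∈ S := by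
    have := hinv σ⁻¹ (Subgroup.inv_mem _ hσalt) v hv
    simpa using this
  have h2 : ee i' j ∈ S := by
    have h3 := S.add_mem hv h1
    convert h3 using 1
    funext k
    simp only [ee, Pi.add_apply, Pi.single_apply]
    by_cases hk1 : k = i
    · subst hk1
      rw [if_neg hii'.symm, if_neg hji.symm, hσi, hi, hi']
      exact (by decide : (0 : ZMod 2) + 0 = 1 + 1)
    · by_cases hk2 : k = i'
      · subst hk2
        rw [if_pos rfl, if_neg hji'.symm, hσi', hi', hj]
      · by_cases hk3 : k = j
        · subst hk3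
          rw [if_neg hji', if_pos rfl, hσj, hj, hi]
        · rw [if_neg hk2, if_neg hk3, hσk k hk1 hk2 hk3]
          rcases zmod2_eq (v k) with h | h <;> rw [h]
          exact (by decide : (0 : ZMod 2) + 0 = 1 + 1)
  have hall : ∀ a b : Fin n, ee a b ∈ S := by
    intro a b
    by_cases hab : a = b
    · rw [hab, ee_self]
      exact S.zero_mem
    · obtain ⟨τ, hτ, he⟩ := exists_even_perm hji'.symm hab
      rw [← he, ← ee_comp]
      exact hinv τ hτ _ h2
  -- every even vector is a sum of weight two vectors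
  intro w hw
  let k₀ : Fin n := ⟨0, by omega⟩
  have hsum : w = ∑ k, (w k) • ee k k₀ := by
    funext l
    simp only [Finset.sum_apply, Pi.smul_apply, smul_eq_mul, ee, Pi.add_apply, Pi.single_apply,
      mul_add, Finset.sum_add_distrib]
    have h3 : ∑ x, w x * (if l = x then (1 : ZMod 2) else 0) = w l := by
      simp
    have h4 : ∑ x, w x * (if l = k₀ then (1 : ZMod 2) else 0) = 0 := by
      rw [← Finset.sum_mul, hw, zero_mul]
    rw [h3, h4, add_zero]
  rw [hsum]
  apply S.sum_mem
  intro k _
  rcases zmod2_eq (w k) with h | h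
  · rw [h, zero_smul]
    exact S.zero_mem
  · rw [h, one_smul]
    exact hall k k₀

/-- An even permutation moving an even vector. -/
theorem alt_move (hn : 3 ≤ n) :
    ∃ σ ∈ alternatingGroup (Fin n), ∃ v : Fin n → ZMod 2, ∑ i, v i = 0 ∧ (fun i => v (σ⁻¹ i)) ≠ v := by
  let a : Fin n := ⟨0, by omega⟩
  let b : Fin n := ⟨1, by omega⟩
  let c : Fin n := ⟨2, by omega⟩
  have hab : a ≠ b := by simp [a, b, Fin.ext_iff]
  have hac : a ≠ c := by simp [a, c, Fin.ext_iff]
  have hbc : b ≠ c := by simp [b, c, Fin.ext_iff]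
  refine ⟨swap a c * swap a b, ?_, ee a b, ?_, ?_⟩
  · rw [Perm.mem_alternatingGroup, Perm.sign_mul, Perm.sign_swap hac, Perm.sign_swap hab]
    decide
  · simp only [ee, Pi.add_apply, Finset.sum_add_distrib, Finset.sum_pi_single', Finset.mem_univ,
      if_true]
    decide
  · intro h
    have h1 := congrFun h a
    have h2 : (swap a c * swap a b)⁻¹ a = c := by
      rw [Perm.inv_eq_iff_eq]
      simp only [Perm.mul_apply]
      rw [swap_apply_of_ne_of_ne hac.symm hbc.symm, swap_apply_right]
    simp only [h2, ee, Pi.add_apply, Pi.single_apply] at h1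
    rw [if_neg hac.symm, if_neg hbc.symm, if_pos trivial, if_neg hab] at h1
    exact absurd h1 (by decide)

end Alt

end Cfsg.Agent.Lib.PGroup.SL2NatIrr
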