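import Mathlib
import Cfsg.Prelude.Def_BaumannBlocks
import Cfsg.Agent.Lib.PGroup.BaumannNorm
import Cfsg.Agent.Lib.PGroup.SL2NatIrr
import Cfsg.Agent.Lib.Basic.PCore

/-!
# The section `W / Z` of a Baumann block

For a block `E` with `Q = O_p(E)`, `W = Ω₁(Z(Q))`, `Z = C_W(E)`: the section `W / Z` is irreducible
for `E` and not centralized by `E`. Consequences for `O_p(G)` in a group of characteristic `p`.
-/

namespace Cfsg.Agent.Lib.PGroup.BaumannSect

open Subgroup Cfsg Cfsg.Agent.Lib.PGroup.BaumannNorm Cfsg.Agent.Lib.PGroup.SL2NatIrr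
open scoped commutatorElement

variable {G : Type*} [Group G]

/-- `U / U₀` is an irreducible section for `E`, not centralized by `E`. -/
def IrrSect (E U U₀ : Subgroup G) : Prop :=
  (∀ X : Subgroup G, X ≤ U → E ≤ normalizer (X : Set G) → X ≤ U₀ ∨ U ≤ X ⊔ U₀) ∧ ¬ ⁅U, E⁆ ≤ U₀

theorem irrSect_of_sl2 {F : Type*} [Field F] [Fintype F] {E U U₀ : Subgroup G}
    (h : ActsAsSL2OnSection F (commutator (Matrix.SpecialLinearGroup (Fin 2) F)) E U U₀) :
    IrrSect E U U₀ := by
  obtain ⟨hEU, hU₀, ρ, ψ, hρ, hψs, hker, heq⟩ := h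
  constructor
  · intro X hXU hEX
    let S : AddSubgroup (Fin 2 → F) :=
      { carrier := {v | ∃ x : U, (x : G) ∈ X ∧ Multiplicative.toAdd (ψ x) = v}
        add_mem' := by
          rintro _ _ ⟨x, hx, rfl⟩ ⟨y, hy, rfl⟩
          refine ⟨x * y, X.mul_mem hx hy, ?_⟩
          rw [map_mul, toAdd_mul]
        zero_mem' := ⟨1, X.one_mem, by simp⟩
        neg_mem' := by
          rintro _ ⟨x, hx, rfl⟩
          refine ⟨x⁻¹, X.inv_mem hx, ?_⟩
          rw [map_inv, toAdd_inv] }
    have hS : ∀ g ∈ commutator (Matrix.SpecialLinearGroup (Fin 2) F), ∀ v ∈ S,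
        (g : Matrix (Fin 2) (Fin 2) F).mulVec v ∈ S := by
      rintro g hg _ ⟨x, hx, rfl⟩
      rw [← hρ] at hg
      obtain ⟨e, rfl⟩ := hg
      obtain ⟨w, hw, hw2⟩ := heq e x
      refine ⟨w, ?_, hw2⟩
      rw [hw]
      exact (mem_normalizer_iff.1 (hEX e.2) _).1 hx
    rcases irr S hS with h0 | h1
    · left
      intro x hx
      have h2 : Multiplicative.toAdd (ψ ⟨x, hXU hx⟩) ∈ S := ⟨⟨x, hXU hx⟩, hx, rfl⟩
      rw [h0] at h2
      have h3 := (AddSubgroup.mem_bot).1 h2
      exact (hker ⟨x, hXU hx⟩).1 (by simpa using h3)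
    · right
      intro u hu
      have h2 : Multiplicative.toAdd (ψ ⟨u, hu⟩) ∈ S := by rw [h1]; exact AddSubgroup.mem_top _
      obtain ⟨x, hx, hxu⟩ := h2
      have h3 : ψ (x⁻¹ * ⟨u, hu⟩) = 1 := by
        rw [map_mul, map_inv, inv_mul_eq_one]
        exact Multiplicative.toAdd.injective hxu
      have h4 := (hker _).1 h3
      have h5 : u = (x : G) * ((x⁻¹ * ⟨u, hu⟩ : U) : G) := by simp
      rw [h5]
      exact Subgroup.mul_mem _ (Subgroup.mem_sup_left hx) (Subgroup.mem_sup_right h4)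
  · intro hc
    obtain ⟨g, hg, hmove⟩ := exists_move (F := F)
    rw [← hρ] at hg
    obtain ⟨e, rfl⟩ := hg
    obtain ⟨u, hu⟩ := hψs (Multiplicative.ofAdd ![1, 0])
    obtain ⟨w, hw, hw2⟩ := heq e u
    apply hmove
    have hu' : Multiplicative.toAdd (ψ u) = ![1, 0] := by rw [hu]; rfl
    rw [← hu', ← hw2]
    -- `u⁻¹ * w` lies in `U₀`
    have h1 : ⁅(u : G)⁻¹, (e : G)⁆ ∈ U₀ :=
      hc (Subgroup.commutator_mem_commutator (U.inv_mem u.2) e.2)
    have h2 : (((u⁻¹ * w : U)) : G) ∈ U₀ := by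
      have : (((u⁻¹ * w : U)) : G) = ⁅(u : G)⁻¹, (e : G)⁆ := by
        rw [commutatorElement_def]
        simp [hw, mul_assoc]
      rw [this]
      exact h1
    have h3 := (hker _).2 h2
    rw [map_mul, map_inv, inv_mul_eq_one] at h3
    rw [← h3]

theorem irrSect_of_alt {n : ℕ} (hn : 3 ≤ n) (hodd : Odd n) {E U U₀ : Subgroup G}
    (h : ActsAsOddPermModuleOnSection n (alternatingGroup (Fin n)) E U U₀) : IrrSect E U U₀ := by
  obtain ⟨hEU, hU₀, ρ, ψ, hρ, hsum, hsurj, hker, heq⟩ := h
  constructor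
  · intro X hXU hEX
    let S : AddSubgroup (Fin n → ZMod 2) :=
      { carrier := {v | ∃ x : U, (x : G) ∈ X ∧ Multiplicative.toAdd (ψ x) = v}
        add_mem' := by
          rintro _ _ ⟨x, hx, rfl⟩ ⟨y, hy, rfl⟩
          refine ⟨x * y, X.mul_mem hx hy, ?_⟩
          rw [map_mul, toAdd_mul]
        zero_mem' := ⟨1, X.one_mem, by simp⟩
        neg_mem' := by
          rintro _ ⟨x, hx, rfl⟩
          refine ⟨x⁻¹, X.inv_mem hx, ?_⟩
          rw [map_inv, toAdd_inv] }
    have hS0 : ∀ v ∈ S, ∑ i, v i = 0 := by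
      rintro _ ⟨x, _, rfl⟩
      exact hsum x
    have hinv : ∀ σ ∈ alternatingGroup (Fin n), ∀ v ∈ S, (fun i => v (σ⁻¹ i)) ∈ S := by
      rintro σ hσ _ ⟨x, hx, rfl⟩
      rw [← hρ] at hσ
      obtain ⟨e, rfl⟩ := hσ
      obtain ⟨w, hw, hw2⟩ := heq e x
      refine ⟨w, ?_, funext hw2⟩
      rw [hw]
      exact (mem_normalizer_iff.1 (hEX e.2) _).1 hx
    rcases alt_irr hn hodd S hS0 hinv with h0 | h1
    · left
      intro x hx
      have h2 : Multiplicative.toAdd (ψ ⟨x, hXU hx⟩) ∈ S := ⟨⟨x, hXU hx⟩, hx, rfl⟩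
      rw [h0] at h2
      have h3 := (AddSubgroup.mem_bot).1 h2
      exact (hker ⟨x, hXU hx⟩).1 (by simpa using h3)
    · right
      intro u hu
      have h2 : Multiplicative.toAdd (ψ ⟨u, hu⟩) ∈ S := h1 _ (hsum _)
      obtain ⟨x, hx, hxu⟩ := h2
      have h3 : ψ (x⁻¹ * ⟨u, hu⟩) = 1 := by
        rw [map_mul, map_inv, inv_mul_eq_one]
        exact Multiplicative.toAdd.injective hxu
      have h4 := (hker _).1 h3
      have h5 : u = (x : G) * ((x⁻¹ * ⟨u, hu⟩ : U) : G) := by simp
      rw [h5]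
      exact Subgroup.mul_mem _ (Subgroup.mem_sup_left hx) (Subgroup.mem_sup_right h4)
  · intro hc
    obtain ⟨σ, hσ, v, hv0, hmove⟩ := alt_move hn
    rw [← hρ] at hσ
    obtain ⟨e, rfl⟩ := hσ
    obtain ⟨u, hu⟩ := hsurj v hv0
    obtain ⟨w, hw, hw2⟩ := heq e u
    apply hmove
    have h1 : ⁅(u : G)⁻¹, (e : G)⁆ ∈ U₀ :=
      hc (Subgroup.commutator_mem_commutator (U.inv_mem u.2) e.2)
    have h2 : (((u⁻¹ * w : U)) : G) ∈ U₀ := by
      have : (((u⁻¹ * w : U)) : G) = ⁅(u : G)⁻¹, (e : G)⁆ := by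
        rw [commutatorElement_def]
        simp [hw, mul_assoc]
      rw [this]
      exact h1
    have h3 := (hker _).2 h2
    rw [map_mul, map_inv, inv_mul_eq_one] at h3
    funext i
    have h4 := hw2 i
    rw [← h3, hu] at h4
    exact h4.symm

section Block

variable [Finite G] {p : ℕ} [hp : Fact p.Prime]

/-- A block is not trivial on its `O_p`-quotient. -/
theorem not_alt_one {T E : Subgroup G} (hE : IsBaumannBlock p T E)
    (h : Nonempty (↥E ⧸ pCore p ↥E ≃* ↥(alternatingGroup (Fin (2 * 0 + 1))))) : False := by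
  obtain ⟨φ⟩ := h
  have hcore : ∀ g : E, g ∈ pCore p E := by
    intro g
    have h0 : Subsingleton ↥(alternatingGroup (Fin (2 * 0 + 1))) := by
      have h00 : Subsingleton (Fin (2 * 0 + 1)) := by
        show Subsingleton (Fin 1)
        infer_instance
      have h01 : Subsingleton (Equiv.Perm (Fin (2 * 0 + 1))) := inferInstance
      exact ⟨fun a b => Subtype.ext (Subsingleton.elim _ _)⟩
    have h1 : φ ((g : E ⧸ pCore p E)) = φ 1 := Subsingleton.elim _ _
    have h2 := φ.injective h1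
    exact (QuotientGroup.eq_one_iff g).1 h2
  have hgen : ∀ g : E, (orderOf g).Coprime p → g = 1 := by
    intro g hg
    obtain ⟨k, hk⟩ := (IsPGroup.iff_orderOf.mp
      (Cfsg.Agent.Lib.Basic.PCore.pCore_isPGroup (G := E) p)) ⟨g, hcore g⟩
    have hk' : orderOf g = p ^ k := by
      rw [← hk]
      exact (Subgroup.orderOf_mk g (hcore g)).symm
    rw [hk'] at hg
    have hk0 : k = 0 := by
      by_contra h0
      have := Nat.Coprime.eq_one_of_dvd (Nat.Coprime.symm hg) (dvd_pow_self p h0)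
      exact hp.out.one_lt.ne' this
    rw [hk0, pow_zero] at hk'
    exact orderOf_eq_one_iff.1 hk'
  have hbot : E = ⊥ := by
    rw [← hE.1]
    unfold pResidualOf pResidual
    have : Subgroup.closure {g : E | (orderOf g).Coprime p} = ⊥ := by
      rw [Subgroup.closure_eq_bot_iff]
      intro g hg
      exact hgen g hg
    rw [this, Subgroup.map_bot]
  apply hE.2.2.2.1
  rw [hbot]
  exact Subgroup.commutator_bot_left _

/-- The section `W / Z` of a block. -/
theorem block_irrSect {T E : Subgroup G} (hE : IsBaumannBlock p T E) :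
    IrrSect E (omegaOneCenter p (pCoreOf p E))
      (omegaOneCenter p (pCoreOf p E) ⊓ centralizer (E : Set G)) := by
  rcases hE.2.2.2.2 with ⟨F, _, _, n, hc, hiso, hact, _⟩ | ⟨hp2, m, hiso, hact, _⟩
  · exact irrSect_of_sl2 hact
  · rcases Nat.eq_zero_or_pos m with h0 | hm
    · subst h0
      exact (not_alt_one hE hiso).elim
    · exact irrSect_of_alt (by omega) ⟨m, rfl⟩ hact

end Block

section Helpers

variable {G : Type*} [Group G] {p : ℕ}

theorem omegaOneCenter_le_inf (X : Subgroup G) :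
    omegaOneCenter p X ≤ X ⊓ centralizer (X : Set G) := by
  unfold omegaOneCenter omegaOne
  rw [closure_le]
  intro z hz
  exact hz.1

theorem omegaOneCenter_le (X : Subgroup G) : omegaOneCenter p X ≤ X :=
  (omegaOneCenter_le_inf X).trans inf_le_left

theorem omegaOneCenter_le_cent (X : Subgroup G) :
    omegaOneCenter p X ≤ centralizer (X : Set G) :=
  (omegaOneCenter_le_inf X).trans inf_le_right

theorem omegaOneCenter_comm {X : Subgroup G} {x y : G} (hx : x ∈ omegaOneCenter p X)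
    (hy : y ∈ omegaOneCenter p X) : x * y = y * x :=
  (mem_centralizer_iff.1 (omegaOneCenter_le_cent X hy) x (omegaOneCenter_le X hx))

theorem pow_of_mem_omegaOneCenter {X : Subgroup G} {x : G} (hx : x ∈ omegaOneCenter p X) :
    x ^ p = 1 := by
  have hx0 := hx
  unfold omegaOneCenter omegaOne at hx0
  induction hx0 using Subgroup.closure_induction with
  | mem x h => exact h.2
  | one => simp
  | mul x y hx1 hy1 ihx ihy =>
    have hc : Commute x y := omegaOneCenter_comm hx1 hy1
    rw [hc.mul_pow, ihx hx1, ihy hy1, one_mul]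
  | inv x hx1 ih =>
    rw [inv_pow, ih hx1, inv_one]

theorem mem_omegaOneCenter {X : Subgroup G} {x : G} (h1 : x ∈ X)
    (h2 : x ∈ centralizer (X : Set G)) (h3 : x ^ p = 1) : x ∈ omegaOneCenter p X :=
  Subgroup.subset_closure ⟨⟨h1, h2⟩, h3⟩

theorem cjg_omegaOneCenter (g : G) (X : Subgroup G) :
    cjg g (omegaOneCenter p X) = omegaOneCenter p (cjg g X) := by
  unfold omegaOneCenter
  rw [cjg_omegaOne, cjg_inf, cjg_centralizer]

theorem mem_normalizer_iff_cjg {g : G} {X : Subgroup G} :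
    g ∈ normalizer (X : Set G) ↔ cjg g X = X := by
  constructor
  · intro hg
    ext x
    rw [mem_cjg]
    have := (mem_normalizer_iff.1 (Subgroup.inv_mem _ hg) x)
    simpa using this.symm
  · intro h
    rw [mem_normalizer_iff]
    intro x
    have h1 : g * x * g⁻¹ ∈ cjg g X ↔ g * x * g⁻¹ ∈ X := by rw [h]
    rw [mem_cjg] at h1
    have h2 : g⁻¹ * (g * x * g⁻¹) * g = x := by group
    rwa [h2] at h1

theorem normalizer_le_omegaOneCenter (X : Subgroup G) :
    normalizer (X : Set G) ≤ normalizer (omegaOneCenter p X : Set G) := by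
  intro g hg
  rw [mem_normalizer_iff_cjg] at hg ⊢
  rw [cjg_omegaOneCenter, hg]

theorem normalizer_le_centralizer (X : Subgroup G) :
    normalizer (X : Set G) ≤ normalizer (centralizer (X : Set G) : Set G) := by
  intro g hg
  rw [mem_normalizer_iff_cjg] at hg ⊢
  rw [cjg_centralizer, hg]

theorem mem_normalizer_inf {g : G} {X Y : Subgroup G} (h1 : g ∈ normalizer (X : Set G))
    (h2 : g ∈ normalizer (Y : Set G)) : g ∈ normalizer ((X ⊓ Y : Subgroup G) : Set G) := by
  rw [mem_normalizer_iff_cjg] at h1 h2 ⊢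
  rw [cjg_inf, h1, h2]

theorem mem_normalizer_commutator {g : G} {X Y : Subgroup G} (h1 : g ∈ normalizer (X : Set G))
    (h2 : g ∈ normalizer (Y : Set G)) : g ∈ normalizer ((⁅X, Y⁆ : Subgroup G) : Set G) := by
  rw [mem_normalizer_iff_cjg] at h1 h2 ⊢
  unfold cjg at h1 h2 ⊢
  rw [Subgroup.map_commutator, h1, h2]

/-- Elements of `R ⊔ E`, `R` normalizing `E`. -/
theorem exists_mul_of_mem_sup {R E : Subgroup G} (h : R ≤ normalizer (E : Set G)) {x : G}
    (hx : x ∈ R ⊔ E) : ∃ r ∈ R, ∃ e ∈ E, x = r * e := by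
  let Y : Subgroup G :=
    { carrier := {x | ∃ r ∈ R, ∃ e ∈ E, x = r * e}
      one_mem' := ⟨1, R.one_mem, 1, E.one_mem, by simp⟩
      mul_mem' := by
        rintro _ _ ⟨r, hr, e, he, rfl⟩ ⟨r', hr', e', he', rfl⟩
        refine ⟨r * r', R.mul_mem hr hr', r'⁻¹ * e * r' * e', ?_, by group⟩
        refine E.mul_mem ?_ he'
        have := (mem_normalizer_iff.1 (h (R.inv_mem hr')) e).1 he
        simpa using this
      inv_mem' := by
        rintro _ ⟨r, hr, e, he, rfl⟩
        refine ⟨r⁻¹, R.inv_mem hr, r * e⁻¹ * r⁻¹, ?_, by group⟩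
        exact (mem_normalizer_iff.1 (h hr) _).1 (E.inv_mem he) }
  have hle : R ⊔ E ≤ Y := by
    refine sup_le (fun r hr => ⟨r, hr, 1, E.one_mem, by simp⟩)
      (fun e he => ⟨1, R.one_mem, e, he, by simp⟩)
  exact hle hx

/-- The chain of commutators. -/
def commChain (W R : Subgroup G) : ℕ → Subgroup G
  | 0 => W
  | k + 1 => ⁅commChain W R k, R⁆

variable [Finite G] [hp : Fact p.Prime]

theorem commChain_le_lcs {W R : Subgroup G} (k : ℕ) :
    commChain W R k ≤
      ((⊤ : Subgroup ↥(W ⊔ R)).lowerCentralSeries k).map (W ⊔ R).subtype := by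
  induction k with
  | zero =>
    intro x hx
    exact ⟨⟨x, Subgroup.mem_sup_left hx⟩, by simp, rfl⟩
  | succ k ih =>
    show ⁅commChain W R k, R⁆ ≤ _
    rw [Subgroup.commutator_le]
    intro x hx r hr
    obtain ⟨a, ha, rfl⟩ := ih hx
    refine ⟨⁅a, ⟨r, Subgroup.mem_sup_right hr⟩⁆, ?_, rfl⟩
    exact Subgroup.commutator_mem_commutator ha (Subgroup.mem_top _)

theorem exists_commChain_eq_bot {W R : Subgroup G} (hW : IsPGroup p W) (hR : IsPGroup p R)
    (hRW : R ≤ normalizer (W : Set G)) : ∃ k, commChain W R k = ⊥ := by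
  have hP : IsPGroup p ↥(W ⊔ R) := hW.to_sup_of_normal_left' hR hRW
  have hnil : Group.IsNilpotent ↥(W ⊔ R) := hP.isNilpotent
  obtain ⟨n, hn⟩ := Subgroup.nilpotent_iff_lowerCentralSeries.1 hnil
  refine ⟨n, ?_⟩
  have := commChain_le_lcs (W := W) (R := R) n
  rw [hn, Subgroup.map_bot] at this
  exact le_bot_iff.1 this

theorem commutator_le_of_normalizer {W R : Subgroup G} (hRW : R ≤ normalizer (W : Set G)) :
    ⁅W, R⁆ ≤ W := by
  rw [Subgroup.commutator_le]
  intro x hx r hr
  have h1 : ⁅x, r⁆ = x * (r * x⁻¹ * r⁻¹) := by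
    simp only [commutatorElement_def]
    group
  rw [h1]
  refine W.mul_mem hx ?_
  exact (mem_normalizer_iff.1 (hRW hr) _).1 (W.inv_mem hx)

theorem commChain_le {W R : Subgroup G} (hRW : R ≤ normalizer (W : Set G)) (k : ℕ) :
    commChain W R k ≤ W := by
  induction k with
  | zero => exact le_rfl
  | succ k ih =>
    show ⁅commChain W R k, R⁆ ≤ W
    exact (Subgroup.commutator_mono ih le_rfl).trans (commutator_le_of_normalizer hRW)

theorem commChain_normalized {E W R : Subgroup G} (hEW : E ≤ normalizer (W : Set G))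
    (hER : E ≤ normalizer (R : Set G)) (k : ℕ) :
    E ≤ normalizer (commChain W R k : Set G) := by
  induction k with
  | zero => exact hEW
  | succ k ih =>
    intro e he
    exact mem_normalizer_commutator (ih he) (hER he)

/-- `R` acts trivially on an irreducible `E`-section, when `R` is a `p`-group normalized by `E`. -/
theorem commutator_le_of_irr {E R W Z : Subgroup G} (hR : IsPGroup p R) (hW : IsPGroup p W)
    (hRW : R ≤ normalizer (W : Set G)) (hER : E ≤ normalizer (R : Set G))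
    (hEW : E ≤ normalizer (W : Set G)) (hZW : Z ≤ W)
    (hRZ : R ≤ normalizer (Z : Set G)) (hWZ : W ≤ normalizer (Z : Set G))
    (hirr : ∀ X : Subgroup G, X ≤ W → E ≤ normalizer (X : Set G) → X ≤ Z ∨ W ≤ X ⊔ Z)
    (hne : ¬ W ≤ Z) : ⁅W, R⁆ ≤ Z := by
  classical
  have hex : ∃ k, commChain W R k ≤ Z := by
    obtain ⟨k, hk⟩ := exists_commChain_eq_bot hW hR hRW
    exact ⟨k, by rw [hk]; exact bot_le⟩
  have hspec := Nat.find_spec hex
  have hmin := fun m => Nat.find_min (H := hex) (m := m)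
  rcases hk : Nat.find hex with _ | j
  · rw [hk] at hspec
    exact (hne hspec).elim
  · rw [hk] at hspec
    have hj : ¬ commChain W R j ≤ Z := hmin j (by omega)
    rcases hirr _ (commChain_le hRW j) (commChain_normalized hEW hER j) with h | h
    · exact (hj h).elim
    · let Y : Subgroup G :=
        { carrier := {w | w ∈ W ∧ ∀ r ∈ R, ⁅w, r⁆ ∈ Z}
          one_mem' := ⟨W.one_mem, fun r _ => by simp [Z.one_mem]⟩
          mul_mem' := by
            rintro a b ⟨ha, ha'⟩ ⟨hb, hb'⟩
            refine ⟨W.mul_mem ha hb, fun r hr => ?_⟩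
            have h1 : ⁅a * b, r⁆ = a * ⁅b, r⁆ * a⁻¹ * ⁅a, r⁆ := by
              simp only [commutatorElement_def]
              group
            rw [h1]
            exact Z.mul_mem ((mem_normalizer_iff.1 (hWZ ha) _).1 (hb' r hr)) (ha' r hr)
          inv_mem' := by
            rintro a ⟨ha, ha'⟩
            refine ⟨W.inv_mem ha, fun r hr => ?_⟩
            have h1 : ⁅a⁻¹, r⁆ = a⁻¹ * ⁅a, r⁆⁻¹ * a := by
              simp only [commutatorElement_def]
              group
            rw [h1]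
            have := (mem_normalizer_iff.1 (hWZ (W.inv_mem ha)) _).1 (Z.inv_mem (ha' r hr))
            simpa using this }
      have hY : commChain W R j ⊔ Z ≤ Y := by
        refine sup_le (fun x hx => ⟨commChain_le hRW j hx, fun r hr => hspec ?_⟩)
          (fun z hz => ⟨hZW hz, fun r hr => ?_⟩)
        · exact Subgroup.commutator_mem_commutator hx hr
        · have h1 : ⁅z, r⁆ = z * (r * z⁻¹ * r⁻¹) := by
            simp only [commutatorElement_def]
            group
          rw [h1]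
          exact Z.mul_mem hz ((mem_normalizer_iff.1 (hRZ hr) _).1 (Z.inv_mem hz))
      rw [Subgroup.commutator_le]
      intro w hw r hr
      exact (hY (h hw)).2 r hr

end Helpers

/-! ### The main theorem on blocks in groups of characteristic `p` -/

section Main

variable [Finite G] {p : ℕ} [hp : Fact p.Prime]

open Cfsg.Agent.Lib.PGroup.LargeSub2 Cfsg.Agent.Lib.Basic.PCore Cfsg.Agent.Lib.PGroup.ThompsonG

theorem pResidualOf_sup {E R : Subgroup G} (hR : IsPGroup p R) (hRE : R ≤ normalizer (E : Set G))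
    (hE : pResidualOf p E = E) : pResidualOf p (E ⊔ R) = E := by
  apply le_antisymm
  · unfold pResidualOf pResidual
    rw [MonoidHom.map_closure, Subgroup.closure_le]
    rintro _ ⟨⟨x, hx⟩, hxo, rfl⟩
    have hx' := hx
    rw [sup_comm] at hx'
    obtain ⟨r, hr, e, he, rfl⟩ := exists_mul_of_mem_sup hRE hx'
    have hxo' : Nat.Coprime (orderOf (r * e)) p := by
      rw [← Subgroup.orderOf_mk (r * e) hx]
      exact hxo
    obtain ⟨k, hk⟩ := (IsPGroup.iff_orderOf.mp hR) ⟨r, hr⟩
    have hk' : orderOf r = p ^ k := by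
      rw [← hk]
      exact (Subgroup.orderOf_mk r hr).symm
    have := mem_of_coprime_mul (hRE hr) he hk' hxo'
    exact E.mul_mem this he
  · apply forall_mem_of_pResidualOf hE
    intro x hx hxo
    unfold pResidualOf pResidual
    refine ⟨⟨x, Subgroup.mem_sup_left hx⟩, Subgroup.subset_closure ?_, rfl⟩
    show Nat.Coprime (orderOf _) p
    rw [Subgroup.orderOf_mk x]
    exact hxo

/-- The join of two commuting elementary abelian subgroups. -/
theorem ea_sup {A B : Subgroup G} (hA : IsElementaryAbelian p A) (hB : IsElementaryAbelian p B)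
    (hc : ∀ a ∈ A, ∀ b ∈ B, a * b = b * a) : IsElementaryAbelian p (A ⊔ B) := by
  have hAc : ∀ x ∈ A, ∀ y ∈ A, x * y = y * x := fun x hx y hy =>
    congrArg Subtype.val (hA.1.is_comm.comm ⟨x, hx⟩ ⟨y, hy⟩)
  have hBc : ∀ x ∈ B, ∀ y ∈ B, x * y = y * x := fun x hx y hy =>
    congrArg Subtype.val (hB.1.is_comm.comm ⟨x, hx⟩ ⟨y, hy⟩)
  have hn : A ≤ normalizer (B : Set G) := by
    intro a ha
    rw [mem_normalizer_iff]
    intro b
    have h1 : ∀ b ∈ B, a * b * a⁻¹ = b := fun b hb => by rw [hc a ha b hb]; group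
    constructor
    · intro hb
      rwa [h1 b hb]
    · intro hb
      have h2 : b = a⁻¹ * (a * b * a⁻¹) * a := by group
      have h3 : a⁻¹ * (a * b * a⁻¹) * a = a * b * a⁻¹ := by
        have h4 := hc a⁻¹ (A.inv_mem ha) _ hb
        rw [h4]
        group
      rw [h2, h3]
      exact hb
  have hdec : ∀ x ∈ A ⊔ B, ∃ a ∈ A, ∃ b ∈ B, x = a * b := fun x hx => exists_mul_of_mem_sup hn hx
  refine ⟨⟨⟨?_⟩⟩, ?_⟩
  · rintro ⟨x, hx⟩ ⟨y, hy⟩
    apply Subtype.ext
    obtain ⟨a, ha, b, hb, rfl⟩ := hdec x hx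
    obtain ⟨a', ha', b', hb', rfl⟩ := hdec y hy
    simp only [Subgroup.coe_mul]
    calc a * b * (a' * b') = a * (b * a') * b' := by group
      _ = a * (a' * b) * b' := by rw [hc a' ha' b hb]
      _ = (a * a') * (b * b') := by group
      _ = (a' * a) * (b' * b) := by rw [hAc a ha a' ha', hBc b hb b' hb']
      _ = a' * (a * b') * b := by group
      _ = a' * (b' * a) * b := by rw [hc a ha b' hb']
      _ = a' * b' * (a * b) := by group
  · intro x hx
    obtain ⟨a, ha, b, hb, rfl⟩ := hdec x hx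
    have hcab : Commute a b := hc a ha b hb
    rw [hcab.mul_pow, hA.2 a ha, hB.2 b hb, one_mul]

/-- An elementary abelian subgroup of `T` centralizing a largest one lies in it. -/
theorem le_of_gMaxEA {T A V : Subgroup G} (hA : A ∈ gMaxEA p T) (hVT : V ≤ T)
    (hV : IsElementaryAbelian p V) (hc : ∀ a ∈ A, ∀ b ∈ V, a * b = b * a) : V ≤ A := by
  have h1 := ea_sup hA.2.1 hV hc
  have h2 := hA.2.2 _ (sup_le hA.1 hVT) h1
  have h3 : A = A ⊔ V := Subgroup.eq_of_le_of_card_ge le_sup_left h2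
  rw [h3]
  exact le_sup_right

theorem omegaOneCenter_ea (X : Subgroup G) : IsElementaryAbelian p (omegaOneCenter p X) := by
  refine ⟨⟨⟨?_⟩⟩, fun a ha => pow_of_mem_omegaOneCenter ha⟩
  rintro ⟨x, hx⟩ ⟨y, hy⟩
  exact Subtype.ext (omegaOneCenter_comm hx hy)

/-- **S2984.** -/
theorem block_main (hG : centralizer (pCore p G : Set G) ≤ pCore p G) (T : Sylow p G)
    (E : Subgroup G) (hE : IsBaumannBlock p (T : Subgroup G) E) :
    pResidualOf p (E ⊔ pCore p G) = E ∧
      ⁅omegaOneCenter p (pCoreOf p E), E⁆ ≤ omegaOneCenter p (pCore p G) ∧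
      ⁅⁅omegaOneCenter p (pCoreOf p E), E⁆, thompsonSubgroupOf p (T : Subgroup G)⁆ ≠ ⊥ := by
  have hirr := block_irrSect hE
  have hRp : IsPGroup p (pCore p G) := pCore_isPGroup p
  have hRn : (pCore p G).Normal := pCore_normal p G
  have hnR : ∀ X : Subgroup G, X ≤ normalizer (pCore p G : Set G) := fun X x _ => by
    rw [Subgroup.normalizer_eq_top_iff.2 hRn]
    exact Subgroup.mem_top _
  have hRE : pCore p G ≤ normalizer (E : Set G) :=
    le_normalizer_block T hRp hE.1 hE.2.1 (hnR _) (hnR _)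
  have hNQ : normalizer (E : Set G) ≤ normalizer (pCoreOf p E : Set G) :=
    normalizer_le_normalizer_pCoreOf E
  have hNW : normalizer (E : Set G) ≤ normalizer (omegaOneCenter p (pCoreOf p E) : Set G) :=
    hNQ.trans (normalizer_le_omegaOneCenter _)
  have hEE : E ≤ normalizer (E : Set G) := Subgroup.le_normalizer
  have hQp : IsPGroup p (pCoreOf p E) := isPGroup_pCoreOf E
  have hWp : IsPGroup p (omegaOneCenter p (pCoreOf p E)) := hQp.to_le (omegaOneCenter_le _)
  have hRZ : pCore p G ≤ normalizer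
      ((omegaOneCenter p (pCoreOf p E) ⊓ centralizer (E : Set G) : Subgroup G) : Set G) :=
    fun r hr => mem_normalizer_inf (hNW (hRE hr)) (normalizer_le_centralizer E (hRE hr))
  have hWZ : omegaOneCenter p (pCoreOf p E) ≤ normalizer
      ((omegaOneCenter p (pCoreOf p E) ⊓ centralizer (E : Set G) : Subgroup G) : Set G) := by
    intro w hw
    rw [mem_normalizer_iff]
    intro z
    constructor
    · intro hz
      have h1 : w * z * w⁻¹ = z := by rw [omegaOneCenter_comm hw hz.1]; group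
      rwa [h1]
    · intro hz
      have hz' : z ∈ omegaOneCenter p (pCoreOf p E) := by
        have h2 : z = w⁻¹ * (w * z * w⁻¹) * w := by group
        rw [h2]
        exact Subgroup.mul_mem _ (Subgroup.mul_mem _ (Subgroup.inv_mem _ hw) hz.1) hw
      have h1 : w * z * w⁻¹ = z := by rw [omegaOneCenter_comm hw hz']; group
      rwa [h1] at hz
  have hne : ¬ omegaOneCenter p (pCoreOf p E) ≤
      omegaOneCenter p (pCoreOf p E) ⊓ centralizer (E : Set G) := by
    intro h
    apply hirr.2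
    rw [Subgroup.commutator_le]
    intro w hw e he
    have h1 := (mem_centralizer_iff.1 (h hw).2) e he
    have h2 : ⁅w, e⁆ = 1 := commutatorElement_eq_one_iff_mul_comm.2 h1.symm
    rw [h2]
    exact Subgroup.one_mem _
  have hWR : ⁅omegaOneCenter p (pCoreOf p E), pCore p G⁆ ≤
      omegaOneCenter p (pCoreOf p E) ⊓ centralizer (E : Set G) :=
    commutator_le_of_irr hRp hWp (hRE.trans hNW) (hnR E) (hEE.trans hNW) inf_le_left hRZ hWZ
      hirr.1 hne
  -- `[E, R] ≤ Q`
  have hER : ⁅E, pCore p G⁆ ≤ pCoreOf p E := by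
    have h1 : E ⊓ pCore p G ≤ pCoreOf p E := by
      refine le_pCoreOf inf_le_left (hRp.to_le inf_le_right) ?_
      intro e he
      exact mem_normalizer_inf (hEE he) (hnR E he)
    refine le_trans ?_ h1
    rw [Subgroup.commutator_le]
    intro e he r hr
    refine ⟨?_, ?_⟩
    · have h2 : ⁅e, r⁆ = e * (r * e⁻¹ * r⁻¹) := by
        simp only [commutatorElement_def]
        group
      rw [h2]
      exact E.mul_mem he ((mem_normalizer_iff.1 (hRE hr) _).1 (E.inv_mem he))
    · rw [commutatorElement_def]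
      exact Subgroup.mul_mem _ (hRn.conj_mem r hr e) (Subgroup.inv_mem _ hr)
  have h1 : ⁅⁅E, pCore p G⁆, omegaOneCenter p (pCoreOf p E)⁆ = ⊥ := by
    rw [Subgroup.commutator_eq_bot_iff_le_centralizer]
    intro x hx
    rw [mem_centralizer_iff]
    intro w hw
    exact (mem_centralizer_iff.1 (omegaOneCenter_le_cent _ hw) x (hER hx)).symm
  have h2 : ⁅⁅pCore p G, omegaOneCenter p (pCoreOf p E)⁆, E⁆ = ⊥ := by
    rw [Subgroup.commutator_comm (pCore p G), Subgroup.commutator_eq_bot_iff_le_centralizer]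
    intro x hx
    rw [mem_centralizer_iff]
    intro e he
    exact (mem_centralizer_iff.1 (hWR hx).2 e he)
  have h3 : ⁅⁅omegaOneCenter p (pCoreOf p E), E⁆, pCore p G⁆ = ⊥ :=
    Subgroup.commutator_commutator_eq_bot_of_rotate h1 h2
  have hW1W : ⁅omegaOneCenter p (pCoreOf p E), E⁆ ≤ omegaOneCenter p (pCoreOf p E) :=
    commutator_le_of_normalizer (hEE.trans hNW)
  have hW1C : ⁅omegaOneCenter p (pCoreOf p E), E⁆ ≤ centralizer (pCore p G : Set G) :=
    (Subgroup.commutator_eq_bot_iff_le_centralizer).1 h3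
  have hW1R : ⁅omegaOneCenter p (pCoreOf p E), E⁆ ≤ pCore p G := hW1C.trans hG
  refine ⟨pResidualOf_sup hRp hRE hE.1, ?_, ?_⟩
  · intro x hx
    exact mem_omegaOneCenter (hW1R hx) (hW1C hx) (pow_of_mem_omegaOneCenter (hW1W hx))
  · intro hJ
    have hW1ea : IsElementaryAbelian p (⁅omegaOneCenter p (pCoreOf p E), E⁆ : Subgroup G) :=
      ea_mono (omegaOneCenter_ea _) hW1W
    have hW1J : ⁅omegaOneCenter p (pCoreOf p E), E⁆ ≤
        centralizer (thompsonSubgroupOf p (T : Subgroup G) : Set G) :=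
      (Subgroup.commutator_eq_bot_iff_le_centralizer).1 hJ
    obtain ⟨A, hA⟩ := exists_mem_gMaxEA (p := p) (T : Subgroup G)
    have hW1A : ⁅omegaOneCenter p (pCoreOf p E), E⁆ ≤ A := by
      refine le_of_gMaxEA hA (hW1R.trans (pCore_le_sylow T)) hW1ea ?_
      intro a ha b hb
      exact (mem_centralizer_iff.1 (hW1J hb) a (le_thompsonSubgroupOf hA ha))
    have hW1B : ⁅omegaOneCenter p (pCoreOf p E), E⁆ ≤
        centralizer (baumannSubgroupOf p (T : Subgroup G) : Set G) := by
      intro x hx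
      rw [mem_centralizer_iff]
      intro b hb
      have hb2 := (Subgroup.mem_inf.1 hb).2
      refine (mem_centralizer_iff.1 hb2 x ?_).symm
      refine Subgroup.subset_closure ⟨⟨le_thompsonSubgroupOf hA (hW1A hx), hW1J hx⟩,
        pow_of_mem_omegaOneCenter (hW1W hx)⟩
    have hW1N : E ≤ normalizer ((⁅omegaOneCenter p (pCoreOf p E), E⁆ : Subgroup G) : Set G) :=
      fun e he => mem_normalizer_commutator (hNW (hEE he)) (hEE he)
    have h4 : ⁅⁅baumannSubgroupOf p (T : Subgroup G), ⁅omegaOneCenter p (pCoreOf p E), E⁆⁆, E⁆ = ⊥ := by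
      rw [Subgroup.commutator_comm (baumannSubgroupOf p (T : Subgroup G)),
        (Subgroup.commutator_eq_bot_iff_le_centralizer).2 hW1B, Subgroup.commutator_bot_left]
    have h5 : ⁅⁅⁅omegaOneCenter p (pCoreOf p E), E⁆, E⁆, baumannSubgroupOf p (T : Subgroup G)⁆ = ⊥ := by
      rw [Subgroup.commutator_eq_bot_iff_le_centralizer]
      exact (commutator_le_of_normalizer hW1N).trans hW1B
    have h6 := Subgroup.commutator_commutator_eq_bot_of_rotate h4 h5
    rw [hE.2.1] at h6
    apply hirr.2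
    intro x hx
    refine ⟨hW1W hx, ?_⟩
    rw [Subgroup.commutator_comm] at h6
    have h7 := (Subgroup.commutator_eq_bot_iff_le_centralizer).1 h6 hx
    exact h7

end Main

end Cfsg.Agent.Lib.PGroup.BaumannSect
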