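import Mathlib
import Cfsg.Prelude.Def_PLocal
import Cfsg.Agent.Lib.Basic.PCore

/-!
# The stable normal closure `W(S)`

API for `Cfsg.stableNormalClosure`, `Cfsg.omegaCenterThompson`, `Cfsg.thompsonSubgroup`.
-/

namespace Cfsg.Agent.Lib.PGroup.StableClosure

open Cfsg

universe u

section EA

variable {S : Type*} [Group S] {p : ℕ}

theorem ea_closure {T : Set S} (hcomm : ∀ x ∈ T, ∀ y ∈ T, x * y = y * x)
    (hpow : ∀ x ∈ T, x ^ p = 1) : IsElementaryAbelian p (Subgroup.closure T) := by
  have hab : IsMulCommutative (Subgroup.closure T) := Subgroup.isMulCommutative_closure hcomm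
  refine ⟨hab, fun a ha => ?_⟩
  induction ha using Subgroup.closure_induction with
  | mem x hx => exact hpow x hx
  | one => simp
  | mul a b ha hb iha ihb =>
    have hc : a * b = b * a :=
      congrArg Subtype.val (hab.is_comm.comm ⟨a, ha⟩ ⟨b, hb⟩)
    rw [(show Commute a b from hc).mul_pow, iha, ihb, one_mul]
  | inv a _ ih => rw [inv_pow, ih, inv_one]

theorem exists_mem_max_ea [Finite S] : ∃ A : Subgroup S, A ∈ maxElementaryAbelianSubgroups p S := by
  obtain ⟨A, hA, hmax⟩ := Set.exists_max_image {A : Subgroup S | IsElementaryAbelian p A}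
    (fun A => Nat.card A) (Set.toFinite _)
    ⟨⊥, by
      refine ⟨inferInstance, fun a ha => ?_⟩
      rw [Subgroup.mem_bot] at ha
      simp [ha]⟩
  exact ⟨A, hA, fun B hB => hmax B hB⟩

theorem mem_max_ea_of_central [Finite S] {A : Subgroup S}
    (hA : A ∈ maxElementaryAbelianSubgroups p S) {z : S} (hz : z ∈ Subgroup.center S)
    (hzp : z ^ p = 1) : z ∈ A := by
  have hzc : ∀ y, z * y = y * z := fun y => by
    have := (Subgroup.mem_center_iff.1 hz) y
    exact this.symm
  let T : Set S := (A : Set S) ∪ {z}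
  have hB : IsElementaryAbelian p (Subgroup.closure T) := by
    apply ea_closure
    · rintro x (hx | hx) y (hy | hy)
      · exact congrArg Subtype.val (hA.1.1.is_comm.comm ⟨x, hx⟩ ⟨y, hy⟩)
      · have hy' : y = z := hy
        rw [hy']
        exact (hzc x).symm
      · have hx' : x = z := hx
        rw [hx']
        exact hzc y
      · have hx' : x = z := hx
        have hy' : y = z := hy
        rw [hx', hy']
    · rintro x (hx | hx)
      · exact hA.1.2 x hx
      · have hx' : x = z := hx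
        rw [hx']
        exact hzp
  have hle : A ≤ Subgroup.closure T := fun a ha => Subgroup.subset_closure (Or.inl ha)
  have hcard := hA.2 _ hB
  have heq : A = Subgroup.closure T := Subgroup.eq_of_le_of_card_ge hle hcard
  rw [heq]
  exact Subgroup.subset_closure (Or.inr rfl)

theorem mem_thompson_of_central [Finite S] {z : S} (hz : z ∈ Subgroup.center S)
    (hzp : z ^ p = 1) : z ∈ thompsonSubgroup p S := by
  obtain ⟨A, hA⟩ := exists_mem_max_ea (p := p) (S := S)
  have := mem_max_ea_of_central hA hz hzp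
  exact (le_sSup hA : A ≤ thompsonSubgroup p S) this

theorem omega_center_le_omegaCenterThompson [Finite S] :
    omegaOne p (Subgroup.center S) ≤ omegaCenterThompson p S := by
  unfold omegaOne omegaCenterThompson omegaOne
  apply Subgroup.closure_mono
  rintro z ⟨hz, hzp⟩
  refine ⟨⟨mem_thompson_of_central hz hzp, ?_⟩, hzp⟩
  refine Subgroup.mem_centralizer_iff.2 ?_
  intro y _
  exact (Subgroup.mem_center_iff.1 hz) y

/-- A conjugation-invariant generating set generates a normal subgroup. -/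
theorem normal_closure_of_conj_invariant {G : Type*} [Group G] {T : Set G}
    (hT : ∀ g, ∀ x ∈ T, g * x * g⁻¹ ∈ T) : (Subgroup.closure T).Normal := by
  refine ⟨fun n hn g => ?_⟩
  induction hn using Subgroup.closure_induction with
  | mem x hx => exact Subgroup.subset_closure (hT g x hx)
  | one => simp
  | mul a b _ _ iha ihb =>
    have : g * (a * b) * g⁻¹ = (g * a * g⁻¹) * (g * b * g⁻¹) := by group
    rw [this]
    exact mul_mem iha ihb
  | inv a _ ih =>
    have : g * a⁻¹ * g⁻¹ = (g * a * g⁻¹)⁻¹ := by group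
    rw [this]
    exact inv_mem ih

end EA

section Stable

variable {S : Type u} [Group S] {p : ℕ}

/-- The family of subgroups defining `W(S)`. -/
theorem omegaCenterThompson_map_normal {H : Type u} [Group H] {τ : S →* H}
    (hτ : IsStableEmbedding p τ) : ((omegaCenterThompson p S).map τ).Normal := by
  obtain ⟨hinj, -, -, -, hJ, -⟩ := hτ
  unfold omegaCenterThompson omegaOne
  rw [MonoidHom.map_closure]
  apply normal_closure_of_conj_invariant
  rintro h _ ⟨x, ⟨⟨hx1, hx2⟩, hx3⟩, rfl⟩
  have hmem : h * τ x * h⁻¹ ∈ (thompsonSubgroup p S).map τ :=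
    hJ.conj_mem _ (Subgroup.mem_map_of_mem τ hx1) h
  obtain ⟨x', hx', hxx'⟩ := hmem
  refine ⟨x', ⟨⟨hx', ?_⟩, ?_⟩, hxx'⟩
  · refine Subgroup.mem_centralizer_iff.2 ?_
    intro y hy
    apply hinj
    rw [map_mul, map_mul, hxx']
    -- `h⁻¹ τ y h` lies in the image of `J` and commutes with `τ x`
    have hmem2 : h⁻¹ * τ y * h ∈ (thompsonSubgroup p S).map τ := by
      have := hJ.conj_mem _ (Subgroup.mem_map_of_mem τ hy) h⁻¹
      simpa using this
    obtain ⟨y', hy', hyy'⟩ := hmem2
    have hcomm : y' * x = x * y' := Subgroup.mem_centralizer_iff.1 hx2 y' hy'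
    have hcomm' : τ y' * τ x = τ x * τ y' := by rw [← map_mul, hcomm, map_mul]
    rw [hyy'] at hcomm'
    have h1 : τ y = h * (h⁻¹ * τ y * h) * h⁻¹ := by group
    calc τ y * (h * τ x * h⁻¹) = h * ((h⁻¹ * τ y * h) * τ x) * h⁻¹ := by group
      _ = h * (τ x * (h⁻¹ * τ y * h)) * h⁻¹ := by rw [hcomm']
      _ = (h * τ x * h⁻¹) * τ y := by group
  · apply hinj
    rw [map_pow, hxx', map_one]
    have : (h * τ x * h⁻¹) ^ p = h * (τ x) ^ p * h⁻¹ := by
      simp [conj_pow]
    rw [this, ← map_pow, hx3]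
    simp

variable (p S) in
/-- The family of subgroups whose infimum is `W(S)`. -/
def stableFamily : Set (Subgroup S) :=
  {W : Subgroup S | omegaOne p (Subgroup.center S) ≤ W ∧
    ∀ (H : Type u) [Group H] (τ : S →* H), IsStableEmbedding p τ → (W.map τ).Normal}

theorem stableNormalClosure_eq : stableNormalClosure p S = sInf (stableFamily S p) := rfl

theorem omegaCenterThompson_mem [Finite S] : omegaCenterThompson p S ∈ stableFamily S p :=
  ⟨omega_center_le_omegaCenterThompson, fun _ _ _ hτ => omegaCenterThompson_map_normal hτ⟩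

theorem stableNormalClosure_le [Finite S] :
    stableNormalClosure p S ≤ omegaCenterThompson p S :=
  sInf_le omegaCenterThompson_mem

theorem stableNormalClosure_le_of_mem {X : Subgroup S} (hX : X ∈ stableFamily S p) :
    stableNormalClosure p S ≤ X :=
  sInf_le hX

theorem omega_center_le_stableNormalClosure :
    omegaOne p (Subgroup.center S) ≤ stableNormalClosure p S :=
  le_sInf fun _ hX => hX.1

theorem stableNormalClosure_map_normal [Finite S] {H : Type u} [Group H] {τ : S →* H}
    (hτ : IsStableEmbedding p τ) : ((stableNormalClosure p S).map τ).Normal := by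
  refine ⟨fun n hn h => ?_⟩
  obtain ⟨w, hw, rfl⟩ := hn
  have h0 : h * τ w * h⁻¹ ∈ (omegaCenterThompson p S).map τ :=
    (omegaCenterThompson_map_normal hτ).conj_mem _
      (Subgroup.mem_map_of_mem τ (stableNormalClosure_le hw)) h
  obtain ⟨w', -, hw'⟩ := h0
  refine ⟨w', ?_, hw'⟩
  refine (Subgroup.mem_sInf).2 fun X hX => ?_
  have hwX : w ∈ X := (Subgroup.mem_sInf).1 hw X hX
  have h1 := (hX.2 H τ hτ).conj_mem _ (Subgroup.mem_map_of_mem τ hwX) h
  obtain ⟨x, hx, hxe⟩ := h1
  have : x = w' := hτ.1 (hxe.trans hw'.symm)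
  exact this ▸ hx

end Stable

section Quadratic

variable {H : Type*} [Group H]

/-- Quadratic action depends only on the action on `V`. -/
theorem quad_of_mul_centralizer {V : Subgroup H} [hV : V.Normal] {b c : H}
    (hc : c ∈ Subgroup.centralizer (V : Set H))
    (hq : ⁅⁅V, Subgroup.zpowers (b * c)⁆, Subgroup.zpowers (b * c)⁆ = ⊥) :
    ⁅⁅V, Subgroup.zpowers b⁆, Subgroup.zpowers b⁆ = ⊥ := by
  set a := b * c with ha
  have hρc : (MulAut.conjNormal c : MulAut V) = 1 := by
    ext v
    rw [MulAut.conjNormal_apply]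
    have := Subgroup.mem_centralizer_iff.1 hc v v.2
    simp [← this]
  have hρ : (MulAut.conjNormal a : MulAut V) = MulAut.conjNormal b := by
    rw [ha, map_mul, hρc, mul_one]
  have hk : ∀ (k : ℤ) (v : H), v ∈ V → b ^ k * v * (b ^ k)⁻¹ = a ^ k * v * (a ^ k)⁻¹ := by
    intro k v hv
    have h1 : (MulAut.conjNormal (a ^ k) : MulAut V) = MulAut.conjNormal (b ^ k) := by
      rw [map_zpow, map_zpow, hρ]
    have h2 := congrArg (fun σ : MulAut V => ((σ ⟨v, hv⟩ : V) : H)) h1
    simp only [MulAut.conjNormal_apply] at h2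
    exact h2.symm
  have hq' := Subgroup.commutator_eq_bot_iff_le_centralizer.1 hq
  rw [Subgroup.commutator_eq_bot_iff_le_centralizer, Subgroup.commutator_le]
  intro v hv g hg
  obtain ⟨k, rfl⟩ := Subgroup.mem_zpowers_iff.1 hg
  refine Subgroup.mem_centralizer_iff.2 ?_
  intro g' hg'
  obtain ⟨m, rfl⟩ := Subgroup.mem_zpowers_iff.1 hg'
  have h1 : v * a ^ k * v⁻¹ * (a ^ k)⁻¹ ∈ ⁅V, Subgroup.zpowers a⁆ :=
    Subgroup.commutator_mem_commutator hv (Subgroup.zpow_mem_zpowers a k)
  have h3 := Subgroup.mem_centralizer_iff.1 (hq' h1) (a ^ m) (Subgroup.zpow_mem_zpowers a m)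
  have h4 : v * b ^ k * v⁻¹ * (b ^ k)⁻¹ = v * a ^ k * v⁻¹ * (a ^ k)⁻¹ := by
    have := hk k v⁻¹ (inv_mem hv)
    calc v * b ^ k * v⁻¹ * (b ^ k)⁻¹ = v * (b ^ k * v⁻¹ * (b ^ k)⁻¹) := by group
      _ = v * (a ^ k * v⁻¹ * (a ^ k)⁻¹) := by rw [this]
      _ = v * a ^ k * v⁻¹ * (a ^ k)⁻¹ := by group
  have hu : v * a ^ k * v⁻¹ * (a ^ k)⁻¹ ∈ V := by
    have h5 := hV.conj_mem v⁻¹ (inv_mem hv) (a ^ k)
    have h6 : v * a ^ k * v⁻¹ * (a ^ k)⁻¹ = v * (a ^ k * v⁻¹ * (a ^ k)⁻¹) := by group
    rw [h6]
    exact mul_mem hv h5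
  show b ^ m * (v * b ^ k * v⁻¹ * (b ^ k)⁻¹) = (v * b ^ k * v⁻¹ * (b ^ k)⁻¹) * b ^ m
  rw [h4]
  set u := v * a ^ k * v⁻¹ * (a ^ k)⁻¹ with hudef
  have h7 := hk m u hu
  have h3' : a ^ m * u * (a ^ m)⁻¹ = u := by
    have : a ^ m * u = u * a ^ m := h3
    rw [this]
    group
  rw [h3'] at h7
  calc b ^ m * u = (b ^ m * u * (b ^ m)⁻¹) * b ^ m := by group
    _ = u * b ^ m := by rw [h7]

theorem quad_map {G : Type*} [Group G] (f : G →* H) (W : Subgroup G) (x : G)
    (hq : ⁅⁅W, Subgroup.zpowers x⁆, Subgroup.zpowers x⁆ = ⊥) :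
    ⁅⁅W.map f, Subgroup.zpowers (f x)⁆, Subgroup.zpowers (f x)⁆ = ⊥ := by
  rw [← MonoidHom.map_zpowers, ← Subgroup.map_commutator, ← Subgroup.map_commutator, hq,
    Subgroup.map_bot]

theorem quad_of_map {G : Type*} [Group G] {f : G →* H} (hf : Function.Injective f)
    (W : Subgroup G) (x : G)
    (hq : ⁅⁅W.map f, Subgroup.zpowers (f x)⁆, Subgroup.zpowers (f x)⁆ = ⊥) :
    ⁅⁅W, Subgroup.zpowers x⁆, Subgroup.zpowers x⁆ = ⊥ := by
  rw [← MonoidHom.map_zpowers, ← Subgroup.map_commutator, ← Subgroup.map_commutator] at hq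
  exact (Subgroup.map_eq_bot_iff_of_injective _ hf).1 hq

theorem map_conj_normal {V : Subgroup H} [hV : V.Normal] (h : H) :
    V.map (MulAut.conj h).toMonoidHom = V := by
  ext v
  constructor
  · rintro ⟨w, hw, rfl⟩
    exact hV.conj_mem w hw h
  · intro hv
    refine ⟨h⁻¹ * v * h, ?_, by simp [MulAut.conj_apply, mul_assoc]⟩
    have := hV.conj_mem v hv h⁻¹
    simpa using this

theorem quad_conj {V : Subgroup H} [hV : V.Normal] (h a : H)
    (hq : ⁅⁅V, Subgroup.zpowers a⁆, Subgroup.zpowers a⁆ = ⊥) :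
    ⁅⁅V, Subgroup.zpowers (h * a * h⁻¹)⁆, Subgroup.zpowers (h * a * h⁻¹)⁆ = ⊥ := by
  have := quad_map (MulAut.conj h).toMonoidHom V a hq
  rw [map_conj_normal] at this
  simpa [MulAut.conj_apply] using this

end Quadratic

section Key

variable {S : Type u} [Group S] [Finite S] {p : ℕ} [Fact p.Prime]

/-- Conjugates of elements acting quadratically on the image of `W(S)` are, modulo the centralizer
of that image, images of elements acting quadratically. -/
theorem exists_quad_of_conj {H : Type u} [Group H] {τ : S →* H} (hτ : IsStableEmbedding p τ)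
    (x : S)
    (hx : ⁅⁅stableNormalClosure p S, Subgroup.zpowers x⁆, Subgroup.zpowers x⁆ = ⊥) (h : H) :
    ∃ y : S, ⁅⁅stableNormalClosure p S, Subgroup.zpowers y⁆, Subgroup.zpowers y⁆ = ⊥ ∧
      ∃ c ∈ Subgroup.centralizer (((stableNormalClosure p S).map τ : Subgroup H) : Set H),
        h * τ x * h⁻¹ = τ y * c := by
  set W := stableNormalClosure p S with hW
  set V := W.map τ with hVdef
  have hVn : V.Normal := stableNormalClosure_map_normal hτ
  obtain ⟨hinj, hfin, ⟨P, hP⟩, -, -, hst⟩ := id hτ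
  have hVle : V ≤ (omegaCenterThompson p S).map τ := Subgroup.map_mono stableNormalClosure_le
  have hstable := hst V hVle
  have hqV := quad_map τ W x hx
  have hqa := quad_conj (V := V) h (τ x) hqV
  have hcore := hstable (h * τ x * h⁻¹) hqa
  have hfinH : Finite H := hfin
  let C : Subgroup H := Subgroup.centralizer (V : Set H)
  have hsurj : Function.Surjective (QuotientGroup.mk' C) := QuotientGroup.mk'_surjective C
  let P' : Sylow p (H ⧸ C) := P.mapSurjective hsurj
  have hmem := Cfsg.Agent.Lib.Basic.PCore.pCore_le_sylow P' hcore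
  obtain ⟨b, hb, hbe⟩ : ((h * τ x * h⁻¹ : H) : H ⧸ C) ∈ (P : Subgroup H).map (QuotientGroup.mk' C) := hmem
  rw [hP] at hb
  obtain ⟨y, rfl⟩ := hb
  have hc : (τ y)⁻¹ * (h * τ x * h⁻¹) ∈ C := by
    have := QuotientGroup.eq.1 hbe
    exact this
  refine ⟨y, ?_, _, hc, by group⟩
  apply quad_of_map hinj
  have h1 : τ y * ((τ y)⁻¹ * (h * τ x * h⁻¹)) = h * τ x * h⁻¹ := by group
  rw [← h1] at hqa
  exact quad_of_mul_centralizer hc hqa

/-- S0623: an element of a finite `p`-group acting quadratically on `W(S)` centralizes it. -/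
theorem stable_quadratic_central (x : S)
    (hq : ⁅⁅stableNormalClosure p S, Subgroup.zpowers x⁆, Subgroup.zpowers x⁆ = ⊥) :
    ⁅stableNormalClosure p S, Subgroup.zpowers x⁆ = ⊥ := by
  set W := stableNormalClosure p S with hW
  let Q : Set S := {y | ⁅⁅W, Subgroup.zpowers y⁆, Subgroup.zpowers y⁆ = ⊥}
  let W' : Subgroup S := W ⊓ Subgroup.centralizer Q
  have hmem : W' ∈ stableFamily S p := by
    refine ⟨le_inf omega_center_le_stableNormalClosure ?_, ?_⟩
    · unfold omegaOne
      rw [Subgroup.closure_le]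
      rintro z ⟨hz, -⟩
      exact Subgroup.center_le_centralizer _ hz
    · intro H _ τ hτ
      have hVn : (W.map τ).Normal := stableNormalClosure_map_normal hτ
      refine ⟨fun n hn h => ?_⟩
      obtain ⟨w, ⟨hwW, hwQ⟩, rfl⟩ := hn
      have h1 := hVn.conj_mem _ (Subgroup.mem_map_of_mem τ hwW) h
      obtain ⟨w', hw', hww'⟩ := h1
      refine ⟨w', ⟨hw', ?_⟩, hww'⟩
      refine Subgroup.mem_centralizer_iff.2 ?_
      intro y hy
      obtain ⟨y', hy', c, hc, hcy⟩ := exists_quad_of_conj hτ y hy h⁻¹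
      have hwy' : y' * w = w * y' := Subgroup.mem_centralizer_iff.1 hwQ y' hy'
      have hcw : τ w * c = c * τ w :=
        Subgroup.mem_centralizer_iff.1 hc _ (Subgroup.mem_map_of_mem τ hwW)
      apply hτ.1
      rw [map_mul, map_mul, hww']
      have h2 : h⁻¹ * τ y * h = τ y' * c := by simpa using hcy
      have h3 : τ y = h * (τ y' * c) * h⁻¹ := by rw [← h2]; group
      have h4 : τ y' * τ w = τ w * τ y' := by rw [← map_mul, hwy', map_mul]
      rw [h3]
      calc h * (τ y' * c) * h⁻¹ * (h * τ w * h⁻¹)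
          = h * (τ y' * (c * τ w)) * h⁻¹ := by group
        _ = h * (τ y' * (τ w * c)) * h⁻¹ := by rw [hcw]
        _ = h * ((τ y' * τ w) * c) * h⁻¹ := by group
        _ = h * ((τ w * τ y') * c) * h⁻¹ := by rw [h4]
        _ = h * τ w * h⁻¹ * (h * (τ y' * c) * h⁻¹) := by group
  have hle : W ≤ W' := stableNormalClosure_le_of_mem hmem
  rw [Subgroup.commutator_eq_bot_iff_le_centralizer]
  intro w hw
  have hwc : w ∈ Subgroup.centralizer Q := (hle hw).2
  have hxw : x * w = w * x := Subgroup.mem_centralizer_iff.1 hwc x hq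
  refine Subgroup.mem_centralizer_iff.2 ?_
  intro g hg
  obtain ⟨k, rfl⟩ := Subgroup.mem_zpowers_iff.1 hg
  have : Commute x w := hxw
  exact (this.zpow_left k)

end Key

section Natural

variable {S S' : Type u} [Group S] [Group S'] {p : ℕ}

theorem ea_map (η : S ≃* S') {A : Subgroup S} (hA : IsElementaryAbelian p A) :
    IsElementaryAbelian p (A.map η.toMonoidHom) := by
  refine ⟨⟨⟨?_⟩⟩, ?_⟩
  · rintro ⟨_, a, ha, rfl⟩ ⟨_, b, hb, rfl⟩
    apply Subtype.ext
    have := congrArg Subtype.val (hA.1.is_comm.comm ⟨a, ha⟩ ⟨b, hb⟩)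
    simp only [Subgroup.coe_mul] at this ⊢
    simp only [MulEquiv.coe_toMonoidHom, ← map_mul, this]
  · rintro _ ⟨a, ha, rfl⟩
    simp only [MulEquiv.coe_toMonoidHom, ← map_pow, hA.2 a ha, map_one]

theorem comap_map_symm (η : S ≃* S') (A : Subgroup S) :
    (A.map η.toMonoidHom).map η.symm.toMonoidHom = A := by
  ext x
  simp [Subgroup.mem_map]

theorem card_map_equiv (η : S ≃* S') (A : Subgroup S) :
    Nat.card (A.map η.toMonoidHom) = Nat.card A :=
  Nat.card_congr (A.equivMapOfInjective _ η.injective).toEquiv.symm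

theorem maxEA_map (η : S ≃* S') {A : Subgroup S} (hA : A ∈ maxElementaryAbelianSubgroups p S) :
    A.map η.toMonoidHom ∈ maxElementaryAbelianSubgroups p S' := by
  refine ⟨ea_map η hA.1, fun B hB => ?_⟩
  have h1 := hA.2 _ (ea_map η.symm hB)
  rw [card_map_equiv] at h1 ⊢
  simpa using h1

theorem thompson_map_le (η : S ≃* S') :
    (thompsonSubgroup p S).map η.toMonoidHom ≤ thompsonSubgroup p S' := by
  rw [Subgroup.map_le_iff_le_comap]
  refine sSup_le fun A hA => ?_
  rw [← Subgroup.map_le_iff_le_comap]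
  exact le_sSup (maxEA_map η hA)

theorem thompson_map (η : S ≃* S') :
    (thompsonSubgroup p S).map η.toMonoidHom = thompsonSubgroup p S' := by
  refine le_antisymm (thompson_map_le η) ?_
  have h := thompson_map_le (p := p) η.symm
  intro x hx
  refine ⟨η.symm x, h (Subgroup.mem_map_of_mem _ hx), by simp⟩

theorem omegaOne_map (η : S ≃* S') (K : Subgroup S) :
    (omegaOne p K).map η.toMonoidHom = omegaOne p (K.map η.toMonoidHom) := by
  unfold omegaOne
  rw [MonoidHom.map_closure]
  congr 1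
  ext x
  constructor
  · rintro ⟨y, ⟨hy, hyp⟩, rfl⟩
    refine ⟨Subgroup.mem_map_of_mem _ hy, ?_⟩
    simp only [MulEquiv.coe_toMonoidHom, ← map_pow, hyp, map_one]
  · rintro ⟨⟨y, hy, rfl⟩, hyp⟩
    refine ⟨y, ⟨hy, ?_⟩, rfl⟩
    have hyp' : η y ^ p = 1 := hyp
    apply η.injective
    rw [map_pow, map_one]
    exact hyp'

theorem center_map (η : S ≃* S') : (Subgroup.center S).map η.toMonoidHom = Subgroup.center S' := by
  ext x
  constructor
  · rintro ⟨y, hy, rfl⟩
    rw [Subgroup.mem_center_iff]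
    intro g
    obtain ⟨g', rfl⟩ := η.surjective g
    have := Subgroup.mem_center_iff.1 hy g'
    simp only [MulEquiv.coe_toMonoidHom, ← map_mul, this]
  · intro hx
    refine ⟨η.symm x, ?_, by simp⟩
    refine Subgroup.mem_center_iff.2 ?_
    intro g
    have := Subgroup.mem_center_iff.1 hx (η g)
    apply η.injective
    simpa using this

theorem inf_centralizer_map (η : S ≃* S') (K : Subgroup S) :
    (K ⊓ Subgroup.centralizer (K : Set S)).map η.toMonoidHom =
      K.map η.toMonoidHom ⊓
        Subgroup.centralizer ((K.map η.toMonoidHom : Subgroup S') : Set S') := by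
  ext x
  constructor
  · rintro ⟨y, ⟨hy1, hy2⟩, rfl⟩
    refine ⟨Subgroup.mem_map_of_mem _ hy1, ?_⟩
    refine Subgroup.mem_centralizer_iff.2 ?_
    rintro _ ⟨g, hg, rfl⟩
    have := Subgroup.mem_centralizer_iff.1 hy2 g hg
    simp only [MulEquiv.coe_toMonoidHom, ← map_mul, this]
  · rintro ⟨⟨y, hy, rfl⟩, hx⟩
    refine ⟨y, ⟨hy, ?_⟩, rfl⟩
    refine Subgroup.mem_centralizer_iff.2 ?_
    intro g hg
    have := Subgroup.mem_centralizer_iff.1 hx _ (Subgroup.mem_map_of_mem _ hg)
    apply η.injective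
    simpa using this

theorem omegaCenterThompson_map (η : S ≃* S') :
    (omegaCenterThompson p S).map η.toMonoidHom = omegaCenterThompson p S' := by
  unfold omegaCenterThompson
  rw [omegaOne_map, inf_centralizer_map, thompson_map]

theorem isStableEmbedding_comp {H : Type u} [Group H] (η : S ≃* S') {τ : S →* H}
    (hτ : IsStableEmbedding p τ) : IsStableEmbedding p (τ.comp η.symm.toMonoidHom) := by
  obtain ⟨h1, h2, ⟨P, hP⟩, h4, h5, h6⟩ := hτ
  have hrange : (τ.comp η.symm.toMonoidHom).range = τ.range := by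
    ext x
    constructor
    · rintro ⟨y, rfl⟩
      exact ⟨η.symm y, rfl⟩
    · rintro ⟨y, rfl⟩
      exact ⟨η y, by simp⟩
  have hJ : (thompsonSubgroup p S').map (τ.comp η.symm.toMonoidHom) = (thompsonSubgroup p S).map τ := by
    rw [← Subgroup.map_map, ← thompson_map (p := p) η, comap_map_symm]
  have hO : (omegaCenterThompson p S').map (τ.comp η.symm.toMonoidHom) =
      (omegaCenterThompson p S).map τ := by
    rw [← Subgroup.map_map, ← omegaCenterThompson_map (p := p) η, comap_map_symm]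
  refine ⟨h1.comp η.symm.injective, h2, ⟨P, by rw [hrange]; exact hP⟩, h4, by rw [hJ]; exact h5, ?_⟩
  intro V _ hV
  rw [hO] at hV
  exact h6 V hV

theorem family_comap [Finite S] (η : S ≃* S') {X : Subgroup S'} (hX : X ∈ stableFamily S' p) :
    X.comap η.toMonoidHom ∈ stableFamily S p := by
  refine ⟨?_, ?_⟩
  · rw [← Subgroup.map_le_iff_le_comap, omegaOne_map, center_map]
    exact hX.1
  · intro H _ τ hτ
    have hst := isStableEmbedding_comp η hτ
    have := hX.2 H _ hst
    have h2 : X.map (τ.comp η.symm.toMonoidHom) = (X.comap η.toMonoidHom).map τ := by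
      rw [← Subgroup.map_map]
      congr 1
      ext x
      constructor
      · rintro ⟨y, hy, rfl⟩
        simpa using hy
      · intro hx
        exact ⟨η x, hx, by simp⟩
    rwa [h2] at this

theorem stableNormalClosure_map_le [Finite S] (η : S ≃* S') :
    (stableNormalClosure p S).map η.toMonoidHom ≤ stableNormalClosure p S' := by
  rw [Subgroup.map_le_iff_le_comap]
  intro w hw
  refine Subgroup.mem_sInf.2 fun X hX => ?_
  exact stableNormalClosure_le_of_mem (family_comap η hX) hw

theorem stableNormalClosure_map [Finite S] (η : S ≃* S') :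
    (stableNormalClosure p S).map η.toMonoidHom = stableNormalClosure p S' := by
  refine le_antisymm (stableNormalClosure_map_le η) ?_
  have : Finite S' := Finite.of_equiv S η.toEquiv
  intro x hx
  exact ⟨η.symm x, stableNormalClosure_map_le η.symm (Subgroup.mem_map_of_mem _ hx), by simp⟩

theorem stableNormalClosure_characteristic [Finite S] :
    (stableNormalClosure p S).Characteristic := by
  rw [Subgroup.characteristic_iff_map_eq]
  intro φ
  exact stableNormalClosure_map φ

theorem stableNormalClosure_ne_bot [Finite S] [hp : Fact p.Prime] (hS : IsPGroup p S)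
    [Nontrivial S] : stableNormalClosure p S ≠ ⊥ := by
  have hc : Nontrivial (Subgroup.center S) := hS.center_nontrivial
  have hcp : IsPGroup p (Subgroup.center S) := hS.to_subgroup _
  obtain ⟨k, hk⟩ := IsPGroup.iff_card.1 hcp
  have hk0 : k ≠ 0 := by
    rintro rfl
    have h1 : Nat.card (Subgroup.center S) = 1 := by simpa using hk
    have h2 := (Finite.one_lt_card_iff_nontrivial (α := Subgroup.center S)).2 hc
    omega
  have hdvd : p ∣ Nat.card (Subgroup.center S) := by
    rw [hk]; exact dvd_pow_self p hk0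
  obtain ⟨z, hz⟩ := exists_prime_orderOf_dvd_card' p hdvd
  intro hbot
  have hzm : (z : S) ∈ omegaOne p (Subgroup.center S) := by
    apply Subgroup.subset_closure
    refine ⟨z.2, ?_⟩
    have := pow_orderOf_eq_one z
    rw [hz] at this
    exact_mod_cast congrArg Subtype.val this
  have h2 := omega_center_le_stableNormalClosure hzm
  rw [hbot, Subgroup.mem_bot] at h2
  have h3 : z = 1 := Subtype.ext h2
  rw [h3, orderOf_one] at hz
  exact hp.out.ne_one hz.symm

end Natural

end Cfsg.Agent.Lib.PGroup.StableClosure
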