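import Mathlib
import Cfsg.Agent.Lib.PGroup.GTOdd

/-!
# Normal `p`-complement theorems from selection functors

The reduction of `GTOdd` for an arbitrary functorial choice `W` of a subgroup of a Sylow subgroup.
-/

set_option autoImplicit false
set_option linter.unusedVariables false
set_option linter.style.haveILetI false
set_option linter.unusedSectionVars false
universe u

namespace Cfsg.Agent.Lib.PGroup.GTFunctor

open Subgroup Cfsg Cfsg.Agent.Lib.Basic.PCore Cfsg.Agent.Lib.PGroup.ZJ Cfsg.Agent.Lib.Transfer.Basic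
open Cfsg.Agent.Lib.Thompson.Transport
open Cfsg.Agent.Lib.Thompson.QuadraticStable
open Cfsg.Agent.Lib.Thompson.GT
open Cfsg.Agent.Lib.PGroup.GTOdd
open Cfsg.Agent.Lib.PGroup.Replacement
open scoped commutatorElement

variable {p : ℕ} [hp : Fact p.Prime]

/-- The reduction, with a trivial `p'`-core in the last step. -/
theorem gt_reduction'
    (𝓗 : ∀ (G : Type u) [Group G] [Finite G], Sylow p G → Prop)
    (hloc : ∀ (G : Type u) [Group G] [Finite G] (P : Sylow p G) (Q : Subgroup G),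
      𝓗 G P → Q ≤ P → Q ≠ ⊥ →
      ∀ S' : Sylow p (normalizer (Q : Set G)),
        (S' : Subgroup (normalizer (Q : Set G))).map (normalizer (Q : Set G)).subtype =
          (P : Subgroup G) ⊓ normalizer (Q : Set G) →
      (∀ W : Subgroup G, IsPGroup p W → W ≠ ⊥ → ∀ T : Subgroup G, IsPGroup p T →
        T ≤ normalizer (W : Set G) →
        Nat.card ↥((P : Subgroup G) ⊓ normalizer (Q : Set G)) < Nat.card T →
        HasNormalPComplement p (normalizer (W : Set G))) →
      𝓗 (normalizer (Q : Set G)) S')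
    (hquo : ∀ (G : Type u) [Group G] [Finite G] (P : Sylow p G) (Q : Subgroup G) [Q.Normal],
      𝓗 G P → Q ≤ P → Q ≠ ⊥ →
      (∀ X : Subgroup G, Q ≤ X → X ≤ P → (P : Subgroup G) ≤ normalizer (X : Set G) →
        Nat.card Q < Nat.card X → HasNormalPComplement p (normalizer (X : Set G))) →
      𝓗 (G ⧸ Q) (P.mapSurjective (QuotientGroup.mk'_surjective Q)) ∨ HasNormalPComplement p (G ⧸ Q))
    (hcore : ∀ (G : Type u) [Group G] [Finite G] (P : Sylow p G), 𝓗 G P →
      𝓗 (G ⧸ pPrimeCore p G) (P.mapSurjective (QuotientGroup.mk'_surjective (pPrimeCore p G))))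
    (hfin : ∀ (G : Type u) [Group G] [Finite G] (P : Sylow p G), 𝓗 G P →
      (∀ (H : Type u) [Group H] [Finite H], Nat.card H < Nat.card G → ∀ P' : Sylow p H, 𝓗 H P' →
        HasNormalPComplement p H) →
      pPrimeCore p G = ⊥ → HasNormalPComplement p (G ⧸ pCore p G) → HasNormalPComplement p G) :
    ∀ (n : ℕ) (G : Type u) [Group G] [Finite G], Nat.card G = n →
      ∀ P : Sylow p G, 𝓗 G P → HasNormalPComplement p G := by
  refine gt_reduction 𝓗 hloc hquo ?_
  intro G _ _ P h ih hG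
  by_cases hO : pPrimeCore p G = ⊥
  · exact hfin G P h ih hO hG
  · haveI : (pPrimeCore p G).Normal := pPrimeCore_normal p G
    refine hnpc_of_quotient_coprime _ (Cfsg.Agent.Lib.Solvable.PSeries.pPrimeCore_coprime p) ?_
    refine ih _ ?_ _ (hcore G P h)
    rw [Subgroup.card_eq_card_quotient_mul_card_subgroup (pPrimeCore p G)]
    have h1 : 1 < Nat.card (pPrimeCore p G) := by
      haveI : Nontrivial (pPrimeCore p G) := (Subgroup.nontrivial_iff_ne_bot _).mpr hO
      exact Finite.one_lt_card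
    have h3 : 0 < Nat.card (G ⧸ pPrimeCore p G) := Nat.card_pos
    nlinarith

/-- A normal subgroup with a normal complement in a group of trivial `p'`-core is a `p`-group. -/
theorem isPGroup_of_normal_hnc {G : Type*} [Group G] [Finite G] (H : Subgroup G) [hHn : H.Normal]
    (hH : HasNormalPComplement p H) (hO : pPrimeCore p G = ⊥) : IsPGroup p H := by
  obtain ⟨M, hMn, hM1, hM2⟩ := hasNormalPComplement_iff.mp hH
  have hmem : ∀ x : H, (orderOf x).Coprime p → x ∈ M := by
    intro x hx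
    have h0 : orderOf ((x : H ⧸ M)) ∣ orderOf x := orderOf_map_dvd (QuotientGroup.mk' M) x
    obtain ⟨k, hk⟩ := (IsPGroup.iff_orderOf.mp hM2) (x : H ⧸ M)
    rw [hk] at h0
    have h1 : (p ^ k).Coprime p := Nat.Coprime.coprime_dvd_left h0 hx
    have h2 : k = 0 := by
      by_contra hk0
      have h3 : p ∣ (p ^ k).gcd p := Nat.dvd_gcd (dvd_pow_self p hk0) dvd_rfl
      rw [h1] at h3
      exact hp.out.one_lt.ne' (Nat.dvd_one.mp h3)
    rw [h2, pow_zero, orderOf_eq_one_iff] at hk
    exact (QuotientGroup.eq_one_iff x).mp hk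
  have hM₁n : (M.map H.subtype).Normal := by
    refine ⟨?_⟩
    rintro _ ⟨x, hx, rfl⟩ g
    have hxg : g * (x : G) * g⁻¹ ∈ H := hHn.conj_mem _ x.2 g
    refine ⟨⟨_, hxg⟩, hmem _ ?_, rfl⟩
    have h1 : orderOf (⟨g * (x : G) * g⁻¹, hxg⟩ : H) = orderOf x := by
      rw [← Subgroup.orderOf_coe, ← Subgroup.orderOf_coe x]
      exact orderOf_injective (MulAut.conj g).toMonoidHom (MulAut.conj g).injective (x : G)
    rw [h1]
    exact Nat.Coprime.coprime_dvd_left (Subgroup.orderOf_dvd_natCard M hx) hM1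
  have hM₁c : (Nat.card (M.map H.subtype)).Coprime p := by
    rw [Nat.card_congr (Subgroup.equivMapOfInjective M H.subtype H.subtype_injective).toEquiv.symm]
    exact hM1
  have hbot : M.map H.subtype ≤ ⊥ := by
    rw [← hO]
    exact le_pPrimeCore hM₁n hM₁c
  have hMbot : M = ⊥ := by
    rw [eq_bot_iff]
    intro x hx
    have : (x : G) ∈ (⊥ : Subgroup G) := hbot ⟨x, hx, rfl⟩
    rw [Subgroup.mem_bot] at this ⊢
    exact Subtype.ext this
  intro x
  obtain ⟨k, hk⟩ := hM2 (x : H ⧸ M)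
  refine ⟨k, ?_⟩
  rw [← QuotientGroup.mk_pow, QuotientGroup.eq_one_iff, hMbot, Subgroup.mem_bot] at hk
  exact hk

section sel

/-- A choice of a subgroup of a `p`-subgroup, functorial for maps injective on it. -/
structure SelFun (p : ℕ) (W : ∀ (G : Type u) [Group G], Subgroup G → Subgroup G) : Prop where
  le : ∀ (G : Type u) [Group G] (S : Subgroup G), W G S ≤ S
  ne_bot : ∀ (G : Type u) [Group G] [Finite G] (S : Subgroup G), IsPGroup p S → S ≠ ⊥ → W G S ≠ ⊥
  map : ∀ (G H : Type u) [Group G] [Group H] [Finite G] [Finite H] (f : G →* H) (S : Subgroup G),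
    (∀ x ∈ S, f x = 1 → x = 1) → (W G S).map f = W H (S.map f)

variable {W : ∀ (G : Type u) [Group G], Subgroup G → Subgroup G}

/-- Elements normalizing `S` normalize `W S`. -/
theorem SelFun.conj_mem (hW : SelFun p W) {G : Type u} [Group G] [Finite G] {S : Subgroup G} {g : G}
    (hg : ∀ x ∈ S, g * x * g⁻¹ ∈ S) {y : G} (hy : y ∈ W G S) : g * y * g⁻¹ ∈ W G S := by
  have h1 := hW.map G G (MulAut.conj g).toMonoidHom S (by
    intro x _ hx
    exact (MulAut.conj g).injective (by simpa using hx))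
  have h2 : S.map (MulAut.conj g).toMonoidHom = S := map_conj_eq_of_conj_mem hg
  rw [h2] at h1
  rw [← h1]
  exact ⟨y, hy, rfl⟩

/-- In a local subgroup `H`: either `P ≤ H`, or `N(W(P ∩ H))` is good. -/
theorem SelFun.good_or_eq (hW : SelFun p W) {G : Type u} [Group G] [Finite G] (P : Sylow p G) (H : Subgroup G)
    (hzH : ∀ z ∈ (P : Subgroup G), (∀ g ∈ (P : Subgroup G), g * z = z * g) → z ∈ H)
    (hgood : ∀ W : Subgroup G, IsPGroup p W → W ≠ ⊥ → ∀ T : Subgroup G, IsPGroup p T →
        T ≤ normalizer (W : Set G) →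
        Nat.card ↥((P : Subgroup G) ⊓ H) < Nat.card T →
        HasNormalPComplement p (normalizer (W : Set G))) :
    (P : Subgroup G) ⊓ H = P ∨ HasNormalPComplement p (normalizer (W G ((P : Subgroup G) ⊓ H) : Set G)) := by
  set S : Subgroup G := (P : Subgroup G) ⊓ H with hS
  by_cases hSeq : S = P
  · exact Or.inl hSeq
  right
  have hlt : S < P := lt_of_le_of_ne inf_le_left hSeq
  have hSp : IsPGroup p S := P.isPGroup'.to_le inf_le_left
  have hSne : S ≠ ⊥ := by
    have hPne : (P : Subgroup G) ≠ ⊥ := by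
      intro h
      rw [h] at hlt
      exact not_lt_bot hlt
    obtain ⟨z, hzP, hz1, hzc⟩ := exists_central_mem P.isPGroup' le_rfl
      (fun g hg x hx => mul_mem (mul_mem hg hx) (inv_mem hg)) hPne
    intro h
    have : z ∈ S := ⟨hzP, hzH z hzP hzc⟩
    rw [h, Subgroup.mem_bot] at this
    exact hz1 this
  obtain ⟨x, hxP, hxS, hxN⟩ := Cfsg.Agent.Lib.PGroup.Basic.exists_mem_normalizer_of_lt P.isPGroup' hlt
  set S₁ : Subgroup G := (P : Subgroup G) ⊓ normalizer (S : Set G) with hS₁
  have hSS₁ : S < S₁ := by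
    refine lt_of_le_of_ne (le_inf inf_le_left Subgroup.le_normalizer) ?_
    intro h
    apply hxS
    rw [h]
    exact ⟨hxP, hxN⟩
  have hS₁W : S₁ ≤ normalizer (W G S : Set G) := by
    intro g hg0
    have hg : g ∈ normalizer (S : Set G) := hg0.2
    apply mem_normalizer_of_conj_mem
    intro y hy
    exact hW.conj_mem (fun x hx => (Subgroup.mem_normalizer_iff.mp hg x).mp hx) hy
  have hS₁p : IsPGroup p S₁ := P.isPGroup'.to_le inf_le_left
  exact hgood _ (hSp.to_le (hW.le G S)) (hW.ne_bot G S hSp hSne) S₁ hS₁p hS₁W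
    (Cfsg.Agent.Lib.Thompson.QuadraticStable.card_lt_of_lt hSS₁)

/-- The normalizer in a subgroup. -/
theorem SelFun.hnc_normalizer_sub (hW : SelFun p W) {G : Type u} [Group G] [Finite G] (P : Sylow p G) (H : Subgroup G)
    (hN : HasNormalPComplement p (normalizer (W G P : Set G)))
    (hzH : ∀ z ∈ (P : Subgroup G), (∀ g ∈ (P : Subgroup G), g * z = z * g) → z ∈ H)
    (S' : Sylow p H)
    (hS' : (S' : Subgroup H).map H.subtype = (P : Subgroup G) ⊓ H)
    (hgood : ∀ W : Subgroup G, IsPGroup p W → W ≠ ⊥ → ∀ T : Subgroup G, IsPGroup p T →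
        T ≤ normalizer (W : Set G) →
        Nat.card ↥((P : Subgroup G) ⊓ H) < Nat.card T →
        HasNormalPComplement p (normalizer (W : Set G))) :
    HasNormalPComplement p (normalizer (W H S' : Set H)) := by
  have hmap : (W H S').map H.subtype = W G ((P : Subgroup G) ⊓ H) := by
    rw [hW.map H G H.subtype _ (fun x _ hx => Subtype.ext hx), hS']
  have h1 : HasNormalPComplement p (normalizer (W G ((P : Subgroup G) ⊓ H) : Set G)) := by
    rcases hW.good_or_eq P H hzH hgood with h | h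
    · rw [h]; exact hN
    · exact h
  let φ : normalizer (W H S' : Set H) →* normalizer (W G ((P : Subgroup G) ⊓ H) : Set G) :=
    { toFun := fun x => ⟨((x : H) : G), by
        rw [← hmap]
        exact Subgroup.le_normalizer_map H.subtype ⟨x, x.2, rfl⟩⟩
      map_one' := rfl
      map_mul' := fun _ _ => rfl }
  refine HasNormalPComplement_of_injective φ ?_ h1
  intro x y hxy
  have h2 := congrArg (fun z : normalizer (W G ((P : Subgroup G) ⊓ H) : Set G) => (z : G)) hxy
  exact Subtype.ext (Subtype.ext h2)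

/-- The centralizer in a subgroup. -/
theorem SelFun.hnc_centralizer_sub (hW : SelFun p W) {G : Type u} [Group G] [Finite G] (P : Sylow p G) (H : Subgroup G)
    (hN : HasNormalPComplement p (centralizer (W G P : Set G)))
    (hzH : ∀ z ∈ (P : Subgroup G), (∀ g ∈ (P : Subgroup G), g * z = z * g) → z ∈ H)
    (S' : Sylow p H)
    (hS' : (S' : Subgroup H).map H.subtype = (P : Subgroup G) ⊓ H)
    (hgood : ∀ W : Subgroup G, IsPGroup p W → W ≠ ⊥ → ∀ T : Subgroup G, IsPGroup p T →
        T ≤ normalizer (W : Set G) →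
        Nat.card ↥((P : Subgroup G) ⊓ H) < Nat.card T →
        HasNormalPComplement p (normalizer (W : Set G))) :
    HasNormalPComplement p (centralizer (W H S' : Set H)) := by
  have hmap : (W H S').map H.subtype = W G ((P : Subgroup G) ⊓ H) := by
    rw [hW.map H G H.subtype _ (fun x _ hx => Subtype.ext hx), hS']
  have hφ : ∀ x : centralizer (W H S' : Set H), ((x : H) : G) ∈ centralizer (W G ((P : Subgroup G) ⊓ H) : Set G) := by
    intro x
    rw [← hmap, Subgroup.mem_centralizer_iff]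
    rintro _ ⟨y, hy, rfl⟩
    have := Subgroup.mem_centralizer_iff.mp x.2 y hy
    exact congrArg Subtype.val this
  have h1 : HasNormalPComplement p (centralizer (W G ((P : Subgroup G) ⊓ H) : Set G)) := by
    rcases hW.good_or_eq P H hzH hgood with h | h
    · rw [h]; exact hN
    · let ψ : centralizer (W G ((P : Subgroup G) ⊓ H) : Set G) →* normalizer (W G ((P : Subgroup G) ⊓ H) : Set G) :=
        { toFun := fun x => ⟨x, Subgroup.centralizer_le_normalizer _ x.2⟩
          map_one' := rfl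
          map_mul' := fun _ _ => rfl }
      refine HasNormalPComplement_of_injective ψ ?_ h
      intro x y hxy
      exact Subtype.ext (congrArg (fun z : normalizer (W G ((P : Subgroup G) ⊓ H) : Set G) => (z : G)) hxy)
  let φ : centralizer (W H S' : Set H) →* centralizer (W G ((P : Subgroup G) ⊓ H) : Set G) :=
    { toFun := fun x => ⟨((x : H) : G), hφ x⟩
      map_one' := rfl
      map_mul' := fun _ _ => rfl }
  refine HasNormalPComplement_of_injective φ ?_ h1
  intro x y hxy
  have h2 := congrArg (fun z : centralizer (W G ((P : Subgroup G) ⊓ H) : Set G) => (z : G)) hxy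
  exact Subtype.ext (Subtype.ext h2)

/-- Central elements of `P` normalize all subgroups of `P`. -/
theorem central_mem_normalizer {G : Type*} [Group G] {P Q : Subgroup G} (hQP : Q ≤ P) {z : G}
    (hzc : ∀ g ∈ P, g * z = z * g) : z ∈ normalizer (Q : Set G) := by
  rw [Subgroup.mem_normalizer_iff]
  intro y
  constructor
  · intro hy
    have : z * y * z⁻¹ = y := by rw [← hzc y (hQP hy)]; group
    rwa [this]
  · intro hy
    have h2 := hzc _ (hQP hy)
    have h3 : z * y * z⁻¹ = y := by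
      have h4 : z * (z * y * z⁻¹) = z * y := by
        rw [← h2]; group
      exact mul_left_cancel h4
    rwa [h3] at hy

/-- The quotient by a normal subgroup inside `P`. -/
theorem SelFun.hnc_normalizer_quo (hW : SelFun p W) {G : Type u} [Group G] [Finite G] (P : Sylow p G) (Q : Subgroup G)
    [hQn : Q.Normal] (hQP : Q ≤ P)
    (hgood2 : ∀ X : Subgroup G, Q ≤ X → X ≤ P → (P : Subgroup G) ≤ normalizer (X : Set G) →
        Nat.card Q < Nat.card X → HasNormalPComplement p (normalizer (X : Set G))) :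
    HasNormalPComplement p (normalizer (W (G ⧸ Q) ((P.mapSurjective (QuotientGroup.mk'_surjective Q) : Sylow p (G ⧸ Q)) : Subgroup (G ⧸ Q)) : Set (G ⧸ Q))) ∨
      HasNormalPComplement p (G ⧸ Q) := by
  classical
  let f : G →* G ⧸ Q := QuotientGroup.mk' Q
  have hf : Function.Surjective f := QuotientGroup.mk'_surjective Q
  set Pq : Sylow p (G ⧸ Q) := P.mapSurjective hf with hPq
  have hPqc : (Pq : Subgroup (G ⧸ Q)) = (P : Subgroup G).map f := rfl
  have hPmem : ∀ x : G, f x ∈ (P : Subgroup G).map f → x ∈ (P : Subgroup G) := by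
    rintro x ⟨y, hy, hyx⟩
    have h2 : y⁻¹ * x ∈ Q := by
      have : (y : G ⧸ Q) = x := hyx
      exact QuotientGroup.eq.mp this
    have h3 : x = y * (y⁻¹ * x) := by group
    rw [h3]
    exact (P : Subgroup G).mul_mem hy (hQP h2)
  by_cases hPbot : (Pq : Subgroup (G ⧸ Q)) = ⊥
  · right
    have hPQ : (P : Subgroup G) ≤ Q := by
      intro x hx
      have : f x ∈ (Pq : Subgroup (G ⧸ Q)) := ⟨x, hx, rfl⟩
      rw [hPbot, Subgroup.mem_bot] at this
      exact (QuotientGroup.eq_one_iff x).mp this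
    have heq : Q = P := le_antisymm hQP hPQ
    refine hasNormalPComplement_iff.mpr ⟨⊤, inferInstance, ?_, ?_⟩
    · rw [Subgroup.card_top]
      have h1 : Nat.card (G ⧸ Q) = (P : Subgroup G).index := by rw [heq]; rfl
      rw [h1]
      exact (Nat.Prime.coprime_iff_not_dvd hp.out).mpr P.not_dvd_index |>.symm
    · haveI : Subsingleton ((G ⧸ Q) ⧸ (⊤ : Subgroup (G ⧸ Q))) := QuotientGroup.subsingleton_quotient_top
      exact IsPGroup.of_card (n := 0) (by rw [Nat.card_of_subsingleton (1 : (G ⧸ Q) ⧸ (⊤ : Subgroup (G ⧸ Q)))]; simp)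
  left
  set Wq := W (G ⧸ Q) (Pq : Subgroup (G ⧸ Q)) with hWq
  have hWqne : Wq ≠ ⊥ := hW.ne_bot _ _ Pq.isPGroup' hPbot
  set W₁ : Subgroup G := Wq.comap f with hW₁
  have hW₁map : W₁.map f = Wq := Subgroup.map_comap_eq_self_of_surjective hf _
  have hQW₁ : Q ≤ W₁ := by
    intro x hx
    rw [hW₁, Subgroup.mem_comap]
    have : f x = 1 := (QuotientGroup.eq_one_iff x).mpr hx
    rw [this]
    exact Subgroup.one_mem _
  have hW₁P : W₁ ≤ P := by
    intro x hx
    exact hPmem x (hW.le _ _ hx)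
  have hPN : (P : Subgroup G) ≤ normalizer (W₁ : Set G) := by
    intro g hg
    apply mem_normalizer_of_conj_mem
    intro y hy
    rw [hW₁, Subgroup.mem_comap, map_mul, map_mul, map_inv]
    refine hW.conj_mem ?_ hy
    intro x hx
    have hfg : f g ∈ (Pq : Subgroup (G ⧸ Q)) := ⟨g, hg, rfl⟩
    exact mul_mem (mul_mem hfg hx) (inv_mem hfg)
  have hlt : Q < W₁ := by
    refine lt_of_le_of_ne hQW₁ ?_
    intro h
    apply hWqne
    rw [← hW₁map, ← h, Subgroup.map_eq_bot_iff]
    intro x hx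
    exact (QuotientGroup.eq_one_iff x).mpr hx
  have hgood := hgood2 W₁ hQW₁ hW₁P hPN (Cfsg.Agent.Lib.Thompson.QuadraticStable.card_lt_of_lt hlt)
  let φ : normalizer (W₁ : Set G) →* normalizer (Wq : Set (G ⧸ Q)) :=
    { toFun := fun x => ⟨f x, by
        rw [← hW₁map]
        exact Subgroup.le_normalizer_map f ⟨x, x.2, rfl⟩⟩
      map_one' := by ext; simp
      map_mul' := by intro x y; ext; simp }
  refine HasNormalPComplement_of_surjective φ ?_ hgood
  rintro ⟨y, hy⟩
  obtain ⟨g, rfl⟩ := hf y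
  refine ⟨⟨g, ?_⟩, rfl⟩
  rw [Subgroup.mem_normalizer_iff] at hy ⊢
  intro h'
  have := hy (f h')
  constructor
  · intro hh
    have h5 : f h' ∈ Wq := hh
    have h6 := this.mp h5
    show f (g * h' * g⁻¹) ∈ Wq
    simpa [map_mul] using h6
  · intro hh
    have h5 : f (g * h' * g⁻¹) ∈ Wq := hh
    apply this.mpr
    simpa [map_mul] using h5

/-- A normal complement of a normalizer passes to the centralizer. -/
theorem hnc_centralizer_of_normalizer {G : Type*} [Group G] [Finite G] (Z : Subgroup G)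
    (h : HasNormalPComplement p (normalizer (Z : Set G))) :
    HasNormalPComplement p (centralizer (Z : Set G)) := by
  let ψ : centralizer (Z : Set G) →* normalizer (Z : Set G) :=
    { toFun := fun x => ⟨x, Subgroup.centralizer_le_normalizer _ x.2⟩
      map_one' := rfl
      map_mul' := fun _ _ => rfl }
  refine HasNormalPComplement_of_injective ψ ?_ h
  intro x y hxy
  exact Subtype.ext (congrArg (fun z : normalizer (Z : Set G) => (z : G)) hxy)

end sel

/-- The Frattini argument for the image of a `p`-subgroup modulo a normal `p'`-subgroup. -/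
theorem exists_lift_normalizer {G : Type*} [Group G] [Finite G] (O : Subgroup G) [hOn : O.Normal]
    (hO : (Nat.card O).Coprime p) (Z : Subgroup G) (hZ : IsPGroup p Z) (y : G ⧸ O)
    (hy : y ∈ normalizer ((Z.map (QuotientGroup.mk' O) : Subgroup (G ⧸ O)) : Set (G ⧸ O))) :
    ∃ n ∈ normalizer (Z : Set G), QuotientGroup.mk' O n = y := by
  classical
  let f : G →* G ⧸ O := QuotientGroup.mk' O
  have hf : Function.Surjective f := QuotientGroup.mk'_surjective O
  have hZO : ∀ x ∈ Z, f x = 1 → x = 1 := by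
    intro x hxZ hfx
    have hxO : x ∈ O := (QuotientGroup.eq_one_iff x).mp hfx
    obtain ⟨k, hk⟩ := hZ ⟨x, hxZ⟩
    have h1 : x ^ (p ^ k) = 1 := by simpa using congrArg Subtype.val hk
    have h2 : orderOf x ∣ p ^ k := orderOf_dvd_of_pow_eq_one h1
    have h3 : orderOf x ∣ Nat.card O := Subgroup.orderOf_dvd_natCard O hxO
    have h4 : (orderOf x).Coprime (p ^ k) :=
      Nat.Coprime.pow_right k (Nat.Coprime.coprime_dvd_left h3 hO)
    have h5 := Nat.eq_one_of_dvd_coprimes h4 dvd_rfl h2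
    exact orderOf_eq_one_iff.mp h5
  obtain ⟨g, rfl⟩ := hf y
  set L : Subgroup G := (Z.map f).comap f with hL
  have hZL : Z ≤ L := Subgroup.le_comap_map f Z
  have hLcard : Nat.card L = Nat.card Z * Nat.card O := by
    rw [hL]
    have := card_comap_mk O (Z.map f)
    rw [Cfsg.Agent.Lib.PGroup.ZJCore.card_map_of_injOn f hZO le_rfl] at this
    exact this
  have hZidx : ¬ p ∣ (Z.subgroupOf L).index := by
    intro hd
    have h1 := (Z.subgroupOf L).card_mul_index
    rw [Nat.card_congr (Subgroup.subgroupOfEquivOfLe hZL).toEquiv, hLcard] at h1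
    have hpos : 0 < Nat.card Z := Nat.card_pos
    have h2 : (Z.subgroupOf L).index = Nat.card O := Nat.eq_of_mul_eq_mul_left hpos h1
    rw [h2] at hd
    exact (Nat.Prime.coprime_iff_not_dvd hp.out).mp hO.symm hd
  have hZ0p : IsPGroup p (Z.subgroupOf L) := hZ.comap_subtype
  let Z₀ : Sylow p L := hZ0p.toSylow hZidx
  have hgL : ∀ x ∈ Z, g * x * g⁻¹ ∈ L := by
    intro x hx
    rw [hL, Subgroup.mem_comap, map_mul, map_mul, map_inv]
    exact (Subgroup.mem_normalizer_iff.mp hy _).mp ⟨x, hx, rfl⟩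
  -- the conjugate
  have hZ₁p : IsPGroup p ((Z.map (MulAut.conj g).toMonoidHom).subgroupOf L) :=
    (hZ.map _).comap_subtype
  obtain ⟨Q₁, hQ₁⟩ := hZ₁p.exists_le_sylow
  obtain ⟨l, hl⟩ := MulAction.exists_smul_eq L Q₁ Z₀
  have hconj : ∀ x ∈ Z, (l : G) * g * x * ((l : G) * g)⁻¹ ∈ Z := by
    intro x hx
    have h1 : (⟨g * x * g⁻¹, hgL x hx⟩ : L) ∈ (Q₁ : Subgroup L) := hQ₁ ⟨x, hx, rfl⟩
    have h2 : l * (⟨g * x * g⁻¹, hgL x hx⟩ : L) * l⁻¹ ∈ ((l • Q₁ : Sylow p L) : Subgroup L) := by
      rw [Sylow.coe_subgroup_smul]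
      exact ⟨_, h1, rfl⟩
    rw [hl] at h2
    have h3 : ((l * (⟨g * x * g⁻¹, hgL x hx⟩ : L) * l⁻¹ : L) : G) ∈ Z := h2
    have h4 : (l : G) * g * x * ((l : G) * g)⁻¹ = ((l * (⟨g * x * g⁻¹, hgL x hx⟩ : L) * l⁻¹ : L) : G) := by
      simp only [Subgroup.coe_mul, Subgroup.coe_inv]
      group
    rw [h4]
    exact h3
  have hlg : (l : G) * g ∈ normalizer (Z : Set G) := mem_normalizer_of_conj_mem hconj
  obtain ⟨w, hw, hwl⟩ := l.2
  refine ⟨w⁻¹ * ((l : G) * g), mul_mem (inv_mem (Subgroup.le_normalizer hw)) hlg, ?_⟩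
  show f (w⁻¹ * ((l : G) * g)) = f g
  rw [map_mul, map_mul, map_inv, hwl]
  group

/-- The Frattini argument for centralizers. -/
theorem exists_lift_centralizer {G : Type*} [Group G] [Finite G] (O : Subgroup G) [hOn : O.Normal]
    (hO : (Nat.card O).Coprime p) (Z : Subgroup G) (hZ : IsPGroup p Z) (y : G ⧸ O)
    (hy : y ∈ centralizer ((Z.map (QuotientGroup.mk' O) : Subgroup (G ⧸ O)) : Set (G ⧸ O))) :
    ∃ n ∈ centralizer (Z : Set G), QuotientGroup.mk' O n = y := by
  classical
  obtain ⟨n, hn, rfl⟩ := exists_lift_normalizer O hO Z hZ y (Subgroup.centralizer_le_normalizer _ hy)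
  refine ⟨n, ?_, rfl⟩
  rw [Subgroup.mem_centralizer_iff]
  intro z hz
  have h1 := Subgroup.mem_centralizer_iff.mp hy (QuotientGroup.mk' O z) ⟨z, hz, rfl⟩
  rw [← map_mul, ← map_mul] at h1
  -- both `z * n` and `n * z` differ by an element of `Z ∩ O`
  have h2 : n * z * n⁻¹ ∈ Z := (Subgroup.mem_normalizer_iff.mp hn z).mp hz
  have h3 : (n * z * n⁻¹) * z⁻¹ ∈ Z := mul_mem h2 (inv_mem hz)
  have h4 : QuotientGroup.mk' O ((n * z * n⁻¹) * z⁻¹) = 1 := by
    have h5 : (n * z * n⁻¹) * z⁻¹ = (n * z) * (z * n)⁻¹ * (z * z⁻¹ * 1) * (1 : G) := by group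
    rw [h5]
    simp only [map_mul, map_inv, mul_inv_cancel, map_one, mul_one]
    rw [← map_mul, ← map_mul, ← h1]
    simp
  have hxO : (n * z * n⁻¹) * z⁻¹ ∈ O := (QuotientGroup.eq_one_iff _).mp h4
  obtain ⟨k, hk⟩ := hZ ⟨_, h3⟩
  have h6 : ((n * z * n⁻¹) * z⁻¹) ^ (p ^ k) = 1 := by simpa using congrArg Subtype.val hk
  have h7 : orderOf ((n * z * n⁻¹) * z⁻¹) ∣ p ^ k := orderOf_dvd_of_pow_eq_one h6
  have h8 : orderOf ((n * z * n⁻¹) * z⁻¹) ∣ Nat.card O := Subgroup.orderOf_dvd_natCard O hxO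
  have h9 : (orderOf ((n * z * n⁻¹) * z⁻¹)).Coprime (p ^ k) :=
    Nat.Coprime.pow_right k (Nat.Coprime.coprime_dvd_left h8 hO)
  have h10 := Nat.eq_one_of_dvd_coprimes h9 dvd_rfl h7
  have h11 := orderOf_eq_one_iff.mp h10
  have h12 : n * z * n⁻¹ = z := mul_inv_eq_one.mp h11
  calc z * n = (n * z * n⁻¹) * n := by rw [h12]
    _ = n * z := by group

/-! ### The family argument -/

section family

variable {G : Type*} [Group G] [Finite G]

/-- Stability in the form used by the `ZJ`-theorem. -/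
def Stab (p : ℕ) [Fact p.Prime] (G : Type*) [Group G] [Finite G] (P : Sylow p G) : Prop :=
  ∀ (R : Subgroup G) [R.Normal], IsPGroup p R → ∀ a ∈ (P : Subgroup G),
    ⁅⁅R, zpowers a⁆, zpowers a⁆ = ⊥ → a ∈ TT p R

/-- In the stable situation, conjugates of an element of a normal subgroup normalizing a member `A`
of the family and centralizing `J` commute with `A`. -/
theorem conj_comm_of_AA {k : ℕ} (P : Sylow p G) (hst : Stab p G P) (D : Subgroup G) [hDn : D.Normal]
    (hDP : D ≤ P) {A : Subgroup G} (hA : A ∈ AA k (P : Subgroup G)) (hDN : D ≤ normalizer (A : Set G))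
    {x : G} (hxD : x ∈ D) (hxJ : x ∈ centralizer (JJ k (P : Subgroup G) : Set G)) (g u : G) (hu : u ∈ A) :
    (g * x * g⁻¹) * u = u * (g * x * g⁻¹) := by
  have hSp : IsPGroup p (P : Subgroup G) := P.isPGroup'
  have hAT : A ≤ TT p D := by
    intro a ha
    refine hst D (hSp.to_le hDP) a (hA.1 ha) (quad_of_commutator_le (K := A) ?_ ?_)
    · intro d hd
      rw [commutatorElement_def]
      exact mul_mem ((mem_normalizer_iff.mp (hDN hd) a).mp ha) (inv_mem ha)
    · intro u hu
      exact hA.2.1.1 a ha u hu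
  set R := (P : Subgroup G) ⊓ TT p D with hR
  have hAR : A ≤ R := le_inf hA.1 hAT
  have hARd : A ∈ AA k R := ⟨hAR, hA.2.1, fun W hW hW2 => hA.2.2 W (hW.trans inf_le_left) hW2⟩
  have hRD : ∀ U ∈ AA k R, U ∈ AA k (P : Subgroup G) := fun U hU' =>
    ⟨hU'.1.trans inf_le_left, hU'.2.1, fun W hW hW2 =>
      (hA.2.2 W hW hW2).trans (hU'.2.2 A hAR hA.2.1)⟩
  have hJ : JJ k R ≤ JJ k (P : Subgroup G) := sSup_le fun U hU' => AA_le_JJ (hRD U hU')
  have hnorm : ∀ n ∈ normalizer (R : Set G), ∀ x ∈ R, n * x * n⁻¹ ∈ R := by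
    intro n hn x hx
    exact (mem_normalizer_iff.mp hn x).mp hx
  obtain ⟨n, hn, c, hc', rfl⟩ := exists_factor P D g
  have hcz : c * x = x * c := (Subgroup.mem_centralizer_iff.mp hc' x hxD).symm
  have he : n * c * x * (n * c)⁻¹ = n * x * n⁻¹ := by
    have : n * c * x * (n * c)⁻¹ = n * (c * x * c⁻¹) * n⁻¹ := by group
    rw [this, hcz]
    group
  rw [he]
  have hu' : n⁻¹ * u * n ∈ JJ k R := by
    have := conj_mem_JJ (g := n⁻¹) (R := R) (x := u) (k := k)
      (hnorm n⁻¹ (inv_mem hn)) (AA_le_JJ hARd hu)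
    simpa using this
  have h2 := Subgroup.mem_centralizer_iff.mp hxJ _ (hJ hu')
  have h3 : n * x * n⁻¹ * u = n * (x * (n⁻¹ * u * n)) * n⁻¹ := by group
  have h4 : u * (n * x * n⁻¹) = n * ((n⁻¹ * u * n) * x) * n⁻¹ := by group
  rw [h3, h4, h2]

/-- The subgroup generated by the `g x g⁻¹ x⁻¹`. -/
def BB (x : G) : Subgroup G := closure (Set.range fun g : G => g * x * g⁻¹ * x⁻¹)

theorem y_mem_BB (x g : G) : g * x * g⁻¹ * x⁻¹ ∈ BB x := subset_closure ⟨g, rfl⟩

instance BB_normal (x : G) : (BB x).Normal := by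
  refine ⟨fun n hn g => ?_⟩
  have h1 : BB x ≤ (BB x).comap (MulAut.conj g).toMonoidHom := by
    rw [BB, Subgroup.closure_le]
    rintro _ ⟨h, rfl⟩
    show g * (h * x * h⁻¹ * x⁻¹) * g⁻¹ ∈ BB x
    have h2 : g * (h * x * h⁻¹ * x⁻¹) * g⁻¹ =
        ((g * h) * x * (g * h)⁻¹ * x⁻¹) * (g * x * g⁻¹ * x⁻¹)⁻¹ := by group
    rw [h2]
    exact mul_mem (y_mem_BB _ _) (inv_mem (y_mem_BB _ _))
  exact h1 hn

theorem BB_le (x : G) {D : Subgroup G} [hDn : D.Normal] (hx : x ∈ D) : BB x ≤ D := by
  rw [BB, Subgroup.closure_le]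
  rintro _ ⟨h, rfl⟩
  exact mul_mem (hDn.conj_mem x hx h) (inv_mem hx)

/-- The main family argument. -/
theorem family_all {k : ℕ} (hp2 : p ≠ 2) (hk : k = 0 ∨ Odd k) (P : Sylow p G) (hst : Stab p G P) {x : G}
    (hxJ : x ∈ centralizer (JJ k (P : Subgroup G) : Set G)) (D : Subgroup G) [hDn : D.Normal]
    (hDP : D ≤ P) (hxD : x ∈ D)
    (hDN : ∀ A ∈ AA k (P : Subgroup G), BB x ≤ normalizer (A : Set G) → D ≤ normalizer (A : Set G))
    (hyk : ∀ g : G, (g * x * g⁻¹ * x⁻¹) ^ k = 1)
    (hcomm : ∀ U ∈ AA k (P : Subgroup G), ⁅BB x, BB x⁆ ≤ U) :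
    ∀ U ∈ AA k (P : Subgroup G), BB x ≤ U := by
  intro U hU
  by_contra hUB
  have hSp : IsPGroup p (P : Subgroup G) := P.isPGroup'
  have hBP : BB x ≤ P := (BB_le x hxD).trans hDP
  have hBN : (P : Subgroup G) ≤ normalizer (BB x : Set G) := by
    rw [Subgroup.normalizer_eq_top_iff.mpr (BB_normal x)]
    exact le_top
  have hSD : ∀ s ∈ (P : Subgroup G), ∀ y ∈ (P : Subgroup G), s * y * s⁻¹ ∈ (P : Subgroup G) := fun s hs y hy =>
    mul_mem (mul_mem hs hy) (inv_mem hs)
  obtain ⟨A, hA, -, hAD, hBNA⟩ := exists_family_rel hp2 hSp hBP hBN (AA k (P : Subgroup G))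
    (fun A hA => hA.1) (fun A hA => hA.2.1.1)
    (fun A hA b hb Rp => AA_repl hk hA Rp (fun y hy => by
      have := hSD b⁻¹ (inv_mem (hBP hb)) y hy
      simpa using this))
    hU (hcomm U hU) hUB
  apply hAD
  rw [BB, Subgroup.closure_le]
  rintro _ ⟨g, rfl⟩
  have hDNA := hDN A hA hBNA
  refine mem_of_comm hA (hBP (y_mem_BB x g)) ?_ (hyk g)
  intro u hu
  have h1 := conj_comm_of_AA P hst D hDP hA hDNA hxD hxJ g u hu
  have h2 : u * x = x * u := Subgroup.mem_centralizer_iff.mp hxJ u (AA_le_JJ hA hu)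
  have h3 : x⁻¹ * u = u * x⁻¹ := by
    rw [eq_mul_inv_iff_mul_eq, mul_assoc, h2]
    group
  show g * x * g⁻¹ * x⁻¹ * u = u * (g * x * g⁻¹ * x⁻¹)
  rw [mul_assoc (g * x * g⁻¹), h3, ← mul_assoc, h1, mul_assoc]

/-- `J(R) = J(P)` when `J(P) ≤ R ≤ P`. -/
theorem AA_eq_of_le {k : ℕ} {P R : Subgroup G} (hRP : R ≤ P) (hJR : JJ k P ≤ R) : AA k R = AA k P := by
  obtain ⟨U₀, hU₀⟩ := AA_nonempty k P
  ext U
  constructor
  · intro hU
    refine ⟨hU.1.trans hRP, hU.2.1, fun W hW hW2 => (hU₀.2.2 W hW hW2).trans ?_⟩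
    exact hU.2.2 U₀ ((AA_le_JJ hU₀).trans hJR) hU₀.2.1
  · intro hU
    exact ⟨(AA_le_JJ hU).trans hJR, hU.2.1, fun W hW hW2 => hU.2.2 W (hW.trans hRP) hW2⟩

theorem JJ_eq_of_le {k : ℕ} {P R : Subgroup G} (hRP : R ≤ P) (hJR : JJ k P ≤ R) : JJ k R = JJ k P := by
  rw [JJ, JJ, AA_eq_of_le hRP hJR]

/-- Normal `J` from `J ≤ O_p(G)`. -/
theorem JJ_normal_of_le {k : ℕ} (P : Sylow p G) (hJ : JJ k (P : Subgroup G) ≤ pCore p G) :
    (JJ k (P : Subgroup G)).Normal := by
  have h1 := JJ_eq_of_le (pCore_le_sylow P) hJ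
  rw [← h1]
  haveI : (pCore p G).Normal := pCore_normal p G
  refine ⟨fun n hn g => conj_mem_JJ (fun x hx => Subgroup.Normal.conj_mem inferInstance x hx g) hn⟩

end family

/-! ### The `p'`-core step for functors -/

section core

variable {W : ∀ (G : Type u) [Group G], Subgroup G → Subgroup G}

theorem SelFun.hnc_normalizer_core (hW : SelFun p W) {G : Type u} [Group G] [Finite G] (P : Sylow p G)
    (hN : HasNormalPComplement p (normalizer (W G P : Set G))) :
    HasNormalPComplement p (normalizer (W (G ⧸ pPrimeCore p G)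
      ((P.mapSurjective (QuotientGroup.mk'_surjective (pPrimeCore p G)) : Sylow p (G ⧸ pPrimeCore p G)) :
        Subgroup (G ⧸ pPrimeCore p G)) : Set (G ⧸ pPrimeCore p G))) := by
  classical
  set O := pPrimeCore p G with hO
  haveI hOn : O.Normal := pPrimeCore_normal p G
  have hOcop : (Nat.card O).Coprime p := Cfsg.Agent.Lib.Solvable.PSeries.pPrimeCore_coprime p
  let f : G →* G ⧸ O := QuotientGroup.mk' O
  have hinj : ∀ x ∈ (P : Subgroup G), f x = 1 → x = 1 :=
    Cfsg.Agent.Lib.PGroup.ZJCore.hinj_core P.isPGroup'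
  have hmap : (W G P).map f = W (G ⧸ O) ((P : Subgroup G).map f) := hW.map _ _ f _ hinj
  show HasNormalPComplement p (normalizer (W (G ⧸ O) ((P : Subgroup G).map f) : Set (G ⧸ O)))
  rw [← hmap]
  let φ : normalizer (W G P : Set G) →* normalizer ((W G P).map f : Set (G ⧸ O)) :=
    { toFun := fun x => ⟨f x, Subgroup.le_normalizer_map f ⟨x, x.2, rfl⟩⟩
      map_one' := Subtype.ext (map_one f)
      map_mul' := fun x y => Subtype.ext (map_mul f _ _) }
  refine HasNormalPComplement_of_surjective φ ?_ hN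
  rintro ⟨y, hy⟩
  obtain ⟨n, hn, rfl⟩ := exists_lift_normalizer O hOcop (W G P)
    (P.isPGroup'.to_le (hW.le _ _)) y hy
  exact ⟨⟨n, hn⟩, rfl⟩

theorem SelFun.hnc_centralizer_core (hW : SelFun p W) {G : Type u} [Group G] [Finite G] (P : Sylow p G)
    (hN : HasNormalPComplement p (centralizer (W G P : Set G))) :
    HasNormalPComplement p (centralizer (W (G ⧸ pPrimeCore p G)
      ((P.mapSurjective (QuotientGroup.mk'_surjective (pPrimeCore p G)) : Sylow p (G ⧸ pPrimeCore p G)) :
        Subgroup (G ⧸ pPrimeCore p G)) : Set (G ⧸ pPrimeCore p G))) := by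
  classical
  set O := pPrimeCore p G with hO
  haveI hOn : O.Normal := pPrimeCore_normal p G
  have hOcop : (Nat.card O).Coprime p := Cfsg.Agent.Lib.Solvable.PSeries.pPrimeCore_coprime p
  let f : G →* G ⧸ O := QuotientGroup.mk' O
  have hinj : ∀ x ∈ (P : Subgroup G), f x = 1 → x = 1 :=
    Cfsg.Agent.Lib.PGroup.ZJCore.hinj_core P.isPGroup'
  have hmap : (W G P).map f = W (G ⧸ O) ((P : Subgroup G).map f) := hW.map _ _ f _ hinj
  show HasNormalPComplement p (centralizer (W (G ⧸ O) ((P : Subgroup G).map f) : Set (G ⧸ O)))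
  rw [← hmap]
  let φ : centralizer (W G P : Set G) →* centralizer ((W G P).map f : Set (G ⧸ O)) :=
    { toFun := fun x => ⟨f x, by
        rw [Subgroup.mem_centralizer_iff]
        rintro _ ⟨z, hz, rfl⟩
        rw [← map_mul, ← map_mul, Subgroup.mem_centralizer_iff.mp x.2 z hz]⟩
      map_one' := Subtype.ext (map_one f)
      map_mul' := fun x y => Subtype.ext (map_mul f _ _) }
  refine HasNormalPComplement_of_surjective φ ?_ hN
  rintro ⟨y, hy⟩
  obtain ⟨n, hn, rfl⟩ := exists_lift_centralizer O hOcop (W G P)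
    (P.isPGroup'.to_le (hW.le _ _)) y hy
  exact ⟨⟨n, hn⟩, rfl⟩

end core

/-! ### Instances of selection functors -/

section inst

/-- The centre of `J`. -/
def ZC {G : Type*} [Group G] (k : ℕ) (R : Subgroup G) : Subgroup G :=
  JJ k R ⊓ centralizer (JJ k R : Set G)

/-- The centre of a subgroup, as a subgroup of the ambient group. -/
def Cen {G : Type*} [Group G] (S : Subgroup G) : Subgroup G := S ⊓ centralizer (S : Set G)

/-- The functor `J`. -/
def JJF (k : ℕ) : ∀ (G : Type u) [Group G], Subgroup G → Subgroup G := fun _ _ S => JJ k S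

/-- The functor `Z(J)`. -/
def ZCF (k : ℕ) : ∀ (G : Type u) [Group G], Subgroup G → Subgroup G := fun _ _ S => ZC k S

/-- The functor `Z`. -/
def CenF : ∀ (G : Type u) [Group G], Subgroup G → Subgroup G := fun _ _ S => Cen S

theorem ZZ_le_ZC {G : Type*} [Group G] (k : ℕ) (R : Subgroup G) : ZZ k R ≤ ZC k R :=
  fun _ hx => ⟨hx.1, hx.2.1⟩

theorem ZC_map_hom {G H : Type*} [Group G] [Group H] [Finite G] [Finite H] (f : G →* H) {R : Subgroup G}
    (hf : ∀ x ∈ R, f x = 1 → x = 1) (k : ℕ) : (ZC k R).map f = ZC k (R.map f) := by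
  apply le_antisymm
  · rintro _ ⟨x, hx, rfl⟩
    refine ⟨?_, ?_⟩
    · rw [← Cfsg.Agent.Lib.PGroup.ZJCore.JJ_map_hom f hf]
      exact ⟨x, hx.1, rfl⟩
    · rw [← Cfsg.Agent.Lib.PGroup.ZJCore.JJ_map_hom f hf]
      refine Subgroup.mem_centralizer_iff.mpr ?_
      rintro _ ⟨y, hy, rfl⟩
      rw [← map_mul, ← map_mul, Subgroup.mem_centralizer_iff.mp hx.2 y hy]
  · rintro w ⟨hw1, hw2⟩
    have hw1' : w ∈ JJ k (R.map f) := hw1
    have hw2' : w ∈ centralizer (JJ k (R.map f) : Set H) := hw2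
    rw [← Cfsg.Agent.Lib.PGroup.ZJCore.JJ_map_hom f hf] at hw1' hw2'
    obtain ⟨x, hx, rfl⟩ := hw1'
    have hxR : x ∈ R := JJ_le k R hx
    refine ⟨x, ⟨hx, ?_⟩, rfl⟩
    refine Subgroup.mem_centralizer_iff.mpr ?_
    intro y hy
    have h1 := Subgroup.mem_centralizer_iff.mp hw2' (f y) ⟨y, hy, rfl⟩
    rw [← map_mul, ← map_mul] at h1
    exact Cfsg.Agent.Lib.PGroup.ZJCore.injOn_of f hf (mul_mem (JJ_le k R hy) hxR) (mul_mem hxR (JJ_le k R hy)) h1

theorem selFun_JJ {k : ℕ} (hk : k = 0 ∨ k = p) : SelFun.{u} p (JJF k) where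
  le := fun G _ S => JJ_le k S
  ne_bot := by
    intro G _ _ S hS hne h
    have h1 := Cfsg.Agent.Lib.PGroup.ZJControl.ZZ_ne_bot hk hS hne
    apply h1
    rw [eq_bot_iff]
    have h2 : JJ k S = ⊥ := h
    rw [← h2]
    exact ZZ_le_JJ k S
  map := fun G H _ _ _ _ f S hf => Cfsg.Agent.Lib.PGroup.ZJCore.JJ_map_hom f hf k

theorem selFun_ZC {k : ℕ} (hk : k = 0 ∨ k = p) : SelFun.{u} p (ZCF k) where
  le := fun G _ S => inf_le_left.trans (JJ_le k S)
  ne_bot := by
    intro G _ _ S hS hne h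
    have h1 := Cfsg.Agent.Lib.PGroup.ZJControl.ZZ_ne_bot hk hS hne
    apply h1
    rw [eq_bot_iff]
    have h2 : ZC k S = ⊥ := h
    rw [← h2]
    exact ZZ_le_ZC k S
  map := fun G H _ _ _ _ f S hf => ZC_map_hom f hf k

theorem Cen_map_hom {G H : Type*} [Group G] [Group H] (f : G →* H) {R : Subgroup G}
    (hf : ∀ x ∈ R, f x = 1 → x = 1) : (Cen R).map f = Cen (R.map f) := by
  apply le_antisymm
  · rintro _ ⟨x, hx, rfl⟩
    refine ⟨⟨x, hx.1, rfl⟩, ?_⟩
    refine Subgroup.mem_centralizer_iff.mpr ?_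
    rintro _ ⟨y, hy, rfl⟩
    rw [← map_mul, ← map_mul, Subgroup.mem_centralizer_iff.mp hx.2 y hy]
  · rintro w ⟨⟨x, hx, rfl⟩, hw2⟩
    refine ⟨x, ⟨hx, ?_⟩, rfl⟩
    refine Subgroup.mem_centralizer_iff.mpr ?_
    intro y hy
    have h1 := Subgroup.mem_centralizer_iff.mp hw2 (f y) ⟨y, hy, rfl⟩
    rw [← map_mul, ← map_mul] at h1
    exact Cfsg.Agent.Lib.PGroup.ZJCore.injOn_of f hf (mul_mem hy hx) (mul_mem hx hy) h1

theorem selFun_Cen : SelFun.{u} p CenF where
  le := fun G _ S => inf_le_left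
  ne_bot := by
    intro G _ _ S hS hne h
    obtain ⟨z, hzP, hz1, hzc⟩ := exists_central_mem hS le_rfl
      (fun g hg x hx => mul_mem (mul_mem hg hx) (inv_mem hg)) hne
    have h2 : Cen S = ⊥ := h
    have h3 : z ∈ Cen S := ⟨hzP, Subgroup.mem_centralizer_iff.mpr (fun g hg => hzc g hg)⟩
    rw [h2, Subgroup.mem_bot] at h3
    exact hz1 h3
  map := fun G H _ _ _ _ f S hf => Cen_map_hom f hf

end inst

/-- The common set-up of the last step. -/
theorem setup_last {G : Type*} [Group G] [Finite G] (hp2 : p ≠ 2) (P : Sylow p G) (hO : pPrimeCore p G = ⊥)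
    (hG : HasNormalPComplement p (G ⧸ pCore p G))
    (hprop : ∀ H : Subgroup G, (P : Subgroup G) ≤ H → H ≠ ⊤ → HasNormalPComplement p H) :
    centralizer (pCore p G : Set G) ≤ pCore p G ∧ Stab p G P := by
  have hsolv : IsPSolvable p G := by
    refine Cfsg.Agent.Lib.Coprime.PSolvable.isPSolvable_of_normal_good (pCore p G) (Or.inl ?_)
      (isPSolvable_of_hnpc hG)
    exact IsPGroup.iff_card.mp (pCore_isPGroup p)
  have hc := Cfsg.Agent.Lib.Solvable.PSeries.centralizer_pCore_le hsolv hO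
  refine ⟨hc, ?_⟩
  intro R _ hR a _ hq
  exact isPStableOn_of_overgroups hp2 hc P hprop hG R hR a hq

/-- A normal `p`-complement of a group with a central Sylow-centre from that of a normal subgroup:
a subgroup with `g x g⁻¹ x⁻¹` central of exponent `p`, killed by `P`, is trivial. -/
theorem central_of_hom {G : Type*} [Group G] [Finite G] (P : Sylow p G) {x : G}
    (hxP : ∀ s ∈ (P : Subgroup G), s * x = x * s)
    (hyc : ∀ g : G, g * x * g⁻¹ * x⁻¹ ∈ center G)
    (hyp : ∀ g : G, (g * x * g⁻¹ * x⁻¹) ^ p = 1) : x ∈ center G := by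
  classical
  let φ : G →* center G :=
    { toFun := fun g => ⟨g * x * g⁻¹ * x⁻¹, hyc g⟩
      map_one' := by ext; simp
      map_mul' := by
        intro g h
        ext
        have h1 : (h * x * h⁻¹ * x⁻¹) ∈ center G := hyc h
        have h2 : g * (h * x * h⁻¹ * x⁻¹) * g⁻¹ = h * x * h⁻¹ * x⁻¹ := by
          rw [Subgroup.mem_center_iff.mp h1 g]
          group
        have h3 : g * h * x * (g * h)⁻¹ * x⁻¹ = (g * (h * x * h⁻¹ * x⁻¹) * g⁻¹) * (g * x * g⁻¹ * x⁻¹) := by
          group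
        show g * h * x * (g * h)⁻¹ * x⁻¹ = (g * x * g⁻¹ * x⁻¹) * (h * x * h⁻¹ * x⁻¹)
        rw [h3, h2]
        exact (Subgroup.mem_center_iff.mp h1 _).symm }
  have hPker : (P : Subgroup G) ≤ φ.ker := by
    intro s hs
    rw [MonoidHom.mem_ker]
    ext
    show s * x * s⁻¹ * x⁻¹ = 1
    rw [hxP s hs]
    group
  have hrange : IsPGroup p φ.range := by
    rintro ⟨_, g, rfl⟩
    refine ⟨1, ?_⟩
    ext
    simp only [pow_one]
    exact hyp g
  have hidx : Nat.card φ.range ∣ (P : Subgroup G).index := by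
    rw [← Subgroup.index_ker]
    exact Subgroup.index_dvd_of_le hPker
  have hcard : Nat.card φ.range = 1 := by
    obtain ⟨n, hn⟩ := IsPGroup.iff_card.mp hrange
    rcases Nat.eq_zero_or_pos n with h0 | h0
    · rw [hn, h0, pow_zero]
    · exfalso
      apply P.not_dvd_index
      refine dvd_trans ?_ hidx
      rw [hn]
      exact dvd_pow_self p h0.ne'
  have htriv : ∀ g : G, φ g = 1 := by
    intro g
    have h1 : (⟨φ g, g, rfl⟩ : φ.range) = 1 := by
      haveI := (Nat.card_eq_one_iff_unique.mp hcard).1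
      exact Subsingleton.elim _ _
    exact congrArg Subtype.val h1
  rw [Subgroup.mem_center_iff]
  intro g
  have h2 : g * x * g⁻¹ * x⁻¹ = 1 := congrArg Subtype.val (htriv g)
  have h3 : g * x * g⁻¹ = x := mul_inv_eq_one.mp h2
  calc g * x = (g * x * g⁻¹) * g := by group
    _ = x * g := by rw [h3]

/-- An element outside `V` with a `p`-power of it at the boundary of `V`. -/
theorem exists_pow_boundary {G : Type*} [Group G] {V : Subgroup G} {x₀ : G} (hx₀ : x₀ ∉ V) {n : ℕ}
    (hn : x₀ ^ (p ^ n) = 1) : ∃ m : ℕ, x₀ ^ (p ^ m) ∉ V ∧ (x₀ ^ (p ^ m)) ^ p ∈ V := by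
  classical
  have hex : ∃ j : ℕ, x₀ ^ (p ^ j) ∈ V := ⟨n, by rw [hn]; exact one_mem V⟩
  have h0 : Nat.find hex ≠ 0 := by
    intro h
    have := Nat.find_spec hex
    rw [h] at this
    simp only [pow_zero, pow_one] at this
    exact hx₀ this
  obtain ⟨m, hm⟩ := Nat.exists_eq_succ_of_ne_zero h0
  refine ⟨m, ?_, ?_⟩
  · exact Nat.find_min hex (by rw [hm]; exact Nat.lt_succ_self m)
  · have := Nat.find_spec hex
    rw [hm, Nat.succ_eq_add_one, pow_succ, pow_mul] at this
    exact this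

/-- The normal closure of `x` lies in `N` when `x` and the elements `g x g⁻¹ x⁻¹` do. -/
theorem normalClosure_le_of_BB {G : Type*} [Group G] {x : G} {N : Subgroup G} (hx : x ∈ N)
    (hB : ∀ g : G, g * x * g⁻¹ * x⁻¹ ∈ N) : normalClosure ({x} : Set G) ≤ N := by
  rw [Subgroup.normalClosure, Subgroup.closure_le]
  intro y hy
  obtain ⟨b, hb, hby⟩ := Group.mem_conjugatesOfSet_iff.mp hy
  rw [Set.mem_singleton_iff] at hb
  subst hb
  obtain ⟨c, rfl⟩ := isConj_iff.mp hby
  have h1 := mul_mem (hB c) hx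
  simpa using h1

/-- `p`-subgroups of `G` in a subgroup containing `P` are no larger than `P`. -/
theorem vacuous_good {G : Type*} [Group G] [Finite G] (P : Sylow p G) {H : Subgroup G}
    (hPH : (P : Subgroup G) ≤ H) :
    ∀ W : Subgroup G, IsPGroup p W → W ≠ ⊥ → ∀ T : Subgroup G, IsPGroup p T →
        T ≤ normalizer (W : Set G) →
        Nat.card ↥((P : Subgroup G) ⊓ H) < Nat.card T →
        HasNormalPComplement p (normalizer (W : Set G)) := by
  intro W _ _ T hT _ hcardlt
  exfalso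
  rw [inf_of_le_left hPH] at hcardlt
  have := card_le_sylow P hT
  omega

theorem map_subtype_sylow {G : Type*} [Group G] [Finite G] (P : Sylow p G) {H : Subgroup G}
    (hPH : (P : Subgroup G) ≤ H) :
    ((P.subtype hPH : Sylow p H) : Subgroup H).map H.subtype = (P : Subgroup G) ⊓ H := by
  rw [Sylow.coe_subtype, Subgroup.subgroupOf_map_subtype]

/-- The property of Thompson's theorem. -/
def HT (k : ℕ) (G : Type u) [Group G] [Finite G] (P : Sylow p G) : Prop :=
  HasNormalPComplement p (normalizer (JJ k (P : Subgroup G) : Set G)) ∧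
    HasNormalPComplement p (centralizer (Cen (P : Subgroup G) : Set G))

/-- Centrality of the centre of a Sylow subgroup in the stable case with `ZZ k P` central. -/
theorem cen_le_center {k : ℕ} {G : Type*} [Group G] [Finite G] (hp2 : p ≠ 2) (hk : k = 0 ∨ k = p) (P : Sylow p G)
    (hc : centralizer (pCore p G : Set G) ≤ pCore p G) (hst : Stab p G P)
    (hΩc : ZZ k (P : Subgroup G) ≤ center G) : Cen (P : Subgroup G) ≤ center G := by
  classical
  have hkodd : k = 0 ∨ Odd k := by
    rcases hk with h | h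
    · exact Or.inl h
    · right; rw [h]; exact hp.out.odd_of_ne_two hp2
  by_contra hne
  obtain ⟨x₀, hx₀, hx₀c⟩ := Set.not_subset.mp hne
  have hPp : IsPGroup p (P : Subgroup G) := P.isPGroup'
  obtain ⟨n, hn⟩ := hPp ⟨x₀, hx₀.1⟩
  have hn' : x₀ ^ (p ^ n) = 1 := by simpa using congrArg Subtype.val hn
  obtain ⟨m, hm1, hm2⟩ := exists_pow_boundary (V := center G) hx₀c hn'
  set x := x₀ ^ (p ^ m) with hx
  have hxCen : x ∈ Cen (P : Subgroup G) := pow_mem hx₀ _
  have hxP : x ∈ (P : Subgroup G) := hxCen.1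
  have hxcomm : ∀ s ∈ (P : Subgroup G), s * x = x * s := fun s hs =>
    Subgroup.mem_centralizer_iff.mp hxCen.2 s hs
  set R := pCore p G with hR
  haveI hRn : R.Normal := pCore_normal p G
  have hRP : R ≤ P := pCore_le_sylow P
  have hxR : x ∈ R := by
    apply hc
    rw [Subgroup.mem_centralizer_iff]
    intro r hr
    exact hxcomm r (hRP hr)
  -- the centre of `R`
  let ZR : Subgroup G :=
    { carrier := {w | w ∈ R ∧ ∀ r ∈ R, r * w = w * r}
      mul_mem' := by
        rintro a b ⟨ha, ha2⟩ ⟨hb, hb2⟩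
        refine ⟨mul_mem ha hb, fun r hr => ?_⟩
        rw [← mul_assoc, ha2 r hr, mul_assoc, hb2 r hr, mul_assoc]
      one_mem' := ⟨one_mem _, fun r _ => by simp⟩
      inv_mem' := by
        rintro a ⟨ha, ha2⟩
        refine ⟨inv_mem ha, fun r hr => ?_⟩
        have := ha2 r hr
        calc r * a⁻¹ = a⁻¹ * (a * r) * a⁻¹ := by group
          _ = a⁻¹ * (r * a) * a⁻¹ := by rw [this]
          _ = a⁻¹ * r := by group }
  have hZRn : ZR.Normal := by
    refine ⟨?_⟩
    rintro w ⟨hw, hw2⟩ g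
    refine ⟨hRn.conj_mem w hw g, fun r hr => ?_⟩
    have h1 : g⁻¹ * r * g ∈ R := by
      have := hRn.conj_mem r hr g⁻¹
      simpa using this
    have h2 := hw2 _ h1
    calc r * (g * w * g⁻¹) = g * ((g⁻¹ * r * g) * w) * g⁻¹ := by group
      _ = g * (w * (g⁻¹ * r * g)) * g⁻¹ := by rw [h2]
      _ = g * w * g⁻¹ * r := by group
  have hxZR : x ∈ ZR := ⟨hxR, fun r hr => hxcomm r (hRP hr)⟩
  set D := normalClosure ({x} : Set G) with hD
  have hDZR : D ≤ ZR := Subgroup.normalClosure_le_normal (Set.singleton_subset_iff.mpr hxZR)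
  have hDR : D ≤ R := fun w hw => (hDZR hw).1
  have hDP : D ≤ P := hDR.trans hRP
  have hxD : x ∈ D := Subgroup.subset_normalClosure rfl
  have hDab : ∀ a ∈ D, ∀ b ∈ D, a * b = b * a := fun a ha b hb =>
    ((hDZR hb).2 a (hDR ha))
  have hxJ : x ∈ centralizer (JJ k (P : Subgroup G) : Set G) := by
    rw [Subgroup.mem_centralizer_iff]
    intro u hu
    exact hxcomm u (JJ_le k _ hu)
  have hyp : ∀ g : G, (g * x * g⁻¹ * x⁻¹) ^ p = 1 := by
    intro g
    have hc1 : Commute (g * x * g⁻¹) x⁻¹ := by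
      show g * x * g⁻¹ * x⁻¹ = x⁻¹ * (g * x * g⁻¹)
      exact hDab _ (Subgroup.Normal.conj_mem inferInstance x hxD g) _ (inv_mem hxD)
    rw [hc1.mul_pow, conj_pow, inv_pow]
    have h2 : g * x ^ p * g⁻¹ = x ^ p := by
      rw [Subgroup.mem_center_iff.mp hm2 g]
      group
    rw [h2]
    group
  have hall := family_all hp2 hkodd P hst hxJ D hDP hxD
    (by
      intro A hA hBN
      refine normalClosure_le_of_BB ?_ (fun g => hBN (y_mem_BB x g))
      refine Subgroup.centralizer_le_normalizer _ ?_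
      exact Subgroup.centralizer_le (AA_le_JJ hA) hxJ)
    (by
      intro g
      rcases hk with rfl | rfl
      · exact pow_zero _
      · exact hyp g)
    (by
      intro U _
      rw [Subgroup.commutator_le]
      intro a ha b hb
      have hab := hDab a (BB_le x hxD ha) b (BB_le x hxD hb)
      rw [commutatorElement_def, hab]
      simp)
  have hyc : ∀ g : G, g * x * g⁻¹ * x⁻¹ ∈ center G := fun g =>
    hΩc (mem_ZZ_of_forall fun U hU => hall U hU (y_mem_BB x g))
  exact hm1 (central_of_hom P hxcomm hyc hyp)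

/-- The last step of Thompson's theorem. -/
theorem HT_fin {k : ℕ} (hp2 : p ≠ 2) (hk : k = 0 ∨ k = p) (G : Type u) [Group G] [Finite G] (P : Sylow p G)
    (h : HT k G P)
    (ih : ∀ (H : Type u) [Group H] [Finite H], Nat.card H < Nat.card G → ∀ P' : Sylow p H, HT k H P' →
        HasNormalPComplement p H)
    (hO : pPrimeCore p G = ⊥) (hG : HasNormalPComplement p (G ⧸ pCore p G)) :
    HasNormalPComplement p G := by
  classical
  obtain ⟨hN₁, hN₂⟩ := h
  have hkodd : k = 0 ∨ Odd k := by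
    rcases hk with h | h
    · exact Or.inl h
    · right; rw [h]; exact hp.out.odd_of_ne_two hp2
  have hcentral : ∀ H : Subgroup G, ∀ z ∈ (P : Subgroup G), (P : Subgroup G) ≤ H →
      (∀ g ∈ (P : Subgroup G), g * z = z * g) → z ∈ H := fun H z hz hPH _ => hPH hz
  have hprop : ∀ H : Subgroup G, (P : Subgroup G) ≤ H → H ≠ ⊤ → HasNormalPComplement p H := by
    intro H hPH hne
    refine ih H (Cfsg.Agent.Lib.Thompson.QuadraticBase.card_lt_of_ne_top hne) (P.subtype hPH) ⟨?_, ?_⟩
    · exact (selFun_JJ.{u} hk).hnc_normalizer_sub P H hN₁ (fun z hz _ => hPH hz) (P.subtype hPH)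
        (map_subtype_sylow P hPH) (vacuous_good P hPH)
    · exact (selFun_Cen.{u}).hnc_centralizer_sub P H hN₂ (fun z hz _ => hPH hz) (P.subtype hPH)
        (map_subtype_sylow P hPH) (vacuous_good P hPH)
  obtain ⟨hc, hst⟩ := setup_last hp2 P hO hG hprop
  have hΩ : (ZZ k (P : Subgroup G)).Normal := zz_normal hp2 hkodd P (strongly_closed_self _) hc hst
  set Ω := ZZ k (P : Subgroup G) with hΩdef
  by_cases hC : centralizer (Ω : Set G) = ⊤
  · -- `Ω` central
    have hΩc : Ω ≤ center G := by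
      intro z hz
      rw [Subgroup.mem_center_iff]
      intro g
      have : g ∈ centralizer (Ω : Set G) := by rw [hC]; trivial
      exact (Subgroup.mem_centralizer_iff.mp this z hz).symm
    have h1 := cen_le_center hp2 hk P hc hst hΩc
    refine hnpc_of_top ?_ hN₂
    rw [eq_top_iff]
    intro g _
    rw [Subgroup.mem_centralizer_iff]
    intro z hz
    exact (Subgroup.mem_center_iff.mp (h1 hz) g).symm
  · -- `J ≤ C(Ω)` is proper
    set C := centralizer (Ω : Set G) with hCdef
    haveI hCn : C.Normal := Subgroup.normal_centralizer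
    have hJC : JJ k (P : Subgroup G) ≤ C := by
      intro u hu
      rw [hCdef, Subgroup.mem_centralizer_iff]
      intro z hz
      exact (Subgroup.mem_centralizer_iff.mp hz.2.1 u hu).symm
    obtain ⟨S', hS'⟩ := Cfsg.Agent.Lib.Basic.SylowUtil.exists_sylow_inf_normal P C
    have hHT : HT k C S' := by
      constructor
      · have hmap : (JJ k (S' : Subgroup C)).map C.subtype = JJ k (P : Subgroup G) := by
          rw [Cfsg.Agent.Lib.PGroup.ZJCore.JJ_map_hom C.subtype (fun x _ hx => Subtype.ext hx), hS']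
          exact JJ_eq_of_le inf_le_left (le_inf (JJ_le k _) hJC)
        let φ : normalizer (JJ k (S' : Subgroup C) : Set C) →* normalizer (JJ k (P : Subgroup G) : Set G) :=
          { toFun := fun x => ⟨((x : C) : G), by
              rw [← hmap]
              exact Subgroup.le_normalizer_map C.subtype ⟨x, x.2, rfl⟩⟩
            map_one' := rfl
            map_mul' := fun _ _ => rfl }
        refine HasNormalPComplement_of_injective φ ?_ hN₁
        intro x y hxy
        have h2 := congrArg (fun z : normalizer (JJ k (P : Subgroup G) : Set G) => (z : G)) hxy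
        exact Subtype.ext (Subtype.ext h2)
      · have hmap : (Cen (S' : Subgroup C)).map C.subtype = Cen ((P : Subgroup G) ⊓ C) := by
          rw [Cen_map_hom C.subtype (fun x _ hx => Subtype.ext hx), hS']
        have hle : Cen (P : Subgroup G) ≤ Cen ((P : Subgroup G) ⊓ C) := by
          intro z hz
          refine ⟨⟨hz.1, ?_⟩, ?_⟩
          · refine Subgroup.mem_centralizer_iff.mpr ?_
            intro w hw
            exact (Subgroup.mem_centralizer_iff.mp hz.2 w (ZZ_le_self k _ hw))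
          · refine Subgroup.mem_centralizer_iff.mpr ?_
            intro w hw
            exact Subgroup.mem_centralizer_iff.mp hz.2 w hw.1
        let φ : centralizer (Cen (S' : Subgroup C) : Set C) →* centralizer (Cen (P : Subgroup G) : Set G) :=
          { toFun := fun x => ⟨((x : C) : G), by
              rw [Subgroup.mem_centralizer_iff]
              intro z hz
              have hz' := hle hz
              rw [← hmap] at hz'
              obtain ⟨w, hw, rfl⟩ := hz'
              have := Subgroup.mem_centralizer_iff.mp x.2 w hw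
              exact congrArg Subtype.val this⟩
            map_one' := rfl
            map_mul' := fun _ _ => rfl }
        refine HasNormalPComplement_of_injective φ ?_ hN₂
        intro x y hxy
        have h2 := congrArg (fun z : centralizer (Cen (P : Subgroup G) : Set G) => (z : G)) hxy
        exact Subtype.ext (Subtype.ext h2)
    have hCcard := Cfsg.Agent.Lib.Thompson.QuadraticBase.card_lt_of_ne_top hC
    have hCnpc := ih C hCcard S' hHT
    have hCp := isPGroup_of_normal_hnc C hCnpc hO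
    have hCR : C ≤ pCore p G := le_pCore hCn hCp
    have hJn := JJ_normal_of_le P (hJC.trans hCR)
    exact hnpc_of_top (Subgroup.normalizer_eq_top_iff.mpr hJn) hN₁

/-- **Thompson's normal `p`-complement theorem**, `p` odd, both Thompson subgroups. -/
theorem hnpc_of_HT {k : ℕ} (hp2 : p ≠ 2) (hk : k = 0 ∨ k = p) {G : Type u} [Group G] [Finite G]
    (P : Sylow p G) (h : HT k G P) : HasNormalPComplement p G := by
  refine gt_reduction' (HT k) ?_ ?_ ?_ (fun G _ _ P h ih hO hG => HT_fin hp2 hk G P h ih hO hG) _ G rfl P h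
  · intro G _ _ P Q h hQP hQne S' hS' hgood
    have hz : ∀ z ∈ (P : Subgroup G), (∀ g ∈ (P : Subgroup G), g * z = z * g) → z ∈ normalizer (Q : Set G) :=
      fun z _ hzc => central_mem_normalizer hQP hzc
    exact ⟨(selFun_JJ.{u} hk).hnc_normalizer_sub P _ h.1 hz S' hS' hgood,
      (selFun_Cen.{u}).hnc_centralizer_sub P _ h.2 hz S' hS' hgood⟩
  · intro G _ _ P Q _ h hQP hQne hgood2
    rcases (selFun_JJ.{u} hk).hnc_normalizer_quo P Q hQP hgood2 with h1 | h1
    · rcases (selFun_Cen.{u}).hnc_normalizer_quo P Q hQP hgood2 with h2 | h2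
      · exact Or.inl ⟨h1, hnc_centralizer_of_normalizer _ h2⟩
      · exact Or.inr h2
    · exact Or.inr h1
  · intro G _ _ P h
    exact ⟨(selFun_JJ.{u} hk).hnc_normalizer_core P h.1, (selFun_Cen.{u}).hnc_centralizer_core P h.2⟩

/-! ### `Z(J_e(P))` -/

/-- The commutator power in class two. -/
theorem conj_pow_of_central {G : Type*} [Group G] {x y : G} (hd : ⁅y, x⁆ ∈ center G) (n : ℕ) :
    y ^ n * x * (y ^ n)⁻¹ = ⁅y, x⁆ ^ n * x := by
  induction n with
  | zero => simp
  | succ n ih =>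
    have h1 : y * x * y⁻¹ = ⁅y, x⁆ * x := by
      rw [commutatorElement_def]; group
    have hc := Subgroup.mem_center_iff.mp (Subgroup.pow_mem _ hd n) y
    calc y ^ (n + 1) * x * (y ^ (n + 1))⁻¹ = y * (y ^ n * x * (y ^ n)⁻¹) * y⁻¹ := by
          rw [pow_succ']; group
      _ = y * (⁅y, x⁆ ^ n * x) * y⁻¹ := by rw [ih]
      _ = ⁅y, x⁆ ^ n * (y * x * y⁻¹) := by
          rw [← mul_assoc y, hc]; group
      _ = ⁅y, x⁆ ^ (n + 1) * x := by rw [h1, pow_succ]; group

/-- The main step for `Z(J_e(P))`: a normal subgroup in `Z(J_e(P))` central in `G` is not maximal. -/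
theorem zc_step {G : Type*} [Group G] [Finite G] (hp2 : p ≠ 2) (P : Sylow p G)
    (hc : centralizer (pCore p G : Set G) ≤ pCore p G) (hst : Stab p G P)
    {V : Subgroup G} (hVc : V ≤ center G) (hVZ : V ≤ ZC p (P : Subgroup G))
    (hne : ¬ ZC p (P : Subgroup G) ≤ V) :
    ∃ D : Subgroup G, D.Normal ∧ D ≤ ZC p (P : Subgroup G) ∧ ¬ D ≤ V := by
  classical
  have hVn : V.Normal := by
    refine ⟨fun v hv g => ?_⟩
    have := Subgroup.mem_center_iff.mp (hVc hv) g
    rw [this]
    simpa using hv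
  haveI := hVn
  set Z := ZC p (P : Subgroup G) with hZdef
  have hpodd : Odd p := hp.out.odd_of_ne_two hp2
  have hSp : IsPGroup p (P : Subgroup G) := P.isPGroup'
  have hZS : Z ≤ P := inf_le_left.trans (JJ_le p _)
  have hZconj : ∀ s ∈ (P : Subgroup G), ∀ w ∈ Z, s * w * s⁻¹ ∈ Z := by
    intro s hs w hw
    refine ⟨conj_mem_JJ (fun x hx => mul_mem (mul_mem hs hx) (inv_mem hs)) hw.1, ?_⟩
    refine Subgroup.mem_centralizer_iff.mpr ?_
    intro u hu
    have h1 : s⁻¹ * u * s ∈ JJ p (P : Subgroup G) := by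
      have := conj_mem_JJ (g := s⁻¹) (R := (P : Subgroup G)) (k := p)
        (fun x hx => mul_mem (mul_mem (inv_mem hs) hx) (inv_mem (inv_mem hs))) hu
      simpa using this
    have h2 := Subgroup.mem_centralizer_iff.mp hw.2 _ h1
    calc u * (s * w * s⁻¹) = s * ((s⁻¹ * u * s) * w) * s⁻¹ := by group
      _ = s * (w * (s⁻¹ * u * s)) * s⁻¹ := by rw [h2]
      _ = s * w * s⁻¹ * u := by group
  obtain ⟨z₀, hz₀Z, hz₀V, hz₀S⟩ := exists_central_mod hSp (fun s _ v hv => hVn.conj_mem v hv s) hZconj hZS hne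
  obtain ⟨n, hn⟩ := hSp ⟨z₀, hZS hz₀Z⟩
  have hn' : z₀ ^ (p ^ n) = 1 := by simpa using congrArg Subtype.val hn
  obtain ⟨m, hm1, hm2⟩ := exists_pow_boundary (V := V) hz₀V hn'
  set z := z₀ ^ (p ^ m) with hz
  have hzZ : z ∈ Z := pow_mem hz₀Z _
  have hzS : ∀ s ∈ (P : Subgroup G), ⁅z, s⁆ ∈ V := by
    have : z₀ ∈ commMod (P : Subgroup G) V := hz₀S
    exact pow_mem this _
  set Q := pCore p G with hQdef
  haveI hQn : Q.Normal := pCore_normal p G
  have hQS : Q ≤ P := pCore_le_sylow P
  have hQp : IsPGroup p Q := pCore_isPGroup p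
  have hzcV : ∀ v ∈ V, z * v = v * z := fun v hv =>
    (Subgroup.mem_center_iff.mp (hVc hv) z)
  have hquadQ : ⁅⁅Q, zpowers z⁆, zpowers z⁆ = ⊥ := by
    refine quad_of_commutator_le (K := V) (fun q hq => ?_) hzcV
    have := inv_mem (hzS q (hQS hq))
    rwa [commutatorElement_inv] at this
  have hzQ : z ∈ Q := TT_pCore_le hc (hst Q hQp z (hZS hzZ) hquadQ)
  -- the subgroup `E`
  have hEmul : ∀ a ∈ Q, ∀ b ∈ Q, a ∈ commMod Q V → b ∈ commMod Q V → a ^ p ∈ V → b ^ p ∈ V →
      (⁅b, a⁆ ^ p = 1) ∧ (a * b) ^ p = a ^ p * b ^ p := by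
    intro a ha b hb hac hbc hap hbp
    have hd : ⁅b, a⁆ ∈ V := hbc a ha
    have hdc : ⁅b, a⁆ ∈ center G := hVc hd
    have h1 := conj_pow_of_central hdc p
    have h2 : b ^ p * a * (b ^ p)⁻¹ = a := by
      rw [Subgroup.mem_center_iff.mp (hVc hbp) a |>.symm]
      group
    rw [h2] at h1
    have h3 : ⁅b, a⁆ ^ p = 1 := by
      have h4 : a * a⁻¹ = ⁅b, a⁆ ^ p * a * a⁻¹ := by rw [← h1]
      simpa using h4.symm
    refine ⟨h3, ?_⟩
    have h5 := Cfsg.Agent.Lib.PGroup.Basic.mul_pow_of_commutator_central (x := a) (y := b)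
      (show Commute a ⁅b, a⁆ from (Subgroup.mem_center_iff.mp hdc a))
      (show Commute b ⁅b, a⁆ from (Subgroup.mem_center_iff.mp hdc b)) p
    rw [h5]
    have h2p : 2 < p := lt_of_le_of_ne hp.out.two_le (Ne.symm hp2)
    obtain ⟨t, ht⟩ : p ∣ p.choose 2 := hp.out.dvd_choose_self (by norm_num) h2p
    rw [ht, pow_mul, h3, one_pow, mul_one]
  let E : Subgroup G :=
    { carrier := {a | a ∈ Q ∧ a ∈ commMod Q V ∧ a ^ p ∈ V}
      mul_mem' := by
        rintro a b ⟨ha, hac, hap⟩ ⟨hb, hbc, hbp⟩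
        refine ⟨mul_mem ha hb, mul_mem hac hbc, ?_⟩
        rw [(hEmul a ha b hb hac hbc hap hbp).2]
        exact mul_mem hap hbp
      one_mem' := ⟨one_mem _, one_mem _, by simp⟩
      inv_mem' := by
        rintro a ⟨ha, hac, hap⟩
        refine ⟨inv_mem ha, inv_mem hac, ?_⟩
        rw [inv_pow]
        exact inv_mem hap }
  have hEn : E.Normal := by
    refine ⟨?_⟩
    rintro a ⟨ha, hac, hap⟩ g
    refine ⟨hQn.conj_mem a ha g, Subgroup.Normal.conj_mem inferInstance a hac g, ?_⟩
    rw [conj_pow]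
    exact hVn.conj_mem _ hap g
  have hVQ : V ≤ Q := le_pCore hVn (hSp.to_le (hVZ.trans hZS))
  have hzE : z ∈ E := ⟨hzQ, fun q hq => hzS q (hQS hq), hm2⟩
  have hVE : V ≤ E := fun v hv => ⟨hVQ hv, le_commMod hv, pow_mem hv p⟩
  set NC := normalClosure ({z} : Set G) with hNC
  have hNCE : NC ≤ E := Subgroup.normalClosure_le_normal (Set.singleton_subset_iff.mpr hzE)
  set D := V ⊔ NC with hDdef
  have hDE : D ≤ E := sup_le hVE hNCE
  have hDQ : D ≤ Q := fun w hw => (hDE hw).1
  have hDP : D ≤ P := hDQ.trans hQS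
  have hDn : D.Normal := inferInstance
  have hzD : z ∈ D := (le_sup_right : NC ≤ D) (Subgroup.subset_normalClosure rfl)
  have hzJ : z ∈ centralizer (JJ p (P : Subgroup G) : Set G) := hzZ.2
  have hyp : ∀ g : G, (g * z * g⁻¹ * z⁻¹) ^ p = 1 := by
    intro g
    have hgz : g * z * g⁻¹ ∈ E := hEn.conj_mem z hzE g
    have hzi : z⁻¹ ∈ E := inv_mem hzE
    rw [(hEmul _ hgz.1 _ hzi.1 hgz.2.1 hzi.2.1 hgz.2.2 hzi.2.2).2, conj_pow, inv_pow]
    have h2 : g * z ^ p * g⁻¹ = z ^ p := by
      rw [Subgroup.mem_center_iff.mp (hVc hm2) g]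
      group
    rw [h2]
    group
  have hall := family_all hp2 (Or.inr hpodd) P hst hzJ D hDP hzD
    (by
      intro A hA hBN
      have hzN : z ∈ normalizer (A : Set G) :=
        Subgroup.centralizer_le_normalizer _ (Subgroup.centralizer_le (AA_le_JJ hA) hzJ)
      refine sup_le ?_ (normalClosure_le_of_BB hzN (fun g => hBN (y_mem_BB z g)))
      intro v hv
      exact Subgroup.centralizer_le_normalizer _
        (Subgroup.centralizer_le (AA_le_JJ hA) (hVZ hv).2))
    hyp
    (by
      intro U hU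
      rw [Subgroup.commutator_le]
      intro a ha b hb
      have ha' := hDE (BB_le z hzD ha)
      have hb' := hDE (BB_le z hzD hb)
      have h1 := hEmul _ hb'.1 _ ha'.1 hb'.2.1 ha'.2.1 hb'.2.2 ha'.2.2
      have h2 : ⁅a, b⁆ ∈ V := ha'.2.1 b hb'.1
      refine mem_of_comm hU (hZS (hVZ h2)) ?_ h1.1
      intro u hu
      exact (Subgroup.mem_centralizer_iff.mp (hVZ h2).2 u (AA_le_JJ hU hu)).symm)
  have hyZ : ∀ g : G, g * z * g⁻¹ * z⁻¹ ∈ Z := fun g =>
    ZZ_le_ZC p _ (mem_ZZ_of_forall fun U hU => hall U hU (y_mem_BB z g))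
  refine ⟨D, hDn, sup_le hVZ (normalClosure_le_of_BB hzZ hyZ), fun h => hm1 (h hzD)⟩

/-- The last step for `Z(J_e(P))`. -/
theorem ZC_fin (hp2 : p ≠ 2) (G : Type u) [Group G] [Finite G] (P : Sylow p G)
    (hN : HasNormalPComplement p (normalizer (ZC p (P : Subgroup G) : Set G)))
    (ih : ∀ (H : Type u) [Group H] [Finite H], Nat.card H < Nat.card G → ∀ P' : Sylow p H,
        HasNormalPComplement p (normalizer (ZC p (P' : Subgroup H) : Set H)) →
        HasNormalPComplement p H)
    (hO : pPrimeCore p G = ⊥) (hG : HasNormalPComplement p (G ⧸ pCore p G)) :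
    HasNormalPComplement p G := by
  classical
  have hprop : ∀ H : Subgroup G, (P : Subgroup G) ≤ H → H ≠ ⊤ → HasNormalPComplement p H := by
    intro H hPH hne
    refine ih H (Cfsg.Agent.Lib.Thompson.QuadraticBase.card_lt_of_ne_top hne) (P.subtype hPH) ?_
    exact (selFun_ZC.{u} (k := p) (Or.inr rfl)).hnc_normalizer_sub P H hN (fun z hz _ => hPH hz) (P.subtype hPH)
        (map_subtype_sylow P hPH) (vacuous_good P hPH)
  obtain ⟨hc, hst⟩ := setup_last hp2 P hO hG hprop
  set Z := ZC p (P : Subgroup G) with hZdef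
  obtain ⟨V, hV, hmax⟩ := Set.exists_max_image {V : Subgroup G | V.Normal ∧ V ≤ Z}
    (fun V => Nat.card V) (Set.toFinite _) ⟨⊥, inferInstance, bot_le⟩
  haveI hVn : V.Normal := hV.1
  have hZn : Z.Normal := by
    by_cases h : Z ≤ V
    · have : Z = V := le_antisymm h hV.2
      rw [this]
      exact hVn
    by_cases hC : centralizer (V : Set G) = ⊤
    · exfalso
      have hVc : V ≤ center G := by
        intro z hz
        rw [Subgroup.mem_center_iff]
        intro g
        have : g ∈ centralizer (V : Set G) := by rw [hC]; trivial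
        exact (Subgroup.mem_centralizer_iff.mp this z hz).symm
      obtain ⟨D, hDn, hDZ, hDV⟩ := zc_step hp2 P hc hst hVc hV.2 h
      haveI := hDn
      have h1 : V < V ⊔ D := by
        refine lt_of_le_of_ne le_sup_left ?_
        intro he
        apply hDV
        rw [he]
        exact le_sup_right
      have h2 := hmax (V ⊔ D) ⟨inferInstance, sup_le hV.2 hDZ⟩
      have h3 := Cfsg.Agent.Lib.Thompson.QuadraticStable.card_lt_of_lt h1
      omega
    · set C := centralizer (V : Set G) with hCdef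
      haveI hCn : C.Normal := Subgroup.normal_centralizer
      have hJC : JJ p (P : Subgroup G) ≤ C := by
        intro u hu
        rw [hCdef, Subgroup.mem_centralizer_iff]
        intro z hz
        exact (Subgroup.mem_centralizer_iff.mp (hV.2 hz).2 u hu).symm
      obtain ⟨S', hS'⟩ := Cfsg.Agent.Lib.Basic.SylowUtil.exists_sylow_inf_normal P C
      have hHT : HasNormalPComplement p (normalizer (ZC p (S' : Subgroup C) : Set C)) := by
        have hmap : (ZC p (S' : Subgroup C)).map C.subtype = Z := by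
          rw [ZC_map_hom C.subtype (fun x _ hx => Subtype.ext hx), hS', hZdef, ZC, ZC,
            JJ_eq_of_le inf_le_left (le_inf (JJ_le p _) hJC)]
        let φ : normalizer (ZC p (S' : Subgroup C) : Set C) →* normalizer (Z : Set G) :=
          { toFun := fun x => ⟨((x : C) : G), by
              rw [← hmap]
              exact Subgroup.le_normalizer_map C.subtype ⟨x, x.2, rfl⟩⟩
            map_one' := rfl
            map_mul' := fun _ _ => rfl }
        refine HasNormalPComplement_of_injective φ ?_ hN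
        intro x y hxy
        have h2 := congrArg (fun z : normalizer (Z : Set G) => (z : G)) hxy
        exact Subtype.ext (Subtype.ext h2)
      have hCcard := Cfsg.Agent.Lib.Thompson.QuadraticBase.card_lt_of_ne_top hC
      have hCnpc := ih C hCcard S' hHT
      have hCp := isPGroup_of_normal_hnc C hCnpc hO
      have hCR : C ≤ pCore p G := le_pCore hCn hCp
      have hJn := JJ_normal_of_le P (hJC.trans hCR)
      refine ⟨fun x hx g => ⟨hJn.conj_mem x hx.1 g, ?_⟩⟩
      refine Subgroup.mem_centralizer_iff.mpr ?_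
      intro u hu
      have h1 : g⁻¹ * u * g ∈ JJ p (P : Subgroup G) := by
        have := hJn.conj_mem u hu g⁻¹
        simpa using this
      have h2 := Subgroup.mem_centralizer_iff.mp hx.2 _ h1
      calc u * (g * x * g⁻¹) = g * ((g⁻¹ * u * g) * x) * g⁻¹ := by group
        _ = g * (x * (g⁻¹ * u * g)) * g⁻¹ := by rw [h2]
        _ = g * x * g⁻¹ * u := by group
  exact hnpc_of_top (Subgroup.normalizer_eq_top_iff.mpr hZn) hN

/-- **The normal `p`-complement theorem for `Z(J_e(P))`**, `p` odd. -/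
theorem hnpc_of_normalizer_ZC (hp2 : p ≠ 2) {G : Type u} [Group G] [Finite G]
    (P : Sylow p G) (h : HasNormalPComplement p (normalizer (ZC p (P : Subgroup G) : Set G))) :
    HasNormalPComplement p G := by
  refine gt_reduction' (fun G _ _ P => HasNormalPComplement p (normalizer (ZC p (P : Subgroup G) : Set G)))
    ?_ ?_ ?_ (fun G _ _ P h ih hO hG => ZC_fin hp2 G P h ih hO hG) _ G rfl P h
  · intro G _ _ P Q h hQP hQne S' hS' hgood
    have hz : ∀ z ∈ (P : Subgroup G), (∀ g ∈ (P : Subgroup G), g * z = z * g) → z ∈ normalizer (Q : Set G) :=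
      fun z _ hzc => central_mem_normalizer hQP hzc
    exact (selFun_ZC.{u} (k := p) (Or.inr rfl)).hnc_normalizer_sub P _ h hz S' hS' hgood
  · intro G _ _ P Q _ h hQP hQne hgood2
    exact (selFun_ZC.{u} (k := p) (Or.inr rfl)).hnc_normalizer_quo P Q hQP hgood2
  · intro G _ _ P h
    exact (selFun_ZC.{u} (k := p) (Or.inr rfl)).hnc_normalizer_core P h

end Cfsg.Agent.Lib.PGroup.GTFunctor
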