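import Cfsg.Agent.Lib.PGroup.FFStruct
import Cfsg.Agent.Lib.Coprime.PSolvable
import Cfsg.Agent.Lib.Solvable.Stability
import Cfsg.Agent.Lib.Basic.PCore
import Cfsg.Agent.Lib.Solvable.PSeries
import Cfsg.Agent.Lib.Components.LayerProduct
import Cfsg.Agent.S0602
import Cfsg.Agent.S0606
import Cfsg.Agent.S0610
import Mathlib

/-!
# Transport of the failure of factorization theory

`V` is a normal elementary abelian `p`-subgroup of `G`.  The group `G` acts on `V` through `G / C_G(V)`; the hypotheses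
of the failure of factorization theory (a faithful action inside one group) hold in the semidirect product
`T = V ⋊ Aut(V)`.
-/

set_option autoImplicit false
set_option linter.unusedSectionVars false
set_option linter.style.haveILetI false
open Cfsg
open scoped commutatorElement

universe u

namespace Cfsg.Agent.Lib.PGroup.FFTrans

open Cfsg.Agent.Lib.PGroup.Timmesfeld
open Cfsg.Agent.Lib.Coprime.Three (mem_normalizer_of_conj_mem)

variable {G : Type u} [Group G]

/-- The ambient group. -/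
abbrev TT (V : Subgroup G) : Type u := SemidirectProduct ↥V (MulAut ↥V) (MonoidHom.id _)

instance instFiniteTT [Finite G] (V : Subgroup G) : Finite (TT V) :=
  Finite.of_equiv _ (SemidirectProduct.equivProd (N := ↥V) (G := MulAut ↥V) (φ := MonoidHom.id _)).symm

/-- The image of `V`. -/
def V0 (V : Subgroup G) : Subgroup (TT V) := (SemidirectProduct.inl : ↥V →* TT V).range

/-- The map to the ambient group. -/
def pi (V : Subgroup G) [V.Normal] : G →* TT V :=
  (SemidirectProduct.inr : MulAut ↥V →* TT V).comp (MulAut.conjNormal (H := V))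

variable {V : Subgroup G}

theorem inl_mem_V0 (v : ↥V) : (SemidirectProduct.inl v : TT V) ∈ V0 V := ⟨v, rfl⟩

theorem card_V0 : Nat.card (V0 V) = Nat.card V :=
  (Nat.card_congr (MonoidHom.ofInjective
    (f := (SemidirectProduct.inl : ↥V →* TT V)) SemidirectProduct.inl_injective).toEquiv).symm

theorem inl_mul_pi [V.Normal] (g : G) (v : ↥V) :
    pi V g * SemidirectProduct.inl v * (pi V g)⁻¹ =
      SemidirectProduct.inl (⟨g * v * g⁻¹, (inferInstance : V.Normal).conj_mem _ v.2 g⟩ : ↥V) := by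
  have h := SemidirectProduct.inl_aut (N := ↥V) (G := MulAut ↥V) (φ := MonoidHom.id _)
    (MulAut.conjNormal (H := V) g) v
  simp only [pi, MonoidHom.comp_apply]
  rw [← map_inv, ← h]
  congr 1

theorem commute_iff [V.Normal] (g : G) (v : ↥V) :
    pi V g * SemidirectProduct.inl v = SemidirectProduct.inl v * pi V g ↔ g * (v : G) = v * g := by
  have h := inl_mul_pi (V := V) g v
  constructor
  · intro hc
    rw [hc, mul_inv_cancel_right] at h
    have h2 := SemidirectProduct.inl_injective h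
    have h3 := congrArg Subtype.val h2
    simp only at h3
    exact mul_inv_eq_iff_eq_mul.mp h3.symm
  · intro hc
    have h1 : (⟨g * v * g⁻¹, (inferInstance : V.Normal).conj_mem _ v.2 g⟩ : ↥V) = v := by
      apply Subtype.ext
      simp only
      rw [hc, mul_inv_cancel_right]
    rw [h1] at h
    exact mul_inv_eq_iff_eq_mul.mp h

theorem pi_eq_one_iff [V.Normal] (g : G) :
    pi V g = 1 ↔ g ∈ Subgroup.centralizer (V : Set G) := by
  constructor
  · intro h
    rw [Subgroup.mem_centralizer_iff]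
    intro v hv
    have := (commute_iff (V := V) g ⟨v, hv⟩).mp (by rw [h, one_mul, mul_one])
    exact this.symm
  · intro h
    have h1 : MulAut.conjNormal (H := V) g = 1 := by
      ext v
      have := Subgroup.mem_centralizer_iff.mp h v v.2
      simp only [MulAut.conjNormal_apply, MulAut.one_apply]
      rw [← this, mul_inv_cancel_right]
    simp only [pi, MonoidHom.comp_apply, h1, map_one]

theorem ker_pi [V.Normal] : (pi V).ker = Subgroup.centralizer (V : Set G) := by
  ext g
  rw [MonoidHom.mem_ker, pi_eq_one_iff]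

theorem card_inf_eq (H K : Subgroup G) : Nat.card (H.subgroupOf K) = Nat.card ↥(K ⊓ H) := by
  have h := Subgroup.subgroupOf_map_subtype H K
  rw [inf_comm] at h
  rw [← h]
  exact (Nat.card_congr (Subgroup.equivMapOfInjective _ _ K.subtype_injective).toEquiv)

theorem card_map_pi [Finite G] [V.Normal] (K : Subgroup G) :
    Nat.card (K.map (pi V)) * Nat.card ↥(K ⊓ Subgroup.centralizer (V : Set G)) = Nat.card K := by
  have hker : ((pi V).comp K.subtype).ker = (Subgroup.centralizer (V : Set G)).subgroupOf K := by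
    ext x
    simp only [MonoidHom.mem_ker, MonoidHom.comp_apply, Subgroup.subtype_apply,
      Subgroup.mem_subgroupOf, pi_eq_one_iff]
  have h1 := Subgroup.index_ker ((pi V).comp K.subtype)
  have h2 := ((pi V).comp K.subtype).ker.card_mul_index
  have hrange : ((pi V).comp K.subtype).range = K.map (pi V) := by
    rw [MonoidHom.range_comp, Subgroup.range_subtype]
  rw [h1, hrange, hker, card_inf_eq] at h2
  rw [mul_comm]
  exact h2

/-- The image in the ambient group of a subgroup of `V`. -/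
def up (U : Subgroup G) : Subgroup (TT V) :=
  (U.subgroupOf V).map (SemidirectProduct.inl : ↥V →* TT V)

theorem inl_mem_up {U : Subgroup G} {v : ↥V} :
    (SemidirectProduct.inl v : TT V) ∈ up (V := V) U ↔ (v : G) ∈ U := by
  constructor
  · rintro ⟨w, hw, hwv⟩
    have := SemidirectProduct.inl_injective hwv
    subst this
    exact Subgroup.mem_subgroupOf.mp hw
  · intro h
    exact ⟨v, Subgroup.mem_subgroupOf.mpr h, rfl⟩

theorem card_up {U : Subgroup G} (hU : U ≤ V) : Nat.card (up (V := V) U) = Nat.card U := by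
  have h1 : Nat.card (up (V := V) U) = Nat.card (U.subgroupOf V) :=
    (Nat.card_congr (Subgroup.equivMapOfInjective _ _ SemidirectProduct.inl_injective).toEquiv).symm
  rw [h1, card_inf_eq, inf_eq_right.mpr hU]

theorem up_le_V0 (U : Subgroup G) : up (V := V) U ≤ V0 V := by
  rintro _ ⟨w, -, rfl⟩
  exact inl_mem_V0 w

theorem mem_V0 {x : TT V} : x ∈ V0 V ↔ ∃ v : ↥V, SemidirectProduct.inl v = x := Iff.rfl

theorem comm_inl_pi [V.Normal] (v : ↥V) (k : G) :
    ∃ w : ↥V, (w : G) = ⁅(v : G), k⁆ ∧ ⁅(SemidirectProduct.inl v : TT V), pi V k⁆ = SemidirectProduct.inl w := by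
  have hmem : (k * ((v⁻¹ : ↥V) : G) * k⁻¹) ∈ V :=
    (inferInstance : V.Normal).conj_mem _ (v⁻¹ : ↥V).2 k
  refine ⟨v * ⟨_, hmem⟩, ?_, ?_⟩
  · simp only [Subgroup.coe_mul, InvMemClass.coe_inv, commutatorElement_def]
    group
  · have h := inl_mul_pi (V := V) k v⁻¹
    rw [commutatorElement_def, map_mul, ← h, map_inv]
    group

/-- `[V, K]` is transported. -/
theorem commutator_up [V.Normal] (K : Subgroup G) : ⁅V0 V, K.map (pi V)⁆ = up (V := V) ⁅V, K⁆ := by
  apply le_antisymm
  · rw [Subgroup.commutator_le]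
    rintro _ ⟨v, rfl⟩ _ ⟨k, hk, rfl⟩
    obtain ⟨w, hw, hw2⟩ := comm_inl_pi (V := V) v k
    rw [hw2, inl_mem_up, hw]
    exact Subgroup.commutator_mem_commutator v.2 hk
  · rintro _ ⟨w, hw, rfl⟩
    have hw' : (w : G) ∈ ⁅V, K⁆ := Subgroup.mem_subgroupOf.mp hw
    let M : Subgroup G :=
      ((⁅V0 V, K.map (pi V)⁆).comap (SemidirectProduct.inl : ↥V →* TT V)).map V.subtype
    have hle : ⁅V, K⁆ ≤ M := by
      rw [Subgroup.commutator_le]
      intro v hv k hk
      obtain ⟨w', hw1, hw2⟩ := comm_inl_pi (V := V) ⟨v, hv⟩ k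
      refine ⟨w', ?_, hw1⟩
      rw [SetLike.mem_coe, Subgroup.mem_comap, ← hw2]
      exact Subgroup.commutator_mem_commutator (inl_mem_V0 _) ⟨k, hk, rfl⟩
    obtain ⟨m, hm, hmw⟩ := hle hw'
    have : m = w := Subtype.ext hmw
    subst this
    exact hm

theorem commutator_le_V [V.Normal] (K : Subgroup G) : ⁅V, K⁆ ≤ V := by
  rw [Subgroup.commutator_le]
  intro v hv k _
  rw [commutatorElement_def]
  have : v * k * v⁻¹ * k⁻¹ = v * (k * v⁻¹ * k⁻¹) := by group
  rw [this]
  exact V.mul_mem hv ((inferInstance : V.Normal).conj_mem _ (V.inv_mem hv) k)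

theorem card_commutator_up [V.Normal] (K : Subgroup G) :
    Nat.card ↥(⁅V0 V, K.map (pi V)⁆ : Subgroup (TT V)) = Nat.card ↥(⁅V, K⁆ : Subgroup G) := by
  rw [commutator_up, card_up (commutator_le_V K)]

/-- `C_V(K)` is transported. -/
theorem inf_centralizer_up [V.Normal] (K : Subgroup G) :
    V0 V ⊓ Subgroup.centralizer (K.map (pi V) : Set (TT V)) =
      up (V := V) (V ⊓ Subgroup.centralizer (K : Set G)) := by
  apply le_antisymm
  · rintro _ ⟨⟨v, rfl⟩, hv⟩
    rw [inl_mem_up]
    refine Subgroup.mem_inf.mpr ⟨v.2, ?_⟩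
    rw [Subgroup.mem_centralizer_iff]
    intro k hk
    exact (commute_iff k v).mp (Subgroup.mem_centralizer_iff.mp hv _ ⟨k, hk, rfl⟩)
  · rintro _ ⟨v, hv, rfl⟩
    have hv' := Subgroup.mem_subgroupOf.mp hv
    refine Subgroup.mem_inf.mpr ⟨inl_mem_V0 v, ?_⟩
    rw [Subgroup.mem_centralizer_iff]
    rintro _ ⟨k, hk, rfl⟩
    exact (commute_iff k v).mpr (Subgroup.mem_centralizer_iff.mp (Subgroup.mem_inf.mp hv').2 k hk)

theorem card_inf_centralizer_up [V.Normal] (K : Subgroup G) :
    Nat.card ↥(V0 V ⊓ Subgroup.centralizer (K.map (pi V) : Set (TT V))) =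
      Nat.card ↥(V ⊓ Subgroup.centralizer (K : Set G)) := by
  rw [inf_centralizer_up, card_up inf_le_left]

theorem map_inf_centralizer_eq_bot [V.Normal] (K : Subgroup G) :
    K.map (pi V) ⊓ Subgroup.centralizer (V0 V : Set (TT V)) = ⊥ := by
  rw [eq_bot_iff]
  rintro _ ⟨⟨k, hk, rfl⟩, hc⟩
  rw [Subgroup.mem_bot, pi_eq_one_iff, Subgroup.mem_centralizer_iff]
  intro v hv
  have := Subgroup.mem_centralizer_iff.mp hc _ (inl_mem_V0 ⟨v, hv⟩)
  exact ((commute_iff k ⟨v, hv⟩).mp this.symm).symm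

theorem map_le_normalizer_V0 [Finite G] [V.Normal] (K : Subgroup G) :
    K.map (pi V) ≤ Subgroup.normalizer (V0 V : Set (TT V)) := by
  rintro _ ⟨k, -, rfl⟩
  apply mem_normalizer_of_conj_mem
  rintro _ ⟨v, rfl⟩
  rw [inl_mul_pi]
  exact inl_mem_V0 _

variable {p : ℕ} [hp : Fact p.Prime]

theorem isEA_V0 (hV : Cfsg.IsElementaryAbelian p V) : Cfsg.IsElementaryAbelian p (V0 V) := by
  refine ⟨⟨⟨?_⟩⟩, ?_⟩
  · rintro ⟨_, ⟨v, rfl⟩⟩ ⟨_, ⟨w, rfl⟩⟩
    apply Subtype.ext
    simp only [Subgroup.coe_mul]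
    rw [← map_mul, ← map_mul]
    congr 1
    exact hV.1.is_comm.comm v w
  · rintro _ ⟨v, rfl⟩
    rw [← map_pow]
    have : v ^ p = 1 := Subtype.ext (by simpa using hV.2 v v.2)
    rw [this, map_one]

/-- Best offenders are transported. -/
theorem isBestOffender_map [Finite G] [V.Normal] {A : Subgroup G} (hA : Cfsg.IsBestOffenderOn p V A) :
    Cfsg.IsBestOffenderOn p (V0 V) (A.map (pi V)) := by
  obtain ⟨h1, h2, h3⟩ := hA
  refine ⟨?_, ?_, ?_⟩
  · intro B hB
    set B₀ : Subgroup G := A ⊓ B.comap (pi V) with hB₀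
    have hmap : B₀.map (pi V) = B := by
      apply le_antisymm
      · rintro _ ⟨x, hx, rfl⟩
        exact hx.2
      · intro b hb
        obtain ⟨a, ha, rfl⟩ := hB hb
        exact ⟨a, Subgroup.mem_inf.mpr ⟨ha, hb⟩, rfl⟩
    have hinf : B₀ ⊓ Subgroup.centralizer (V : Set G) = A ⊓ Subgroup.centralizer (V : Set G) := by
      apply le_antisymm
      · exact inf_le_inf_right _ inf_le_left
      · intro x hx
        refine Subgroup.mem_inf.mpr ⟨Subgroup.mem_inf.mpr ⟨hx.1, ?_⟩, hx.2⟩
        rw [Subgroup.mem_comap, (pi_eq_one_iff x).mpr hx.2]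
        exact B.one_mem
    have h4 := h1 B₀ inf_le_left
    have h5 := card_map_pi (V := V) B₀
    have h6 := card_map_pi (V := V) A
    rw [hmap, hinf] at h5
    rw [← hmap, card_inf_centralizer_up, card_inf_centralizer_up, hmap]
    rw [← h5, ← h6] at h4
    have hpos : 0 < Nat.card ↥(A ⊓ Subgroup.centralizer (V : Set G)) := Nat.card_pos
    have h7 : Nat.card ↥(A ⊓ Subgroup.centralizer (V : Set G)) * (Nat.card B * Nat.card ↥(V ⊓ Subgroup.centralizer (B₀ : Set G))) ≤
        Nat.card ↥(A ⊓ Subgroup.centralizer (V : Set G)) * (Nat.card (A.map (pi V)) * Nat.card ↥(V ⊓ Subgroup.centralizer (A : Set G))) := by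
      calc _ = Nat.card B * Nat.card ↥(A ⊓ Subgroup.centralizer (V : Set G)) * Nat.card ↥(V ⊓ Subgroup.centralizer (B₀ : Set G)) := by ring
        _ ≤ _ := h4
        _ = _ := by ring
    exact Nat.le_of_mul_le_mul_left h7 hpos
  · have h4 : ⁅A.map (pi V), A.map (pi V)⁆ = ⊥ := by
      rw [← Subgroup.map_commutator, eq_bot_iff]
      rintro _ ⟨x, hx, rfl⟩
      rw [Subgroup.mem_bot, pi_eq_one_iff]
      exact h2 hx
    rw [h4]
    exact bot_le
  · rintro _ ⟨a, ha, rfl⟩
    rw [← map_pow, (pi_eq_one_iff _).mpr (h3 a ha)]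
    exact Subgroup.one_mem _

theorem conj_pCore_mem {T : Type*} [Group T] [Finite T] {H : Subgroup T} {t : T}
    (ht : ∀ x ∈ H, t * x * t⁻¹ ∈ H) (ht' : ∀ x ∈ H, t⁻¹ * x * t ∈ H) {x : T}
    (hx : x ∈ (Cfsg.pCore p ↥H).map H.subtype) : t * x * t⁻¹ ∈ (Cfsg.pCore p ↥H).map H.subtype := by
  let φ : ↥H ≃* ↥H :=
    { toFun := fun y => ⟨t * y * t⁻¹, ht y y.2⟩
      invFun := fun y => ⟨t⁻¹ * y * t, ht' y y.2⟩
      left_inv := fun y => Subtype.ext (by simp only; group)
      right_inv := fun y => Subtype.ext (by simp only; group)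
      map_mul' := fun y z => Subtype.ext (by simp only [Subgroup.coe_mul]; group) }
  obtain ⟨y, hy, rfl⟩ := hx
  haveI := Cfsg.Agent.Lib.Basic.PCore.pCore_char (G := ↥H) p
  have h1 : φ y ∈ Cfsg.pCore p ↥H := by
    have h2 := (Subgroup.characteristic_iff_le_comap.mp this) φ
    exact (Subgroup.mem_comap.mp (h2 hy) : _)
  exact ⟨φ y, h1, rfl⟩

/-- `O_p` of a normal subgroup of the image is trivial. -/
theorem pCore_map_eq_bot [Finite G] [V.Normal]
    (hOC : ∀ D : Subgroup G, D.Normal → Subgroup.centralizer (V : Set G) ≤ D →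
      (∃ k : ℕ, (Subgroup.centralizer (V : Set G)).relIndex D = p ^ k) →
      D = Subgroup.centralizer (V : Set G)) (L : Subgroup G) [hL : L.Normal] :
    Cfsg.pCore p ↥(L.map (pi V)) = ⊥ := by
  set H := L.map (pi V) with hH
  set O := (Cfsg.pCore p ↥H).map H.subtype with hO
  set R := O.comap (pi V) with hR
  have hOH : O ≤ H := by
    rintro _ ⟨x, -, rfl⟩
    exact x.2
  have hmapR : R.map (pi V) = O := by
    apply le_antisymm
    · rintro _ ⟨x, hx, rfl⟩
      exact hx
    · intro x hx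
      obtain ⟨l, -, rfl⟩ := hOH hx
      exact ⟨l, hx, rfl⟩
  have hCR : Subgroup.centralizer (V : Set G) ≤ R := by
    intro c hc
    rw [hR, Subgroup.mem_comap, (pi_eq_one_iff c).mpr hc]
    exact O.one_mem
  have hRn : R.Normal := by
    refine ⟨fun r hr g => ?_⟩
    rw [hR, Subgroup.mem_comap, map_mul, map_mul, map_inv]
    refine conj_pCore_mem ?_ ?_ hr
    · rintro _ ⟨l, hl, rfl⟩
      refine ⟨g * l * g⁻¹, hL.conj_mem l hl g, ?_⟩
      simp only [map_mul, map_inv]
    · rintro _ ⟨l, hl, rfl⟩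
      refine ⟨g⁻¹ * l * g, ?_, ?_⟩
      · have := hL.conj_mem l hl g⁻¹
        simpa using this
      · simp only [map_mul, map_inv]
  have hidx : ∃ k : ℕ, (Subgroup.centralizer (V : Set G)).relIndex R = p ^ k := by
    have h1 := card_map_pi (V := V) R
    rw [hmapR, inf_eq_right.mpr hCR] at h1
    have h2 := card_mul_relIndex' hCR
    have hpos : 0 < Nat.card ↥(Subgroup.centralizer (V : Set G)) := Nat.card_pos
    have h3 : (Subgroup.centralizer (V : Set G)).relIndex R = Nat.card O := by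
      apply Nat.eq_of_mul_eq_mul_left hpos
      rw [h2, ← h1, mul_comm]
    have h4 : Nat.card O = Nat.card ↥(Cfsg.pCore p ↥H) :=
      (Nat.card_congr (Subgroup.equivMapOfInjective _ _ H.subtype_injective).toEquiv).symm
    have h5 : IsPGroup p ↥(Cfsg.pCore p ↥H) := Cfsg.Agent.Lib.Basic.PCore.pCore_isPGroup p
    obtain ⟨k, hk⟩ := IsPGroup.iff_card.mp h5
    exact ⟨k, by rw [h3, h4, hk]⟩
  have hRC := hOC R hRn hCR hidx
  rw [eq_bot_iff]
  intro x hx
  have hxO : (x : TT V) ∈ O := ⟨x, hx, rfl⟩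
  rw [← hmapR, hRC] at hxO
  obtain ⟨c, hc, hcx⟩ := hxO
  rw [(pi_eq_one_iff c).mpr hc] at hcx
  rw [Subgroup.mem_bot]
  exact Subtype.ext hcx.symm

/-- The full set of hypotheses of the failure of factorization theory, in the ambient group. -/
theorem setup_map [Finite G] [V.Normal] (hV : Cfsg.IsElementaryAbelian p V) (hsep : Cfsg.IsPSolvable p G)
    (hOC : ∀ D : Subgroup G, D.Normal → Subgroup.centralizer (V : Set G) ≤ D →
      (∃ k : ℕ, (Subgroup.centralizer (V : Set G)).relIndex D = p ^ k) →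
      D = Subgroup.centralizer (V : Set G)) (L : Subgroup G) [hL : L.Normal]
    (𝒜 : Set (Subgroup G)) (hLA : L = sSup 𝒜) (hA : ∀ A ∈ 𝒜, Cfsg.IsBestOffenderOn p V A) :
    Cfsg.IsElementaryAbelian p (V0 V) ∧
    L.map (pi V) ≤ Subgroup.normalizer (V0 V : Set (TT V)) ∧
    L.map (pi V) ⊓ Subgroup.centralizer (V0 V : Set (TT V)) = ⊥ ∧
    Subgroup.centralizer (Cfsg.pPrimeCore p ↥(L.map (pi V)) : Set ↥(L.map (pi V))) ≤
      Cfsg.pPrimeCore p ↥(L.map (pi V)) ∧
    L.map (pi V) = ⨆ B : {B : Subgroup (TT V) // B ≤ L.map (pi V) ∧ Cfsg.IsBestOffenderOn p (V0 V) B},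
      (B : Subgroup (TT V)) := by
  refine ⟨isEA_V0 hV, map_le_normalizer_V0 L, map_inf_centralizer_eq_bot L, ?_, ?_⟩
  · apply Cfsg.Agent.Lib.Solvable.Stability.centralizer_pPrimeCore_le
    · have h1 : Cfsg.IsPSolvable p ↥L := Cfsg.Agent.Lib.Coprime.PSolvable.isPSolvable_subgroup hp.out L hsep
      exact Cfsg.Agent.Lib.Coprime.PSolvable.isPSolvable_of_surjective hp.out ((pi V).subgroupMap L)
        ((pi V).subgroupMap_surjective L) h1
    · exact pCore_map_eq_bot hOC L
  · apply le_antisymm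
    · rw [Subgroup.map_le_iff_le_comap]
      refine hLA.le.trans (sSup_le ?_)
      intro A hAm
      rw [← Subgroup.map_le_iff_le_comap]
      have hAle : A.map (pi V) ≤ L.map (pi V) := by
        apply Subgroup.map_mono
        rw [hLA]
        exact le_sSup hAm
      exact le_iSup (fun B : {B : Subgroup (TT V) // B ≤ L.map (pi V) ∧ Cfsg.IsBestOffenderOn p (V0 V) B} =>
        (B : Subgroup (TT V))) ⟨A.map (pi V), hAle, isBestOffender_map (hA A hAm)⟩
    · exact iSup_le fun B => B.2.1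

/-- Conversion of the hypothesis `O_p(G / C_G(V)) = 1`. -/
theorem hOC_of_pCore_eq_bot [Finite G] [V.Normal]
    (hO : Cfsg.pCore p (G ⧸ Subgroup.centralizer (V : Set G)) = ⊥) :
    ∀ D : Subgroup G, D.Normal → Subgroup.centralizer (V : Set G) ≤ D →
      (∃ k : ℕ, (Subgroup.centralizer (V : Set G)).relIndex D = p ^ k) →
      D = Subgroup.centralizer (V : Set G) := by
  rintro D hD hCD ⟨k, hk⟩
  apply le_antisymm _ hCD
  have hn : (D.map (QuotientGroup.mk' (Subgroup.centralizer (V : Set G)))).Normal :=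
    Subgroup.Normal.map hD _ (QuotientGroup.mk'_surjective _)
  have hcard := Cfsg.Agent.Lib.Solvable.PSeries.card_map_mk' (Subgroup.centralizer (V : Set G)) D
  have hpg : IsPGroup p ↥(D.map (QuotientGroup.mk' (Subgroup.centralizer (V : Set G)))) :=
    IsPGroup.of_card (n := k) (by rw [hcard, hk])
  have hle := Cfsg.Agent.Lib.Basic.PCore.le_pCore hn hpg
  rw [hO] at hle
  intro x hx
  have h1 : QuotientGroup.mk' (Subgroup.centralizer (V : Set G)) x ∈
      D.map (QuotientGroup.mk' (Subgroup.centralizer (V : Set G))) := ⟨x, hx, rfl⟩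
  have h2 := hle h1
  rw [Subgroup.mem_bot] at h2
  exact (QuotientGroup.eq_one_iff x).mp h2

/-- The sup of two commuting elementary abelian subgroups. -/
theorem isEA_sup {A B : Subgroup G} (hA : Cfsg.IsElementaryAbelian p A)
    (hB : Cfsg.IsElementaryAbelian p B) (hc : ∀ a ∈ A, ∀ b ∈ B, a * b = b * a) :
    Cfsg.IsElementaryAbelian p (A ⊔ B) := by
  have hAc : ∀ x ∈ A, ∀ y ∈ A, x * y = y * x := fun x hx y hy =>
    congrArg Subtype.val (hA.1.is_comm.comm ⟨x, hx⟩ ⟨y, hy⟩)
  have hBc : ∀ x ∈ B, ∀ y ∈ B, x * y = y * x := fun x hx y hy =>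
    congrArg Subtype.val (hB.1.is_comm.comm ⟨x, hx⟩ ⟨y, hy⟩)
  refine ⟨⟨⟨?_⟩⟩, ?_⟩
  · rintro ⟨x, hx⟩ ⟨y, hy⟩
    apply Subtype.ext
    obtain ⟨a, ha, b, hb, rfl⟩ := Cfsg.Agent.Lib.Components.LayerProduct.mem_sup_of_commute hc hx
    obtain ⟨a', ha', b', hb', rfl⟩ := Cfsg.Agent.Lib.Components.LayerProduct.mem_sup_of_commute hc hy
    simp only [Subgroup.coe_mul]
    calc a * b * (a' * b') = a * (b * a') * b' := by group
      _ = a * (a' * b) * b' := by rw [hc a' ha' b hb]
      _ = (a * a') * (b * b') := by group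
      _ = (a' * a) * (b' * b) := by rw [hAc a ha a' ha', hBc b hb b' hb']
      _ = a' * (a * b') * b := by group
      _ = a' * (b' * a) * b := by rw [hc a ha b' hb']
      _ = a' * b' * (a * b) := by group
  · intro x hx
    obtain ⟨a, ha, b, hb, rfl⟩ := Cfsg.Agent.Lib.Components.LayerProduct.mem_sup_of_commute hc hx
    have hcab : Commute a b := hc a ha b hb
    rw [hcab.mul_pow, hA.2 a ha, hB.2 b hb, one_mul]

/-- An element of order dividing `p` centralizing an elementary abelian subgroup of largest order lies in it. -/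
theorem mem_of_comm_maxEA [Finite G] {A : Subgroup G} (hA : A ∈ Cfsg.maxElementaryAbelianSubgroups p G) {u : G}
    (hup : u ^ p = 1) (hu : ∀ a ∈ A, a * u = u * a) : u ∈ A := by
  have hZ : Cfsg.IsElementaryAbelian p (Subgroup.zpowers u) := by
    refine ⟨⟨⟨?_⟩⟩, ?_⟩
    · rintro ⟨_, ⟨i, rfl⟩⟩ ⟨_, ⟨j, rfl⟩⟩
      apply Subtype.ext
      exact (Commute.refl u).zpow_zpow i j
    · rintro _ ⟨i, rfl⟩
      simp only
      rw [← zpow_natCast, zpow_comm, zpow_natCast, hup, one_zpow]
  have hE := isEA_sup hA.1 hZ (by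
    rintro a ha _ ⟨i, rfl⟩
    exact (show Commute a u from hu a ha).zpow_right i)
  have hle := hA.2 _ hE
  have heq : A = A ⊔ Subgroup.zpowers u := Subgroup.eq_of_le_of_card_ge le_sup_left hle
  rw [heq]
  exact (le_sup_right : Subgroup.zpowers u ≤ _) (Subgroup.mem_zpowers u)

/-- The fundamental count for elementary abelian subgroups of largest order. -/
theorem card_formula [Finite G] [V.Normal] (hV : Cfsg.IsElementaryAbelian p V) (hsep : Cfsg.IsPSolvable p G)
    (hOC : ∀ D : Subgroup G, D.Normal → Subgroup.centralizer (V : Set G) ≤ D →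
      (∃ k : ℕ, (Subgroup.centralizer (V : Set G)).relIndex D = p ^ k) →
      D = Subgroup.centralizer (V : Set G)) {A : Subgroup G}
    (hA : A ∈ Cfsg.maxElementaryAbelianSubgroups p G) :
    Nat.card A * Nat.card ↥(V ⊓ Subgroup.centralizer (A : Set G)) =
      Nat.card V * Nat.card ↥(A ⊓ Subgroup.centralizer (V : Set G)) := by
  by_cases hAC : A ≤ Subgroup.centralizer (V : Set G)
  · have h1 : V ≤ Subgroup.centralizer (A : Set G) := by
      rw [Subgroup.le_centralizer_iff]
      exact hAC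
    rw [inf_eq_left.mpr h1, inf_eq_left.mpr hAC, mul_comm]
  · haveI hJc : (Cfsg.thompsonSubgroup p G).Characteristic :=
      (Cfsg.Agent.S0602.result (p := p) (G := G)).1
    haveI hJ : (Cfsg.thompsonSubgroup p G).Normal := Subgroup.normal_of_characteristic _
    obtain ⟨hE, hHV, hf, hS1, hS3⟩ := setup_map hV hsep hOC (Cfsg.thompsonSubgroup p G)
      (Cfsg.maxElementaryAbelianSubgroups p G) rfl (fun B hB => Cfsg.Agent.S0606.result V hV B hB)
    have hAJ : A ≤ Cfsg.thompsonSubgroup p G := le_sSup hA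
    have hAne : A.map (pi V) ≠ ⊥ := by
      intro h
      apply hAC
      intro a ha
      have : pi V a ∈ A.map (pi V) := ⟨a, ha, rfl⟩
      rw [h, Subgroup.mem_bot] at this
      exact (pi_eq_one_iff a).mp this
    have hHne : (Cfsg.thompsonSubgroup p G).map (pi V) ≠ ⊥ := by
      intro h
      apply hAne
      rw [eq_bot_iff, ← h]
      exact Subgroup.map_mono hAJ
    have h1 := Cfsg.Agent.S0610.result (V0 V) _ hE hHV hf hS1 hS3 hHne (A.map (pi V))
      (Subgroup.map_mono hAJ) (isBestOffender_map (Cfsg.Agent.S0606.result V hV A hA)) hAne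
    rw [card_inf_centralizer_up, card_V0] at h1
    rw [← h1, ← card_map_pi (V := V) A]
    ring

end Cfsg.Agent.Lib.PGroup.FFTrans
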