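import Cfsg.Agent.Lib.PGroup.DStar

/-!
# A weak replacement theorem for metabelian `p`-groups
-/

set_option autoImplicit false
open Cfsg
open Subgroup
open scoped commutatorElement

namespace Cfsg.Agent.Lib.PGroup.WeakRepl

open Cfsg.Agent.Lib.PGroup.DStar

variable {G : Type*} [Group G]

theorem sup_comm_of {H L : Subgroup G} (hH : ∀ a ∈ H, ∀ b ∈ H, a * b = b * a)
    (hL : ∀ a ∈ L, ∀ b ∈ L, a * b = b * a) (hc : ∀ a ∈ H, ∀ b ∈ L, a * b = b * a) :
    ∀ a ∈ H ⊔ L, ∀ b ∈ H ⊔ L, a * b = b * a := by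
  intro a ha b hb
  rw [sup_eq_closure] at ha hb
  refine Cfsg.Agent.Lib.PGroup.Replacement.closure_comm ?_ ha hb
  rintro u (hu | hu) v (hv | hv)
  · exact hH u hu v hv
  · exact hc u hu v hv
  · exact (hc v hv u hu).symm
  · exact hL u hu v hv

theorem le_normalizer_of_comm {H L : Subgroup G} (hc : ∀ a ∈ H, ∀ b ∈ L, a * b = b * a) :
    H ≤ normalizer (L : Set G) := by
  intro a ha
  rw [mem_normalizer_iff]
  intro y
  constructor
  · intro hy
    have : a * y * a⁻¹ = y := by rw [hc a ha y hy]; group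
    rw [this]; exact hy
  · intro hy
    by_cases h : y ∈ L
    · exact h
    · exfalso
      apply h
      have h1 := hc a ha _ hy
      have h2 : a * y * a⁻¹ = y := by
        have : a * (a * y * a⁻¹) = a * y := by rw [h1]; group
        exact mul_left_cancel this
      rw [h2] at hy
      exact hy

variable [Finite G]

/-- The basic count. -/
theorem card_le_of_comm {H L Z : Subgroup G} (hc : ∀ a ∈ H, ∀ b ∈ L, a * b = b * a)
    (hZ : H ⊓ L ≤ Z) : Nat.card H * Nat.card L ≤ Nat.card ↥(H ⊔ L) * Nat.card Z := by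
  rw [← Cfsg.Agent.Lib.PGroup.Timmesfeld.card_sup_mul_card_inf_of_le_normalizer H L
    (le_normalizer_of_comm hc)]
  exact Nat.mul_le_mul_left _ (Subgroup.card_le_of_le hZ)

/-- An abelian subgroup of largest order contains every element commuting with it. -/
theorem mem_of_comm_maxAbelian {A : Subgroup G} (hA : A ∈ maxAbelianSubgroups G) {d : G}
    (hd : ∀ a ∈ A, a * d = d * a) : d ∈ A := by
  have hAc := comm_of_isMulCommutative hA.1
  have hsup := sup_zpowers_comm (M := A) (x := d) hAc hd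
  have hcard := hA.2 _ (isMulCommutative_of_comm hsup)
  have heq : A = A ⊔ zpowers d := Subgroup.eq_of_le_of_card_ge le_sup_left hcard
  rw [heq]
  exact (le_sup_right : zpowers d ≤ A ⊔ zpowers d) (mem_zpowers d)

/-- The weak replacement theorem. -/
theorem weak_replacement
    (hmeta : ∀ x ∈ commutator G, ∀ y ∈ commutator G, x * y = y * x)
    (A : Subgroup G) (hA : A ∈ maxAbelianSubgroups G) :
    ∃ B ∈ maxAbelianSubgroups G, B.Normal ∧ B ≤ normalClosure (A : Set G) := by
  classical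
  set K := commutator G with hK
  have hKn : K.Normal := by rw [hK]; infer_instance
  set N := normalClosure (A : Set G) with hN
  have hNn : N.Normal := normalClosure_normal
  -- choose `B`
  obtain ⟨B, ⟨hB, hBN⟩, hmax⟩ := Set.exists_max_image
    {B : Subgroup G | B ∈ maxAbelianSubgroups G ∧ B ≤ N} (fun B => Nat.card ↥(B ⊓ K))
    (Set.toFinite _) ⟨A, hA, le_normalClosure⟩
  have hBc := comm_of_isMulCommutative hB.1
  have hinfK : ∀ x ∈ K ⊓ centralizer (B : Set G), x ∈ B ⊓ K := by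
    intro x hx
    obtain ⟨h1, h2⟩ := Subgroup.mem_inf.mp hx
    rw [mem_centralizer_iff] at h2
    exact Subgroup.mem_inf.mpr ⟨mem_of_comm_maxAbelian hB (fun a ha => h2 a ha), h1⟩
  -- Step 1: `[K, B] ≤ B ⊓ K`
  have hstep1 : ⁅K, B⁆ ≤ B ⊓ K := by
    have hBK : B ≤ normalizer (K : Set G) := by
      rw [normalizer_eq_top_iff.mpr hKn]; exact le_top
    have hab : ⁅B, B⁆ ≤ centralizer (K : Set G) := by
      rw [commutator_le]
      intro a ha b hb
      have : ⁅a, b⁆ = 1 := commutatorElement_eq_one_iff_mul_comm.mpr (hBc a ha b hb)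
      rw [this]; exact one_mem _
    obtain ⟨B', hB', h⟩ := Cfsg.Agent.Lib.PGroup.Timmesfeld.dichotomy K B hmeta hBK hab K le_rfl
    rcases h with h | ⟨rfl, h2, h3⟩
    · exact absurd h (not_lt.mpr (mval_le hmeta hB hB'))
    set B' := B ⊓ centralizer ((⁅K, B⁆ : Subgroup G) : Set G) with hB'def
    set Y := K ⊓ centralizer ((B' : Subgroup G) : Set G) with hY
    have hY2 : Y = ⁅K, B⁆ ⊔ (K ⊓ centralizer (B : Set G)) := h2
    have hY1 : ⁅K, B⁆ ≤ Y := by rw [hY2]; exact le_sup_left
    have hcross : ∀ a ∈ B', ∀ b ∈ Y, a * b = b * a := by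
      intro a ha b hb
      have := (Subgroup.mem_inf.mp hb).2
      rw [mem_centralizer_iff] at this
      exact this a ha
    have hB'c : ∀ a ∈ B', ∀ b ∈ B', a * b = b * a :=
      fun a ha b hb => hBc a (hB' ha) b (hB' hb)
    have hYc : ∀ a ∈ Y, ∀ b ∈ Y, a * b = b * a :=
      fun a ha b hb => hmeta a (Subgroup.mem_inf.mp ha).1 b (Subgroup.mem_inf.mp hb).1
    have hsupc := sup_comm_of hB'c hYc hcross
    have hcount := card_le_of_comm (Z := K ⊓ centralizer (B : Set G)) hcross (by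
      intro x hx
      obtain ⟨h1, h4⟩ := Subgroup.mem_inf.mp hx
      refine Subgroup.mem_inf.mpr ⟨(Subgroup.mem_inf.mp h4).1, ?_⟩
      rw [mem_centralizer_iff]
      intro b hb
      exact hBc b hb x (hB' h1))
    -- so `B' ⊔ Y` has order at least `|B|`
    have hcardge : Nat.card B ≤ Nat.card ↥(B' ⊔ Y) := by
      have hpos : 0 < Nat.card ↥(K ⊓ centralizer (B : Set G)) := Nat.card_pos
      rw [← h3] at hcount
      exact Nat.le_of_mul_le_mul_right hcount hpos
    have hnew : B' ⊔ Y ∈ maxAbelianSubgroups G := by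
      refine ⟨isMulCommutative_of_comm hsupc, fun E hE => (hB.2 E hE).trans hcardge⟩
    have hnewN : B' ⊔ Y ≤ N := by
      refine sup_le (hB'.trans hBN) ?_
      rw [hY2]
      refine sup_le ?_ ?_
      · rw [commutator_le]
        intro k _ b hb
        have : ⁅k, b⁆ = (k * b * k⁻¹) * b⁻¹ := by rw [commutatorElement_def]
        rw [this]
        exact mul_mem (hNn.conj_mem b (hBN hb) k) (inv_mem (hBN hb))
      · intro x hx
        exact hBN (Subgroup.mem_inf.mp (hinfK x hx)).1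
    have hle2 := hmax _ ⟨hnew, hnewN⟩
    -- `Y ≤ (B' ⊔ Y) ⊓ K` gives `Y ≤ B ⊓ K` by orders
    have hYle : (B ⊓ K) ⊔ Y ≤ (B' ⊔ Y) ⊓ K := by
      refine sup_le ?_ (le_inf le_sup_right inf_le_left)
      intro x hx
      refine Subgroup.mem_inf.mpr ⟨?_, (Subgroup.mem_inf.mp hx).2⟩
      refine (le_sup_right : Y ≤ B' ⊔ Y) (Subgroup.mem_inf.mpr ⟨(Subgroup.mem_inf.mp hx).2, ?_⟩)
      rw [mem_centralizer_iff]
      intro b hb
      exact hBc b (hB' hb) x (Subgroup.mem_inf.mp hx).1
    have hcard3 : Nat.card ↥((B ⊓ K) ⊔ Y) ≤ Nat.card ↥(B ⊓ K) :=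
      (Subgroup.card_le_of_le hYle).trans hle2
    have heq : B ⊓ K = (B ⊓ K) ⊔ Y := Subgroup.eq_of_le_of_card_ge le_sup_left hcard3
    exact hY1.trans (le_sup_right.trans heq.symm.le)
  have hB0B : ∀ z ∈ B ⊓ K, ∀ b ∈ B, z * b = b * z := fun z hz b hb =>
    hBc z (Subgroup.mem_inf.mp hz).1 b hb
  have hcommK : ∀ a s : G, ⁅a, s⁆ ∈ K := fun a s => by
    rw [hK, _root_.commutator_def]
    exact commutator_mem_commutator trivial trivial
  have hstep1' : ∀ k ∈ K, ∀ b ∈ B, ⁅b, k⁆ ∈ B ⊓ K := by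
    intro k hk b hb
    have : ⁅b, k⁆ = ⁅k, b⁆⁻¹ := by rw [commutatorElement_inv]
    rw [this]
    exact inv_mem (hstep1 (commutator_mem_commutator hk hb))
  have hstep2 : ∀ s : G, ∀ b ∈ B, ⁅b, s⁆ ∈ B ⊓ K := by
    intro s
    set F : Subgroup G := closure {g : G | ∃ a ∈ B, g = ⁅a, s⁆} with hF
    set W := (B ⊓ K) ⊔ F with hW
    have hFK : F ≤ K := by
      rw [hF, closure_le]
      rintro g ⟨a, -, rfl⟩
      exact hcommK a s
    have hWK : W ≤ K := sup_le inf_le_right hFK
    have hWc : ∀ x ∈ W, ∀ y ∈ W, x * y = y * x :=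
      fun x hx y hy => hmeta x (hWK hx) y (hWK hy)
    have hfW : ∀ a ∈ B, ⁅a, s⁆ ∈ W := fun a ha =>
      (le_sup_right : F ≤ W) (subset_closure ⟨a, ha, rfl⟩)
    have hmul : ∀ a₁ ∈ B, ∀ a₂ ∈ B, (⁅a₁, s⁆ * ⁅a₂, s⁆)⁻¹ * ⁅a₁ * a₂, s⁆ ∈ B ⊓ K := by
      intro a₁ h₁ a₂ h₂
      set u₁ := ⁅a₁, s⁆ with hu₁
      set u₂ := ⁅a₂, s⁆ with hu₂
      have hu₁K : u₁ ∈ K := hcommK a₁ s
      have hu₂K : u₂ ∈ K := hcommK a₂ s
      set c := ⁅a₁, u₂⁆ with hc
      have hcB : c ∈ B ⊓ K := hstep1' u₂ hu₂K a₁ h₁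
      have hcK : c ∈ K := (Subgroup.mem_inf.mp hcB).2
      have e : ⁅a₁ * a₂, s⁆ = c * u₂ * u₁ := by
        rw [hc, hu₁, hu₂]
        simp only [commutatorElement_def]; group
      have e1 : c * u₂ * u₁ = (u₁ * u₂) * c := by
        rw [hmeta c hcK u₂ hu₂K, mul_assoc, hmeta c hcK u₁ hu₁K, ← mul_assoc,
          hmeta u₂ hu₂K u₁ hu₁K]
      rw [e, e1, inv_mul_cancel_left]
      exact hcB
    let V : Subgroup G :=
      { carrier := {b | b ∈ B ∧ ⁅b, s⁆ ∈ B ⊓ K}
        mul_mem' := by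
          rintro a b ⟨ha, ha'⟩ ⟨hb, hb'⟩
          refine ⟨mul_mem ha hb, ?_⟩
          have := mul_mem (mul_mem ha' hb') (hmul a ha b hb)
          rwa [mul_inv_cancel_left] at this
        one_mem' := ⟨one_mem _, by simp [one_mem]⟩
        inv_mem' := by
          rintro a ⟨ha, ha'⟩
          refine ⟨inv_mem ha, ?_⟩
          have h1 := hmul a ha a⁻¹ (inv_mem ha)
          rw [mul_inv_cancel, commutatorElement_one_left, mul_one] at h1
          have h2 := inv_mem h1
          rw [inv_inv] at h2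
          have h3 := mul_mem (inv_mem ha') h2
          rwa [inv_mul_cancel_left] at h3 }
    have hVB : V ≤ B := fun b hb => hb.1
    have hcard := Cfsg.Agent.Lib.PGroup.Replacement.card_mul_card_eq (T := B) (C := B ⊓ K)
      (L := W) (K := V) (fun b => ⁅b, s⁆) hWc le_sup_left hVB hfW hmul le_rfl
      (fun a ha => ⟨fun h => ⟨ha, h⟩, fun h => h.2⟩)
    set C := B ⊓ centralizer (W : Set G) with hC
    -- the kernel centralizes `W`
    have hVC : V ≤ C := by
      intro a ha
      refine Subgroup.mem_inf.mpr ⟨ha.1, ?_⟩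
      have hle : W ≤ centralizer ({a} : Set G) := by
        refine sup_le ?_ ?_
        · intro z hz
          rw [mem_centralizer_singleton_iff]
          exact (hB0B z hz a ha.1)
        · rw [hF, closure_le]
          rintro g ⟨b, hb, rfl⟩
          rw [SetLike.mem_coe, mem_centralizer_singleton_iff]
          set u := ⁅a, s⁆ with hu
          set u' := ⁅b, s⁆ with hu'
          have huK : u ∈ K := hcommK a s
          have hu'K : u' ∈ K := hcommK b s
          have hsa : s * a * s⁻¹ = u⁻¹ * a := by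
            rw [hu]; simp only [commutatorElement_def]; group
          have hsb : s * b * s⁻¹ = u'⁻¹ * b := by
            rw [hu']; simp only [commutatorElement_def]; group
          have e1 : u⁻¹ * a * (u'⁻¹ * b) = u'⁻¹ * b * (u⁻¹ * a) := by
            rw [← hsa, ← hsb]
            calc s * a * s⁻¹ * (s * b * s⁻¹) = s * (a * b) * s⁻¹ := by group
              _ = s * (b * a) * s⁻¹ := by rw [hBc a ha.1 b hb]
              _ = s * b * s⁻¹ * (s * a * s⁻¹) := by group
          have h1 : Commute u⁻¹ b := Commute.inv_left (hB0B u ha.2 b hb)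
          have h2 : Commute u⁻¹ u'⁻¹ := Commute.inv_inv (hmeta u huK u' hu'K)
          have e2 : u'⁻¹ * b * (u⁻¹ * a) = u⁻¹ * (u'⁻¹ * b * a) := by
            calc u'⁻¹ * b * (u⁻¹ * a) = u'⁻¹ * (u⁻¹ * b) * a := by
                  rw [h1.eq]; group
              _ = (u⁻¹ * u'⁻¹) * b * a := by rw [h2.eq]; group
              _ = u⁻¹ * (u'⁻¹ * b * a) := by group
          have e3 : a * (u'⁻¹ * b) = u'⁻¹ * b * a := by
            have : u⁻¹ * (a * (u'⁻¹ * b)) = u⁻¹ * (u'⁻¹ * b * a) := by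
              rw [← e2, ← e1]; group
            exact mul_left_cancel this
          have e4 : a * u'⁻¹ = u'⁻¹ * a := by
            have : a * u'⁻¹ * b = u'⁻¹ * a * b := by
              calc a * u'⁻¹ * b = a * (u'⁻¹ * b) := by group
                _ = u'⁻¹ * b * a := e3
                _ = u'⁻¹ * (b * a) := by group
                _ = u'⁻¹ * (a * b) := by rw [hBc b hb a ha.1]
                _ = u'⁻¹ * a * b := by group
            exact mul_right_cancel this
          have h3 : Commute a u'⁻¹ := e4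
          exact (Commute.inv_right_iff.mp h3).symm.eq
      rw [mem_centralizer_iff]
      intro w hw
      have := hle hw
      rw [mem_centralizer_singleton_iff] at this
      exact this
    have hcross : ∀ a ∈ W, ∀ b ∈ C, a * b = b * a := by
      intro a ha b hb
      have := (Subgroup.mem_inf.mp hb).2
      rw [mem_centralizer_iff] at this
      exact this a ha
    have hCc : ∀ a ∈ C, ∀ b ∈ C, a * b = b * a := fun a ha b hb =>
      hBc a (Subgroup.mem_inf.mp ha).1 b (Subgroup.mem_inf.mp hb).1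
    have hcount := card_le_of_comm (Z := B ⊓ K) hcross (by
      intro x hx
      obtain ⟨h1, h2⟩ := Subgroup.mem_inf.mp hx
      exact Subgroup.mem_inf.mpr ⟨(Subgroup.mem_inf.mp h2).1, hWK h1⟩)
    have hcardge : Nat.card B ≤ Nat.card ↥(W ⊔ C) := by
      have hpos : 0 < Nat.card ↥(B ⊓ K) := Nat.card_pos
      have h1 : Nat.card B * Nat.card ↥(B ⊓ K) ≤ Nat.card ↥(W ⊔ C) * Nat.card ↥(B ⊓ K) := by
        rw [← hcard]
        exact (Nat.mul_le_mul_left _ (Subgroup.card_le_of_le hVC)).trans hcount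
      exact Nat.le_of_mul_le_mul_right h1 hpos
    have hnew : W ⊔ C ∈ maxAbelianSubgroups G :=
      ⟨isMulCommutative_of_comm (sup_comm_of hWc hCc hcross),
        fun E hE => (hB.2 E hE).trans hcardge⟩
    have hnewN : W ⊔ C ≤ N := by
      refine sup_le (sup_le (inf_le_left.trans hBN) ?_) (inf_le_left.trans hBN)
      rw [hF, closure_le]
      rintro g ⟨a, ha, rfl⟩
      have : ⁅a, s⁆ = a * (s * a⁻¹ * s⁻¹) := by rw [commutatorElement_def]; group
      rw [SetLike.mem_coe, this]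
      exact mul_mem (hBN ha) (hNn.conj_mem _ (inv_mem (hBN ha)) s)
    have hle2 := hmax _ ⟨hnew, hnewN⟩
    have hWle : W ≤ (W ⊔ C) ⊓ K := le_inf le_sup_left hWK
    have hcard3 : Nat.card W ≤ Nat.card ↥(B ⊓ K) := (Subgroup.card_le_of_le hWle).trans hle2
    have heq : B ⊓ K = W := Subgroup.eq_of_le_of_card_ge le_sup_left hcard3
    intro b hb
    rw [heq]
    exact hfW b hb
  refine ⟨B, hB, ⟨fun b hb s => ?_⟩, hBN⟩
  have e : s * b * s⁻¹ = ⁅b, s⁆⁻¹ * b := by
    simp only [commutatorElement_def]; group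
  rw [e]
  exact mul_mem (inv_mem (Subgroup.mem_inf.mp (hstep2 s b hb)).1) hb

end Cfsg.Agent.Lib.PGroup.WeakRepl
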