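import Mathlib

/-!
# Products over orbits of a quadratic action

If a `p`-group `A` acts quadratically on a finite abelian group `M` then the product of the elements of a
non-fixed orbit is a `p`-th power (except for orbits of length two when `p = 2`).
-/

set_option autoImplicit false

namespace Cfsg.Agent.Lib.PGroup.WeakClosureOrbit

open scoped BigOperators

/-- The product of all the elements of a nontrivial finite abelian `p`-group is a `p`-th power, except for
the group of order two. -/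
theorem prod_all_eq_pow {E : Type*} [CommGroup E] [Fintype E] {p : ℕ} [hp : Fact p.Prime]
    (hE : IsPGroup p E) (h1 : Nat.card E ≠ 1) (h2 : p = 2 → Nat.card E ≠ 2) :
    ∃ u : E, ∏ e : E, e = u ^ p := by
  classical
  by_cases hp2 : p = 2
  · subst hp2
    have h2' := h2 rfl
    obtain ⟨k, hk⟩ := IsPGroup.iff_card.mp hE
    have hk2 : 2 ≤ k := by
      by_contra hlt
      have : k = 0 ∨ k = 1 := by omega
      rcases this with rfl | rfl
      · exact h1 (by simpa using hk)
      · exact h2' (by simpa using hk)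
    obtain ⟨m, rfl⟩ : ∃ m, k = m + 2 := ⟨k - 2, by omega⟩
    obtain ⟨K, hK⟩ := Sylow.exists_subgroup_card_pow_prime (G := E) 2 (n := m + 1)
      (by rw [hk]; exact pow_dvd_pow 2 (by omega))
    have hidx : K.index = 2 := by
      have h := K.card_mul_index
      rw [hK, hk] at h
      have : 2 ^ (m + 2) = 2 ^ (m + 1) * 2 := by ring
      rw [this] at h
      exact Nat.eq_of_mul_eq_mul_left (by positivity) h
    obtain ⟨s, hs⟩ : ∃ s, s ∉ K := by
      by_contra hall
      push Not at hall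
      have : K = ⊤ := by
        ext x; simp [hall x]
      rw [this, Subgroup.index_top] at hidx
      omega
    have hnot : ∀ y, y ∉ K ↔ s⁻¹ * y ∈ K := by
      intro y
      have hK2 : K.index = 2 := hidx
      have := Subgroup.mul_mem_iff_of_index_two hK2 (a := s⁻¹) (b := y)
      constructor
      · intro hy
        rw [this]
        constructor
        · intro h; exact absurd (by simpa using K.inv_mem h) hs
        · intro h; exact absurd h hy
      · intro hy h
        have h3 := this.mp hy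
        have : s⁻¹ ∈ K := h3.mpr h
        exact hs (by simpa using K.inv_mem this)
    let f : {y // y ∈ K} ≃ {y // y ∉ K} :=
      { toFun := fun y => ⟨s * y, by
          rw [hnot]; simpa using y.2⟩
        invFun := fun y => ⟨s⁻¹ * y, (hnot _).mp y.2⟩
        left_inv := fun y => by ext; simp
        right_inv := fun y => by ext; simp }
    have h3 : ∏ e : E, e = (∏ y : {y // y ∈ K}, (y : E)) * ∏ y : {y // y ∉ K}, (y : E) :=
      (Fintype.prod_subtype_mul_prod_subtype (· ∈ K) (fun e : E => e)).symm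
    have h4 : ∏ y : {y // y ∉ K}, (y : E) = ∏ y : {y // y ∈ K}, (s * y) := by
      rw [← Equiv.prod_comp f]
      rfl
    have h5 : ∏ y : {y // y ∈ K}, (s * (y : E)) = s ^ (2 ^ (m + 1)) * ∏ y : {y // y ∈ K}, (y : E) := by
      rw [Finset.prod_mul_distrib, Finset.prod_const, Finset.card_univ]
      congr 2
      rw [← hK, Nat.card_eq_fintype_card]
    refine ⟨(∏ y : {y // y ∈ K}, (y : E)) * s ^ (2 ^ m), ?_⟩
    rw [h3, h4, h5, mul_pow, ← pow_mul]
    have : 2 ^ m * 2 = 2 ^ (m + 1) := by ring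
    rw [this, pow_two]
    ac_rfl
  · refine ⟨1, ?_⟩
    rw [one_pow]
    set τ := ∏ e : E, e with hτ
    have h3 : τ⁻¹ = τ := by
      rw [hτ, ← Finset.prod_inv_distrib]
      exact Equiv.prod_comp (Equiv.inv E) (fun e : E => e)
    have h4 : τ ^ 2 = 1 := by
      rw [pow_two]
      nth_rewrite 1 [← h3]
      simp
    obtain ⟨k, hk⟩ := IsPGroup.iff_orderOf.mp hE τ
    have h5 : p ^ k ∣ 2 := by rw [← hk]; exact orderOf_dvd_of_pow_eq_one h4
    have hk0 : k = 0 := by
      by_contra hne
      have : p ∣ 2 := (dvd_pow_self p hne).trans h5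
      exact hp2 ((Nat.prime_dvd_prime_iff_eq hp.out Nat.prime_two).mp this)
    rw [hk0, pow_zero, orderOf_eq_one_iff] at hk
    exact hk

variable {M : Type*} [CommGroup M] {A : Type*} [Group A]

/-- The commutator map of a quadratic action. -/
def eps (ρ : A →* MulAut M) (hq : ∀ a b m, ρ b (ρ a m / m) = ρ a m / m) (y : M) : A →* M :=
  MonoidHom.mk' (fun a => ρ a y / y) (by
    intro a b
    have h1 : ρ (a * b) y = ρ a (ρ b y) := by rw [map_mul]; rfl
    have h2 : ρ b y = y * (ρ b y / y) := by simp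
    have h3 : ρ a (ρ b y / y) = ρ b y / y := hq b a y
    calc ρ (a * b) y / y = ρ a (y * (ρ b y / y)) / y := by rw [h1, ← h2]
      _ = ρ a y * (ρ b y / y) / y := by rw [map_mul, h3]
      _ = ρ a y / y * (ρ b y / y) := by rw [div_mul_eq_mul_div])

theorem eps_apply (ρ : A →* MulAut M) (hq : ∀ a b m, ρ b (ρ a m / m) = ρ a m / m) (y : M) (a : A) :
    eps ρ hq y a = ρ a y / y := rfl

variable [Finite M] {p : ℕ} [hp : Fact p.Prime]

/-- The product over an invariant subset, all whose points have a nontrivial orbit. -/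
theorem prod_invariant_eq_pow (hA : IsPGroup p A) (ρ : A →* MulAut M)
    (hq : ∀ a b m, ρ b (ρ a m / m) = ρ a m / m)
    (T : Finset M) (hT : ∀ a, ∀ m ∈ T, ρ a m ∈ T)
    (hT1 : ∀ y ∈ T, (eps ρ hq y).range ≠ ⊥)
    (hT2 : p = 2 → ∀ y ∈ T, Nat.card (eps ρ hq y).range ≠ 2) :
    ∃ u : M, ∏ m ∈ T, m = u ^ p := by
  classical
  induction T using Finset.strongInduction with
  | H T ih =>
    by_cases hne : T.Nonempty
    swap
    · rw [Finset.not_nonempty_iff_eq_empty] at hne
      exact ⟨1, by simp [hne]⟩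
    obtain ⟨y, hy⟩ := hne
    set E := (eps ρ hq y).range with hE
    haveI : Fintype E := Fintype.ofFinite _
    let O : Finset M := Finset.univ.image (fun e : E => y * (e : M))
    have hmemO : ∀ m, m ∈ O ↔ ∃ a, ρ a y = m := by
      intro m
      simp only [O, Finset.mem_image, Finset.mem_univ, true_and]
      constructor
      · rintro ⟨⟨_, a, rfl⟩, rfl⟩
        exact ⟨a, by simp [eps_apply]⟩
      · rintro ⟨a, rfl⟩
        exact ⟨⟨_, a, rfl⟩, by simp [eps_apply]⟩
    have hOT : O ⊆ T := by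
      intro m hm
      obtain ⟨a, rfl⟩ := (hmemO m).mp hm
      exact hT a y hy
    have hyO : y ∈ O := (hmemO y).mpr ⟨1, by simp⟩
    -- the rest
    have hlt : T \ O ⊂ T := by
      refine Finset.sdiff_ssubset hOT ⟨y, hyO⟩
    have hstable : ∀ a, ∀ m ∈ T \ O, ρ a m ∈ T \ O := by
      intro a m hm
      rw [Finset.mem_sdiff] at hm ⊢
      refine ⟨hT a m hm.1, fun h => hm.2 ?_⟩
      obtain ⟨b, hb⟩ := (hmemO _).mp h
      refine (hmemO m).mpr ⟨a⁻¹ * b, ?_⟩
      rw [map_mul, MulAut.mul_apply, hb, ← MulAut.mul_apply, ← map_mul, inv_mul_cancel, map_one]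
      rfl
    obtain ⟨u₁, hu₁⟩ := ih _ hlt hstable (fun z hz => hT1 z (Finset.sdiff_subset hz))
      (fun h z hz => hT2 h z (Finset.sdiff_subset hz))
    -- the orbit
    have hEp : IsPGroup p E := by
      have := hA.of_surjective (eps ρ hq y).rangeRestrict (eps ρ hq y).rangeRestrict_surjective
      exact this
    have hE1 : Nat.card E ≠ 1 := by
      intro h
      exact hT1 y hy (Subgroup.card_eq_one.mp h)
    have hE2 : p = 2 → Nat.card E ≠ 2 := fun h => hT2 h y hy
    obtain ⟨u₂, hu₂⟩ := prod_all_eq_pow hEp hE1 hE2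
    have hcard : p ∣ Fintype.card E := by
      obtain ⟨k, hk⟩ := IsPGroup.iff_card.mp hEp
      rw [← Nat.card_eq_fintype_card, hk]
      refine dvd_pow_self p ?_
      rintro rfl
      exact hE1 (by simpa using hk)
    obtain ⟨c, hc⟩ := hcard
    have hO : ∏ m ∈ O, m = y ^ Fintype.card E * ((∏ e : E, e : E) : M) := by
      rw [Finset.prod_image (fun a _ b _ h => Subtype.ext (mul_left_cancel h))]
      rw [Finset.prod_mul_distrib, Finset.prod_const, Finset.card_univ]
      congr 1
      exact (map_prod E.subtype (fun e : E => e) Finset.univ).symm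
    refine ⟨u₁ * y ^ c * (u₂ : M), ?_⟩
    rw [← Finset.sdiff_union_of_subset hOT, Finset.prod_union Finset.sdiff_disjoint, hu₁, hO, hu₂, hc,
      mul_pow, mul_pow, mul_assoc, ← pow_mul, mul_comm c p]
    simp

/-- Unique fixed point: the product over an invariant set is the fixed point modulo `p`-th powers. -/
theorem prod_eq_mul_pow (hA : IsPGroup p A) (ρ : A →* MulAut M)
    (hq : ∀ a b m, ρ b (ρ a m / m) = ρ a m / m)
    (Ω : Finset M) (hΩ : ∀ a, ∀ m ∈ Ω, ρ a m ∈ Ω) {x : M} (hx : x ∈ Ω) (hxfix : ∀ a, ρ a x = x)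
    (huniq : ∀ y ∈ Ω, (∀ a, ρ a y = y) → y = x)
    (hsize : p = 2 → ∀ y ∈ Ω, y ≠ x → Nat.card (eps ρ hq y).range ≠ 2) :
    ∃ u : M, ∏ m ∈ Ω, m = x * u ^ p := by
  classical
  have hT : ∀ a, ∀ m ∈ Ω.erase x, ρ a m ∈ Ω.erase x := by
    intro a m hm
    rw [Finset.mem_erase] at hm ⊢
    refine ⟨fun h => hm.1 ?_, hΩ a m hm.2⟩
    have : ρ a⁻¹ (ρ a m) = m := by
      rw [← MulAut.mul_apply, ← map_mul, inv_mul_cancel, map_one]; rfl
    rw [← this, h, hxfix]
  obtain ⟨u, hu⟩ := prod_invariant_eq_pow hA ρ hq (Ω.erase x) hT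
    (by
      intro y hy hbot
      rw [Finset.mem_erase] at hy
      apply hy.1
      apply huniq y hy.2
      intro a
      have h1 : eps ρ hq y a ∈ (eps ρ hq y).range := ⟨a, rfl⟩
      rw [hbot, Subgroup.mem_bot, eps_apply, div_eq_one] at h1
      exact h1)
    (fun h y hy => by
      rw [Finset.mem_erase] at hy
      exact hsize h y hy.2 hy.1)
  exact ⟨u, by rw [← Finset.mul_prod_erase Ω (fun m => m) hx, hu]⟩

section group

open Subgroup

variable {G : Type*} [Group G] [Finite G]

/-- The sum argument: a `p`-group `A` acting quadratically on the abelian normal closure `V` of `x`, with `x` its unique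
fixed point among the conjugates of `x`, and without orbits of length two if `p = 2`, centralizes `V`. -/
theorem le_centralizer_of_unique_fixed {V A : Subgroup G} [hVn : V.Normal]
    (hVc : ∀ u ∈ V, ∀ v ∈ V, u * v = v * u) (hVp : IsPGroup p V) {x : G}
    (hxV : V = normalClosure ({x} : Set G)) (hAp : IsPGroup p A)
    (hq : ∀ v ∈ V, ∀ a ∈ A, ∀ b ∈ A, b * (v⁻¹ * (a * v * a⁻¹)) * b⁻¹ = v⁻¹ * (a * v * a⁻¹))
    (hfix : ∀ a ∈ A, a * x = x * a)
    (huniq : ∀ g : G, (∀ a ∈ A, a * (g * x * g⁻¹) = (g * x * g⁻¹) * a) → g * x * g⁻¹ = x)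
    (hsize : p = 2 → ∀ g : G, g * x * g⁻¹ ≠ x →
      ((centralizer ({g * x * g⁻¹} : Set G)).subgroupOf A).index ≠ 2) :
    A ≤ centralizer (V : Set G) := by
  classical
  have hxV' : x ∈ V := by
    rw [hxV]
    exact Subgroup.subset_normalClosure (Set.mem_singleton x)
  letI : CommGroup V := { (inferInstance : Group V) with
    mul_comm := fun a b => Subtype.ext (hVc a a.2 b b.2) }
  let ρ : A →* MulAut V := (MulAut.conjNormal (H := V)).comp A.subtype
  have hρ : ∀ (a : A) (m : V), ((ρ a m : V) : G) = a * m * (a : G)⁻¹ := fun a m => by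
    simp [ρ]
  have hq' : ∀ a b m, ρ b (ρ a m / m) = ρ a m / m := by
    intro a b m
    apply Subtype.ext
    rw [hρ]
    have h1 : ((ρ a m / m : V) : G) = (m : G)⁻¹ * (a * m * (a : G)⁻¹) := by
      rw [div_eq_mul_inv, Subgroup.coe_mul, hρ, Subgroup.coe_inv]
      exact hVc _ (hVn.conj_mem _ m.2 _) _ (V.inv_mem m.2)
    rw [h1]
    exact hq m m.2 a a.2 b b.2
  set X : V := ⟨x, hxV'⟩ with hX
  let Ω : Finset V := (Set.toFinite {m : V | ∃ g : G, (m : G) = g * x * g⁻¹}).toFinset
  have hmemΩ : ∀ m : V, m ∈ Ω ↔ ∃ g : G, (m : G) = g * x * g⁻¹ := by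
    intro m
    simp [Ω]
  have hXΩ : X ∈ Ω := (hmemΩ X).mpr ⟨1, by simp [hX]⟩
  have hconj : ∀ (g : G) (m : V), m ∈ Ω → MulAut.conjNormal g m ∈ Ω := by
    intro g m hm
    obtain ⟨h, hh⟩ := (hmemΩ m).mp hm
    refine (hmemΩ _).mpr ⟨g * h, ?_⟩
    rw [MulAut.conjNormal_apply, hh]
    group
  have hΩ : ∀ a, ∀ m ∈ Ω, ρ a m ∈ Ω := fun a m hm => hconj a m hm
  have hXfix : ∀ a, ρ a X = X := by
    intro a
    apply Subtype.ext
    rw [hρ]
    change (a : G) * x * (a : G)⁻¹ = x
    rw [hfix a a.2]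
    group
  have huniq' : ∀ y ∈ Ω, (∀ a, ρ a y = y) → y = X := by
    intro y hy hyfix
    obtain ⟨g, hg⟩ := (hmemΩ y).mp hy
    apply Subtype.ext
    rw [hg]
    apply huniq g
    intro a ha
    have h1 := congrArg Subtype.val (hyfix ⟨a, ha⟩)
    rw [hρ, hg] at h1
    calc a * (g * x * g⁻¹) = (a * (g * x * g⁻¹) * a⁻¹) * a := by group
      _ = (g * x * g⁻¹) * a := by rw [h1]
  have hsize' : p = 2 → ∀ y ∈ Ω, y ≠ X → Nat.card (eps ρ hq' y).range ≠ 2 := by
    intro h2 y hy hne
    obtain ⟨g, hg⟩ := (hmemΩ y).mp hy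
    rw [← Subgroup.index_ker]
    have hker : (eps ρ hq' y).ker = (centralizer ({g * x * g⁻¹} : Set G)).subgroupOf A := by
      ext a
      rw [MonoidHom.mem_ker, eps_apply, div_eq_one, Subgroup.mem_subgroupOf,
        Subgroup.mem_centralizer_singleton_iff, ← hg]
      constructor
      · intro h
        have h1 := congrArg Subtype.val h
        rw [hρ] at h1
        calc (a : G) * y = ((a : G) * y * (a : G)⁻¹) * a := by group
          _ = y * a := by rw [h1]
      · intro h
        apply Subtype.ext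
        rw [hρ, h]
        group
    rw [hker]
    refine hsize h2 g ?_
    rw [← hg]
    intro h
    exact hne (Subtype.ext h)
  obtain ⟨u, hu⟩ := prod_eq_mul_pow hAp ρ hq' Ω hΩ hXΩ hXfix huniq' hsize'
  -- the product is `G`-invariant
  have hinv : ∀ g : G, MulAut.conjNormal g (∏ m ∈ Ω, m) = ∏ m ∈ Ω, m := by
    intro g
    rw [map_prod]
    refine Finset.prod_bij (fun m _ => MulAut.conjNormal g m) (fun m hm => hconj g m hm)
      (fun a _ b _ h => (MulAut.conjNormal g).injective h) ?_ (fun _ _ => rfl)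
    intro b hb
    refine ⟨MulAut.conjNormal g⁻¹ b, hconj g⁻¹ b hb, ?_⟩
    rw [map_inv, ← MulAut.mul_apply, mul_inv_cancel]
    rfl
  -- every conjugate is congruent to `x` modulo `p`-th powers
  have hcong : ∀ g : G, ∃ w : V, MulAut.conjNormal g X = X * w ^ p := by
    intro g
    refine ⟨u / MulAut.conjNormal g u, ?_⟩
    have h1 := hinv g
    rw [hu, map_mul, map_pow] at h1
    rw [div_pow, mul_div_assoc', ← h1]
    simp
  -- hence `V = ⟨x⟩`
  set N : Subgroup V := zpowers X with hN
  have hstep : ∀ v : V, ∃ n ∈ N, ∃ w : V, v = n * w ^ p := by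
    intro v
    let D : Subgroup V := N ⊔ (powMonoidHom p : V →* V).range
    have hDm : ∀ v : V, v ∈ D → ∃ n ∈ N, ∃ w : V, v = n * w ^ p := by
      intro v hv
      obtain ⟨n, hn, _, ⟨w, rfl⟩, rfl⟩ := Subgroup.mem_sup.mp hv
      exact ⟨n, hn, w, rfl⟩
    apply hDm
    have hle : V ≤ D.map V.subtype := by
      nth_rewrite 1 [hxV]
      rw [Subgroup.normalClosure, Subgroup.closure_le]
      intro c hc
      rw [Group.mem_conjugatesOfSet_iff] at hc
      obtain ⟨b, hb, hbc⟩ := hc
      obtain rfl : b = x := hb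
      obtain ⟨g, rfl⟩ := isConj_iff.mp hbc
      obtain ⟨w, hw⟩ := hcong g
      refine ⟨MulAut.conjNormal g X, ?_, by simp [hX]⟩
      rw [hw]
      exact D.mul_mem (Subgroup.mem_sup_left (Subgroup.mem_zpowers X))
        (Subgroup.mem_sup_right ⟨w, rfl⟩)
    obtain ⟨d, hd, hde⟩ := hle v.2
    have : d = v := Subtype.ext hde
    rwa [← this]
  have hiter : ∀ k : ℕ, ∀ v : V, ∃ n ∈ N, ∃ w : V, v = n * w ^ (p ^ k) := by
    intro k
    induction k with
    | zero => intro v; exact ⟨1, N.one_mem, v, by simp⟩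
    | succ k ih =>
      intro v
      obtain ⟨n, hn, w, rfl⟩ := ih v
      obtain ⟨n', hn', w', rfl⟩ := hstep w
      refine ⟨n * n' ^ (p ^ k), N.mul_mem hn (N.pow_mem hn' _), w', ?_⟩
      rw [mul_pow, ← pow_mul, pow_succ', mul_assoc, mul_comm p]
  obtain ⟨k, hk⟩ := IsPGroup.iff_card.mp hVp
  have hall : ∀ v : V, v ∈ N := by
    intro v
    obtain ⟨n, hn, w, rfl⟩ := hiter k v
    have : w ^ (p ^ k) = 1 := by
      rw [← hk]
      exact pow_card_eq_one'
    rwa [this, mul_one]
  intro a ha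
  rw [Subgroup.mem_centralizer_iff]
  intro v hv
  have h1 : (⟨v, hv⟩ : V) ∈ N := hall _
  obtain ⟨i, hi⟩ := Subgroup.mem_zpowers_iff.mp h1
  have h2 : v = x ^ i := by
    have := congrArg Subtype.val hi
    simpa [hX] using this.symm
  have h3 : Commute a x := hfix a ha
  rw [h2]
  exact (h3.zpow_right i).symm.eq

end group

end Cfsg.Agent.Lib.PGroup.WeakClosureOrbit
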