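import Mathlib
import Cfsg.Agent.Lib.PGroup.ZJ
import Cfsg.Agent.Lib.PGroup.Timmesfeld
import Cfsg.Agent.Lib.PGroup.WeakClosureOrbit
import Cfsg.Agent.Lib.SFour.Recog
import Cfsg.Agent.Lib.Basic.SylowUtil

/-!
# Glauberman's theorem on weakly closed elements

If `S` is a Sylow `p`-subgroup of `G` and `x ∈ S` is central in `N_G(J(S))`, and `p` is odd, or `x` is a `p`-th power
of an element of `Z(S)`, or `S₄` is not involved in `G`, then `x` is weakly closed in `S` with respect to `G`.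
-/

set_option autoImplicit false
set_option linter.unusedSectionVars false
set_option linter.style.haveILetI false

universe u

namespace Cfsg.Agent.Lib.PGroup.WeakClosure

open Subgroup Cfsg Cfsg.Agent.Lib.PGroup.ZJ Cfsg.Agent.Lib.Basic.SylowUtil Cfsg.Agent.Lib.Basic.Conj
open scoped Pointwise commutatorElement

variable {G : Type*} [Group G] [Finite G] {p : ℕ} [hp : Fact p.Prime]

/-- The hypothesis on `x`. -/
def HH (p : ℕ) {G : Type*} [Group G] (S : Subgroup G) (x : G) : Prop :=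
  p ≠ 2 ∨ (∃ z ∈ S, (∀ u ∈ S, z * u = u * z) ∧ z ^ p = x) ∨ ¬ Involves (Equiv.Perm (Fin 4)) G

/-- The statement of the theorem for the group `G`. -/
def WCProp (p : ℕ) (G : Type*) [Group G] [Fact p.Prime] : Prop :=
  ∀ (S : Sylow p G) (x : G), x ∈ (S : Subgroup G) →
    (∀ g ∈ normalizer ((JJ 0 (S : Subgroup G) : Subgroup G) : Set G), g * x = x * g) →
    HH p (S : Subgroup G) x → ∀ g, g * x * g⁻¹ ∈ (S : Subgroup G) → g * x * g⁻¹ = x

/-! ### Generalities -/

theorem lt_inf_normalizer {U D : Subgroup G} (hU : IsPGroup p U) (hD : D < U) :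
    D < U ⊓ normalizer (D : Set G) := by
  have hnil : Group.IsNilpotent U := hU.isNilpotent
  have hcond : NormalizerCondition U := Group.normalizerCondition_of_isNilpotent
  have hlt : D.subgroupOf U < ⊤ := by
    refine lt_top_iff_ne_top.2 fun h => hD.ne ?_
    rw [Subgroup.subgroupOf_eq_top] at h
    exact le_antisymm hD.le h
  obtain ⟨hle, y, hy, hyn⟩ := SetLike.lt_iff_le_and_exists.1 (hcond _ hlt)
  have hy1 : (y : G) ∈ normalizer (D : Set G) := by
    refine Subgroup.mem_normalizer_iff.2 fun w => ?_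
    by_cases hw : w ∈ U
    · exact (Subgroup.mem_normalizer_iff.1 hy) ⟨w, hw⟩
    · constructor
      · intro h; exact absurd (hD.le h) hw
      · intro h
        exfalso; apply hw
        have h1 : (y : G) * w * (y : G)⁻¹ ∈ U := hD.le h
        have h2 : w = (y : G)⁻¹ * ((y : G) * w * (y : G)⁻¹) * (y : G) := by group
        rw [h2]
        exact U.mul_mem (U.mul_mem (U.inv_mem y.2) h1) y.2
  refine lt_of_le_of_ne (le_inf hD.le Subgroup.le_normalizer) fun h => hyn ?_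
  have : (y : G) ∈ U ⊓ normalizer (D : Set G) := ⟨y.2, hy1⟩
  rw [← h] at this
  exact this

theorem card_lt_of_lt {H K : Subgroup G} (h : H < K) : Nat.card H < Nat.card K := by
  refine lt_of_le_of_ne (Subgroup.card_le_of_le h.le) fun he => h.ne ?_
  exact Subgroup.eq_of_le_of_card_ge h.le he.ge

theorem normalizer_le_normalizer_JJ (R : Subgroup G) :
    normalizer (R : Set G) ≤ normalizer ((JJ 0 R : Subgroup G) : Set G) := by
  intro g hg
  have h1 : ∀ y ∈ R, g * y * g⁻¹ ∈ R := fun y hy => (Subgroup.mem_normalizer_iff.1 hg y).1 hy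
  have h2 : ∀ y ∈ R, g⁻¹ * y * g⁻¹⁻¹ ∈ R := fun y hy =>
    (Subgroup.mem_normalizer_iff.1 (inv_mem hg) y).1 hy
  refine Subgroup.mem_normalizer_iff.2 fun w => ⟨fun hw => conj_mem_JJ h1 hw, fun hw => ?_⟩
  have := conj_mem_JJ h2 hw
  have h3 : g⁻¹ * (g * w * g⁻¹) * g⁻¹⁻¹ = w := by group
  rwa [h3] at this

theorem le_normalizer_JJ (R : Subgroup G) : R ≤ normalizer ((JJ 0 R : Subgroup G) : Set G) :=
  Subgroup.le_normalizer.trans (normalizer_le_normalizer_JJ R)

/-- The Thompson subgroup only depends on the section between `J(S)` and `S`. -/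
theorem JJ_eq_of_le {R S : Subgroup G} (h1 : JJ 0 S ≤ R) (h2 : R ≤ S) : JJ 0 R = JJ 0 S := by
  have hAA : AA 0 R = AA 0 S := by
    ext U
    constructor
    · intro hU
      obtain ⟨U₀, hU₀⟩ := AA_nonempty (G := G) 0 S
      have h3 := hU.2.2 U₀ ((AA_le_JJ hU₀).trans h1) hU₀.2.1
      exact ⟨hU.1.trans h2, hU.2.1, fun V hV hV2 => (hU₀.2.2 V hV hV2).trans h3⟩
    · intro hU
      exact ⟨(AA_le_JJ hU).trans h1, hU.2.1, fun V hV hV2 => hU.2.2 V (hV.trans h2) hV2⟩
  rw [JJ, JJ, hAA]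

/-- The Thompson subgroup and subtype maps. -/
theorem JJ_map_subtype (L : Subgroup G) (R : Subgroup L) :
    (JJ 0 R).map L.subtype = JJ 0 (R.map L.subtype) := by
  have hPP : ∀ {A : Subgroup L}, PP 0 A → PP 0 (A.map L.subtype) := by
    intro A hA
    constructor
    · rintro _ ⟨u, hu, rfl⟩ _ ⟨v, hv, rfl⟩
      exact congrArg Subtype.val (hA.1 u hu v hv)
    · intro y _
      exact pow_zero y
  have hPP' : ∀ {A : Subgroup G}, PP 0 A → PP 0 (A.subgroupOf L) := by
    intro A hA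
    constructor
    · intro u hu v hv
      exact Subtype.ext (hA.1 u hu v hv)
    · intro y _
      exact pow_zero y
  have hcard : ∀ A : Subgroup L, Nat.card (A.map L.subtype) = Nat.card A := fun A =>
    Subgroup.card_map_of_injective L.subtype_injective
  have hsup : (JJ 0 R).map L.subtype = sSup ((fun A : Subgroup L => A.map L.subtype) '' AA 0 R) := by
    rw [sSup_image]
    exact (Subgroup.gc_map_comap L.subtype).l_sSup
  rw [hsup]
  have him : (fun A : Subgroup L => A.map L.subtype) '' AA 0 R = AA 0 (R.map L.subtype) := by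
    ext U
    constructor
    · rintro ⟨A, hA, rfl⟩
      refine ⟨Subgroup.map_mono hA.1, hPP hA.2.1, fun V hV hV2 => ?_⟩
      rw [hcard]
      have hVL : V ≤ L := hV.trans (Subgroup.map_subtype_le R)
      have h1 : (V.subgroupOf L).map L.subtype = V := by
        rw [Subgroup.subgroupOf_map_subtype, inf_of_le_left hVL]
      have h2 : V.subgroupOf L ≤ R := by
        intro y hy
        have : (y : G) ∈ R.map L.subtype := hV hy
        obtain ⟨w, hw, hwe⟩ := this
        have : w = y := Subtype.ext hwe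
        rwa [← this]
      have h3 := hA.2.2 _ h2 (hPP' hV2)
      rwa [← hcard (V.subgroupOf L), h1] at h3
    · intro hU
      have hUL : U ≤ L := hU.1.trans (Subgroup.map_subtype_le R)
      have h1 : (U.subgroupOf L).map L.subtype = U := by
        rw [Subgroup.subgroupOf_map_subtype, inf_of_le_left hUL]
      refine ⟨U.subgroupOf L, ⟨?_, hPP' hU.2.1, fun V hV hV2 => ?_⟩, h1⟩
      · intro y hy
        have : (y : G) ∈ R.map L.subtype := hU.1 hy
        obtain ⟨w, hw, hwe⟩ := this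
        have : w = y := Subtype.ext hwe
        rwa [← this]
      · have h3 := hU.2.2 _ (Subgroup.map_mono hV) (hPP hV2)
        rw [hcard] at h3
        rwa [← hcard (U.subgroupOf L), h1]
  rw [him, JJ]

theorem card_sylow_eq (U U' : Sylow p G) : Nat.card U = Nat.card U' := by
  rw [Sylow.card_eq_multiplicity, Sylow.card_eq_multiplicity]

/-- A maximal abelian subgroup of a Sylow subgroup contained in another Sylow subgroup. -/
theorem AA_of_le {U U' : Sylow p G} {A : Subgroup G} (hA : A ∈ AA 0 (U : Subgroup G)) (h : A ≤ U') :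
    A ∈ AA 0 (U' : Subgroup G) := by
  refine ⟨h, hA.2.1, fun V hV hV2 => ?_⟩
  obtain ⟨g, hg⟩ := exists_conj_smul_eq U' U
  have h1 : V.map (MulAut.conj g).toMonoidHom ≤ U := by
    rw [← hg]
    exact Subgroup.map_mono hV
  have h2 := hA.2.2 _ h1 (PP_map hV2 _)
  rwa [card_map_equiv] at h2

/-- A subgroup of `U` of the right order and abelian is in `AA`. -/
theorem AA_of_card {U : Subgroup G} {A B : Subgroup G} (hA : A ∈ AA 0 U) (hBU : B ≤ U) (hB : PP 0 B)
    (hc : Nat.card A ≤ Nat.card B) : B ∈ AA 0 U :=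
  ⟨hBU, hB, fun V hV hV2 => (hA.2.2 V hV hV2).trans hc⟩

/-- The existence of Sylow subgroups covering `P₁` and a conjugate covering `P₂`. -/
theorem exists_sylow_pair (L P₁ P₂ : Subgroup G) (h1 : P₁ ≤ L) (h2 : P₂ ≤ L)
    (hp1 : IsPGroup p P₁) (hp2 : IsPGroup p P₂) :
    ∃ U₁ : Sylow p G, ∃ ℓ ∈ L, P₁ ≤ U₁ ∧ P₂ ≤ ((ℓ • U₁ : Sylow p G) : Subgroup G) := by
  have hp1' : IsPGroup p (P₁.subgroupOf L) := hp1.comap_subtype
  have hp2' : IsPGroup p (P₂.subgroupOf L) := hp2.comap_subtype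
  obtain ⟨T₁, hT₁⟩ := hp1'.exists_le_sylow
  obtain ⟨T₂, hT₂⟩ := hp2'.exists_le_sylow
  obtain ⟨U₁, hU₁⟩ := (T₁.2.map L.subtype).exists_le_sylow
  obtain ⟨ℓ, hℓ⟩ := MulAction.exists_smul_eq L T₁ T₂
  refine ⟨U₁, ℓ, ℓ.2, ?_, ?_⟩
  · intro y hy
    exact hU₁ ⟨⟨y, h1 hy⟩, hT₁ hy, rfl⟩
  · intro y hy
    rw [coe_smul_sylow, mem_conj_smul_iff]
    have h3 : (⟨y, h2 hy⟩ : L) ∈ (T₂ : Subgroup L) := hT₂ hy
    rw [← hℓ, coe_smul_sylow, mem_conj_smul_iff] at h3
    exact hU₁ ⟨_, h3, rfl⟩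

/-- A conjugate of the Sylow subgroup covering a given `p`-subgroup inside a centralizer. -/
theorem exists_conj_le_of_le_centralizer {C : Subgroup G} (U : Sylow p G) (hU : (U : Subgroup G) ≤ C)
    {X : Subgroup G} (hX : IsPGroup p X) (hXC : X ≤ C) :
    ∃ c ∈ C, X ≤ ((c • U : Sylow p G) : Subgroup G) := by
  have hp' : IsPGroup p (X.subgroupOf C) := hX.comap_subtype
  obtain ⟨T, hT⟩ := hp'.exists_le_sylow
  obtain ⟨c, hc⟩ := MulAction.exists_smul_eq C (U.subtype hU) T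
  refine ⟨c, c.2, fun y hy => ?_⟩
  have h1 : (⟨y, hXC hy⟩ : C) ∈ (T : Subgroup C) := hT hy
  rw [← hc, coe_smul_sylow, mem_conj_smul_iff] at h1
  rw [coe_smul_sylow, mem_conj_smul_iff]
  have h2 := (U.coe_subtype hU ▸ h1 : _ ∈ (U : Subgroup G).subgroupOf C)
  exact h2

/-! ### The system of conjugates -/

/-- The `G`-equivariant choice of an element of `Z(N(J(U)))` for every Sylow subgroup `U`. -/
structure Sys (p : ℕ) (G : Type*) [Group G] [Fact p.Prime] where
  φ : Sylow p G → G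
  equi : ∀ (g : G) (U : Sylow p G), φ (g • U) = g * φ U * g⁻¹
  mem : ∀ U : Sylow p G, φ U ∈ (U : Subgroup G)
  cent : ∀ U : Sylow p G, ∀ g ∈ normalizer ((JJ 0 (U : Subgroup G) : Subgroup G) : Set G),
    g * φ U = φ U * g
  hh : ∀ U : Sylow p G, HH p (U : Subgroup G) (φ U)

theorem Sys.central (W : Sys p G) (U : Sylow p G) {u : G} (hu : u ∈ (U : Subgroup G)) :
    u * W.φ U = W.φ U * u :=
  W.cent U u (le_normalizer_JJ _ hu)

/-! ### The key induction -/

section key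

variable (W : Sys p G) (𝓑 : Sylow p G → Subgroup G → Prop)

/-- The statement at level `n`. -/
def QQ (W : Sys p G) (𝓑 : Sylow p G → Subgroup G → Prop) (n : ℕ) : Prop :=
  (∀ U U' : Sylow p G, 𝓑 U ((U : Subgroup G) ⊓ U') → n ≤ Nat.card ↥((U : Subgroup G) ⊓ U') →
    W.φ U' = W.φ U) ∧
  (∀ (U : Sylow p G) (Q : Subgroup G), 𝓑 U Q → n ≤ Nat.card ↥((U : Subgroup G) ⊓ normalizer (Q : Set G)) →
    normalizer (Q : Set G) ≤ centralizer ({W.φ U} : Set G))

variable {W 𝓑}

theorem step_C (ha : ∀ (U : Sylow p G) (Q : Subgroup G), 𝓑 U Q → Q ≤ U ∧ W.φ U ∈ Q ∧ ¬ Q.Normal)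
    (hb : ∀ (U : Sylow p G) (Q Q' : Subgroup G), 𝓑 U Q → Q ≤ Q' → Q' ≤ U → 𝓑 U Q')
    (hc : ∀ (U U' : Sylow p G) (Q : Subgroup G), 𝓑 U Q → Q ≤ (U' : Subgroup G) → W.φ U' = W.φ U → 𝓑 U' Q)
    {n : ℕ} (h : QQ W 𝓑 (n + 1)) (U U' : Sylow p G) (hB : 𝓑 U ((U : Subgroup G) ⊓ U'))
    (hn : n ≤ Nat.card ↥((U : Subgroup G) ⊓ U')) : W.φ U' = W.φ U := by
  by_cases hUU : U = U'
  · rw [hUU]
  obtain ⟨hC, hP⟩ := h
  set D : Subgroup G := (U : Subgroup G) ⊓ U' with hD
  have hne : ∀ {V V' : Sylow p G}, V ≠ V' → (V : Subgroup G) ⊓ V' < V := by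
    intro V V' hV
    refine lt_of_le_of_ne inf_le_left fun he => hV ?_
    have h1 : (V : Subgroup G) ≤ V' := inf_eq_left.mp he
    exact Sylow.ext (V.is_maximal' V'.2 h1).symm
  have hDU : D < U := hne hUU
  have hDU' : D < U' := by
    rw [hD, inf_comm]
    exact hne (Ne.symm hUU)
  set L : Subgroup G := normalizer (D : Set G) with hL
  have hP1 : D < (U : Subgroup G) ⊓ L := lt_inf_normalizer U.2 hDU
  have hP2 : D < (U' : Subgroup G) ⊓ L := lt_inf_normalizer U'.2 hDU'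
  have hc1 : n + 1 ≤ Nat.card ↥((U : Subgroup G) ⊓ L) := hn.trans_lt (card_lt_of_lt hP1)
  have hc2 : n + 1 ≤ Nat.card ↥((U' : Subgroup G) ⊓ L) := by
    have h1 := card_lt_of_lt hP2
    omega
  have hLfix : L ≤ centralizer ({W.φ U} : Set G) := hP U D hB hc1
  obtain ⟨U₁, ℓ, hℓ, h1, h2⟩ := exists_sylow_pair (p := p) L ((U : Subgroup G) ⊓ L)
    ((U' : Subgroup G) ⊓ L) inf_le_right inf_le_right
    (U.2.to_le inf_le_left) (U'.2.to_le inf_le_left)
  have h3 : (U : Subgroup G) ⊓ L ≤ (U : Subgroup G) ⊓ U₁ := le_inf inf_le_left h1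
  have h4 : 𝓑 U ((U : Subgroup G) ⊓ U₁) := hb U D _ hB (hP1.le.trans h3) inf_le_left
  have h5 : W.φ U₁ = W.φ U :=
    hC U U₁ h4 (hc1.trans (Subgroup.card_le_of_le h3))
  set U₂ : Sylow p G := ℓ • U₁ with hU₂
  have h6 : W.φ U₂ = W.φ U := by
    rw [hU₂, W.equi, h5]
    have := Subgroup.mem_centralizer_singleton_iff.mp (hLfix hℓ)
    rw [this]
    group
  have h7 : D ≤ U₂ := hP2.le.trans h2
  have h8 : 𝓑 U₂ D := hc U U₂ D hB h7 h6
  have h9 : (U' : Subgroup G) ⊓ L ≤ (U₂ : Subgroup G) ⊓ U' := le_inf h2 inf_le_left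
  have h10 : 𝓑 U₂ ((U₂ : Subgroup G) ⊓ U') := hb U₂ D _ h8 (hP2.le.trans h9) inf_le_left
  rw [hC U₂ U' h10 (hc2.trans (Subgroup.card_le_of_le h9)), h6]

theorem step_P (IH : ∀ L : Subgroup G, L ≠ ⊤ → WCProp p L)
    (ha : ∀ (U : Sylow p G) (Q : Subgroup G), 𝓑 U Q → Q ≤ U ∧ W.φ U ∈ Q ∧ ¬ Q.Normal)
    (hb : ∀ (U : Sylow p G) (Q Q' : Subgroup G), 𝓑 U Q → Q ≤ Q' → Q' ≤ U → 𝓑 U Q')
    (hc : ∀ (U U' : Sylow p G) (Q : Subgroup G), 𝓑 U Q → Q ≤ (U' : Subgroup G) → W.φ U' = W.φ U → 𝓑 U' Q)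
    (hd : ∀ (U : Sylow p G) (Q : Subgroup G), 𝓑 U Q →
      𝓑 U (JJ 0 ((U : Subgroup G) ⊓ normalizer (Q : Set G))))
    {n : ℕ} (h : QQ W 𝓑 (n + 1))
    (hCn : ∀ U U' : Sylow p G, 𝓑 U ((U : Subgroup G) ⊓ U') → n ≤ Nat.card ↥((U : Subgroup G) ⊓ U') →
      W.φ U' = W.φ U)
    (U : Sylow p G) (Q : Subgroup G) (hB : 𝓑 U Q)
    (hn : n ≤ Nat.card ↥((U : Subgroup G) ⊓ normalizer (Q : Set G))) :
    normalizer (Q : Set G) ≤ centralizer ({W.φ U} : Set G) := by
  obtain ⟨-, hP⟩ := h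
  obtain ⟨hQU, htQ, hQn⟩ := ha U Q hB
  set L : Subgroup G := normalizer (Q : Set G) with hL
  set P : Subgroup G := (U : Subgroup G) ⊓ L with hPdef
  have hQL : Q ≤ L := Subgroup.le_normalizer
  have hQP : Q ≤ P := le_inf hQU hQL
  have hPp : IsPGroup p P := U.2.to_le inf_le_left
  have hPL : P ≤ L := inf_le_right
  have hp' : IsPGroup p (P.subgroupOf L) := hPp.comap_subtype
  obtain ⟨T, hT⟩ := hp'.exists_le_sylow
  set T' : Subgroup G := (T : Subgroup L).map L.subtype with hT'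
  have hPT' : P ≤ T' := by
    intro y hy
    exact ⟨⟨y, hPL hy⟩, hT hy, rfl⟩
  have hT'p : IsPGroup p T' := T.2.map _
  have hT'L : T' ≤ L := Subgroup.map_subtype_le _
  by_cases hne : P = T'
  swap
  · -- `P` is not Sylow in `L`
    have hlt : P < T' := lt_of_le_of_ne hPT' hne
    obtain ⟨U₁, hU₁⟩ := hT'p.exists_le_sylow
    have h1 : P ≤ (U : Subgroup G) ⊓ U₁ := le_inf inf_le_left (hPT'.trans hU₁)
    have h2 : 𝓑 U ((U : Subgroup G) ⊓ U₁) := hb U Q _ hB (hQP.trans h1) inf_le_left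
    have h3 : W.φ U₁ = W.φ U := hCn U U₁ h2 (hn.trans (Subgroup.card_le_of_le h1))
    have h4 : 𝓑 U₁ Q := hc U U₁ Q hB (hQP.trans (hPT'.trans hU₁)) h3
    have h5 : T' ≤ (U₁ : Subgroup G) ⊓ L := le_inf hU₁ hT'L
    have h6 : n + 1 ≤ Nat.card ↥((U₁ : Subgroup G) ⊓ L) :=
      (hn.trans_lt (card_lt_of_lt hlt)).trans_le (Subgroup.card_le_of_le h5)
    have h7 := hP U₁ Q h4 h6
    rwa [h3] at h7
  · -- `P` is Sylow in `L`; use induction on `|G|`
    have hLtop : L ≠ ⊤ := by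
      intro h
      apply hQn
      rw [← Subgroup.normalizer_eq_top_iff, ← hL, h]
    set t : G := W.φ U with ht
    have htL : t ∈ L := hQL htQ
    have hmemT : ∀ (y : G) (hy : y ∈ L), y ∈ P → (⟨y, hy⟩ : L) ∈ (T : Subgroup L) := by
      intro y hy hyP
      rw [hne] at hyP
      obtain ⟨w, hw, hwe⟩ := hyP
      have : w = ⟨y, hy⟩ := Subtype.ext hwe
      rwa [← this]
    have hcent : ∀ g ∈ normalizer ((JJ 0 (T : Subgroup L) : Subgroup L) : Set L),
        g * (⟨t, htL⟩ : L) = ⟨t, htL⟩ * g := by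
      intro g hg
      -- `g` normalizes `J(P)`
      have h1 : (g : G) ∈ normalizer ((JJ 0 P : Subgroup G) : Set G) := by
        rw [hne, hT', ← JJ_map_subtype]
        refine Subgroup.mem_normalizer_iff.2 fun y => ?_
        constructor
        · rintro ⟨w, hw, rfl⟩
          exact ⟨g * w * g⁻¹, (Subgroup.mem_normalizer_iff.1 hg w).1 hw, rfl⟩
        · rintro ⟨w, hw, hwe⟩
          have h5 : (g⁻¹ * w * g : L) ∈ JJ 0 (T : Subgroup L) := by
            have h6 : g * (g⁻¹ * w * g) * g⁻¹ = w := by group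
            have := (Subgroup.mem_normalizer_iff.1 hg (g⁻¹ * w * g)).2 (by rw [h6]; exact hw)
            exact this
          refine ⟨_, h5, ?_⟩
          change (g : G)⁻¹ * (w : G) * g = y
          have hwe' : (w : G) = g * y * (g : G)⁻¹ := hwe
          rw [hwe']
          group
      apply Subtype.ext
      change (g : G) * t = t * g
      by_cases hPU : P = U
      · rw [hPU] at h1
        exact W.cent U g h1
      · have hlt : P < U := lt_of_le_of_ne inf_le_left hPU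
        have h2 := lt_inf_normalizer U.2 hlt
        have h3 : (U : Subgroup G) ⊓ normalizer (P : Set G) ≤
            (U : Subgroup G) ⊓ normalizer ((JJ 0 P : Subgroup G) : Set G) :=
          inf_le_inf_left _ (normalizer_le_normalizer_JJ P)
        have h4 : n + 1 ≤ Nat.card ↥((U : Subgroup G) ⊓ normalizer ((JJ 0 P : Subgroup G) : Set G)) :=
          (hn.trans_lt (card_lt_of_lt h2)).trans_le (Subgroup.card_le_of_le h3)
        have h5 := hP U (JJ 0 P) (hd U Q hB) h4 h1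
        exact (Subgroup.mem_centralizer_singleton_iff.mp h5)
    have hHH : HH p (T : Subgroup L) (⟨t, htL⟩ : L) := by
      rcases W.hh U with h1 | ⟨z, hzU, hzc, hzp⟩ | h1
      · exact Or.inl h1
      · refine Or.inr (Or.inl ?_)
        have hzL : z ∈ L := by
          refine Subgroup.mem_normalizer_iff.2 fun y => ?_
          constructor
          · intro hy
            have := hzc y (hQU hy)
            rw [this]
            simpa using hy
          · intro hy
            have h2 := hQU hy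
            have hyU : y ∈ (U : Subgroup G) := by
              have h3 : y = z⁻¹ * (z * y * z⁻¹) * z := by group
              rw [h3]
              exact U.1.mul_mem (U.1.mul_mem (U.1.inv_mem hzU) h2) hzU
            have := hzc y hyU
            rw [this] at hy
            simpa using hy
        refine ⟨⟨z, hzL⟩, hmemT z hzL ⟨hzU, hzL⟩, ?_, Subtype.ext hzp⟩
        intro u hu
        apply Subtype.ext
        apply hzc
        exact (show (u : G) ∈ T' from ⟨u, hu, rfl⟩) |> (hne.symm ▸ · : _ → (u : G) ∈ P) |> fun h => h.1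
      · refine Or.inr (Or.inr fun hinv => h1 ?_)
        exact Cfsg.Agent.Lib.SFour.Recog.involves_of_injective L.subtype L.subtype_injective hinv
    intro ℓ hℓ
    rw [Subgroup.mem_centralizer_singleton_iff]
    have h1 : ℓ * t * ℓ⁻¹ ∈ Q := (Subgroup.mem_normalizer_iff.1 hℓ t).1 htQ
    have h2 := IH L hLtop T ⟨t, htL⟩ (hmemT t htL (hQP htQ)) hcent hHH ⟨ℓ, hℓ⟩ (by
      have := hmemT (ℓ * t * ℓ⁻¹) (L.mul_mem (L.mul_mem hℓ htL) (L.inv_mem hℓ)) (hQP h1)
      exact this)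
    have h3 : ℓ * t * ℓ⁻¹ = t := congrArg Subtype.val h2
    calc ℓ * t = (ℓ * t * ℓ⁻¹) * ℓ := by group
      _ = t * ℓ := by rw [h3]

/-- The key induction: fusion in the family `𝓑` is trivial. -/
theorem key (IH : ∀ L : Subgroup G, L ≠ ⊤ → WCProp p L)
    (ha : ∀ (U : Sylow p G) (Q : Subgroup G), 𝓑 U Q → Q ≤ U ∧ W.φ U ∈ Q ∧ ¬ Q.Normal)
    (hb : ∀ (U : Sylow p G) (Q Q' : Subgroup G), 𝓑 U Q → Q ≤ Q' → Q' ≤ U → 𝓑 U Q')
    (hc : ∀ (U U' : Sylow p G) (Q : Subgroup G), 𝓑 U Q → Q ≤ (U' : Subgroup G) → W.φ U' = W.φ U → 𝓑 U' Q)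
    (hd : ∀ (U : Sylow p G) (Q : Subgroup G), 𝓑 U Q →
      𝓑 U (JJ 0 ((U : Subgroup G) ⊓ normalizer (Q : Set G))))
    (U U' : Sylow p G) (hB : 𝓑 U ((U : Subgroup G) ⊓ U')) : W.φ U' = W.φ U := by
  have hQ : ∀ d n : ℕ, Nat.card G + 1 ≤ n + d → QQ W 𝓑 n := by
    intro d
    induction d with
    | zero =>
      intro n hn
      constructor
      · intro U U' _ h
        have := (Subgroup.card_le_card_group ((U : Subgroup G) ⊓ U'))
        omega
      · intro U Q _ h
        have := (Subgroup.card_le_card_group ((U : Subgroup G) ⊓ normalizer (Q : Set G)))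
        omega
    | succ d ih =>
      intro n hn
      have h1 := ih (n + 1) (by omega)
      have hC : ∀ U U' : Sylow p G, 𝓑 U ((U : Subgroup G) ⊓ U') →
          n ≤ Nat.card ↥((U : Subgroup G) ⊓ U') → W.φ U' = W.φ U :=
        fun U U' hB hn => step_C ha hb hc h1 U U' hB hn
      exact ⟨hC, fun U Q hB hn => step_P IH ha hb hc hd h1 hC U Q hB hn⟩
  exact (hQ (Nat.card G + 1) 0 (by omega)).1 U U' hB (Nat.zero_le _)

end key

/-- An element central in `R` lies in `J(R)`. -/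
theorem mem_JJ_of_central {R : Subgroup G} {x : G} (hx : x ∈ R) (hc : ∀ u ∈ R, x * u = u * x) :
    x ∈ JJ 0 R := by
  apply ZZ_le_JJ
  exact mem_ZZ_of_forall fun U hU => mem_of_comm hU hx (fun u hu => hc u (hU.1 hu)) (pow_zero x)

/-- The system attached to `(S, x)`. -/
theorem exists_sys (S : Sylow p G) (x : G) (hxS : x ∈ (S : Subgroup G))
    (hx : ∀ g ∈ normalizer ((JJ 0 (S : Subgroup G) : Subgroup G) : Set G), g * x = x * g)
    (hH : HH p (S : Subgroup G) x) :
    ∃ W : Sys p G, ∀ g : G, W.φ (g • S) = g * x * g⁻¹ := by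
  classical
  have hex : ∀ U : Sylow p G, ∃ g : G, g • S = U := fun U => MulAction.exists_smul_eq G S U
  choose γ hγ using hex
  have hform : ∀ g : G, γ (g • S) * x * (γ (g • S))⁻¹ = g * x * g⁻¹ := by
    intro g
    have h1 : (g⁻¹ * γ (g • S)) • S = S := by
      rw [mul_smul, hγ, inv_smul_smul]
    have h2 : g⁻¹ * γ (g • S) ∈ normalizer ((S : Subgroup G) : Set G) := by
      exact Sylow.smul_eq_iff_mem_normalizer.mp h1
    have h3 := hx _ (normalizer_le_normalizer_JJ _ h2)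
    set n := g⁻¹ * γ (g • S) with hn
    have h4 : γ (g • S) = g * n := by rw [hn]; group
    rw [h4]
    calc g * n * x * (g * n)⁻¹ = g * (n * x) * n⁻¹ * g⁻¹ := by group
      _ = g * (x * n) * n⁻¹ * g⁻¹ := by rw [h3]
      _ = g * x * g⁻¹ := by group
  refine ⟨⟨fun U => γ U * x * (γ U)⁻¹, ?_, ?_, ?_, ?_⟩, hform⟩
  · intro g U
    have h1 : g • U = (g * γ U) • S := by rw [mul_smul, hγ]
    change γ (g • U) * x * (γ (g • U))⁻¹ = g * (γ U * x * (γ U)⁻¹) * g⁻¹
    rw [h1, hform]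
    group
  · intro U
    change γ U * x * (γ U)⁻¹ ∈ (U : Subgroup G)
    have h2 : (U : Subgroup G) = ((γ U • S : Sylow p G) : Subgroup G) := by rw [hγ]
    rw [h2, coe_smul_sylow]
    exact conj_mem_conj_smul hxS
  · intro U n hn
    change n * (γ U * x * (γ U)⁻¹) = γ U * x * (γ U)⁻¹ * n
    have h1 : (U : Subgroup G) = (S : Subgroup G).map (MulAut.conj (γ U)).toMonoidHom := by
      have h2 : (U : Subgroup G) = ((γ U • S : Sylow p G) : Subgroup G) := by rw [hγ]
      rw [h2, coe_smul_sylow]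
      rfl
    rw [h1, ← JJ_map] at hn
    have h2 : (γ U)⁻¹ * n * γ U ∈ normalizer ((JJ 0 (S : Subgroup G) : Subgroup G) : Set G) := by
      refine Subgroup.mem_normalizer_iff.2 fun y => ?_
      have h3 := Subgroup.mem_normalizer_iff.1 hn (γ U * y * (γ U)⁻¹)
      have h4 : ∀ w : G, w ∈ (JJ 0 (S : Subgroup G)).map (MulAut.conj (γ U)).toMonoidHom ↔
          (γ U)⁻¹ * w * γ U ∈ JJ 0 (S : Subgroup G) := fun w => mem_map_conj_iff
      rw [h4, h4] at h3
      have h5 : (γ U)⁻¹ * (γ U * y * (γ U)⁻¹) * γ U = y := by group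
      have h6 : (γ U)⁻¹ * (n * (γ U * y * (γ U)⁻¹) * n⁻¹) * γ U =
          (γ U)⁻¹ * n * γ U * y * ((γ U)⁻¹ * n * γ U)⁻¹ := by group
      rw [h5, h6] at h3
      exact h3
    have h3 := hx _ h2
    calc n * (γ U * x * (γ U)⁻¹) = γ U * ((γ U)⁻¹ * n * γ U * x) * (γ U)⁻¹ := by group
      _ = γ U * (x * ((γ U)⁻¹ * n * γ U)) * (γ U)⁻¹ := by rw [h3]
      _ = γ U * x * (γ U)⁻¹ * n := by group
  · intro U
    change HH p (U : Subgroup G) (γ U * x * (γ U)⁻¹)
    rcases hH with h1 | ⟨z, hzS, hzc, hzp⟩ | h1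
    · exact Or.inl h1
    · refine Or.inr (Or.inl ⟨γ U * z * (γ U)⁻¹, ?_, ?_, ?_⟩)
      · have h2 : (U : Subgroup G) = ((γ U • S : Sylow p G) : Subgroup G) := by rw [hγ]
        rw [h2, coe_smul_sylow]
        exact conj_mem_conj_smul hzS
      · intro u hu
        have hu' : (γ U)⁻¹ * u * γ U ∈ (S : Subgroup G) := by
          have h2 : u ∈ ((γ U • S : Sylow p G) : Subgroup G) := by rw [hγ]; exact hu
          rw [coe_smul_sylow, mem_conj_smul_iff] at h2
          exact h2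
        have h3 := hzc _ hu'
        calc γ U * z * (γ U)⁻¹ * u = γ U * (z * ((γ U)⁻¹ * u * γ U)) * (γ U)⁻¹ := by group
          _ = γ U * (((γ U)⁻¹ * u * γ U) * z) * (γ U)⁻¹ := by rw [h3]
          _ = u * (γ U * z * (γ U)⁻¹) := by group
      · rw [conj_pow, hzp]
    · exact Or.inr (Or.inr h1)

/-- First case: no conjugate of `x` lies in a normal `p`-subgroup. -/
theorem case_one (IH : ∀ L : Subgroup G, L ≠ ⊤ → WCProp p L) (W : Sys p G)
    (hnot : ∀ (U : Sylow p G) (Q : Subgroup G), Q.Normal → Q ≤ U → W.φ U ∉ Q)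
    (U U' : Sylow p G) (h : W.φ U ∈ (U' : Subgroup G)) : W.φ U' = W.φ U := by
  refine key (𝓑 := fun U Q => Q ≤ U ∧ W.φ U ∈ Q) IH ?_ ?_ ?_ ?_ U U' ⟨inf_le_left, W.mem U, h⟩
  · intro U Q hB
    exact ⟨hB.1, hB.2, fun hn => hnot U Q hn hB.1 hB.2⟩
  · intro U Q Q' hB h1 h2
    exact ⟨h2, h1 hB.2⟩
  · intro U U' Q hB h1 h2
    exact ⟨h1, by rw [h2]; exact hB.2⟩
  · intro U Q hB
    refine ⟨(JJ_le 0 _).trans inf_le_left, mem_JJ_of_central ⟨W.mem U, Subgroup.le_normalizer hB.2⟩ ?_⟩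
    intro u hu
    exact (W.central U hu.1).symm

/-! ### Thompson replacement -/

theorem mem_sup_of_comm {V X C : Subgroup G} (hVc : ∀ u ∈ V, ∀ v ∈ V, u * v = v * u) (hX : X ≤ V) (hC : C ≤ V)
    {v : G} (hv : v ∈ X ⊔ C) : ∃ w ∈ X, ∃ c ∈ C, v = w * c := by
  have hcl : X ⊔ C = closure ((X : Set G) ∪ (C : Set G)) := by
    rw [Subgroup.closure_union, Subgroup.closure_eq, Subgroup.closure_eq]
  rw [hcl] at hv
  induction hv using Subgroup.closure_induction with
  | mem a ha =>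
    rcases ha with ha | ha
    · exact ⟨a, ha, 1, C.one_mem, by simp⟩
    · exact ⟨1, X.one_mem, a, ha, by simp⟩
  | one => exact ⟨1, X.one_mem, 1, C.one_mem, by simp⟩
  | mul a b _ _ iha ihb =>
    obtain ⟨w, hw, c, hc, rfl⟩ := iha
    obtain ⟨w', hw', c', hc', rfl⟩ := ihb
    refine ⟨w * w', X.mul_mem hw hw', c * c', C.mul_mem hc hc', ?_⟩
    calc w * c * (w' * c') = w * (c * w') * c' := by group
      _ = w * (w' * c) * c' := by rw [hVc c (hC hc) w' (hX hw')]
      _ = w * w' * (c * c') := by group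
  | inv a _ iha =>
    obtain ⟨w, hw, c, hc, rfl⟩ := iha
    refine ⟨w⁻¹, X.inv_mem hw, c⁻¹, C.inv_mem hc, ?_⟩
    rw [mul_inv_rev]
    exact hVc _ (V.inv_mem (hC hc)) _ (V.inv_mem (hX hw))

/-- A maximal abelian subgroup acting non-trivially on a normal abelian subgroup can be replaced by one
acting quadratically. -/
theorem exists_quadratic {S V A₀ : Subgroup G} (hS : IsPGroup p S) (hVS : V ≤ S) [hVn : V.Normal]
    (hVc : ∀ u ∈ V, ∀ v ∈ V, u * v = v * u) (hA₀ : A₀ ∈ AA 0 S)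
    (hne : ¬ A₀ ≤ centralizer (V : Set G)) :
    ∃ A ∈ AA 0 S, ¬ A ≤ centralizer (V : Set G) ∧
      ∀ v ∈ V, ∀ a ∈ A, ∀ b ∈ A, b * (v⁻¹ * (a * v * a⁻¹)) * b⁻¹ = v⁻¹ * (a * v * a⁻¹) := by
  open Cfsg.Agent.Lib.PGroup.Timmesfeld in
  have hAV : A₀ ≤ normalizer (V : Set G) := by
    rw [Subgroup.normalizer_eq_top_iff.mpr hVn]
    exact le_top
  have hab : ⁅A₀, A₀⁆ ≤ centralizer (V : Set G) := by
    have : ⁅A₀, A₀⁆ = ⊥ := by
      rw [Subgroup.commutator_eq_bot_iff_le_centralizer]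
      intro y hy
      rw [Subgroup.mem_centralizer_iff]
      intro z hz
      exact hA₀.2.1.1 z hz y hy
    rw [this]
    exact bot_le
  have hsupPP : ∀ B : Subgroup G, B ≤ A₀ → PP 0 (B ⊔ (V ⊓ centralizer (B : Set G))) := by
    intro B hB
    have hcl : B ⊔ (V ⊓ centralizer (B : Set G)) =
        closure ((B : Set G) ∪ ((V ⊓ centralizer (B : Set G) : Subgroup G) : Set G)) := by
      rw [Subgroup.closure_union, Subgroup.closure_eq, Subgroup.closure_eq]
    refine ⟨?_, fun y _ => pow_zero y⟩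
    rw [hcl]
    intro u hu v hv
    refine Cfsg.Agent.Lib.PGroup.Replacement.closure_comm ?_ hu hv
    rintro a (ha | ha) b (hb | hb)
    · exact hA₀.2.1.1 a (hB ha) b (hB hb)
    · exact (Subgroup.mem_centralizer_iff.mp hb.2 a ha)
    · exact (Subgroup.mem_centralizer_iff.mp ha.2 b hb).symm
    · exact hVc a ha.1 b hb.1
  have hsupcard : ∀ B : Subgroup G, B ≤ A₀ →
      Nat.card B * Nat.card ↥(V ⊓ centralizer (B : Set G)) =
        Nat.card ↥(B ⊔ (V ⊓ centralizer (B : Set G))) * Nat.card ↥(B ⊓ (V ⊓ centralizer (B : Set G))) := by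
    intro B hB
    refine (card_sup_mul_card_inf_of_le_normalizer B _ ?_).symm
    intro b hb
    refine Subgroup.mem_normalizer_iff.2 fun y => ?_
    constructor
    · intro hy
      have : b * y * b⁻¹ = y := by
        rw [Subgroup.mem_centralizer_iff.mp hy.2 b hb]
        group
      rwa [this]
    · intro hy
      have hyV : y ∈ V := by
        have h1 : b * y * b⁻¹ ∈ V := hy.1
        have h2 := hVn.conj_mem _ h1 b⁻¹
        have h3 : b⁻¹ * (b * y * b⁻¹) * b⁻¹⁻¹ = y := by group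
        rwa [h3] at h2
      have h3 : y ∈ centralizer (B : Set G) := by
        refine Subgroup.mem_centralizer_iff.2 fun c hc => ?_
        have h1 := Subgroup.mem_centralizer_iff.mp hy.2 c hc
        have hcomm : c * b = b * c := hA₀.2.1.1 c (hB hc) b (hB hb)
        have hcb : b⁻¹ * c * b = c := by
          rw [mul_assoc, hcomm]; group
        calc c * y = (b⁻¹ * c * b) * y := by rw [hcb]
          _ = b⁻¹ * (c * (b * y * b⁻¹)) * b := by group
          _ = b⁻¹ * ((b * y * b⁻¹) * c) * b := by rw [h1]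
          _ = y * (b⁻¹ * c * b) := by group
          _ = y * c := by rw [hcb]
      exact ⟨hyV, h3⟩
  have hinf : ∀ B : Subgroup G, B ≤ A₀ →
      Nat.card ↥(B ⊓ (V ⊓ centralizer (B : Set G))) ≤ Nat.card ↥(V ⊓ centralizer (A₀ : Set G)) := by
    intro B hB
    refine Subgroup.card_le_of_le ?_
    rintro y ⟨hy1, hy2⟩
    refine ⟨hy2.1, Subgroup.mem_centralizer_iff.2 fun c hc => ?_⟩
    exact hA₀.2.1.1 c hc y (hB hy1)
  have hcardsup : ∀ B : Subgroup G, B ≤ A₀ →
      Nat.card ↥(B ⊔ (V ⊓ centralizer (B : Set G))) ≤ Nat.card A₀ := by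
    intro B hB
    exact hA₀.2.2 _ (sup_le (hB.trans hA₀.1) (inf_le_left.trans hVS)) (hsupPP B hB)
  have hm : ∀ B : Subgroup G, B ≤ A₀ →
      Nat.card B * Nat.card ↥(V ⊓ centralizer (B : Set G)) ≤
        Nat.card A₀ * Nat.card ↥(V ⊓ centralizer (A₀ : Set G)) := by
    intro B hB
    rw [hsupcard B hB]
    exact Nat.mul_le_mul (hcardsup B hB) (hinf B hB)
  obtain ⟨B, hB, hlt | ⟨hBe, hCB, hmB⟩⟩ := dichotomy V A₀ hVc hAV hab V le_rfl
  · exact absurd (hm B hB) (not_le.mpr hlt)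
  -- the replacement
  set Y := V ⊓ centralizer (B : Set G) with hY
  have hVA : ∀ v ∈ V, ∀ a ∈ A₀, v⁻¹ * (a * v * a⁻¹) ∈ (⁅V, A₀⁆ : Subgroup G) := by
    intro v hv a ha
    have h1 : v⁻¹ * (a * v * a⁻¹) = ⁅v⁻¹, a⁆ := by
      simp only [commutatorElement_def, inv_inv]
      group
    rw [h1]
    exact Subgroup.commutator_mem_commutator (V.inv_mem hv) ha
  have hmemA : ∀ a ∈ B ⊔ Y, ∀ v ∈ V, ∃ b ∈ B, a * v * a⁻¹ = b * v * b⁻¹ := by
    intro a ha v hv
    have hcl : B ⊔ Y = closure ((B : Set G) ∪ (Y : Set G)) := by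
      rw [Subgroup.closure_union, Subgroup.closure_eq, Subgroup.closure_eq]
    rw [hcl] at ha
    revert v
    induction ha using Subgroup.closure_induction with
    | mem a ha =>
      intro v hv
      rcases ha with ha | ha
      · exact ⟨a, ha, rfl⟩
      · refine ⟨1, B.one_mem, ?_⟩
        rw [hVc a ha.1 v hv]
        group
    | one =>
      intro v _
      exact ⟨1, B.one_mem, rfl⟩
    | mul a c _ _ iha ihc =>
      intro v hv
      obtain ⟨c', hc', hce⟩ := ihc v hv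
      obtain ⟨a', ha', hae⟩ := iha (c' * v * c'⁻¹) (hVn.conj_mem v hv c')
      refine ⟨a' * c', B.mul_mem ha' hc', ?_⟩
      calc a * c * v * (a * c)⁻¹ = a * (c * v * c⁻¹) * a⁻¹ := by group
        _ = a * (c' * v * c'⁻¹) * a⁻¹ := by rw [hce]
        _ = a' * (c' * v * c'⁻¹) * a'⁻¹ := hae
        _ = a' * c' * v * (a' * c')⁻¹ := by group
    | inv a _ iha =>
      intro v hv
      obtain ⟨a', ha', hae⟩ := iha (a⁻¹ * v * a) (by
        have := hVn.conj_mem v hv a⁻¹
        simpa using this)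
      refine ⟨a'⁻¹, B.inv_mem ha', ?_⟩
      have h1 : a * (a⁻¹ * v * a) * a⁻¹ = v := by group
      rw [h1] at hae
      calc a⁻¹ * v * a⁻¹⁻¹ = a'⁻¹ * (a' * (a⁻¹ * v * a) * a'⁻¹) * a' := by group
        _ = a'⁻¹ * v * a' := by rw [← hae]
        _ = a'⁻¹ * v * a'⁻¹⁻¹ := by group
  refine ⟨B ⊔ Y, ?_, ?_, ?_⟩
  · refine ⟨sup_le (hB.trans hA₀.1) (inf_le_left.trans hVS), hsupPP B hB, fun V' hV' hV'2 => ?_⟩
    refine (hA₀.2.2 V' hV' hV'2).trans ?_
    have h1 := hsupcard B hB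
    rw [← hmB] at h1
    have h2 := hinf B hB
    have hpos : 0 < Nat.card ↥(V ⊓ centralizer (A₀ : Set G)) := Nat.card_pos
    by_contra hlt
    push Not at hlt
    have h3 : Nat.card ↥(B ⊔ Y) * Nat.card ↥(B ⊓ Y) < Nat.card A₀ * Nat.card ↥(V ⊓ centralizer (A₀ : Set G)) :=
      lt_of_lt_of_le (Nat.mul_lt_mul_of_pos_right hlt Nat.card_pos) (Nat.mul_le_mul_left _ h2)
    exact (ne_of_gt h3) h1
  · intro hle
    apply hne
    have hBc : B ≤ centralizer (V : Set G) := le_sup_left.trans hle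
    have hYV : Y = V := inf_eq_left.mpr (Subgroup.le_centralizer_iff.mp hBc)
    have hV2 : ⁅V, A₀⁆ ⊔ (V ⊓ centralizer (A₀ : Set G)) = V := by
      rw [← hCB, hYV]
    -- `[V, A₀] ≤ [[V, A₀], A₀]`
    set X : Subgroup G := ⁅V, A₀⁆ with hX
    have hXV : X ≤ V := by
      rw [← hV2]; exact le_sup_left
    have hXle : X ≤ ⁅X, A₀⁆ := by
      rw [hX, Subgroup.commutator_le]
      intro v hv a ha
      rw [← hV2] at hv
      obtain ⟨w, hw, c, hc, rfl⟩ := mem_sup_of_comm hVc hXV inf_le_left hv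
      have h1 : ⁅w * c, a⁆ = ⁅w, a⁆ := by
        have hca : c * a = a * c := (Subgroup.mem_centralizer_iff.mp hc.2 a ha).symm
        simp only [commutatorElement_def]
        calc w * c * a * (w * c)⁻¹ * a⁻¹ = w * (c * a) * c⁻¹ * w⁻¹ * a⁻¹ := by group
          _ = w * (a * c) * c⁻¹ * w⁻¹ * a⁻¹ := by rw [hca]
          _ = w * a * w⁻¹ * a⁻¹ := by group
      rw [h1]
      exact Subgroup.commutator_mem_commutator hw ha
    have hXbot : X = ⊥ := by
      have hnil : Group.IsNilpotent ↥S := hS.isNilpotent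
      obtain ⟨n, hn⟩ := (Subgroup.isNilpotent_iff_lowerCentralSeries S).1 hnil
      have hser : ∀ m : ℕ, X ≤ S.lowerCentralSeries m := by
        intro m
        induction m with
        | zero => exact hXV.trans hVS
        | succ m ih =>
          rw [Subgroup.lowerCentralSeries_succ]
          exact hXle.trans (Subgroup.commutator_mono ih hA₀.1)
      have := hser n
      rw [hn] at this
      exact le_bot_iff.1 this
    rw [Subgroup.commutator_eq_bot_iff_le_centralizer] at hXbot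
    exact Subgroup.le_centralizer_iff.mp hXbot
  · intro v hv a ha b hb
    obtain ⟨a', ha', hae⟩ := hmemA a ha v hv
    rw [hae]
    have hw := hVA v hv a' (hB ha')
    have hw2 : v⁻¹ * (a' * v * a'⁻¹) ∈ V := by
      refine V.mul_mem (V.inv_mem hv) (hVn.conj_mem v hv a')
    obtain ⟨b', hb', hbe⟩ := hmemA b hb _ hw2
    rw [hbe]
    have h1 : b' ∈ A₀ ⊓ centralizer ((⁅V, A₀⁆ : Subgroup G) : Set G) := by rw [← hBe]; exact hb'
    have h2 := Subgroup.mem_centralizer_iff.mp h1.2 _ hw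
    calc b' * (v⁻¹ * (a' * v * a'⁻¹)) * b'⁻¹ = (v⁻¹ * (a' * v * a'⁻¹)) * b' * b'⁻¹ := by rw [← h2]
      _ = _ := by group

end Cfsg.Agent.Lib.PGroup.WeakClosure
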