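import Mathlib
import Cfsg.Agent.Lib.SFour.Recog

/-!
# Two transvections on a four-group give a section `S₄`
-/

set_option autoImplicit false
set_option linter.unusedSectionVars false
set_option linter.style.haveILetI false

namespace Cfsg.Agent.Lib.PGroup.WeakClosureSFour

open Subgroup Cfsg

variable {Γ : Type*} [Group Γ] [Finite Γ]

/-- The four-group generated by two commuting involutions. -/
def klein (e f : Γ) (he2 : e * e = 1) (hf2 : f * f = 1) (hef : e * f = f * e) : Subgroup Γ where
  carrier := {1, e, f, e * f}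
  one_mem' := by simp
  mul_mem' := by
    have h1 : e * (e * f) = f := by rw [← mul_assoc, he2, one_mul]
    have h2 : f * (e * f) = e := by rw [hef, ← mul_assoc, hf2, one_mul]
    have h3 : e * f * e = f := by rw [hef, mul_assoc, he2, mul_one]
    have h4 : e * f * f = e := by rw [mul_assoc, hf2, mul_one]
    have h5 : e * f * (e * f) = 1 := by rw [← mul_assoc, h3, hf2]
    rintro a b (rfl | rfl | rfl | rfl) (rfl | rfl | rfl | rfl) <;>
      simp [he2, hf2, ← hef, h1, h2, h3, h4, h5]
  inv_mem' := by
    have h5 : (e * f)⁻¹ = e * f := by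
      rw [mul_inv_rev, inv_eq_of_mul_eq_one_left hf2, inv_eq_of_mul_eq_one_left he2, hef]
    rintro a (rfl | rfl | rfl | rfl)
    · simp
    · rw [inv_eq_of_mul_eq_one_left he2]; simp
    · rw [inv_eq_of_mul_eq_one_left hf2]; simp
    · rw [h5]; simp

/-- Pairs of elements, with the conjugation action. -/
def ConjPair (Γ : Type*) : Type _ := Γ × Γ

/-- The pair. -/
def mkP (u v : Γ) : ConjPair Γ := (u, v)

theorem mkP_inj {u v u' v' : Γ} : mkP u v = mkP u' v' ↔ u = u' ∧ v = v' :=
  ⟨fun h => Prod.mk.inj h, fun h => by rw [h.1, h.2]⟩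

instance conjPairAct : MulAction Γ (ConjPair Γ) where
  smul := fun g q => (g * q.1 * g⁻¹, g * q.2 * g⁻¹)
  one_smul := fun q => by
    change (1 * q.1 * 1⁻¹, 1 * q.2 * 1⁻¹) = q
    simp
    rfl
  mul_smul := fun g h q => by
    change (g * h * q.1 * (g * h)⁻¹, g * h * q.2 * (g * h)⁻¹) =
      (g * (h * q.1 * h⁻¹) * g⁻¹, g * (h * q.2 * h⁻¹) * g⁻¹)
    rw [Prod.mk.injEq]
    constructor <;> group

theorem smul_mkP (g u v : Γ) : g • mkP u v = mkP (g * u * g⁻¹) (g * v * g⁻¹) := rfl

/-- The index of the centralizer of the four-group. -/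
theorem index_centralizer_eq_six {e f a b : Γ} (he2 : e * e = 1) (hf2 : f * f = 1) (hef : e * f = f * e)
    (he1 : e ≠ 1) (hf1 : f ≠ 1) (hne : e ≠ f) {W : Subgroup Γ} [hW : W.Normal]
    (heW : e ∈ W) (hfW : f ∈ W) (hWm : ∀ u ∈ W, u = 1 ∨ u = e ∨ u = f ∨ u = e * f)
    (ha1 : a * e * a⁻¹ = e) (ha2 : a * f * a⁻¹ = e * f)
    (hb1 : b * f * b⁻¹ = f) (hb2 : b * e * b⁻¹ = e * f) :
    (centralizer (W : Set Γ)).index = 6 := by
  classical
  have h1ef : e * f ≠ 1 := by
    intro h
    apply hne
    calc e = e * (f * f) := by rw [hf2, mul_one]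
      _ = (e * f) * f := by group
      _ = f := by rw [h, one_mul]
  have heef : e ≠ e * f := by
    intro h
    apply hf1
    have : e * 1 = e * f := by rw [mul_one]; exact h
    exact (mul_left_cancel this).symm
  have hfef : f ≠ e * f := by
    intro h
    apply he1
    have : 1 * f = e * f := by rw [one_mul]; exact h
    exact (mul_right_cancel this).symm
  have hstab : MulAction.stabilizer Γ (mkP e f) = centralizer (W : Set Γ) := by
    ext g
    rw [MulAction.mem_stabilizer_iff, smul_mkP, mkP_inj, Subgroup.mem_centralizer_iff]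
    constructor
    · rintro ⟨h1, h2⟩ u hu
      have h3 : g * e = e * g := by
        calc g * e = (g * e * g⁻¹) * g := by group
          _ = e * g := by rw [h1]
      have h4 : g * f = f * g := by
        calc g * f = (g * f * g⁻¹) * g := by group
          _ = f * g := by rw [h2]
      rcases hWm u hu with rfl | rfl | rfl | rfl
      · simp
      · exact h3.symm
      · exact h4.symm
      · calc e * f * g = e * (f * g) := by group
          _ = e * (g * f) := by rw [h4]
          _ = (e * g) * f := by group
          _ = (g * e) * f := by rw [h3]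
          _ = g * (e * f) := by group
    · intro h
      constructor
      · rw [← h e heW]; group
      · rw [← h f hfW]; group
  have hefe : e * f * e = f := by rw [hef, mul_assoc, he2, mul_one]
  have hfef' : e * f * f = e := by rw [mul_assoc, hf2, mul_one]
  -- conjugates stay in the list
  have hconj : ∀ g : Γ, ∀ u ∈ W, u ≠ 1 → g * u * g⁻¹ ∈ W ∧ g * u * g⁻¹ ≠ 1 := by
    intro g u hu hu1
    refine ⟨hW.conj_mem u hu g, fun h => hu1 ?_⟩
    have : u = g⁻¹ * (g * u * g⁻¹) * g := by group
    rw [this, h]
    group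
  have hb3 : b * (e * f) * b⁻¹ = e := by
    calc b * (e * f) * b⁻¹ = (b * e * b⁻¹) * (b * f * b⁻¹) := by group
      _ = e := by rw [hb1, hb2, hfef']
  have ha3 : a * (e * f) * a⁻¹ = f := by
    calc a * (e * f) * a⁻¹ = (a * e * a⁻¹) * (a * f * a⁻¹) := by group
      _ = e * (e * f) := by rw [ha1, ha2]
      _ = f := by rw [← mul_assoc, he2, one_mul]
  have horbit : MulAction.orbit Γ (mkP e f) =
      (({mkP e f, mkP e (e * f), mkP (e * f) f, mkP (e * f) e, mkP f (e * f), mkP f e} :
        Finset (ConjPair Γ)) : Set (ConjPair Γ)) := by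
    ext q
    simp only [Finset.coe_insert, Finset.coe_singleton, Set.mem_insert_iff, Set.mem_singleton_iff]
    constructor
    · rintro ⟨g, rfl⟩
      rw [show (fun m : Γ => m • mkP e f) g = mkP (g * e * g⁻¹) (g * f * g⁻¹) from rfl]
      obtain ⟨h1, h2⟩ := hconj g e heW he1
      obtain ⟨h3, h4⟩ := hconj g f hfW hf1
      have h5 : g * e * g⁻¹ ≠ g * f * g⁻¹ := by
        intro h
        apply hne
        have h6 : g * e = g * f := mul_right_cancel h
        exact mul_left_cancel h6
      rcases hWm _ h1 with h6 | h6 | h6 | h6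
      · exact absurd h6 h2
      all_goals
        rcases hWm _ h3 with h7 | h7 | h7 | h7
        · exact absurd h7 h4
        all_goals
          rw [h6, h7] at h5 ⊢
          simp_all
    · rintro (rfl | rfl | rfl | rfl | rfl | rfl)
      · exact ⟨1, one_smul _ _⟩
      · refine ⟨a, ?_⟩
        change a • mkP e f = _
        rw [smul_mkP, ha1, ha2]
      · refine ⟨b, ?_⟩
        change b • mkP e f = _
        rw [smul_mkP, hb1, hb2]
      · refine ⟨b * a, ?_⟩
        change (b * a) • mkP e f = _
        rw [mul_smul, smul_mkP, ha1, ha2, smul_mkP, hb3, hb2]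
      · refine ⟨a * b, ?_⟩
        change (a * b) • mkP e f = _
        rw [mul_smul, smul_mkP, hb1, hb2, smul_mkP, ha3, ha2]
      · refine ⟨a * (b * a), ?_⟩
        change (a * (b * a)) • mkP e f = _
        rw [mul_smul, mul_smul, smul_mkP, ha1, ha2, smul_mkP, hb3, hb2, smul_mkP, ha3, ha1]
  rw [← hstab, MulAction.index_stabilizer, horbit, Set.ncard_coe_finset]
  rw [Finset.card_insert_of_notMem, Finset.card_insert_of_notMem, Finset.card_insert_of_notMem,
    Finset.card_insert_of_notMem, Finset.card_insert_of_notMem, Finset.card_singleton]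
  all_goals
    simp only [Finset.mem_insert, Finset.mem_singleton, mkP_inj, not_or, not_and]
    simp [hne, hne.symm, heef, heef.symm, hfef, hfef.symm, he1, hf1]

/-- Two transvections generating `S₃` on a four-group give a section `S₄`. -/
theorem involves_of_two {G : Type*} [Group G] [Finite G] {e f a b : G} (he2 : e * e = 1) (hf2 : f * f = 1)
    (hef : e * f = f * e) (he1 : e ≠ 1) (hf1 : f ≠ 1) (hne : e ≠ f)
    (ha1 : a * e * a⁻¹ = e) (ha2 : a * f * a⁻¹ = e * f)
    (hb1 : b * f * b⁻¹ = f) (hb2 : b * e * b⁻¹ = e * f) :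
    Involves (Equiv.Perm (Fin 4)) G := by
  classical
  set W := klein e f he2 hf2 hef with hW
  have hWm : ∀ u ∈ W, u = 1 ∨ u = e ∨ u = f ∨ u = e * f := fun u hu => hu
  have heW : e ∈ W := Or.inr (Or.inl rfl)
  have hfW : f ∈ W := Or.inr (Or.inr (Or.inl rfl))
  have hefW : e * f ∈ W := Or.inr (Or.inr (Or.inr rfl))
  have h1ef : e * f ≠ 1 := by
    intro h
    apply hne
    calc e = e * (f * f) := by rw [hf2, mul_one]
      _ = (e * f) * f := by group
      _ = f := by rw [h, one_mul]
  have heef : e ≠ e * f := by
    intro h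
    apply hf1
    have : e * 1 = e * f := by rw [mul_one]; exact h
    exact (mul_left_cancel this).symm
  have hfef : f ≠ e * f := by
    intro h
    apply he1
    have : 1 * f = e * f := by rw [one_mul]; exact h
    exact (mul_right_cancel this).symm
  have hcardW : Nat.card W = 4 := by
    have h1 : (W : Set G) = (({1, e, f, e * f} : Finset G) : Set G) := by
      ext u
      simp only [Finset.coe_insert, Finset.coe_singleton]
      rfl
    have h2 : Nat.card W = Set.ncard (W : Set G) := (Nat.card_coe_set_eq (W : Set G))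
    rw [h2, h1, Set.ncard_coe_finset]
    rw [Finset.card_insert_of_notMem, Finset.card_insert_of_notMem, Finset.card_insert_of_notMem,
      Finset.card_singleton]
    all_goals
      simp only [Finset.mem_insert, Finset.mem_singleton, not_or]
      simp [he1.symm, hf1.symm, h1ef.symm, hne, heef, hfef]
  -- the normalizer of the four-group
  set N : Subgroup G := normalizer (W : Set G) with hN
  have haN : a ∈ N ∧ b ∈ N := by
    have key : ∀ c : G, (c * e * c⁻¹ ∈ W) → (c * f * c⁻¹ ∈ W) → c ∈ N := by
      intro c h1 h2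
      have hle : ∀ u ∈ W, c * u * c⁻¹ ∈ W := by
        intro u hu
        rcases hWm u hu with rfl | rfl | rfl | rfl
        · simp [W.one_mem]
        · exact h1
        · exact h2
        · have : c * (e * f) * c⁻¹ = (c * e * c⁻¹) * (c * f * c⁻¹) := by group
          rw [this]
          exact W.mul_mem h1 h2
      have hinj : Function.Injective (fun u : W => (⟨c * u * c⁻¹, hle u u.2⟩ : W)) := by
        intro u v h
        have h3 := congrArg Subtype.val h
        simp only at h3
        have h4 : c * (u : G) = c * v := mul_right_cancel h3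
        exact Subtype.ext (mul_left_cancel h4)
      have hsurj := Finite.injective_iff_surjective.mp hinj
      refine Subgroup.mem_normalizer_iff.2 fun u => ⟨fun hu => hle u hu, fun hu => ?_⟩
      obtain ⟨v, hv⟩ := hsurj ⟨_, hu⟩
      have h3 := congrArg Subtype.val hv
      simp only at h3
      have h4 : (v : G) = u := by
        have h5 : c * (v : G) = c * u := mul_right_cancel h3
        exact mul_left_cancel h5
      rw [← h4]
      exact v.2
    constructor
    · exact key a (by rw [ha1]; exact heW) (by rw [ha2]; exact hefW)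
    · exact key b (by rw [hb2]; exact hefW) (by rw [hb1]; exact hfW)
  have hWN : W ≤ N := Subgroup.le_normalizer
  let W₁ : Subgroup N := W.subgroupOf N
  haveI hW₁n : W₁.Normal := Subgroup.normal_in_normalizer
  have hcardW₁ : Nat.card W₁ = 4 := by
    rw [← hcardW]
    exact Nat.card_congr (Subgroup.subgroupOfEquivOfLe hWN).toEquiv
  have hidx : (centralizer (W₁ : Set N)).index = 6 := by
    refine index_centralizer_eq_six (e := ⟨e, hWN heW⟩) (f := ⟨f, hWN hfW⟩) (a := ⟨a, haN.1⟩)
      (b := ⟨b, haN.2⟩) ?_ ?_ ?_ ?_ ?_ ?_ ?_ ?_ ?_ ?_ ?_ ?_ ?_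
    · exact Subtype.ext he2
    · exact Subtype.ext hf2
    · exact Subtype.ext hef
    · intro h; exact he1 (congrArg Subtype.val h)
    · intro h; exact hf1 (congrArg Subtype.val h)
    · intro h; exact hne (congrArg Subtype.val h)
    · exact heW
    · exact hfW
    · intro u hu
      rcases hWm u hu with h | h | h | h
      · exact Or.inl (Subtype.ext h)
      · exact Or.inr (Or.inl (Subtype.ext h))
      · exact Or.inr (Or.inr (Or.inl (Subtype.ext h)))
      · exact Or.inr (Or.inr (Or.inr (Subtype.ext h)))
    · exact Subtype.ext ha1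
    · exact Subtype.ext ha2
    · exact Subtype.ext hb1
    · exact Subtype.ext hb2
  exact Cfsg.Agent.Lib.SFour.Recog.involves_of_injective N.subtype N.subtype_injective
    (Cfsg.Agent.Lib.SFour.Recog.involves_perm4 W₁ hcardW₁ hidx)

end Cfsg.Agent.Lib.PGroup.WeakClosureSFour
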