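import Mathlib
import Cfsg.Agent.Lib.PGroup.WeakClosure
import Cfsg.Agent.Lib.PGroup.WeakClosureSFour

/-!
# Glauberman's theorem on weakly closed elements: the main part
-/

set_option autoImplicit false
set_option linter.unusedSectionVars false
set_option linter.style.haveILetI false

universe u

namespace Cfsg.Agent.Lib.PGroup.WeakClosureMain

open Subgroup Cfsg Cfsg.Agent.Lib.PGroup.ZJ Cfsg.Agent.Lib.Basic.SylowUtil Cfsg.Agent.Lib.Basic.Conj
  Cfsg.Agent.Lib.PGroup.WeakClosure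
open scoped Pointwise commutatorElement

variable {G : Type*} [Group G] [Finite G] {p : ℕ} [hp : Fact p.Prime]

/-- Elements of a join with a cyclic group. -/
theorem mem_sup_zpowers {B : Subgroup G} {y : G} (hy : ∀ b ∈ B, b * y = y * b) {w : G}
    (hw : w ∈ B ⊔ zpowers y) : ∃ b ∈ B, ∃ i : ℤ, w = b * y ^ i := by
  have hcl : B ⊔ zpowers y = closure ((B : Set G) ∪ {y}) := by
    rw [Subgroup.closure_union, Subgroup.closure_eq, Subgroup.zpowers_eq_closure]
  rw [hcl] at hw
  have hc : ∀ b ∈ B, ∀ i : ℤ, Commute b (y ^ i) := fun b hb i => (show Commute b y from hy b hb).zpow_right i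
  induction hw using Subgroup.closure_induction with
  | mem a ha =>
    rcases ha with ha | rfl
    · exact ⟨a, ha, 0, by simp⟩
    · exact ⟨1, B.one_mem, 1, by simp⟩
  | one => exact ⟨1, B.one_mem, 0, by simp⟩
  | mul a b _ _ iha ihb =>
    obtain ⟨b₁, hb₁, i, rfl⟩ := iha
    obtain ⟨b₂, hb₂, j, rfl⟩ := ihb
    refine ⟨b₁ * b₂, B.mul_mem hb₁ hb₂, i + j, ?_⟩
    calc b₁ * y ^ i * (b₂ * y ^ j) = b₁ * (y ^ i * b₂) * y ^ j := by group
      _ = b₁ * (b₂ * y ^ i) * y ^ j := by rw [(hc b₂ hb₂ i).eq]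
      _ = b₁ * b₂ * y ^ (i + j) := by rw [zpow_add]; group
  | inv a _ iha =>
    obtain ⟨b₁, hb₁, i, rfl⟩ := iha
    refine ⟨b₁⁻¹, B.inv_mem hb₁, -i, ?_⟩
    rw [mul_inv_rev, zpow_neg]
    exact ((hc b₁ hb₁ i).inv_inv).eq.symm

/-- Setup for the final contradiction. -/
structure Ctx (W : Sys p G) (S : Sylow p G) (x : G) (V A : Subgroup G) : Prop where
  hφS : W.φ S = x
  hφ : ∀ g : G, W.φ (g • S) = g * x * g⁻¹
  hVn : V.Normal
  hxV : x ∈ V
  hVS : ∀ U : Sylow p G, V ≤ U
  hVc : ∀ u ∈ V, ∀ v ∈ V, u * v = v * u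
  hA : A ∈ AA 0 (S : Subgroup G)
  hAK : ¬ A ≤ centralizer (V : Set G)
  hq : ∀ v ∈ V, ∀ a ∈ A, ∀ b ∈ A, b * (v⁻¹ * (a * v * a⁻¹)) * b⁻¹ = v⁻¹ * (a * v * a⁻¹)
  hP1 : ∀ (U : Sylow p G) (A' : Subgroup G), A' ∈ AA 0 (U : Subgroup G) → ¬ A' ≤ centralizer (V : Set G) →
    ∀ g : G, (∀ a ∈ A', a * (g * x * g⁻¹) = (g * x * g⁻¹) * a) → g * x * g⁻¹ = W.φ U

namespace Ctx

variable {W : Sys p G} {S : Sylow p G} {x : G} {V A : Subgroup G}

theorem hxc (C : Ctx W S x V A) {u : G} (hu : u ∈ (S : Subgroup G)) : u * x = x * u := by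
  have := W.central S hu
  rwa [C.hφS] at this

theorem conj_mem (C : Ctx W S x V A) {v : G} (hv : v ∈ V) (g : G) : g * v * g⁻¹ ∈ V :=
  C.hVn.conj_mem v hv g

/-- The case of an orbit of length two with the stabilizer acting trivially: a section `S₄`. -/
theorem involves_case (C : Ctx W S x V A) (g : G) (hne : g * x * g⁻¹ ≠ x)
    (hidx : (A ⊓ centralizer ({g * x * g⁻¹} : Set G)).relIndex A = 2)
    (hBK : A ⊓ centralizer ({g * x * g⁻¹} : Set G) ≤ centralizer (V : Set G)) :
    Involves (Equiv.Perm (Fin 4)) G := by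
  classical
  haveI hVn := C.hVn
  set y := g * x * g⁻¹ with hy
  set B := A ⊓ centralizer ({y} : Set G) with hB
  set K := centralizer (V : Set G) with hK
  have hyV : y ∈ V := C.conj_mem C.hxV g
  have hVc := C.hVc
  have hAc : ∀ a ∈ A, ∀ b ∈ A, a * b = b * a := C.hA.2.1.1
  have hBA : B ≤ A := inf_le_left
  -- commuting with `K`
  have hKV : ∀ b ∈ K, ∀ v ∈ V, b * v = v * b := fun b hb v hv =>
    (Subgroup.mem_centralizer_iff.mp hb v hv).symm
  obtain ⟨a, haA, haK⟩ := SetLike.not_le_iff_exists.mp C.hAK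
  have haB : a ∉ B := fun h => haK (hBK h)
  -- the two cosets
  have hcoset : ∀ d ∈ A, d ∈ B ∨ a⁻¹ * d ∈ B := by
    intro d hd
    by_cases hdB : d ∈ B
    · exact Or.inl hdB
    · refine Or.inr ?_
      have hidx' : (B.subgroupOf A).index = 2 := hidx
      have h1 := Subgroup.mul_mem_iff_of_index_two hidx' (a := (⟨a, haA⟩ : A)⁻¹) (b := ⟨d, hd⟩)
      have h2 : (⟨a, haA⟩ : A)⁻¹ ∉ B.subgroupOf A := by
        intro h
        have := (B.subgroupOf A).inv_mem h
        rw [inv_inv] at this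
        exact haB this
      have h3 : (⟨d, hd⟩ : A) ∉ B.subgroupOf A := hdB
      have h4 := h1.mpr (by tauto)
      exact h4
  have hconv : ∀ v ∈ V, a * v = v * a → ∀ d ∈ A, d * v = v * d := by
    intro v hv hav d hd
    rcases hcoset d hd with h | h
    · exact hKV d (hBK h) v hv
    · have h1 := hKV _ (hBK h) v hv
      have h2 : d = a * (a⁻¹ * d) := by group
      rw [h2]
      calc a * (a⁻¹ * d) * v = a * ((a⁻¹ * d) * v) := by group
        _ = a * (v * (a⁻¹ * d)) := by rw [h1]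
        _ = (a * v) * (a⁻¹ * d) := by group
        _ = (v * a) * (a⁻¹ * d) := by rw [hav]
        _ = v * (a * (a⁻¹ * d)) := by group
  -- the uniqueness statement
  have hP₁ : ∀ g' : G, (∀ d ∈ A, d * (g' * x * g'⁻¹) = (g' * x * g'⁻¹) * d) → g' * x * g'⁻¹ = x := by
    intro g' h
    have := C.hP1 S A C.hA C.hAK g' h
    rwa [C.hφS] at this
  have hyFix : ¬ ∀ d ∈ A, d * y = y * d := fun h => hne (hP₁ g h)
  -- the hyperplane
  set H₀ := V ⊓ centralizer (A : Set G) with hH₀
  have hmemH₀ : ∀ v, v ∈ H₀ ↔ v ∈ V ∧ ∀ d ∈ A, d * v = v * d := by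
    intro v
    rw [hH₀, Subgroup.mem_inf, Subgroup.mem_centralizer_iff]
    exact Iff.rfl
  have hyH₀ : y ∉ H₀ := fun h => hyFix ((hmemH₀ y).mp h).2
  have hH₀V : H₀ ≤ V := inf_le_left
  have hcardV : Nat.card V ≤ 2 * Nat.card H₀ := by
    open Cfsg.Agent.Lib.PGroup.Timmesfeld in
    have hBn : B ≤ normalizer (V : Set G) := by
      rw [Subgroup.normalizer_eq_top_iff.mpr hVn]
      exact le_top
    have h1 := card_sup_mul_card_inf_of_le_normalizer B V hBn
    have h2 : PP 0 (B ⊔ V) := by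
      have hcl : B ⊔ V = closure ((B : Set G) ∪ (V : Set G)) := by
        rw [Subgroup.closure_union, Subgroup.closure_eq, Subgroup.closure_eq]
      refine ⟨?_, fun y _ => pow_zero y⟩
      rw [hcl]
      intro u hu v hv
      refine Cfsg.Agent.Lib.PGroup.Replacement.closure_comm ?_ hu hv
      rintro a (ha | ha) b (hb | hb)
      · exact hAc a (hBA ha) b (hBA hb)
      · exact hKV a (hBK ha) b hb
      · exact (hKV b (hBK hb) a ha).symm
      · exact hVc a ha b hb
    have h3 : Nat.card ↥(B ⊔ V) ≤ Nat.card A :=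
      C.hA.2.2 _ (sup_le (hBA.trans C.hA.1) (C.hVS S)) h2
    have h4 : Nat.card ↥(B ⊓ V) ≤ Nat.card H₀ := by
      refine Subgroup.card_le_of_le ?_
      intro v hv
      refine (hmemH₀ v).mpr ⟨hv.2, fun d hd => hAc d hd v (hBA hv.1)⟩
    have h5 : Nat.card B * 2 = Nat.card A := by
      have := card_mul_relIndex' hBA
      rwa [hidx] at this
    have h6 : Nat.card B * Nat.card V ≤ Nat.card B * (2 * Nat.card H₀) := by
      rw [← h1]
      calc Nat.card ↥(B ⊔ V) * Nat.card ↥(B ⊓ V) ≤ Nat.card A * Nat.card H₀ := Nat.mul_le_mul h3 h4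
        _ = Nat.card B * (2 * Nat.card H₀) := by rw [← h5]; ring
    exact Nat.le_of_mul_le_mul_left h6 Nat.card_pos
  have hidx₀ : (H₀.subgroupOf V).index = 2 := by
    open Cfsg.Agent.Lib.PGroup.Timmesfeld in
    have h1 : Nat.card H₀ * H₀.relIndex V = Nat.card V := card_mul_relIndex' hH₀V
    have h2 : H₀.relIndex V ≠ 1 := by
      intro h
      rw [Subgroup.relIndex_eq_one] at h
      exact hyH₀ (h hyV)
    have h3 : H₀.relIndex V ≤ 2 := by
      have hpos : 0 < Nat.card H₀ := Nat.card_pos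
      rw [← h1, mul_comm] at hcardV
      exact Nat.le_of_mul_le_mul_right hcardV hpos
    have h4 : H₀.relIndex V ≠ 0 := Subgroup.index_ne_zero_of_finite
    have : H₀.relIndex V = 2 := by omega
    exact this
  have hmul : ∀ u ∈ V, ∀ v ∈ V, u ∉ H₀ → v ∉ H₀ → u * v ∈ H₀ := by
    intro u hu v hv huH hvH
    have h1 := Subgroup.mul_mem_iff_of_index_two hidx₀ (a := (⟨u, hu⟩ : V)) (b := ⟨v, hv⟩)
    have h2 : (⟨u, hu⟩ : V) ∉ H₀.subgroupOf V := huH
    have h3 : (⟨v, hv⟩ : V) ∉ H₀.subgroupOf V := hvH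
    have h4 := h1.mpr (by tauto)
    exact h4
  -- the constant commutator
  have hfixH : ∀ h ∈ H₀, a * h * a⁻¹ = h := by
    intro h hh
    rw [((hmemH₀ h).mp hh).2 a haA]
    group
  set e := y⁻¹ * (a * y * a⁻¹) with he
  have hayV : a * y * a⁻¹ ∈ V := C.conj_mem hyV a
  have heV : e ∈ V := V.mul_mem (V.inv_mem hyV) hayV
  have hconst : ∀ v ∈ V, (¬ ∀ d ∈ A, d * v = v * d) → v⁻¹ * (a * v * a⁻¹) = e := by
    intro v hv hvfix
    have hvH : v ∉ H₀ := fun h => hvfix ((hmemH₀ v).mp h).2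
    have hyi : y⁻¹ ∉ H₀ := fun h => hyH₀ (by simpa using H₀.inv_mem h)
    have h1 := hmul _ (V.inv_mem hyV) v hv hyi hvH
    set h := y⁻¹ * v with hh
    have hv' : v = y * h := by rw [hh]; group
    have h2 : a * v * a⁻¹ = (a * y * a⁻¹) * h := by
      rw [hv']
      calc a * (y * h) * a⁻¹ = (a * y * a⁻¹) * (a * h * a⁻¹) := by group
        _ = (a * y * a⁻¹) * h := by rw [hfixH h h1]
    rw [h2, hv']
    have h3 : h ∈ V := hH₀V h1
    calc (y * h)⁻¹ * ((a * y * a⁻¹) * h) = h⁻¹ * (y⁻¹ * (a * y * a⁻¹) * h) := by group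
      _ = h⁻¹ * (e * h) := by rw [he]
      _ = h⁻¹ * (h * e) := by rw [hVc e heV h h3]
      _ = e := by group
  have heFix : ∀ d ∈ A, d * e = e * d := by
    intro d hd
    have := C.hq y hyV a haA d hd
    calc d * e = (d * e * d⁻¹) * d := by group
      _ = e * d := by rw [this]
  have hae : a * e * a⁻¹ = e := by
    rw [heFix a haA]; group
  have he1 : e ≠ 1 := by
    intro h
    apply hyFix
    apply hconv y hyV
    have h1 : a * y * a⁻¹ = y := by
      have h2 : y * e = a * y * a⁻¹ := by rw [he]; group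
      rw [← h2, h, mul_one]
    calc a * y = (a * y * a⁻¹) * a := by group
      _ = y * a := by rw [h1]
  have he2 : e * e = 1 := by
    have hyi : y⁻¹ ∉ H₀ := fun h => hyH₀ (by simpa using H₀.inv_mem h)
    have h1 : y * y ∈ H₀ := hmul y hyV y hyV hyH₀ hyH₀
    have h2 := hfixH _ h1
    have h3 : a * (y * y) * a⁻¹ = (a * y * a⁻¹) * (a * y * a⁻¹) := by group
    have h4 : a * y * a⁻¹ = y * e := by rw [he]; group
    rw [h3, h4] at h2
    have h5 : y * e * (y * e) = (y * y) * (e * e) := by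
      calc y * e * (y * e) = y * (e * y) * e := by group
        _ = y * (y * e) * e := by rw [hVc e heV y hyV]
        _ = (y * y) * (e * e) := by group
    rw [h5] at h2
    exact mul_left_cancel (a := y * y) (by rw [h2, mul_one])
  -- conjugating by `g`
  set a₂ := g * a * g⁻¹ with ha₂
  set e₂ := g * e * g⁻¹ with he₂
  have hA₂ : A.map (MulAut.conj g).toMonoidHom ∈ AA 0 ((g • S : Sylow p G) : Subgroup G) := by
    rw [coe_smul_sylow]
    exact AA_map C.hA (MulAut.conj g)
  have hA₂K : ¬ A.map (MulAut.conj g).toMonoidHom ≤ K := by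
    intro h
    apply C.hAK
    intro d hd
    have h1 : g * d * g⁻¹ ∈ K := h ⟨d, hd, rfl⟩
    have h2 := (Subgroup.normal_centralizer (H := V) ).conj_mem _ h1 g⁻¹
    have h3 : g⁻¹ * (g * d * g⁻¹) * g⁻¹⁻¹ = d := by group
    rwa [h3] at h2
  have hP₂ : ∀ g' : G, (∀ d ∈ A, (g * d * g⁻¹) * (g' * x * g'⁻¹) = (g' * x * g'⁻¹) * (g * d * g⁻¹)) →
      g' * x * g'⁻¹ = y := by
    intro g' h
    have h1 := C.hP1 _ _ hA₂ hA₂K g' (by
      rintro _ ⟨d, hd, rfl⟩
      exact h d hd)
    rwa [C.hφ] at h1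
  have hFix₂y : ∀ d ∈ A, (g * d * g⁻¹) * y = y * (g * d * g⁻¹) := by
    intro d hd
    have := C.hxc (C.hA.1 hd)
    rw [hy]
    calc g * d * g⁻¹ * (g * x * g⁻¹) = g * (d * x) * g⁻¹ := by group
      _ = g * (x * d) * g⁻¹ := by rw [this]
      _ = g * x * g⁻¹ * (g * d * g⁻¹) := by group
  have hnFix₂e : ¬ ∀ d ∈ A, (g * d * g⁻¹) * e = e * (g * d * g⁻¹) := by
    intro h
    -- `a y a⁻¹ = y e` is fixed
    have h1 : a * y * a⁻¹ = y := by
      have h2 : (a * g) * x * (a * g)⁻¹ = y := by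
        apply hP₂
        intro d hd
        have h3 : (a * g) * x * (a * g)⁻¹ = y * e := by
          rw [he, hy]; group
        rw [h3]
        calc g * d * g⁻¹ * (y * e) = (g * d * g⁻¹ * y) * e := by group
          _ = (y * (g * d * g⁻¹)) * e := by rw [hFix₂y d hd]
          _ = y * (g * d * g⁻¹ * e) := by group
          _ = y * (e * (g * d * g⁻¹)) := by rw [h d hd]
          _ = y * e * (g * d * g⁻¹) := by group
      calc a * y * a⁻¹ = (a * g) * x * (a * g)⁻¹ := by rw [hy]; group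
        _ = y := h2
    apply he1
    rw [he, h1]
    group
  have hnFix₂x : ¬ ∀ d ∈ A, (g * d * g⁻¹) * x = x * (g * d * g⁻¹) := by
    intro h
    have h1 := hP₂ 1 (by simpa using h)
    apply hne
    rw [← h1]
    group
  have hconst₂ : ∀ v ∈ V, (¬ ∀ d ∈ A, (g * d * g⁻¹) * v = v * (g * d * g⁻¹)) →
      v⁻¹ * (a₂ * v * a₂⁻¹) = e₂ := by
    intro v hv hvfix
    have hv' : g⁻¹ * v * g ∈ V := by
      have := C.conj_mem hv g⁻¹
      simpa using this
    have h1 := hconst _ hv' (by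
      intro h
      apply hvfix
      intro d hd
      have h2 := h d hd
      calc g * d * g⁻¹ * v = g * (d * (g⁻¹ * v * g)) * g⁻¹ := by group
        _ = g * ((g⁻¹ * v * g) * d) * g⁻¹ := by rw [h2]
        _ = v * (g * d * g⁻¹) := by group)
    rw [he₂, ← h1, ha₂]
    group
  have he₂1 : e₂ ≠ 1 := by
    intro h
    apply he1
    have : e = g⁻¹ * e₂ * g := by rw [he₂]; group
    rw [this, h]
    group
  have hxV := C.hxV
  have he₂V : e₂ ∈ V := C.conj_mem heV g
  have hxFix : ∀ d ∈ A, d * x = x * d := fun d hd => C.hxc (C.hA.1 hd)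
  have he₂x : x⁻¹ * (a₂ * x * a₂⁻¹) = e₂ := hconst₂ x hxV hnFix₂x
  have hnFixe₂ : ¬ ∀ d ∈ A, d * e₂ = e₂ * d := by
    intro h
    apply he₂1
    have h1 : a₂ * x * a₂⁻¹ = x := by
      apply hP₁
      intro d hd
      have h2 : a₂ * x * a₂⁻¹ = x * e₂ := by rw [← he₂x]; group
      rw [h2]
      calc d * (x * e₂) = (d * x) * e₂ := by group
        _ = (x * d) * e₂ := by rw [hxFix d hd]
        _ = x * (d * e₂) := by group
        _ = x * (e₂ * d) := by rw [h d hd]
        _ = x * e₂ * d := by group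
    rw [← he₂x, h1]
    group
  have hG2 : a * e₂ * a⁻¹ = e * e₂ := by
    have h1 := hconst e₂ he₂V hnFixe₂
    have h2 : a * e₂ * a⁻¹ = e₂ * e := by rw [← h1]; group
    rw [h2]
    exact hVc _ he₂V _ heV
  have hG3 : a₂ * e₂ * a₂⁻¹ = e₂ := by
    rw [ha₂, he₂]
    calc g * a * g⁻¹ * (g * e * g⁻¹) * (g * a * g⁻¹)⁻¹ = g * (a * e * a⁻¹) * g⁻¹ := by group
      _ = g * e * g⁻¹ := by rw [hae]
  have hG4 : a₂ * e * a₂⁻¹ = e * e₂ := by
    have h1 := hconst₂ e heV hnFix₂e
    rw [← h1]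
    group
  have he₂2 : e₂ * e₂ = 1 := by
    rw [he₂]
    calc g * e * g⁻¹ * (g * e * g⁻¹) = g * (e * e) * g⁻¹ := by group
      _ = 1 := by rw [he2]; group
  have hee₂ : e ≠ e₂ := by
    intro h
    apply hnFixe₂
    rw [← h]
    exact heFix
  exact Cfsg.Agent.Lib.PGroup.WeakClosureSFour.involves_of_two he2 he₂2 (hVc e heV e₂ he₂V) he1 he₂1 hee₂
    hae hG2 hG3 hG4

/-- Orbits of length two do not occur. -/
theorem no_index_two (C : Ctx W S x V A) (h2 : p = 2) (hH : HH p (S : Subgroup G) x) (g : G)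
    (hne : g * x * g⁻¹ ≠ x) :
    ((centralizer ({g * x * g⁻¹} : Set G)).subgroupOf A).index ≠ 2 := by
  classical
  intro hidx
  haveI hVn := C.hVn
  set y := g * x * g⁻¹ with hy
  have hyV : y ∈ V := C.conj_mem C.hxV g
  have hyS : y ∈ (S : Subgroup G) := C.hVS S hyV
  have hAc : ∀ a ∈ A, ∀ b ∈ A, a * b = b * a := C.hA.2.1.1
  have hyA : y ∉ A := by
    intro h
    apply hne
    have := C.hP1 S A C.hA C.hAK g (fun a ha => hAc a ha y h)
    rwa [C.hφS] at this
  set B := A ⊓ centralizer ({y} : Set G) with hB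
  have hBA : B ≤ A := inf_le_left
  have hBy : ∀ b ∈ B, b * y = y * b := fun b hb =>
    Subgroup.mem_centralizer_singleton_iff.mp (Subgroup.mem_inf.mp hb).2
  have hidx' : B.relIndex A = 2 := by
    have : B.subgroupOf A = (centralizer ({y} : Set G)).subgroupOf A := by
      ext a
      simp only [Subgroup.mem_subgroupOf, hB, Subgroup.mem_inf]
      exact ⟨fun h => h.2, fun h => ⟨a.2, h⟩⟩
    rw [Subgroup.relIndex, this, hidx]
  have hcard : Nat.card B * 2 = Nat.card A := by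
    have := Cfsg.Agent.Lib.PGroup.Timmesfeld.card_mul_relIndex' hBA
    rwa [hidx'] at this
  set X := B ⊔ zpowers y with hX
  have hXPP : PP 0 X := PP_sup_zpowers (k := 0)
    ⟨fun u hu v hv => hAc u (hBA hu) v (hBA hv), fun _ _ => pow_zero _⟩ (pow_zero y)
    (fun b hb => (hBy b hb).symm)
  have hXS : X ≤ (S : Subgroup G) := sup_le (hBA.trans C.hA.1) (by rw [zpowers_le]; exact hyS)
  have hyX : y ∈ X := (le_sup_right : zpowers y ≤ X) (mem_zpowers y)
  have hBX : B < X := lt_of_le_of_ne le_sup_left fun h => hyA (hBA (by rw [h]; exact hyX))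
  have hcardX : Nat.card A ≤ Nat.card X := by
    obtain ⟨k, hk⟩ := Subgroup.card_dvd_of_le hBX.le
    have h1 := card_lt_of_lt hBX
    have h2' : 2 ≤ k := by
      rw [hk] at h1
      by_contra hlt
      have : k = 0 ∨ k = 1 := by omega
      rcases this with rfl | rfl <;> simp at h1
    rw [← hcard, hk]
    exact Nat.mul_le_mul_left _ h2'
  have hXA : X ∈ AA 0 (S : Subgroup G) := AA_of_card C.hA hXS hXPP hcardX
  have hXy : ∀ a ∈ X, a * y = y * a := fun a ha => hXPP.1 a ha y hyX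
  rcases hH with h | ⟨z, hzS, hzc, hzp⟩ | hfree
  · exact h h2
  · -- `x` is a square
    rw [h2] at hzp
    set U₀ : Sylow p G := g • S with hU₀
    have hφ₀ : W.φ U₀ = y := C.hφ g
    have hU₀c : ∀ u ∈ (U₀ : Subgroup G), u * y = y * u := by
      intro u hu
      have := W.central U₀ hu
      rwa [hφ₀] at this
    have hU₀C : (U₀ : Subgroup G) ≤ centralizer ({y} : Set G) := fun u hu =>
      Subgroup.mem_centralizer_singleton_iff.mpr (hU₀c u hu)
    have hXC : X ≤ centralizer ({y} : Set G) := fun u hu =>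
      Subgroup.mem_centralizer_singleton_iff.mpr (hXy u hu)
    obtain ⟨c, hc, hXU⟩ := exists_conj_le_of_le_centralizer U₀ hU₀C (S.2.to_le hXS) hXC
    set U' : Sylow p G := c • U₀ with hU'
    have hXA' : X ∈ AA 0 (U' : Subgroup G) := AA_of_le hXA hXU
    have hcy : c * y = y * c := Subgroup.mem_centralizer_singleton_iff.mp hc
    set z' := c * (g * z * g⁻¹) * c⁻¹ with hz'
    have hz'U' : z' ∈ (U' : Subgroup G) := by
      rw [hU', coe_smul_sylow]
      apply conj_mem_conj_smul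
      rw [hU₀, coe_smul_sylow]
      exact conj_mem_conj_smul hzS
    have hz'c : ∀ u ∈ (U' : Subgroup G), z' * u = u * z' := by
      intro u hu
      rw [hU', coe_smul_sylow, mem_conj_smul_iff, hU₀, coe_smul_sylow, mem_conj_smul_iff] at hu
      have h3 := hzc _ hu
      rw [hz']
      calc c * (g * z * g⁻¹) * c⁻¹ * u = c * g * (z * (g⁻¹ * (c⁻¹ * u * c) * g)) * g⁻¹ * c⁻¹ := by group
        _ = c * g * ((g⁻¹ * (c⁻¹ * u * c) * g) * z) * g⁻¹ * c⁻¹ := by rw [h3]
        _ = u * (c * (g * z * g⁻¹) * c⁻¹) := by group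
    have hz'X : z' ∈ X := mem_of_comm hXA' hz'U' (fun u hu => hz'c u (hXU hu)) (pow_zero _)
    have hz'2 : z' * z' = y := by
      rw [hz']
      have h3 : z * z = x := by rw [← hzp, pow_two]
      calc c * (g * z * g⁻¹) * c⁻¹ * (c * (g * z * g⁻¹) * c⁻¹) = c * (g * (z * z) * g⁻¹) * c⁻¹ := by group
        _ = c * y * c⁻¹ := by rw [h3]
        _ = y := by rw [hcy]; group
    obtain ⟨b, hb, i, hbi⟩ := mem_sup_zpowers hBy hz'X
    have hbc : ∀ j : ℤ, b * y ^ j = y ^ j * b := fun j =>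
      ((show Commute b y from hBy b hb).zpow_right j).eq
    have h3 : b * b * y ^ (2 * i) = y := by
      have h4 : y ^ (2 * i) = y ^ i * y ^ i := by rw [two_mul, zpow_add]
      have h5 : (b * y ^ i) * (b * y ^ i) = y := by rw [← hbi]; exact hz'2
      rw [h4]
      calc b * b * (y ^ i * y ^ i) = b * (b * y ^ i) * y ^ i := by group
        _ = b * (y ^ i * b) * y ^ i := by rw [hbc i]
        _ = b * y ^ i * (b * y ^ i) := by group
        _ = y := h5
    have h4 : y ^ (1 - 2 * i) = b * b := by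
      rw [sub_eq_add_neg, zpow_add, zpow_one, zpow_neg]
      nth_rewrite 1 [← h3]
      group
    have h5 : y ^ (1 - 2 * i) ∈ B := by
      rw [h4]
      exact B.mul_mem hb hb
    obtain ⟨k, hk⟩ := orderOf_eq_pow_of_mem S hyS
    have hco : IsCoprime (1 - 2 * i) ((2 : ℤ) ^ k) := by
      apply IsCoprime.pow_right
      exact ⟨1, i, by ring⟩
    obtain ⟨r, s, hrs⟩ := hco
    have hyk : y ^ ((2 : ℤ) ^ k) = 1 := by
      have h6 : y ^ (p ^ k) = 1 := by rw [← hk]; exact pow_orderOf_eq_one y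
      rw [h2] at h6
      have h7 : ((2 : ℤ) ^ k) = ((2 ^ k : ℕ) : ℤ) := by push_cast; rfl
      rw [h7, zpow_natCast]
      exact h6
    have h6 : y = (y ^ (1 - 2 * i)) ^ r := by
      have h8 : y ^ (r * (1 - 2 * i) + s * (2 : ℤ) ^ k) = y := by rw [hrs, zpow_one]
      calc y = y ^ (r * (1 - 2 * i) + s * (2 : ℤ) ^ k) := h8.symm
        _ = (y ^ (1 - 2 * i)) ^ r := by
          rw [zpow_add, mul_comm r, zpow_mul, mul_comm s, zpow_mul, hyk, one_zpow, mul_one]
    apply hyA
    apply hBA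
    rw [h6]
    exact B.zpow_mem h5 r
  · -- the `S₄`-free case
    by_cases hBK : B ≤ centralizer (V : Set G)
    · exact hfree (C.involves_case g hne hidx' hBK)
    · have hXK : ¬ X ≤ centralizer (V : Set G) := fun h => hBK (le_sup_left.trans h)
      have := C.hP1 S X hXA hXK g hXy
      rw [C.hφS] at this
      exact hne this

end Ctx

/-- The second case: a conjugate of `x` in a normal `p`-subgroup. -/
theorem case_two (IH : ∀ L : Subgroup G, L ≠ ⊤ → WCProp p L) (W : Sys p G) (S : Sylow p G) (x : G)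
    (hφS : W.φ S = x) (hφ : ∀ g : G, W.φ (g • S) = g * x * g⁻¹)
    (hV : IsPGroup p (normalClosure ({x} : Set G))) (hH : HH p (S : Subgroup G) x) (g : G) :
    g * x * g⁻¹ = x := by
  classical
  set V := normalClosure ({x} : Set G) with hVdef
  haveI hVn : V.Normal := Subgroup.normalClosure_normal
  have hxV : x ∈ V := Subgroup.subset_normalClosure (Set.mem_singleton x)
  have hxc : ∀ u ∈ (S : Subgroup G), u * x = x * u := by
    intro u hu
    have := W.central S hu
    rwa [hφS] at this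
  have hVS : ∀ U : Sylow p G, V ≤ U := fun U => hV.le_sylow_of_normal U
  set K := centralizer (V : Set G) with hK
  have hKn : K.Normal := Subgroup.normal_centralizer
  have hQK : ∀ Q : Subgroup G, Q.Normal → IsPGroup p Q → Q ≤ K := by
    intro Q hQn hQp
    have hQS : Q ≤ S := hQp.le_sylow_of_normal S
    have h1 : x ∈ centralizer (Q : Set G) := by
      rw [Subgroup.mem_centralizer_iff]
      intro q hq
      exact hxc q (hQS hq)
    have h2 : V ≤ centralizer (Q : Set G) := by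
      apply Subgroup.normalClosure_le_normal
      rintro _ rfl
      exact h1
    exact Subgroup.le_centralizer_iff.mp h2
  have hVK : V ≤ K := hQK V hVn hV
  have hVc : ∀ u ∈ V, ∀ v ∈ V, u * v = v * u := fun u hu v hv =>
    (Subgroup.mem_centralizer_iff.mp (hVK hu) v hv).symm
  by_cases hJ : JJ 0 (S : Subgroup G) ≤ K
  · -- the Frattini argument
    obtain ⟨Q, hQ⟩ := exists_sylow_inf_normal S K
    obtain ⟨c, hc, n, hn, rfl⟩ := frattini_argument' Q g
    rw [hQ] at hn
    have h1 : JJ 0 ((S : Subgroup G) ⊓ K) = JJ 0 (S : Subgroup G) :=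
      JJ_eq_of_le (le_inf (JJ_le 0 _) hJ) inf_le_left
    have h2 := normalizer_le_normalizer_JJ _ hn
    rw [h1] at h2
    have h3 := W.cent S n h2
    rw [hφS] at h3
    have h4 : c * x = x * c := (Subgroup.mem_centralizer_iff.mp hc x hxV).symm
    calc c * n * x * (c * n)⁻¹ = c * (n * x) * n⁻¹ * c⁻¹ := by group
      _ = c * (x * n) * n⁻¹ * c⁻¹ := by rw [h3]
      _ = c * x * c⁻¹ := by group
      _ = x := by rw [h4]; group
  · exfalso
    have hA₀ : ∃ A₀ ∈ AA 0 (S : Subgroup G), ¬ A₀ ≤ K := by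
      by_contra hall
      push Not at hall
      exact hJ (sSup_le hall)
    obtain ⟨A₀, hA₀, hne⟩ := hA₀
    obtain ⟨A, hA, hAK, hq⟩ := exists_quadratic S.2 (hVS S) hVc hA₀ hne
    -- the key induction
    have hkey : ∀ (U U' : Sylow p G) (A' : Subgroup G), A' ∈ AA 0 (U : Subgroup G) → ¬ A' ≤ K →
        A' ≤ (U' : Subgroup G) → W.φ U' = W.φ U := by
      intro U U' A' hA' hA'K hA'U'
      refine key (𝓑 := fun U Q => Q ≤ U ∧ ∃ A' ∈ AA 0 (U : Subgroup G), ¬ A' ≤ K ∧ A' ≤ Q) IH ?_ ?_ ?_ ?_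
        U U' ⟨inf_le_left, A', hA', hA'K, le_inf hA'.1 hA'U'⟩
      · rintro U Q ⟨hQU, A', hA', hA'K, hA'Q⟩
        refine ⟨hQU, hA'Q (mem_of_comm hA' (W.mem U) (fun u hu => (W.central U (hA'.1 hu)).symm) (pow_zero _)), ?_⟩
        intro hQn
        exact hA'K (hA'Q.trans (hQK Q hQn (U.2.to_le hQU)))
      · rintro U Q Q' ⟨hQU, A', hA', hA'K, hA'Q⟩ h1 h2
        exact ⟨h2, A', hA', hA'K, hA'Q.trans h1⟩
      · rintro U U' Q ⟨hQU, A', hA', hA'K, hA'Q⟩ h1 _
        exact ⟨h1, A', AA_of_le hA' (hA'Q.trans h1), hA'K, hA'Q⟩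
      · rintro U Q ⟨hQU, A', hA', hA'K, hA'Q⟩
        refine ⟨(JJ_le 0 _).trans inf_le_left, A', hA', hA'K, AA_le_JJ ?_⟩
        refine ⟨le_inf hA'.1 (hA'Q.trans Subgroup.le_normalizer), hA'.2.1, fun V' hV' hV'2 => ?_⟩
        exact hA'.2.2 V' (hV'.trans inf_le_left) hV'2
    have hP1 : ∀ (U : Sylow p G) (A' : Subgroup G), A' ∈ AA 0 (U : Subgroup G) → ¬ A' ≤ K →
        ∀ g : G, (∀ a ∈ A', a * (g * x * g⁻¹) = (g * x * g⁻¹) * a) → g * x * g⁻¹ = W.φ U := by
      intro U A' hA' hA'K g h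
      set U₀ : Sylow p G := g • S with hU₀
      have hφ₀ : W.φ U₀ = g * x * g⁻¹ := hφ g
      have hU₀C : (U₀ : Subgroup G) ≤ centralizer ({g * x * g⁻¹} : Set G) := fun u hu => by
        rw [Subgroup.mem_centralizer_singleton_iff, ← hφ₀]
        exact W.central U₀ hu
      have hA'C : A' ≤ centralizer ({g * x * g⁻¹} : Set G) := fun u hu =>
        Subgroup.mem_centralizer_singleton_iff.mpr (h u hu)
      obtain ⟨c, hc, hA'U⟩ := exists_conj_le_of_le_centralizer U₀ hU₀C (U.2.to_le hA'.1) hA'C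
      have h1 := hkey U (c • U₀) A' hA' hA'K hA'U
      rw [W.equi, hφ₀, Subgroup.mem_centralizer_singleton_iff.mp hc] at h1
      rw [← h1]
      group
    have C : Ctx W S x V A := ⟨hφS, hφ, hVn, hxV, hVS, hVc, hA, hAK, hq, hP1⟩
    apply hAK
    refine Cfsg.Agent.Lib.PGroup.WeakClosureOrbit.le_centralizer_of_unique_fixed hVc hV hVdef
      (S.2.to_le hA.1) hq (fun a ha => hxc a (hA.1 ha)) ?_ ?_
    · intro g' h
      have := hP1 S A hA hAK g' h
      rwa [hφS] at this
    · intro h2 g' hne'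
      exact C.no_index_two h2 hH g' hne'

/-- **Glauberman**: the main theorem. -/
theorem wc_all : ∀ (n : ℕ) (G : Type u) [Group G] [Finite G], Nat.card G = n → WCProp p G := by
  intro n
  induction n using Nat.strong_induction_on with
  | h n ih =>
    intro G _ _ hn S x hxS hx hH g hg
    have IH : ∀ L : Subgroup G, L ≠ ⊤ → WCProp p L := by
      intro L hL
      refine ih (Nat.card L) ?_ L rfl
      rw [← hn, ← Nat.card_congr (Subgroup.topEquiv (G := G)).toEquiv]
      exact card_lt_of_lt (lt_top_iff_ne_top.mpr hL)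
    obtain ⟨W, hφ⟩ := exists_sys S x hxS hx hH
    have hφS : W.φ S = x := by
      have := hφ 1
      simpa using this
    by_cases hV : IsPGroup p (normalClosure ({x} : Set G))
    · exact case_two IH W S x hφS hφ hV hH g
    · have h1 := case_one IH W (by
        intro U Q hQn hQU hmem
        apply hV
        obtain ⟨h, rfl⟩ := MulAction.exists_smul_eq G S U
        rw [hφ] at hmem
        have h2 : x ∈ Q := by
          have := hQn.conj_mem _ hmem h⁻¹
          simpa [mul_assoc] using this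
        have h3 : normalClosure ({x} : Set G) ≤ Q := by
          apply Subgroup.normalClosure_le_normal
          rintro _ rfl
          exact h2
        exact (((h • S : Sylow p G).2).to_le hQU).to_le h3) (g • S) S (by rw [hφ]; exact hg)
      rw [hφ, hφS] at h1
      exact h1.symm

end Cfsg.Agent.Lib.PGroup.WeakClosureMain
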