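import Mathlib
import Cfsg.Agent.Lib.PGroup.ZJControl

/-!
# Groups all of whose `p`-locals have `Z(J)` normal: the subgroup `N(Z(J(P)))` is strongly embedded
-/

namespace Cfsg.Agent.Lib.PGroup.ZJLocal

open Subgroup Cfsg.Agent.Lib.PGroup.ZJ Cfsg.Agent.Lib.PGroup.ZJCore Cfsg.Agent.Lib.PGroup.ZJControl
open Cfsg.Agent.Lib.PGroup.Replacement (mem_normalizer_of_conj_mem card_lt_of_lt)
open scoped commutatorElement

variable {G : Type*} [Group G] [Finite G] {p : ℕ} [Fact p.Prime]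

/-- The hypothesis: in every `p`-local, `ZZ k` of a Sylow subgroup is normal. -/
def LocalZZ (p k : ℕ) [Fact p.Prime] (G : Type*) [Group G] : Prop :=
  ∀ Q : Subgroup G, IsPGroup p Q → Q ≠ ⊥ → ∀ T : Sylow p ↥(normalizer (Q : Set G)),
    normalizer (Q : Set G) ≤
      normalizer (ZZ k ((T : Subgroup ↥(normalizer (Q : Set G))).map
        (normalizer (Q : Set G)).subtype) : Set G)

theorem card_le_sylow {U : Subgroup G} (hU : IsPGroup p U) (S₀ : Sylow p G) :
    Nat.card U ≤ Nat.card (S₀ : Subgroup G) := by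
  obtain ⟨S₁, hS₁⟩ := hU.exists_le_sylow
  have h1 := Subgroup.card_le_of_le hS₁
  have h2 : Nat.card (S₁ : Subgroup G) = Nat.card (S₀ : Subgroup G) := by
    rw [Sylow.card_eq_multiplicity, Sylow.card_eq_multiplicity]
  omega

theorem le_map_sylow_of_normal {Q : Subgroup G} (hQ : IsPGroup p Q)
    (T : Sylow p ↥(normalizer (Q : Set G))) :
    Q ≤ (T : Subgroup ↥(normalizer (Q : Set G))).map (normalizer (Q : Set G)).subtype := by
  have hn : (Q.subgroupOf (normalizer (Q : Set G))).Normal :=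
    Subgroup.normal_subgroupOf_of_le_normalizer le_rfl
  have h1 : Q.subgroupOf (normalizer (Q : Set G)) ≤ (T : Subgroup ↥(normalizer (Q : Set G))) :=
    (Cfsg.Agent.Lib.Basic.PCore.le_pCore hn (isPGroup_subgroupOf hQ)).trans
      (Cfsg.Agent.Lib.Basic.PCore.pCore_le_sylow T)
  intro x hx
  exact ⟨⟨x, Subgroup.le_normalizer hx⟩, h1 hx, rfl⟩

/-- First step: a `p`-local lies in the normalizer of `ZZ k P'` for a suitable Sylow `P'`. -/
theorem exists_sylow_normalizer {k : ℕ} (hk : k = 0 ∨ k = p) (hloc : LocalZZ p k G) (S₀ : Sylow p G) :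
    ∀ (n : ℕ) (Q : Subgroup G) (T : Sylow p ↥(normalizer (Q : Set G))),
      Nat.card (S₀ : Subgroup G) - Nat.card (T : Subgroup ↥(normalizer (Q : Set G))) = n →
      IsPGroup p Q → Q ≠ ⊥ →
      ∀ U : Subgroup G, U ≤ (T : Subgroup ↥(normalizer (Q : Set G))).map (normalizer (Q : Set G)).subtype →
      ∃ P' : Sylow p G, U ≤ (P' : Subgroup G) ∧
        normalizer (Q : Set G) ≤ normalizer (ZZ k (P' : Subgroup G) : Set G) := by
  intro n
  induction n using Nat.strong_induction_on with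
  | _ n IHn =>
    intro Q T hn hQp hQ1 U hU
    set Tm := (T : Subgroup ↥(normalizer (Q : Set G))).map (normalizer (Q : Set G)).subtype with hTm
    have hTmp : IsPGroup p Tm := T.isPGroup'.map _
    obtain ⟨P₀, hP₀⟩ := hTmp.exists_le_sylow
    have hN := hloc Q hQp hQ1 T
    rw [← hTm] at hN
    by_cases hTeq : Tm = (P₀ : Subgroup G)
    · refine ⟨P₀, hU.trans hP₀, ?_⟩
      rwa [hTeq] at hN
    · have hlt : Tm < (P₀ : Subgroup G) := lt_of_le_of_ne hP₀ hTeq
      obtain ⟨x, hxP, hxT, hxN⟩ := Cfsg.Agent.Lib.PGroup.Basic.exists_mem_normalizer_of_lt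
        P₀.isPGroup' hlt
      set R := ZZ k Tm with hR
      have hTmne : Tm ≠ ⊥ := by
        intro h
        apply hQ1
        exact le_bot_iff.mp (h ▸ le_map_sylow_of_normal hQp T)
      have hRne : R ≠ ⊥ := ZZ_ne_bot hk hTmp hTmne
      have hRp : IsPGroup p R := hTmp.to_le (ZZ_le_self k Tm)
      -- `x` normalizes `R`, so does `Tm`
      have hxR : x ∈ normalizer (R : Set G) := by
        apply mem_normalizer_of_conj_mem
        intro z hz
        exact conj_mem_ZZ (fun y hy => (mem_normalizer_iff.mp hxN y).mp hy) hz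
      have hTmR : Tm ≤ normalizer (R : Set G) := by
        intro t ht
        apply mem_normalizer_of_conj_mem
        intro z hz
        exact conj_mem_ZZ (fun y hy => mul_mem (mul_mem ht hy) (inv_mem ht)) hz
      -- a Sylow subgroup of `N(R)` containing `(P₀ ∩ N(R))`
      have h0 : IsPGroup p (((P₀ : Subgroup G) ⊓ normalizer (R : Set G)).subgroupOf
          (normalizer (R : Set G))) := isPGroup_subgroupOf (P₀.isPGroup'.to_le inf_le_left)
      obtain ⟨T₁, hT₁⟩ := h0.exists_le_sylow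
      set T₁m := (T₁ : Subgroup ↥(normalizer (R : Set G))).map (normalizer (R : Set G)).subtype with hT₁m
      have hle1 : (P₀ : Subgroup G) ⊓ normalizer (R : Set G) ≤ T₁m := by
        intro y hy
        exact ⟨⟨y, hy.2⟩, hT₁ (show (⟨y, hy.2⟩ : ↥(normalizer (R : Set G))) ∈
          ((P₀ : Subgroup G) ⊓ normalizer (R : Set G)).subgroupOf (normalizer (R : Set G)) from hy), rfl⟩
      have hTmT₁ : Tm ≤ T₁m := fun t ht => hle1 (Subgroup.mem_inf.mpr ⟨hP₀ ht, hTmR ht⟩)
      have hxT₁ : x ∈ T₁m := hle1 (Subgroup.mem_inf.mpr ⟨hxP, hxR⟩)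
      have hlt2 : Tm < T₁m := lt_of_le_of_ne hTmT₁ (fun h => hxT (h ▸ hxT₁))
      have hc1 := card_lt_of_lt hlt2
      have hc2 : Nat.card T₁m = Nat.card (T₁ : Subgroup ↥(normalizer (R : Set G))) :=
        Cfsg.Agent.Lib.PGroup.Replacement.card_map_subtype _
      have hc3 : Nat.card Tm = Nat.card (T : Subgroup ↥(normalizer (Q : Set G))) :=
        Cfsg.Agent.Lib.PGroup.Replacement.card_map_subtype _
      have hc4 : Nat.card T₁m ≤ Nat.card (S₀ : Subgroup G) :=
        card_le_sylow (T₁.isPGroup'.map _) S₀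
      obtain ⟨P', hP', hP'N⟩ := IHn (Nat.card (S₀ : Subgroup G) - Nat.card (T₁ : Subgroup ↥(normalizer (R : Set G))))
        (by omega) R T₁ rfl hRp hRne U (hU.trans hTmT₁)
      exact ⟨P', hP', hN.trans hP'N⟩

/-- Any `p`-subgroup `U` of `N(Q)`. -/
theorem exists_sylow_normalizer' {k : ℕ} (hk : k = 0 ∨ k = p) (hloc : LocalZZ p k G) {Q U : Subgroup G}
    (hQp : IsPGroup p Q) (hQ1 : Q ≠ ⊥) (hU : U ≤ normalizer (Q : Set G)) (hUp : IsPGroup p U) :
    ∃ P' : Sylow p G, U ≤ (P' : Subgroup G) ∧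
      normalizer (Q : Set G) ≤ normalizer (ZZ k (P' : Subgroup G) : Set G) := by
  obtain ⟨T, hT⟩ := (isPGroup_subgroupOf hUp (L := normalizer (Q : Set G))).exists_le_sylow
  obtain ⟨S₀⟩ : Nonempty (Sylow p G) := inferInstance
  refine exists_sylow_normalizer hk hloc S₀ _ Q T rfl hQp hQ1 U ?_
  intro x hx
  exact ⟨⟨x, hU hx⟩, hT (show (⟨x, hU hx⟩ : ↥(normalizer (Q : Set G))) ∈ U.subgroupOf _ from hx), rfl⟩

/-- Second step: Sylow subgroups with nontrivial intersection have the same normalizer of `ZZ k`. -/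
theorem normalizer_eq_of_inf_ne_bot {k : ℕ} (hk : k = 0 ∨ k = p) (hloc : LocalZZ p k G)
    (S₀ : Sylow p G) :
    ∀ (n : ℕ) (P₁ P₂ : Sylow p G),
      Nat.card (S₀ : Subgroup G) - Nat.card ((P₁ : Subgroup G) ⊓ (P₂ : Subgroup G) : Subgroup G) = n →
      (P₁ : Subgroup G) ⊓ (P₂ : Subgroup G) ≠ ⊥ →
      normalizer (ZZ k (P₁ : Subgroup G) : Set G) = normalizer (ZZ k (P₂ : Subgroup G) : Set G) := by
  intro n
  induction n using Nat.strong_induction_on with
  | _ n IHn =>
    intro P₁ P₂ hn hne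
    by_cases hEq : (P₁ : Subgroup G) = P₂
    · rw [hEq]
    set X := (P₁ : Subgroup G) ⊓ (P₂ : Subgroup G) with hX
    have hc0 : ∀ P : Sylow p G, Nat.card (P : Subgroup G) = Nat.card (S₀ : Subgroup G) := fun P => by
      rw [Sylow.card_eq_multiplicity, Sylow.card_eq_multiplicity]
    have hXp : IsPGroup p X := P₁.isPGroup'.to_le inf_le_left
    -- `X` is proper in both
    have hlt₁ : X < (P₁ : Subgroup G) := by
      refine lt_of_le_of_ne inf_le_left ?_
      intro h
      apply hEq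
      have h2 : (P₁ : Subgroup G) ≤ P₂ := by rw [← h]; exact inf_le_right
      exact Subgroup.eq_of_le_of_card_ge h2 (le_of_eq ((hc0 _).trans (hc0 _).symm))
    have hlt₂ : X < (P₂ : Subgroup G) := by
      refine lt_of_le_of_ne inf_le_right ?_
      intro h
      apply hEq
      have h2 : (P₂ : Subgroup G) ≤ P₁ := by rw [← h]; exact inf_le_left
      exact (Subgroup.eq_of_le_of_card_ge h2 (le_of_eq ((hc0 _).trans (hc0 _).symm))).symm
    have hT : ∀ (P : Sylow p G), X < (P : Subgroup G) → X < (P : Subgroup G) ⊓ normalizer (X : Set G) := by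
      intro P hP
      obtain ⟨x, hxP, hxX, hxN⟩ := Cfsg.Agent.Lib.PGroup.Basic.exists_mem_normalizer_of_lt
        P.isPGroup' hP
      exact lt_of_le_of_ne (le_inf hP.le Subgroup.le_normalizer)
        (fun h => hxX (h ▸ Subgroup.mem_inf.mpr ⟨hxP, hxN⟩))
    -- the key induction step: intersections strictly larger than `X`
    have IH : ∀ P₃ P₄ : Sylow p G, X < (P₃ : Subgroup G) ⊓ (P₄ : Subgroup G) →
        normalizer (ZZ k (P₃ : Subgroup G) : Set G) = normalizer (ZZ k (P₄ : Subgroup G) : Set G) := by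
      intro P₃ P₄ hlt
      have hc := card_lt_of_lt hlt
      have hc' : Nat.card ((P₃ : Subgroup G) ⊓ (P₄ : Subgroup G) : Subgroup G) ≤
          Nat.card (S₀ : Subgroup G) := by
        rw [← hc0 P₃]
        exact Subgroup.card_le_of_le inf_le_left
      refine IHn _ ?_ P₃ P₄ rfl ?_
      · rw [← hn]
        omega
      · intro h
        rw [h] at hlt
        exact not_lt_bot hlt
    -- `N(X) ≤ N(ZZ P₁)`
    have hT₁ := hT P₁ hlt₁
    have hT₂ := hT P₂ hlt₂
    obtain ⟨P₃, hP₃, hP₃N⟩ := exists_sylow_normalizer' hk hloc hXp hne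
      (inf_le_right : (P₁ : Subgroup G) ⊓ normalizer (X : Set G) ≤ _)
      (P₁.isPGroup'.to_le inf_le_left)
    have h31 : normalizer (ZZ k (P₃ : Subgroup G) : Set G) = normalizer (ZZ k (P₁ : Subgroup G) : Set G) :=
      IH P₃ P₁ (lt_of_lt_of_le hT₁ (le_inf hP₃ inf_le_left))
    have hNX : normalizer (X : Set G) ≤ normalizer (ZZ k (P₁ : Subgroup G) : Set G) := by
      rw [← h31]; exact hP₃N
    -- `P₄ ≥ T₂` a conjugate of `P₁` under `N(ZZ P₁)`
    set Z₁ := ZZ k (P₁ : Subgroup G) with hZ₁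
    have hP₁N : (P₁ : Subgroup G) ≤ normalizer (Z₁ : Set G) := by
      intro s hs
      apply mem_normalizer_of_conj_mem
      intro z hz
      exact conj_mem_ZZ (fun y hy => mul_mem (mul_mem hs hy) (inv_mem hs)) hz
    have hFN : FN P₁ Z₁ := by
      intro U _ hUp
      rw [inf_eq_left.mpr hP₁N]
      rw [hc0]
      exact card_le_sylow hUp S₀
    obtain ⟨l, hl, hlU⟩ := exists_conj_into hFN
      (inf_le_right.trans hNX : (P₂ : Subgroup G) ⊓ normalizer (X : Set G) ≤ normalizer (Z₁ : Set G))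
      (P₂.isPGroup'.to_le inf_le_left)
    set P₄ : Sylow p G := l⁻¹ • P₁ with hP₄
    have hP₄coe : (P₄ : Subgroup G) = (P₁ : Subgroup G).map (MulAut.conj l⁻¹).toMonoidHom := by
      rw [hP₄, Sylow.coe_subgroup_smul]
      rfl
    have hZ₄ : ZZ k (P₄ : Subgroup G) = Z₁ := by
      rw [hP₄coe, ← ZZ_map, ← hZ₁]
      exact map_conj_eq_of_conj_mem (fun x hx => (mem_normalizer_iff.mp (inv_mem hl) x).mp hx)
    have hT₂P₄ : (P₂ : Subgroup G) ⊓ normalizer (X : Set G) ≤ (P₄ : Subgroup G) := by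
      intro t ht
      rw [hP₄coe]
      refine ⟨l * t * l⁻¹, (hlU t ht).1, ?_⟩
      simp [MulAut.conj_apply, mul_assoc]
    have h42 := IH P₄ P₂ (lt_of_lt_of_le hT₂ (le_inf hT₂P₄ inf_le_left))
    rw [hZ₄] at h42
    exact h42

/-- The conclusion: `N(Q) ≤ N(ZZ k P)` for every nontrivial `Q ≤ P`. -/
theorem normalizer_le_of_localZZ {k : ℕ} (hk : k = 0 ∨ k = p) (hloc : LocalZZ p k G) (P : Sylow p G)
    {Q : Subgroup G} (hQP : Q ≤ (P : Subgroup G)) (hQ1 : Q ≠ ⊥) :
    normalizer (Q : Set G) ≤ normalizer (ZZ k (P : Subgroup G) : Set G) := by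
  have hQp : IsPGroup p Q := P.isPGroup'.to_le hQP
  obtain ⟨P', hP', hP'N⟩ := exists_sylow_normalizer' hk hloc hQp hQ1 Subgroup.le_normalizer hQp
  have hne : (P : Subgroup G) ⊓ (P' : Subgroup G) ≠ ⊥ := by
    intro h
    apply hQ1
    rw [← le_bot_iff, ← h]
    exact le_inf hQP hP'
  rw [normalizer_eq_of_inf_ne_bot hk hloc P _ P P' rfl hne]
  exact hP'N

/-- `LocalZZ` for `k = 0` from the hypotheses on `p`-locals. -/
theorem localZZ_of_stable (hp : p ≠ 2) {k : ℕ} (hk : k = 0 ∨ k = p)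
    (hloc : ∀ Q : Subgroup G, IsPGroup p Q → Q ≠ ⊥ →
      Cfsg.pPrimeCore p ↥(normalizer (Q : Set G)) = ⊥ ∧
      Cfsg.IsPConstrained p ↥(normalizer (Q : Set G)) ∧
      Cfsg.IsPStable p ↥(normalizer (Q : Set G))) : LocalZZ p k G := by
  intro Q hQp hQ1 T
  obtain ⟨h1, h2, h3⟩ := hloc Q hQp hQ1
  have hk' : k = 0 ∨ Odd k := by
    rcases hk with rfl | rfl
    · exact Or.inl rfl
    · exact Or.inr (Nat.Prime.odd_of_ne_two Fact.out hp)
  have hZ : (ZZ k (T : Subgroup ↥(normalizer (Q : Set G)))).map (normalizer (Q : Set G)).subtype =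
      ZZ k ((T : Subgroup ↥(normalizer (Q : Set G))).map (normalizer (Q : Set G)).subtype) :=
    ZZ_map_hom (normalizer (Q : Set G)).subtype (fun x _ h => Subtype.ext h) k
  rw [← hZ]
  intro g hg
  obtain ⟨o, ho, y, hy, hgy⟩ := zj_core hp hk' h2 T (stableAt_of_isPStable h3 T)
    (strongly_closed_self (T : Subgroup ↥(normalizer (Q : Set G)))) (⟨g, hg⟩ : ↥(normalizer (Q : Set G)))
  rw [h1, Subgroup.mem_bot] at ho
  rw [ho, one_mul] at hgy
  apply mem_normalizer_of_conj_mem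
  rintro _ ⟨z, hz, rfl⟩
  refine ⟨y * z * y⁻¹, (mem_normalizer_iff.mp hy z).mp hz, ?_⟩
  have : (g : G) = y := congrArg Subtype.val hgy
  rw [this]
  rfl

end Cfsg.Agent.Lib.PGroup.ZJLocal
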