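import Mathlib
import Cfsg.Prelude.Def_Transfer
import Cfsg.Agent.Lib.PGroup.Basic
import Cfsg.Agent.Lib.PGroup.CyclicMax
import Cfsg.Agent.Lib.PGroup.CyclicMax2

/-!
# Two-groups without a non-cyclic abelian subgroup of order eight

`HasA G` says that `G` has a non-cyclic abelian subgroup of order `8`.  We collect the structure
of finite `2`-groups without such a subgroup: a non-abelian one has a self-centralizing cyclic
subgroup of index `2` and a centre of order `2`.
-/

namespace Cfsg.Agent.Lib.PGroup.AFree

open Subgroup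
open Cfsg.Agent.Lib.PGroup.CyclicMax2

variable {G : Type*} [Group G]

/-- `G` has a non-cyclic abelian subgroup of order `8`. -/
def HasA (G : Type*) [Group G] : Prop :=
  ∃ A : Subgroup G, IsMulCommutative A ∧ ¬ IsCyclic A ∧ Nat.card A = 8

/-- Passing from a subgroup to the group. -/
theorem HasA.of_subgroup {Y : Subgroup G} (h : HasA Y) : HasA G := by
  obtain ⟨A, h1, h2, h3⟩ := h
  let e : A ≃* A.map Y.subtype := A.equivMapOfInjective _ Y.subtype_injective
  refine ⟨A.map Y.subtype, ?_, ?_, ?_⟩
  · refine ⟨⟨fun a b => ?_⟩⟩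
    have := h1.is_comm.comm (e.symm a) (e.symm b)
    apply e.symm.injective
    rw [map_mul, map_mul, this]
  · intro hc
    exact h2 (isCyclic_of_surjective e.symm e.symm.surjective)
  · rw [← h3]; exact Nat.card_congr e.symm.toEquiv

/-- Passing from a group to a subgroup containing the witness. -/
theorem hasA_of_le {Y A : Subgroup G} (hAY : A ≤ Y) (h1 : IsMulCommutative A) (h2 : ¬ IsCyclic A)
    (h3 : Nat.card A = 8) : HasA Y := by
  let e : A.subgroupOf Y ≃* A := Subgroup.subgroupOfEquivOfLe hAY
  refine ⟨A.subgroupOf Y, ?_, ?_, ?_⟩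
  · refine ⟨⟨fun a b => ?_⟩⟩
    apply e.injective
    rw [map_mul, map_mul]
    exact h1.is_comm.comm _ _
  · intro hc
    exact h2 (isCyclic_of_surjective e e.surjective)
  · rw [← h3]; exact Nat.card_congr e.toEquiv

/-- A subgroup of order `4` with all squares trivial is not cyclic. -/
theorem not_isCyclic_of_elementary {E : Subgroup G} (hE : Nat.card E = 4)
    (hE2 : ∀ x ∈ E, x ^ 2 = 1) : ¬ IsCyclic E := by
  intro hc
  obtain ⟨g, hg⟩ := hc.exists_generator
  have h1 : orderOf g = 4 := by
    rw [orderOf_eq_card_of_forall_mem_zpowers hg, hE]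
  have h2 : g ^ 2 = 1 := Subtype.ext (by simpa using hE2 g g.2)
  have := orderOf_dvd_of_pow_eq_one h2
  rw [h1] at this
  omega

/-- Non-cyclic abelian subgroups of order at least `8` of a `2`-group give `HasA`. -/
theorem hasA_of_noncyclic [Finite G] (hG : IsPGroup 2 G) (T : Subgroup G)
    (hc : IsMulCommutative T) (hnc : ¬ IsCyclic T) (h8 : 8 ≤ Nat.card T) : HasA G := by
  classical
  haveI : Fact (Nat.Prime 2) := ⟨Nat.prime_two⟩
  have hT : IsPGroup 2 T := hG.to_subgroup T
  have hnu : ¬ UniqueP 2 T := fun hu =>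
    hnc (isCyclic_of_comm_uniqueP (fun x y => hc.is_comm.comm x y) hT hu)
  obtain ⟨E, hE, hEe⟩ := exists_order_sq_of_not_uniqueP hT hnu
  obtain ⟨k, hk⟩ := (IsPGroup.iff_card.mp hT)
  have hk3 : 3 ≤ k := by
    by_contra hlt
    have hk' : k ≤ 2 := by omega
    have : 2 ^ k ≤ 2 ^ 2 := Nat.pow_le_pow_right (by norm_num) hk'
    rw [hk] at h8
    omega
  have hdvd : 2 ^ 3 ∣ Nat.card T := by
    rw [hk]; exact pow_dvd_pow 2 hk3
  obtain ⟨K, hK, hEK⟩ := Sylow.exists_subgroup_card_pow_prime_le (G := T) 2 (n := 2) (m := 3) hdvd E hE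
    (by norm_num)
  have hEnc : ¬ IsCyclic E := by
    apply not_isCyclic_of_elementary (by rw [hE]; norm_num)
    intro x hx
    exact (Cfsg.Agent.Lib.PGroup.Basic.isElementaryAbelian_iff.mp hEe).2 x hx
  have hKnc : ¬ IsCyclic K := by
    intro hKc
    apply hEnc
    have hm : E.subgroupOf K ≃* E := Subgroup.subgroupOfEquivOfLe hEK
    haveI : IsCyclic (E.subgroupOf K) := inferInstance
    exact isCyclic_of_surjective hm hm.surjective
  have hKc : IsMulCommutative K := by
    refine ⟨⟨fun a b => Subtype.ext ?_⟩⟩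
    exact hc.is_comm.comm (a : T) (b : T)
  have hHK : HasA T := ⟨K, hKc, hKnc, by rw [hK]; norm_num⟩
  exact hHK.of_subgroup

/-- An abelian subgroup of a `2`-group without `HasA` is cyclic or of order `4`. -/
theorem cyclic_or_four [Finite G] (hG : IsPGroup 2 G) (hf : ¬ HasA G) (T : Subgroup G)
    (hc : IsMulCommutative T) : IsCyclic T ∨ Nat.card T = 4 := by
  by_contra hcon
  push Not at hcon
  obtain ⟨h1, h2⟩ := hcon
  have hT : IsPGroup 2 T := hG.to_subgroup T
  obtain ⟨k, hk⟩ := (IsPGroup.iff_card.mp hT)
  have h8 : 8 ≤ Nat.card T := by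
    rcases k with _ | _ | _ | k
    · exfalso
      apply h1
      have : Subsingleton T := (Nat.card_eq_one_iff_unique.mp (by simpa using hk)).1
      exact isCyclic_of_subsingleton
    · exfalso
      apply h1
      haveI : Fact (Nat.Prime (Nat.card T)) := ⟨by rw [hk]; norm_num⟩
      exact isCyclic_of_prime_card rfl
    · simp at hk; exact absurd hk h2
    · rw [hk, pow_succ, pow_succ, pow_succ]
      have : 1 ≤ 2 ^ k := Nat.one_le_two_pow
      omega
  exact hf (hasA_of_noncyclic hG T hc h1 h8)

/-- Two subgroups of equal order inside a cyclic subgroup coincide. -/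
theorem eq_of_le_cyclic [Finite G] {B W W' : Subgroup G} (hB : IsCyclic B) (h1 : W ≤ B) (h2 : W' ≤ B)
    (h : Nat.card W = Nat.card W') : W = W' := by
  classical
  haveI := Fintype.ofFinite B
  have hn : 0 < Nat.card W' := Nat.card_pos
  have hcard := IsCyclic.card_pow_eq_one_le (α := B) hn
  have key : ∀ L : Subgroup G, L ≤ B → Nat.card L = Nat.card W' → ∀ x : B, (x : G) ∈ L ↔ x ^ Nat.card W' = 1 := by
    intro L hLB hL x
    constructor
    · intro hx
      have h1 := pow_card_eq_one' (x := (⟨x, hx⟩ : L))
      rw [hL] at h1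
      apply Subtype.ext
      simpa using congrArg Subtype.val h1
    · intro hx
      by_contra hxL
      set T := Finset.univ.filter (fun a : B => (a : G) ∈ L) with hT
      have hTc : T.card = Nat.card L := by
        rw [hT]
        have e : {a : B // (a : G) ∈ L} ≃ L :=
          { toFun := fun a => ⟨a.1, a.2⟩
            invFun := fun a => ⟨⟨a.1, hLB a.2⟩, a.2⟩
            left_inv := fun a => rfl
            right_inv := fun a => rfl }
        rw [← Nat.card_congr e, Nat.card_eq_fintype_card, Fintype.card_subtype]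
      have hsub : insert x T ⊆ Finset.univ.filter (fun a : B => a ^ Nat.card W' = 1) := by
        intro a ha
        rw [Finset.mem_insert] at ha
        rw [Finset.mem_filter]
        refine ⟨Finset.mem_univ _, ?_⟩
        rcases ha with rfl | ha
        · exact hx
        · rw [hT, Finset.mem_filter] at ha
          have h1 := pow_card_eq_one' (x := (⟨a, ha.2⟩ : L))
          rw [hL] at h1
          apply Subtype.ext
          simpa using congrArg Subtype.val h1
      have hnot : x ∉ T := by
        rw [hT, Finset.mem_filter]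
        exact fun h => hxL h.2
      have := Finset.card_le_card hsub
      rw [Finset.card_insert_of_notMem hnot, hTc, hL] at this
      omega
  ext x
  constructor
  · intro hx
    have hxB : x ∈ B := h1 hx
    exact (key W' h2 rfl ⟨x, hxB⟩).mpr ((key W h1 h ⟨x, hxB⟩).mp hx)
  · intro hx
    have hxB : x ∈ B := h2 hx
    exact (key W h1 h ⟨x, hxB⟩).mpr ((key W' h2 rfl ⟨x, hxB⟩).mp hx)

/-- A central subgroup of index two forces commutativity. -/
theorem comm_of_index_two_le_center [Finite G] {B : Subgroup G} (h : B.index = 2) (hB : B ≤ center G) :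
    IsMulCommutative G := by
  haveI : B.Normal := Subgroup.normal_of_index_eq_two h
  haveI : Fact (Nat.card (G ⧸ B)).Prime := ⟨by rw [show Nat.card (G ⧸ B) = 2 from h]; exact Nat.prime_two⟩
  haveI : IsCyclic (G ⧸ B) := isCyclic_of_prime_card rfl
  exact MonoidHom.isMulCommutative_of_isCyclic_of_ker_le_center (QuotientGroup.mk' B)
    (by rw [QuotientGroup.ker_mk']; exact hB)

/-- If `B` is abelian of index two and some `x ∉ B` centralizes `B`, the group is abelian. -/
theorem comm_of_index_two_of_central {B : Subgroup G} [Finite G] (h : B.index = 2) (hB : IsMulCommutative B)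
    {x : G} (hx : x ∉ B) (hxB : x ∈ centralizer (B : Set G)) : IsMulCommutative G := by
  apply comm_of_index_two_le_center h
  intro b hb
  rw [Subgroup.mem_center_iff]
  intro g
  by_cases hg : g ∈ B
  · exact congrArg Subtype.val (hB.is_comm.comm (⟨g, hg⟩ : B) ⟨b, hb⟩)
  · have h1 : x⁻¹ * g ∈ B := by
      rw [Subgroup.mul_mem_iff_of_index_two h]
      simp [hx, hg]
    have h2 : g = x * (x⁻¹ * g) := by group
    have h3 : Commute x b := ((Subgroup.mem_centralizer_iff.mp hxB) b hb).symm
    have h4 : Commute (x⁻¹ * g) b := by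
      exact congrArg Subtype.val (hB.is_comm.comm (⟨_, h1⟩ : B) ⟨b, hb⟩)
    rw [h2]
    exact ((h3.mul_left h4)).eq

/-- If all conjugates of `w` are among `a, b`, the centralizer of `w` has index at most `2`. -/
theorem index_centralizer_le_two [Finite G] {w a b : G} (h : ∀ g : G, g * w * g⁻¹ = a ∨ g * w * g⁻¹ = b) :
    (centralizer ({w} : Set G)).index ≤ 2 := by
  classical
  set C := centralizer ({w} : Set G) with hC
  have hmem : ∀ g g' : G, g⁻¹ * g' ∈ C ↔ g * w * g⁻¹ = g' * w * g'⁻¹ := by
    intro g g'
    rw [hC, Subgroup.mem_centralizer_singleton_iff]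
    constructor
    · intro h1
      have h2 : g' = g * (g⁻¹ * g') := by group
      rw [h2]
      have h3 : (g⁻¹ * g') * w * (g⁻¹ * g')⁻¹ = w := by rw [h1]; group
      calc g * w * g⁻¹ = g * ((g⁻¹ * g') * w * (g⁻¹ * g')⁻¹) * g⁻¹ := by rw [h3]
        _ = _ := by group
    · intro h1
      have h2 : g⁻¹ * (g' * w * g'⁻¹) * g = w := by rw [← h1]; group
      calc g⁻¹ * g' * w = g⁻¹ * (g' * w * g'⁻¹) * g * (g⁻¹ * g') := by group
        _ = w * (g⁻¹ * g') := by rw [h2]
  let f : G ⧸ C → ({a, b} : Finset G) := fun q =>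
    Quotient.liftOn' q (fun g => (⟨g * w * g⁻¹, by
      rcases h g with h1 | h1 <;> simp [h1]⟩ : ({a, b} : Finset G))) (by
      intro g g' hgg
      apply Subtype.ext
      exact (hmem g g').mp (QuotientGroup.leftRel_apply.mp hgg))
  have hf : Function.Injective f := by
    intro q q'
    induction q using QuotientGroup.induction_on with
    | H g =>
      induction q' using QuotientGroup.induction_on with
      | H g' =>
        intro hh
        have h1 : g * w * g⁻¹ = g' * w * g'⁻¹ := congrArg Subtype.val hh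
        exact QuotientGroup.eq.mpr ((hmem g g').mpr h1)
  have h1 := Nat.card_le_card_of_injective f hf
  rw [Nat.card_eq_fintype_card (α := ({a, b} : Finset G)), Fintype.card_coe] at h1
  exact h1.trans Finset.card_le_two

/-- A normal subgroup of order `4` of a `2`-group has centralizer of index at most two. -/
theorem index_centralizer_four_le_two [Finite G] (hG : IsPGroup 2 G) {W : Subgroup G} [hWn : W.Normal]
    (hW4 : Nat.card W = 4) : (centralizer (W : Set G)).index ≤ 2 := by
  classical
  haveI : Fact (Nat.Prime 2) := ⟨Nat.prime_two⟩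
  have hWne : W ≠ ⊥ := by
    intro h
    rw [h] at hW4
    simp at hW4
  have hinf := Cfsg.Agent.Lib.PGroup.Basic.inf_center_ne_bot hG hWne
  obtain ⟨⟨v, hvW, hvZ⟩, hv1⟩ := Subgroup.ne_bot_iff_exists_ne_one.mp hinf
  have hv1' : v ≠ 1 := fun h => hv1 (Subtype.ext h)
  have hvc : ∀ g : G, g * v = v * g := fun g => (Subgroup.mem_center_iff.mp hvZ) g
  have hvW4 : v ^ 4 = 1 := by
    have := pow_card_eq_one' (x := (⟨v, hvW⟩ : W))
    rw [hW4] at this
    simpa using congrArg Subtype.val this
  -- either `v` generates `W` or it has order two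
  by_cases hv2 : v ^ 2 = 1
  · -- order two
    have hov : orderOf v = 2 := orderOf_eq_prime hv2 hv1'
    set V := zpowers v with hV
    have hVW : V ≤ W := zpowers_le.mpr hvW
    have hcardV : Nat.card V = 2 := by rw [hV, Nat.card_zpowers, hov]
    have hidx : (V.subgroupOf W).index = 2 := by
      have h1 := Subgroup.card_mul_index (V.subgroupOf W)
      have h2 : Nat.card (V.subgroupOf W) = 2 := by
        rw [← hcardV]; exact Nat.card_congr (Subgroup.subgroupOfEquivOfLe hVW).toEquiv
      rw [h2, hW4] at h1
      omega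
    have hex : ∃ w ∈ W, w ∉ V := by
      by_contra hcon
      push Not at hcon
      have : W = V := le_antisymm hcon hVW
      rw [this, hcardV] at hW4
      omega
    obtain ⟨w, hwW, hwV⟩ := hex
    have hVset : ∀ y ∈ V, y = 1 ∨ y = v := by
      intro y hy
      obtain ⟨i, rfl⟩ := Subgroup.mem_zpowers_iff.mp hy
      have := zpow_eq_zpow_emod' (x := v) (m := i) (n := 2) (by simpa using hv2)
      rcases Int.emod_two_eq_zero_or_one i with h | h
      · left; rw [this]; simp [h]
      · right; rw [this]; simp [h]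
    have hWsplit : ∀ y ∈ W, y ∈ V ∨ w⁻¹ * y ∈ V := by
      intro y hy
      by_cases hyV : y ∈ V
      · exact Or.inl hyV
      · right
        have h1 : ((⟨w, hwW⟩ : W)⁻¹ * ⟨y, hy⟩) ∈ V.subgroupOf W := by
          rw [Subgroup.mul_mem_iff_of_index_two hidx, Subgroup.inv_mem_iff]
          simp [Subgroup.mem_subgroupOf, hwV, hyV]
        simpa [Subgroup.mem_subgroupOf] using h1
    have hconj : ∀ g : G, g * w * g⁻¹ = w ∨ g * w * g⁻¹ = w * v := by
      intro g
      have h1 : g * w * g⁻¹ ∈ W := hWn.conj_mem w hwW g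
      have hnot : g * w * g⁻¹ ∉ V := by
        intro hc
        apply hwV
        rcases hVset _ hc with h | h
        · have : w = 1 := by
            have h2 : g⁻¹ * (g * w * g⁻¹) * g = w := by group
            rw [h] at h2
            rw [← h2]; group
          rw [this]; exact one_mem _
        · have : w = v := by
            have h2 : g⁻¹ * (g * w * g⁻¹) * g = w := by group
            rw [h] at h2
            have h3 : g⁻¹ * v * g = v := by rw [mul_assoc, ← hvc g]; group
            rw [← h2, h3]
          rw [this]; exact mem_zpowers v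
      rcases hWsplit _ h1 with h | h
      · exact absurd h hnot
      · rcases hVset _ h with h2 | h2
        · left
          have : g * w * g⁻¹ = w * (w⁻¹ * (g * w * g⁻¹)) := by group
          rw [this, h2]; simp
        · right
          have : g * w * g⁻¹ = w * (w⁻¹ * (g * w * g⁻¹)) := by group
          rw [this, h2]
    have hidx2 := index_centralizer_le_two hconj
    have hle : centralizer ({w} : Set G) ≤ centralizer (W : Set G) := by
      intro x hx
      rw [Subgroup.mem_centralizer_singleton_iff] at hx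
      rw [Subgroup.mem_centralizer_iff]
      intro y hy
      have hcw : Commute x w := by
        show x * w = w * x
        rw [hx]; 
      have hcv : Commute x v := hvc x
      have hcz : ∀ t ∈ V, Commute x t := by
        intro t ht
        rcases hVset t ht with rfl | rfl
        · exact Commute.one_right x
        · exact hcv
      rcases hWsplit y hy with h | h
      · exact (hcz y h).symm.eq
      · have : y = w * (w⁻¹ * y) := by group
        rw [this]
        exact ((hcw.mul_right (hcz _ h))).symm.eq
    have hdvd := Subgroup.index_dvd_of_le hle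
    exact (Nat.le_of_dvd (by
      have : (centralizer ({w} : Set G)).index ≠ 0 := Subgroup.FiniteIndex.index_ne_zero
      omega) hdvd).trans hidx2
  · -- `v` generates `W`, which is central
    have hov : orderOf v = 4 := by
      have h1 : orderOf v ∣ 2 ^ 2 := orderOf_dvd_of_pow_eq_one (by simpa using hvW4)
      obtain ⟨k, hk, hk2⟩ := (Nat.dvd_prime_pow Nat.prime_two).mp h1
      interval_cases k
      · simp at hk2; exact absurd hk2 hv1'
      · simp at hk2; exact absurd (by rw [← hk2]; exact pow_orderOf_eq_one v) hv2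
      · simpa using hk2
    have hWV : W = zpowers v := by
      symm
      apply Subgroup.eq_of_le_of_card_ge (zpowers_le.mpr hvW)
      rw [hW4, Nat.card_zpowers, hov]
    have htop : centralizer (W : Set G) = ⊤ := by
      rw [eq_top_iff]
      intro x _
      rw [Subgroup.mem_centralizer_iff]
      intro y hy
      rw [hWV] at hy
      obtain ⟨i, rfl⟩ := Subgroup.mem_zpowers_iff.mp hy
      have hcv : Commute v x := (hvc x).symm
      exact (hcv.zpow_left i).eq
    rw [htop, Subgroup.index_top]
    omega

/-- A `2`-element outside `B` has a power outside `B` whose square lies in `B`. -/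
theorem exists_sq_mem [Finite G] (hG : IsPGroup 2 G) {B K : Subgroup G} {x0 : G} (hx0 : x0 ∉ B)
    (hK : x0 ∈ K) : ∃ x ∈ K, x ∉ B ∧ x ^ 2 ∈ B := by
  obtain ⟨t, ht⟩ := hG x0
  induction t generalizing x0 with
  | zero =>
    exfalso
    apply hx0
    have : x0 = 1 := by simpa using ht
    rw [this]; exact one_mem _
  | succ t ih =>
    by_cases h2 : x0 ^ 2 ∈ B
    · exact ⟨x0, hK, hx0, h2⟩
    · apply ih h2 (pow_mem hK 2)
      rw [← pow_mul, mul_comm, ← pow_succ]
      exact ht

/-- Odd roots in a subgroup of a `2`-group. -/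
theorem exists_root [Finite G] (hG : IsPGroup 2 G) {B : Subgroup G} {c : ℕ} (hc : Odd c) {v : G}
    (hv : v ∈ B) : ∃ y ∈ B, y ^ c = v := by
  obtain ⟨k, hk⟩ := IsPGroup.iff_card.mp (hG.to_subgroup B)
  have hcop : (Nat.card B).Coprime c := by
    rw [hk]; exact Nat.Coprime.pow_left k (Nat.coprime_two_left.mpr hc)
  let e := powCoprime hcop
  refine ⟨(e.symm ⟨v, hv⟩ : B), (e.symm ⟨v, hv⟩ : B).2, ?_⟩
  have h1 : e (e.symm ⟨v, hv⟩) = ⟨v, hv⟩ := e.apply_symm_apply _
  have h2 : e (e.symm ⟨v, hv⟩) = (e.symm ⟨v, hv⟩) ^ c := rfl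
  rw [h2] at h1
  exact congrArg Subtype.val h1

/-- A cyclic subgroup has at most one involution. -/
theorem not_isCyclic_of_two_involutions [Finite G] {T : Subgroup G} {a b : G} (ha : a ∈ T) (hb : b ∈ T)
    (ha2 : a ^ 2 = 1) (hb2 : b ^ 2 = 1) (ha1 : a ≠ 1) (hb1 : b ≠ 1) (hab : a ≠ b) : ¬ IsCyclic T := by
  classical
  intro hc
  haveI := Fintype.ofFinite T
  have h := IsCyclic.card_pow_eq_one_le (α := T) (n := 2) (by norm_num)
  have hsub : ({1, ⟨a, ha⟩, ⟨b, hb⟩} : Finset T) ⊆ Finset.univ.filter (fun x : T => x ^ 2 = 1) := by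
    intro x hx
    simp only [Finset.mem_insert, Finset.mem_singleton] at hx
    rw [Finset.mem_filter]
    refine ⟨Finset.mem_univ _, ?_⟩
    rcases hx with rfl | rfl | rfl
    · simp
    · exact Subtype.ext ha2
    · exact Subtype.ext hb2
  have hcard : ({1, ⟨a, ha⟩, ⟨b, hb⟩} : Finset T).card = 3 := by
    rw [Finset.card_eq_three]
    refine ⟨1, ⟨a, ha⟩, ⟨b, hb⟩, ?_, ?_, ?_, rfl⟩
    · intro h; exact ha1 (congrArg Subtype.val h).symm
    · intro h; exact hb1 (congrArg Subtype.val h).symm
    · intro h; exact hab (congrArg Subtype.val h)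
  have := Finset.card_le_card hsub
  omega

/-- The subgroup of order four of a cyclic normal subgroup is normal. -/
theorem normal_of_le_cyclic [Finite G] {B W : Subgroup G} [hBn : B.Normal] (hB : IsCyclic B) (hWB : W ≤ B) :
    W.Normal := by
  refine ⟨fun w hw g => ?_⟩
  have h1 : W.map (MulAut.conj g).toMonoidHom ≤ B := by
    rintro _ ⟨y, hy, rfl⟩
    exact hBn.conj_mem y (hWB hy) g
  have h2 : Nat.card (W.map (MulAut.conj g).toMonoidHom) = Nat.card W :=
    Subgroup.card_map_of_injective (MulAut.conj g).injective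
  have h3 := eq_of_le_cyclic hB h1 hWB h2
  rw [← h3]
  exact ⟨w, hw, rfl⟩

/-- A subgroup of a cyclic subgroup is cyclic. -/
theorem isCyclic_of_le_cyclic {B W : Subgroup G} (hB : IsCyclic B) (hWB : W ≤ B) : IsCyclic W :=
  isCyclic_of_injective (Subgroup.inclusion hWB) (Subgroup.inclusion_injective hWB)

/-- A cyclic subgroup of order `≥ 4` of a `2`-group has a subgroup of order `4`. -/
theorem exists_four_le [Finite G] (hG : IsPGroup 2 G) {B : Subgroup G} (h4 : 4 ≤ Nat.card B) :
    ∃ W : Subgroup G, W ≤ B ∧ Nat.card W = 4 := by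
  haveI : Fact (Nat.Prime 2) := ⟨Nat.prime_two⟩
  obtain ⟨k, hk⟩ := IsPGroup.iff_card.mp (hG.to_subgroup B)
  have hk2 : 2 ≤ k := by
    by_contra hlt
    have : k ≤ 1 := by omega
    have := Nat.pow_le_pow_right (n := 2) (by norm_num) this
    rw [hk] at h4
    omega
  have hdvd : 2 ^ 2 ∣ Nat.card B := by rw [hk]; exact pow_dvd_pow 2 hk2
  obtain ⟨K, hK⟩ := Sylow.exists_subgroup_card_pow_prime (G := B) 2 hdvd
  refine ⟨K.map B.subtype, Subgroup.map_subtype_le K, ?_⟩
  rw [Subgroup.card_map_of_injective B.subtype_injective, hK]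
  norm_num

/-- **Key lemma.** A cyclic self-centralizing normal subgroup `B`, `#B ≥ 8`, of a `2`-group without
`HasA`: the centralizer of the subgroup of order `4` is `B`. -/
theorem centralizer_four_le [Finite G] (hG : IsPGroup 2 G) (hf : ¬ HasA G) {B W : Subgroup G}
    [hBn : B.Normal] (hB : IsCyclic B) (hself : centralizer (B : Set G) ≤ B) (hB8 : 8 ≤ Nat.card B)
    (hWB : W ≤ B) (hW4 : Nat.card W = 4) : centralizer (W : Set G) ≤ B := by
  classical
  intro x0 hx0
  by_contra hx0B
  obtain ⟨x, hxC, hxB, hx2⟩ := exists_sq_mem hG hx0B hx0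
  obtain ⟨u, hu⟩ := Cfsg.Agent.Lib.PGroup.CyclicMax.exists_zpowers_eq_of_isCyclic B hB
  have hnat : ∀ v ∈ B, ∃ k : ℕ, v = u ^ k := by
    intro v hv
    rw [← hu] at hv
    obtain ⟨k, hk⟩ := (mem_powers_iff_mem_zpowers.mpr hv : v ∈ Submonoid.powers u)
    exact ⟨k, hk.symm⟩
  have huB : u ∈ B := by rw [← hu]; exact mem_zpowers u
  have hcommB : ∀ v ∈ B, ∀ v' ∈ B, v * v' = v' * v := by
    intro v hv v' hv'
    obtain ⟨k, rfl⟩ := hnat v hv
    obtain ⟨k', rfl⟩ := hnat v' hv'
    exact ((Commute.refl u).pow_pow k k').eq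
  obtain ⟨w, hw⟩ := Cfsg.Agent.Lib.PGroup.CyclicMax.exists_zpowers_eq_of_isCyclic W
    (isCyclic_of_le_cyclic hB hWB)
  have hwW : w ∈ W := by rw [← hw]; exact mem_zpowers w
  have hwB : w ∈ B := hWB hwW
  have how : orderOf w = 4 := by
    rw [← Nat.card_zpowers, hw, hW4]
  obtain ⟨a, ha⟩ := hnat (x⁻¹ * u * x) (by
    have := hBn.conj_mem u huB x⁻¹
    simpa using this)
  have hconj : ∀ v ∈ B, x⁻¹ * v * x = v ^ a := by
    intro v hv
    obtain ⟨s, rfl⟩ := hnat v hv
    have h1 := conj_pow (a := x⁻¹) (b := u) (i := s)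
    rw [inv_inv] at h1
    rw [← h1, ha, ← pow_mul, ← pow_mul, mul_comm]
  have hxw : x * w = w * x := ((Subgroup.mem_centralizer_iff.mp hxC) w hwW).symm
  have hwa : w ^ a = w := by
    rw [← hconj w hwB]
    calc x⁻¹ * w * x = x⁻¹ * (w * x) := by group
      _ = x⁻¹ * (x * w) := by rw [hxw]
      _ = w := by group
  have ha0 : a ≠ 0 := by
    intro h0
    rw [h0, pow_zero] at hwa
    rw [← hwa] at how
    simp at how
  obtain ⟨b, hb⟩ : ∃ b, a = 4 * b + 1 := by
    obtain ⟨a', rfl⟩ := Nat.exists_eq_succ_of_ne_zero ha0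
    have h1 : w ^ a' = 1 := by
      have : w ^ a' * w = w := by rw [← pow_succ]; exact hwa
      exact mul_eq_right.mp this
    have h2 : orderOf w ∣ a' := orderOf_dvd_of_pow_eq_one h1
    rw [how] at h2
    obtain ⟨b, rfl⟩ := h2
    exact ⟨b, rfl⟩
  have hxcomm_of : ∀ s : ℕ, x * (x ^ 2) ^ s = (x ^ 2) ^ s * x := by
    intro s
    exact ((Commute.refl x).pow_right 2 |>.pow_right s).eq
  obtain ⟨k, hk⟩ := hnat (x ^ 2) hx2
  rcases Nat.even_or_odd' k with ⟨l, rfl | rfl⟩
  · -- `k` even: an involution outside `B`
    obtain ⟨y0, hy0B, hy0⟩ := exists_root hG (B := B) (c := 2 * b + 1) (by simp)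
      (v := (u ^ l)⁻¹) (inv_mem (pow_mem huB l))
    set y := x * y0 with hy
    have hyB : y ∉ B := by
      intro h
      apply hxB
      have : x = y * y0⁻¹ := by rw [hy]; group
      rw [this]
      exact mul_mem h (inv_mem hy0B)
    have hy2 : y ^ 2 = 1 := by
      have h1 : y ^ 2 = x ^ 2 * ((x⁻¹ * y0 * x) * y0) := by
        rw [hy, pow_two, pow_two]; group
      rw [h1, hconj y0 hy0B, hk, ← pow_succ]
      have h2 : a + 1 = 2 * (2 * b + 1) := by rw [hb]; ring
      rw [h2, pow_mul' y0, hy0]
      simp only [inv_pow, ← pow_mul]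
      rw [show l * 2 = 2 * l by ring]
      simp
    have hyw : y * w = w * y := by
      rw [hy, mul_assoc, hcommB y0 hy0B w hwB, ← mul_assoc, hxw, mul_assoc]
    let T := Subgroup.closure ({w, y} : Set G)
    have hTc : IsMulCommutative T := by
      apply Subgroup.isMulCommutative_closure
      intro p hp q hq
      simp only [Set.mem_insert_iff, Set.mem_singleton_iff] at hp hq
      rcases hp with rfl | rfl <;> rcases hq with rfl | rfl
      · rfl
      · exact hyw.symm
      · exact hyw
      · rfl
    have hwT : w ∈ T := Subgroup.subset_closure (by simp)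
    have hyT : y ∈ T := Subgroup.subset_closure (by simp)
    have hw1 : w ^ 2 ≠ 1 := by
      intro h
      have := orderOf_dvd_of_pow_eq_one h
      rw [how] at this
      omega
    have hnc : ¬ IsCyclic T := by
      apply not_isCyclic_of_two_involutions (a := w ^ 2) (b := y) (pow_mem hwT 2) hyT
      · rw [← pow_mul]
        have := pow_orderOf_eq_one w
        rwa [how] at this
      · exact hy2
      · exact hw1
      · intro h
        exact hyB (by rw [h]; exact one_mem _)
      · intro h
        exact hyB (by rw [← h]; exact pow_mem hwB 2)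
    have hWT : W ≤ T := by
      rw [← hw]
      exact zpowers_le.mpr hwT
    have h8T : 8 ≤ Nat.card T := by
      have h1 : Nat.card W ∣ Nat.card T := Subgroup.card_dvd_of_le hWT
      rw [hW4] at h1
      obtain ⟨m, hm⟩ := h1
      have hm0 : m ≠ 0 := by
        intro h
        rw [h] at hm
        have : 0 < Nat.card T := Nat.card_pos
        omega
      have hm1 : m ≠ 1 := by
        intro h
        rw [h] at hm
        have : W = T := Subgroup.eq_of_le_of_card_ge hWT (by rw [hW4]; omega)
        exact hyB (hWB (this ▸ hyT))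
      have : 2 ≤ m := by omega
      omega
    exact hf (hasA_of_noncyclic hG T hTc hnc h8T)
  · -- `k` odd: `x` centralizes `B`
    exfalso
    obtain ⟨y0, hy0B, hy0⟩ := exists_root hG (B := B) (c := 2 * l + 1) (by simp) huB
    obtain ⟨s, rfl⟩ := hnat y0 hy0B
    have h1 : u = (x ^ 2) ^ s := by
      rw [hk, ← pow_mul, mul_comm, pow_mul]
      exact hy0.symm
    apply hxB
    apply hself
    rw [Subgroup.mem_centralizer_iff]
    intro v hv
    obtain ⟨t, rfl⟩ := hnat v hv
    have h2 : Commute x u := by
      show x * u = u * x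
      rw [h1]
      exact hxcomm_of s
    exact (h2.pow_right t).symm.eq

/-- Groups of order eight that are not abelian. -/
theorem exists_cyclic_of_card_eight [Finite G] (h8 : Nat.card G = 8) (hna : ¬ IsMulCommutative G) :
    ∃ B : Subgroup G, IsCyclic B ∧ B.index = 2 ∧ centralizer (B : Set G) ≤ B := by
  classical
  have hex : ∃ g : G, g ^ 2 ≠ 1 := by
    by_contra hcon
    push Not at hcon
    apply hna
    refine ⟨⟨fun a b => ?_⟩⟩
    have h1 := hcon (a * b)
    have h2 := hcon a
    have h3 := hcon b
    rw [pow_two] at h1 h2 h3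
    have ha : a⁻¹ = a := inv_eq_of_mul_eq_one_left h2
    have hb : b⁻¹ = b := inv_eq_of_mul_eq_one_left h3
    have : (a * b)⁻¹ = a * b := inv_eq_of_mul_eq_one_left h1
    rw [mul_inv_rev, ha, hb] at this
    exact this.symm
  obtain ⟨g, hg⟩ := hex
  have hdvd : orderOf g ∣ 2 ^ 3 := by
    have := orderOf_dvd_natCard g
    rwa [h8] at this
  obtain ⟨k, hk, hk2⟩ := (Nat.dvd_prime_pow Nat.prime_two).mp hdvd
  have hk3 : k = 2 := by
    interval_cases k
    · simp at hk2
      exact absurd (by rw [hk2]; simp) hg
    · exfalso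
      apply hg
      have := pow_orderOf_eq_one g
      rwa [hk2] at this
    · rfl
    · exfalso
      apply hna
      have : orderOf g = Nat.card G := by rw [hk2, h8]; norm_num
      haveI := isCyclic_of_orderOf_eq_card g this
      exact IsCyclic.commutative
  subst hk3
  have hgo : orderOf g = 4 := by rw [hk2]; norm_num
  have hidx : (zpowers g).index = 2 := by
    have := Subgroup.card_mul_index (zpowers g)
    rw [Nat.card_zpowers, hgo, h8] at this
    omega
  refine ⟨zpowers g, inferInstance, hidx, ?_⟩
  intro x hx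
  by_contra hxn
  exact hna (comm_of_index_two_of_central hidx inferInstance hxn hx)

/-- **Structure of non-abelian `2`-groups without `HasA`.** -/
theorem exists_cyclic_index_two [Finite G] (hG : IsPGroup 2 G) (hf : ¬ HasA G)
    (hna : ¬ IsMulCommutative G) :
    ∃ B : Subgroup G, IsCyclic B ∧ B.index = 2 ∧ centralizer (B : Set G) ≤ B := by
  classical
  haveI : Fact (Nat.Prime 2) := ⟨Nat.prime_two⟩
  obtain ⟨A₀, hAn, hAc, hAC⟩ := exists_selfCentralizing hG
  have hAtop : A₀ ≠ ⊤ := by
    intro h
    apply hna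
    refine ⟨⟨fun a b => ?_⟩⟩
    have := hAc.is_comm.comm (⟨a, h ▸ Subgroup.mem_top a⟩ : A₀) ⟨b, h ▸ Subgroup.mem_top b⟩
    exact congrArg Subtype.val this
  have hA1 : A₀.index ≠ 1 := fun h => hAtop (Subgroup.index_eq_one.mp h)
  have hA0 : A₀.index ≠ 0 := Subgroup.FiniteIndex.index_ne_zero
  have hidx_of : (centralizer (A₀ : Set G)).index ≤ 2 → A₀.index = 2 := by
    intro h
    rw [hAC] at h
    omega
  by_cases h4 : Nat.card A₀ = 4
  · have hi := hidx_of (index_centralizer_four_le_two hG h4)
    by_cases hcyc : IsCyclic A₀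
    · exact ⟨A₀, hcyc, hi, hAC.le⟩
    · have h8 : Nat.card G = 8 := by
        have := Subgroup.card_mul_index A₀
        rw [h4, hi] at this
        omega
      exact exists_cyclic_of_card_eight h8 hna
  · have hcyc : IsCyclic A₀ := (cyclic_or_four hG hf A₀ hAc).resolve_right h4
    by_cases h8 : 8 ≤ Nat.card A₀
    · obtain ⟨W, hWB, hW4⟩ := exists_four_le hG (B := A₀) (by omega)
      haveI hWn : W.Normal := normal_of_le_cyclic hcyc hWB
      have h1 := index_centralizer_four_le_two hG hW4
      have h2 := centralizer_four_le hG hf hcyc hAC.le h8 hWB hW4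
      have h3 : A₀.index ∣ (centralizer (W : Set G)).index := Subgroup.index_dvd_of_le h2
      have h4' : A₀.index ≤ 2 := (Nat.le_of_dvd (by
        have : (centralizer (W : Set G)).index ≠ 0 := Subgroup.FiniteIndex.index_ne_zero
        omega) h3).trans h1
      exact ⟨A₀, hcyc, by omega, hAC.le⟩
    · -- order at most two: central
      exfalso
      obtain ⟨k, hk⟩ := IsPGroup.iff_card.mp (hG.to_subgroup A₀)
      have hle : Nat.card A₀ ≤ 2 := by
        rcases k with _ | _ | _ | k
        · rw [hk]; norm_num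
        · rw [hk]; norm_num
        · simp at hk; exact absurd hk h4
        · exfalso
          apply h8
          rw [hk, pow_succ, pow_succ, pow_succ]
          have : 1 ≤ 2 ^ k := Nat.one_le_two_pow
          omega
      apply hAtop
      have hcen : A₀ ≤ center G := by
        by_cases hb : A₀ = ⊥
        · rw [hb]; exact bot_le
        · have := Cfsg.Agent.Lib.PGroup.Basic.inf_center_ne_bot hG hb
          have h5 : A₀ ⊓ center G = A₀ := by
            apply Subgroup.eq_of_le_of_card_ge inf_le_left
            have h6 : 1 < Nat.card (A₀ ⊓ center G : Subgroup G) := by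
              have : Nontrivial (A₀ ⊓ center G : Subgroup G) :=
                (Subgroup.nontrivial_iff_ne_bot _).mpr this
              exact Finite.one_lt_card
            omega
          exact inf_eq_left.mp h5
      rw [eq_top_iff, ← hAC]
      intro x _
      rw [Subgroup.mem_centralizer_iff]
      intro y hy
      exact ((Subgroup.mem_center_iff.mp (hcen hy)) x).symm

/-- The centre of a non-abelian `2`-group without `HasA` has order two. -/
theorem card_center_eq_two [Finite G] (hG : IsPGroup 2 G) (hf : ¬ HasA G)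
    (hna : ¬ IsMulCommutative G) : Nat.card (center G) = 2 := by
  classical
  haveI : Fact (Nat.Prime 2) := ⟨Nat.prime_two⟩
  obtain ⟨B, hBc, hBi, hBs⟩ := exists_cyclic_index_two hG hf hna
  haveI hBn : B.Normal := Subgroup.normal_of_index_eq_two hBi
  have hZB : center G ≤ B := by
    refine le_trans ?_ hBs
    intro z hz
    rw [Subgroup.mem_centralizer_iff]
    intro y _
    exact (Subgroup.mem_center_iff.mp hz y)
  have hBtop : B ≠ ⊤ := by
    intro h
    rw [h, Subgroup.index_top] at hBi
    omega
  by_contra hne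
  haveI : Nontrivial G := by
    by_contra hnt
    rw [not_nontrivial_iff_subsingleton] at hnt
    exact hna ⟨⟨fun a b => Subsingleton.elim _ _⟩⟩
  have hZne : center G ≠ ⊥ := by
    have := hG.center_nontrivial
    exact (Subgroup.nontrivial_iff_ne_bot _).mp this
  obtain ⟨k, hk⟩ := IsPGroup.iff_card.mp (hG.to_subgroup (center G))
  have hZ4 : 4 ≤ Nat.card (center G) := by
    rcases k with _ | _ | k
    · exfalso
      apply hZne
      simpa using hk
    · simp at hk; exact absurd hk hne
    · rw [hk, pow_succ, pow_succ]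
      have : 1 ≤ 2 ^ k := Nat.one_le_two_pow
      omega
  obtain ⟨W, hWZ, hW4⟩ := exists_four_le hG (B := center G) hZ4
  have hWB : W ≤ B := hWZ.trans hZB
  have htopC : centralizer (W : Set G) = ⊤ := by
    rw [eq_top_iff]
    intro x _
    rw [Subgroup.mem_centralizer_iff]
    intro y hy
    exact ((Subgroup.mem_center_iff.mp (hWZ hy)) x).symm
  by_cases h8 : 8 ≤ Nat.card B
  · have := centralizer_four_le hG hf hBc hBs h8 hWB hW4
    rw [htopC] at this
    exact hBtop (top_le_iff.mp this)
  · -- `#B = 4`, so `B = W` is central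
    have hB4 : W = B := by
      apply Subgroup.eq_of_le_of_card_ge hWB
      rw [hW4]
      have h1 : Nat.card W ∣ Nat.card B := Subgroup.card_dvd_of_le hWB
      rw [hW4] at h1
      obtain ⟨m, hm⟩ := h1
      have hm0 : 0 < Nat.card B := Nat.card_pos
      have : m < 2 := by omega
      have : m ≠ 0 := by
        intro h
        rw [h] at hm
        omega
      have : m = 1 := by omega
      omega
    apply hna
    apply comm_of_index_two_le_center hBi
    rw [← hB4]
    exact hWZ

/-- Group version of `cyclic_or_four`. -/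
theorem self_cyclic_or_four [Finite G] (hG : IsPGroup 2 G) (hf : ¬ HasA G) (hc : IsMulCommutative G) :
    IsCyclic G ∨ Nat.card G = 4 := by
  have htc : IsMulCommutative (⊤ : Subgroup G) := by
    refine ⟨⟨fun a b => Subtype.ext (hc.is_comm.comm a.1 b.1)⟩⟩
  rcases cyclic_or_four hG hf ⊤ htc with h | h
  · left
    exact isCyclic_of_surjective Subgroup.topEquiv Subgroup.topEquiv.surjective
  · right
    rwa [Subgroup.card_top] at h

/-- Normal subgroups of order at most two of a `2`-group are central. -/
theorem le_center_of_card_le_two [Finite G] (hG : IsPGroup 2 G) {N : Subgroup G} [N.Normal]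
    (h : Nat.card N ≤ 2) : N ≤ center G := by
  haveI : Fact (Nat.Prime 2) := ⟨Nat.prime_two⟩
  by_cases hb : N = ⊥
  · rw [hb]; exact bot_le
  · have := Cfsg.Agent.Lib.PGroup.Basic.inf_center_ne_bot hG hb
    have h5 : N ⊓ center G = N := by
      apply Subgroup.eq_of_le_of_card_ge inf_le_left
      have h6 : 1 < Nat.card (N ⊓ center G : Subgroup G) := by
        have : Nontrivial (N ⊓ center G : Subgroup G) :=
          (Subgroup.nontrivial_iff_ne_bot _).mpr this
        exact Finite.one_lt_card
      omega
    exact inf_eq_left.mp h5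

/-- Relative version of the self-centralizing lemma. -/
theorem exists_selfCentralizing_rel {p : ℕ} [hp : Fact p.Prime] [Finite G] (hG : IsPGroup p G)
    (N : Subgroup G) [hN : N.Normal] :
    ∃ A : Subgroup G, A ≤ N ∧ A.Normal ∧ IsMulCommutative A ∧ N ⊓ centralizer (A : Set G) ≤ A := by
  classical
  have hS : {B : Subgroup G | B ≤ N ∧ B.Normal ∧ IsMulCommutative B}.Finite := Set.toFinite _
  have hne : {B : Subgroup G | B ≤ N ∧ B.Normal ∧ IsMulCommutative B}.Nonempty :=
    ⟨⊥, bot_le, inferInstance, inferInstance⟩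
  obtain ⟨A, hA⟩ := hS.exists_maximal hne
  obtain ⟨hAN, hAn, hAc⟩ := hA.prop
  refine ⟨A, hAN, hAn, hAc, ?_⟩
  by_contra hne2
  have hlt : ∃ x ∈ N ⊓ centralizer (A : Set G), x ∉ A := by
    by_contra hcon
    push Not at hcon
    exact hne2 hcon
  obtain ⟨x0, hx0, hx0A⟩ := hlt
  have hQp : IsPGroup p (G ⧸ A) := hG.to_quotient A
  haveI hCn : (centralizer (A : Set G)).Normal := Subgroup.normal_centralizer
  haveI hIn : (N ⊓ centralizer (A : Set G)).Normal := Subgroup.normal_inf_normal _ _
  haveI hNn : ((N ⊓ centralizer (A : Set G)).map (QuotientGroup.mk' A)).Normal :=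
    Subgroup.Normal.map inferInstance _ (QuotientGroup.mk'_surjective A)
  have hNne : (N ⊓ centralizer (A : Set G)).map (QuotientGroup.mk' A) ≠ ⊥ := by
    intro hb
    apply hx0A
    have h1 : QuotientGroup.mk' A x0 ∈ (N ⊓ centralizer (A : Set G)).map (QuotientGroup.mk' A) :=
      ⟨x0, hx0, rfl⟩
    rw [hb, Subgroup.mem_bot] at h1
    exact (QuotientGroup.eq_one_iff x0).mp h1
  have hinf := Cfsg.Agent.Lib.PGroup.Basic.inf_center_ne_bot hQp hNne
  obtain ⟨⟨y, hyN, hyZ⟩, hy1⟩ := Subgroup.ne_bot_iff_exists_ne_one.mp hinf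
  have hy1' : y ≠ 1 := fun h => hy1 (Subtype.ext h)
  obtain ⟨x, hxC, rfl⟩ := hyN
  have hxA : x ∉ A := by
    intro h
    exact hy1' ((QuotientGroup.eq_one_iff x).mpr h)
  set y := QuotientGroup.mk' A x with hydef
  have hzn : (zpowers y).Normal := by
    refine ⟨fun w hw g => ?_⟩
    have h1 : w ∈ center (G ⧸ A) := (zpowers_le.mpr hyZ) hw
    have h2 : g * w * g⁻¹ = w := by
      rw [Subgroup.mem_center_iff] at h1
      rw [h1 g]; group
    rw [h2]; exact hw
  have hBn : ((zpowers y).comap (QuotientGroup.mk' A)).Normal := hzn.comap _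
  have hform : ∀ b ∈ (zpowers y).comap (QuotientGroup.mk' A), ∃ (i : ℤ), ∃ a ∈ A, b = x ^ i * a := by
    intro b hb
    obtain ⟨i, hi⟩ := hb
    refine ⟨i, (x ^ i)⁻¹ * b, ?_, by group⟩
    have h1 : ((x ^ i : G) : G ⧸ A) = b := by
      have : (QuotientGroup.mk' A (x ^ i)) = QuotientGroup.mk' A b := by
        rw [map_zpow]; exact hi
      exact this
    exact QuotientGroup.eq.mp h1
  have hxc : ∀ a ∈ A, Commute x a := fun a ha => ((Subgroup.mem_centralizer_iff.mp hxC.2) a ha).symm
  have hAc' : ∀ a ∈ A, ∀ a' ∈ A, Commute a a' := fun a ha a' ha' => by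
    have := hAc.is_comm.comm (⟨a, ha⟩ : A) ⟨a', ha'⟩
    exact congrArg Subtype.val this
  have hBc : IsMulCommutative ((zpowers y).comap (QuotientGroup.mk' A)) := by
    refine ⟨⟨fun b b' => Subtype.ext ?_⟩⟩
    obtain ⟨i, a, ha, hb⟩ := hform b b.2
    obtain ⟨j, a', ha', hb'⟩ := hform b' b'.2
    show (b : G) * b' = b' * b
    rw [hb, hb']
    have h1 : Commute (x ^ i) (x ^ j) := (Commute.refl x).zpow_zpow i j
    have h2 : Commute (x ^ i) a' := (hxc a' ha').zpow_left i
    have h3 : Commute a (x ^ j) := ((hxc a ha).zpow_left j).symm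
    have h4 := hAc' a ha a' ha'
    exact (((h1.mul_right h2).mul_left (h3.mul_right h4))).eq
  have hAB : A ≤ (zpowers y).comap (QuotientGroup.mk' A) := by
    intro a ha
    show QuotientGroup.mk' A a ∈ zpowers y
    have h0 : QuotientGroup.mk' A a = 1 := (QuotientGroup.eq_one_iff a).mpr ha
    rw [h0]
    exact one_mem _
  have hBN : (zpowers y).comap (QuotientGroup.mk' A) ≤ N := by
    intro b hb
    obtain ⟨i, a, ha, rfl⟩ := hform b hb
    have hxN : x ∈ N := (Subgroup.mem_inf.mp hxC).1
    exact mul_mem (zpow_mem hxN i) (hAN ha)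
  have hmax := hA.le_of_ge ⟨hBN, hBn, hBc⟩ hAB
  exact hxA (hmax (mem_zpowers y))

/-- Subgroups of index at most two contain the Frattini subgroup. -/
theorem frattini_le_of_index_le_two [Finite G] (hG : IsPGroup 2 G) {H : Subgroup G} (h : H.index ≤ 2) :
    frattini G ≤ H := by
  haveI : Fact (Nat.Prime 2) := ⟨Nat.prime_two⟩
  have h0 : H.index ≠ 0 := Subgroup.FiniteIndex.index_ne_zero
  have hcases : H.index = 1 ∨ H.index = 2 := by omega
  rcases hcases with h1 | h2
  · rw [Subgroup.index_eq_one.mp h1]; exact le_top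
  · rw [Cfsg.Agent.Lib.PGroup.Basic.frattini_le_iff hG]
    constructor
    · intro x
      rw [pow_two, Subgroup.mul_mem_iff_of_index_two h2]
    · intro x y
      rw [commutatorElement_def]
      simp only [Subgroup.mul_mem_iff_of_index_two h2, inv_mem_iff]
      tauto

/-- Normal subgroups in the Frattini subgroup without `HasA` are abelian. -/
theorem comm_of_le_frattini [Finite G] (hG : IsPGroup 2 G) {N : Subgroup G} [hNn : N.Normal]
    (hNΦ : N ≤ frattini G) (hf : ¬ HasA N) : IsMulCommutative N := by
  classical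
  haveI : Fact (Nat.Prime 2) := ⟨Nat.prime_two⟩
  obtain ⟨B, hBN, hBn, hBc, hBs⟩ := exists_selfCentralizing_rel hG N
  have hNG : IsPGroup 2 N := hG.to_subgroup N
  have hsuff : N ≤ B := by
    have hB' : IsCyclic (B.subgroupOf N) ∨ Nat.card (B.subgroupOf N) = 4 := by
      apply cyclic_or_four hNG hf
      refine ⟨⟨fun a b => Subtype.ext (Subtype.ext ?_)⟩⟩
      have := hBc.is_comm.comm (⟨((a : N) : G), a.2⟩ : B) ⟨((b : N) : G), b.2⟩
      show ((a : N) : G) * ((b : N) : G) = ((b : N) : G) * ((a : N) : G)
      exact congrArg Subtype.val this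
    have he : B.subgroupOf N ≃* B := Subgroup.subgroupOfEquivOfLe hBN
    have hcardB : Nat.card (B.subgroupOf N) = Nat.card B := Nat.card_congr he.toEquiv
    by_cases h4 : Nat.card B = 4
    · intro n hn
      apply hBs
      refine ⟨hn, ?_⟩
      exact (frattini_le_of_index_le_two hG (index_centralizer_four_le_two hG h4)) (hNΦ hn)
    · have hcyc : IsCyclic B := by
        rcases hB' with h | h
        · exact isCyclic_of_surjective he he.surjective
        · rw [hcardB] at h; exact absurd h h4
      by_cases h8 : 8 ≤ Nat.card B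
      · obtain ⟨W, hWB, hW4⟩ := exists_four_le hG (B := B) (by omega)
        haveI hWn : W.Normal := normal_of_le_cyclic hcyc hWB
        have hNW : N ≤ centralizer (W : Set G) :=
          hNΦ.trans (frattini_le_of_index_le_two hG (index_centralizer_four_le_two hG hW4))
        haveI : (B.subgroupOf N).Normal := inferInstance
        have hW' : W.subgroupOf N ≤ B.subgroupOf N := by
          intro w hw
          exact hWB hw
        have heW : W.subgroupOf N ≃* W := Subgroup.subgroupOfEquivOfLe (hWB.trans hBN)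
        have := centralizer_four_le hNG hf (B := B.subgroupOf N) (W := W.subgroupOf N)
          (isCyclic_of_surjective he.symm he.symm.surjective) (by
            intro x hx
            rw [Subgroup.mem_subgroupOf]
            apply hBs
            refine Subgroup.mem_inf.mpr ⟨x.2, Subgroup.mem_centralizer_iff.mpr ?_⟩
            intro b hb
            have h1 := (Subgroup.mem_centralizer_iff.mp hx) ⟨b, hBN hb⟩ (by
              simpa [Subgroup.mem_subgroupOf] using hb)
            exact congrArg Subtype.val h1)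
          (by rw [hcardB]; exact h8) hW' (by rw [← hW4]; exact Nat.card_congr heW.toEquiv)
        intro n hn
        have h1 : (⟨n, hn⟩ : N) ∈ centralizer ((W.subgroupOf N : Subgroup N) : Set N) := by
          rw [Subgroup.mem_centralizer_iff]
          intro w hw
          apply Subtype.ext
          exact (Subgroup.mem_centralizer_iff.mp (hNW hn)) w hw
        exact this h1
      · -- order at most two
        have hle : Nat.card B ≤ 2 := by
          obtain ⟨k, hk⟩ := IsPGroup.iff_card.mp (hG.to_subgroup B)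
          rcases k with _ | _ | _ | k
          · rw [hk]; norm_num
          · rw [hk]; norm_num
          · simp at hk; exact absurd hk h4
          · exfalso
            apply h8
            rw [hk, pow_succ, pow_succ, pow_succ]
            have : 1 ≤ 2 ^ k := Nat.one_le_two_pow
            omega
        have hcen := le_center_of_card_le_two hG hle
        intro n hn
        apply hBs
        refine Subgroup.mem_inf.mpr ⟨hn, Subgroup.mem_centralizer_iff.mpr ?_⟩
        intro y hy
        exact ((Subgroup.mem_center_iff.mp (hcen hy)) n).symm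
  have hNB : N = B := le_antisymm hsuff hBN
  rw [hNB]
  exact hBc

/-- Odd automorphisms act trivially on invariant cyclic subgroups of a `2`-group. -/
theorem fix_of_cyclic_odd [Finite G] (hG : IsPGroup 2 G) (α : MulAut G) (hα : Odd (orderOf α))
    {C : Subgroup G} (hC : IsCyclic C) (h : ∀ c ∈ C, α c ∈ C) : ∀ c ∈ C, α c = c := by
  classical
  let f : C →* C :=
    { toFun := fun c => ⟨α (c : G), h _ c.2⟩
      map_one' := Subtype.ext (map_one α)
      map_mul' := fun a b => Subtype.ext (map_mul α (a : G) (b : G)) }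
  have hfi : Function.Injective f := by
    intro a b hab
    apply Subtype.ext
    exact α.injective (congrArg Subtype.val hab)
  have hfb : Function.Bijective f := ⟨hfi, Finite.surjective_of_injective hfi⟩
  let β : MulAut C := MulEquiv.ofBijective f hfb
  have hβ : ∀ (n : ℕ) (c : C), (((β ^ n) c : C) : G) = (α ^ n) (c : G) := by
    intro n
    induction n with
    | zero => intro c; rfl
    | succ n ih =>
      intro c
      rw [pow_succ, pow_succ, MulAut.mul_apply, MulAut.mul_apply, ih]
      rfl
  have hβo : orderOf β ∣ orderOf α := by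
    apply orderOf_dvd_of_pow_eq_one
    ext c
    rw [hβ, pow_orderOf_eq_one]
    rfl
  obtain ⟨k, hk⟩ := IsPGroup.iff_card.mp (hG.to_subgroup C)
  have hcard : orderOf β ∣ Nat.totient (2 ^ k) := by
    rw [← hk, ← IsCyclic.card_mulAut]
    exact orderOf_dvd_natCard β
  have h1 : orderOf β = 1 := by
    have hodd : Odd (orderOf β) := Odd.of_dvd_nat hα hβo
    rcases k with _ | k
    · simpa using hcard
    · rw [Nat.totient_prime_pow_succ Nat.prime_two] at hcard
      simp only [Nat.add_one_sub_one, mul_one] at hcard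
      obtain ⟨j, _, hj⟩ := (Nat.dvd_prime_pow Nat.prime_two).mp hcard
      rcases j with _ | j
      · simpa using hj
      · rw [hj, pow_succ] at hodd
        exact absurd hodd (by simp)
  have hβ1 : β = 1 := orderOf_eq_one_iff.mp h1
  intro c hc
  have := congrArg (fun γ : MulAut C => ((γ ⟨c, hc⟩ : C) : G)) hβ1
  exact this

/-- An automorphism of odd order trivial on `N` and moving `x` only by `N` fixes `x`. -/
theorem eq_of_trivial_mod [Finite G] (hG : IsPGroup 2 G) (α : MulAut G) (hα : Odd (orderOf α))
    {N : Subgroup G} (hN : ∀ c ∈ N, α c = c) {x : G} (hx : x⁻¹ * α x ∈ N) : α x = x := by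
  set n := x⁻¹ * α x with hn
  have h1 : α x = x * n := by rw [hn]; group
  have hpow : ∀ k : ℕ, (α ^ k) x = x * n ^ k := by
    intro k
    induction k with
    | zero => simp
    | succ k ih =>
      rw [pow_succ', MulAut.mul_apply, ih, map_mul, map_pow, hN n hx, h1, pow_succ']
      group
  have h2 := hpow (orderOf α)
  rw [pow_orderOf_eq_one] at h2
  have h3 : n ^ orderOf α = 1 := by
    have : x = x * n ^ orderOf α := h2
    exact mul_eq_left.mp this.symm
  obtain ⟨t, ht⟩ := hG n
  have h4 : orderOf n ∣ 2 ^ t := orderOf_dvd_of_pow_eq_one ht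
  have h5 : orderOf n ∣ orderOf α := orderOf_dvd_of_pow_eq_one h3
  have h6 : orderOf n = 1 := by
    have hco : Nat.Coprime (2 ^ t) (orderOf α) :=
      Nat.Coprime.pow_left t (Nat.coprime_two_left.mpr hα)
    exact Nat.eq_one_of_dvd_coprimes hco h4 h5
  rw [h1, orderOf_eq_one_iff.mp h6, mul_one]

/-- Elements of a cyclic group of order `4`. -/
theorem zpowers_four_cases {u t : G} (hu : orderOf u = 4) (ht : t ∈ zpowers u) :
    t = 1 ∨ t = u ∨ t = u ^ 2 ∨ t = u⁻¹ := by
  obtain ⟨i, rfl⟩ := Subgroup.mem_zpowers_iff.mp ht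
  have hu4 : u ^ 4 = 1 := by rw [← hu]; exact pow_orderOf_eq_one u
  have h1 : u ^ i = u ^ (i % 4) := by
    have := zpow_eq_zpow_emod' (x := u) (m := i) (n := 4) (by simpa using hu4)
    simpa using this
  have hm : i % 4 = 0 ∨ i % 4 = 1 ∨ i % 4 = 2 ∨ i % 4 = 3 := by omega
  rw [h1]
  rcases hm with h | h | h | h
  · left; rw [h]; simp
  · right; left; rw [h]; simp
  · right; right; left; rw [h]; exact zpow_natCast u 2
  · right; right; right
    rw [h]
    have : u ^ (3 : ℤ) * u = 1 := by
      have h2 : u ^ (3 : ℤ) * u = u ^ (4 : ℕ) := by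
        rw [show (3 : ℤ) = ((3 : ℕ) : ℤ) by norm_num, zpow_natCast, ← pow_succ]
      rw [h2, hu4]
    exact eq_inv_of_mul_eq_one_left this

/-- Two distinct cyclic subgroups of index two in a non-abelian group of order `8`:
the quaternion group. -/
theorem quaternion_of_two_cyclic [Finite G] (h8 : Nat.card G = 8) (hna : ¬ IsMulCommutative G)
    {B B₁ : Subgroup G} (hB : IsCyclic B) (hB₁ : IsCyclic B₁) (hi : B.index = 2) (hi₁ : B₁.index = 2)
    (hne : B ≠ B₁) : Nonempty (G ≃* QuaternionGroup 2) := by
  classical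
  obtain ⟨u, hu⟩ := Cfsg.Agent.Lib.PGroup.CyclicMax.exists_zpowers_eq_of_isCyclic B hB
  obtain ⟨v, hv⟩ := Cfsg.Agent.Lib.PGroup.CyclicMax.exists_zpowers_eq_of_isCyclic B₁ hB₁
  have hcB : Nat.card B = 4 := by
    have := Subgroup.card_mul_index B
    rw [hi, h8] at this
    omega
  have hcB₁ : Nat.card B₁ = 4 := by
    have := Subgroup.card_mul_index B₁
    rw [hi₁, h8] at this
    omega
  have hou : orderOf u = 4 := by rw [← Nat.card_zpowers, hu, hcB]
  have hov : orderOf v = 4 := by rw [← Nat.card_zpowers, hv, hcB₁]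
  have huB : u ∈ B := by rw [← hu]; exact mem_zpowers u
  have hvB₁ : v ∈ B₁ := by rw [← hv]; exact mem_zpowers v
  have hvB : v ∉ B := by
    intro h
    apply hne
    symm
    apply Subgroup.eq_of_le_of_card_ge (by rw [← hv]; exact zpowers_le.mpr h)
    rw [hcB, hcB₁]
  have huB₁ : u ∉ B₁ := by
    intro h
    apply hne
    apply Subgroup.eq_of_le_of_card_ge (by rw [← hu]; exact zpowers_le.mpr h)
    rw [hcB, hcB₁]
  -- common element
  have hinf : 1 < Nat.card (B ⊓ B₁ : Subgroup G) := by
    have h1 := Subgroup.index_inf_le (H := B) (K := B₁)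
    rw [hi, hi₁] at h1
    have h2 := Subgroup.card_mul_index (B ⊓ B₁)
    rw [h8] at h2
    by_contra hcon
    have h3 : Nat.card (B ⊓ B₁ : Subgroup G) ≤ 1 := by omega
    have h4 : (B ⊓ B₁).index ≤ 4 := h1
    have : Nat.card (B ⊓ B₁ : Subgroup G) * (B ⊓ B₁).index ≤ 1 * 4 := Nat.mul_le_mul h3 h4
    omega
  obtain ⟨⟨t, htB, htB₁⟩, ht1⟩ : ∃ t : (B ⊓ B₁ : Subgroup G), t ≠ 1 := by
    haveI : Nontrivial (B ⊓ B₁ : Subgroup G) := Finite.one_lt_card_iff_nontrivial.mp hinf
    exact exists_ne 1
  have ht1' : t ≠ 1 := fun h => ht1 (Subtype.ext h)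
  have htu : t = u ^ 2 := by
    have hm : t ∈ zpowers u := by rw [hu]; exact htB
    rcases zpowers_four_cases hou hm with h | h | h | h
    · exact absurd h ht1'
    · exact absurd (h ▸ htB₁) huB₁
    · exact h
    · exfalso
      apply huB₁
      have : u = t⁻¹ := by rw [h]; simp
      rw [this]; exact inv_mem htB₁
  have htv : t = v ^ 2 := by
    have hm : t ∈ zpowers v := by rw [hv]; exact htB₁
    rcases zpowers_four_cases hov hm with h | h | h | h
    · exact absurd h ht1'
    · exact absurd (h ▸ htB) hvB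
    · exact h
    · exfalso
      apply hvB
      have : v = t⁻¹ := by rw [h]; simp
      rw [this]; exact inv_mem htB
  haveI hBn : B.Normal := Subgroup.normal_of_index_eq_two hi
  have hconj : v * u * v⁻¹ = u⁻¹ := by
    have hm : v * u * v⁻¹ ∈ zpowers u := by
      rw [hu]; exact hBn.conj_mem u huB v
    have hord : orderOf (v * u * v⁻¹) = 4 := by
      rw [← hou, ← MulAut.conj_apply]; exact MulEquiv.orderOf_eq _ _
    rcases zpowers_four_cases hou hm with h | h | h | h
    · rw [h, orderOf_one] at hord; omega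
    · exfalso
      have hvc : v ∈ centralizer (B : Set G) := by
        rw [Subgroup.mem_centralizer_iff]
        intro b hb
        rw [← hu] at hb
        obtain ⟨i, rfl⟩ := Subgroup.mem_zpowers_iff.mp hb
        have h2 : Commute u v := by
          show u * v = v * u
          have h3 : v * u = u * v := by
            calc v * u = (v * u * v⁻¹) * v := by group
              _ = u * v := by rw [h]
          exact h3.symm
        exact (h2.zpow_left i).eq
      exact hna (comm_of_index_two_of_central hi inferInstance hvB hvc)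
    · exfalso
      rw [h] at hord
      have h2 : (u ^ 2) ^ 2 = 1 := by
        rw [← pow_mul]
        have := pow_orderOf_eq_one u
        rwa [hou] at this
      have := orderOf_dvd_of_pow_eq_one h2
      rw [hord] at this
      omega
    · exact h
  refine Cfsg.Agent.Lib.PGroup.CyclicMax.quaternionEquivOfGens 2 (by rw [h8]) u v (by rw [hou])
    (by rw [← pow_two, ← htv, htu]) hconj ?_
  rw [hu]
  exact hvB

end Cfsg.Agent.Lib.PGroup.AFree
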