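import Mathlib
import Cfsg.Prelude.Def_Transfer
import Cfsg.Agent.Lib.PGroup.AFree
import Cfsg.Agent.Lib.PGroup.Extraspecial

/-!
# `2`-groups minimal with a non-cyclic abelian subgroup of order eight under an odd operator group
-/

namespace Cfsg.Agent.Lib.PGroup.AFreeMain

open Subgroup Cfsg.Agent.Lib.PGroup.AFree Cfsg.Agent.Lib.PGroup.Basic
open scoped commutatorElement

variable {P : Type*} [Group P]

theorem char_mem (K : Subgroup P) [hK : K.Characteristic] (α : MulAut P) {y : P} (hy : y ∈ K) :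
    α y ∈ K := by
  rw [← hK.fixed α] at hy
  exact hy

/-- An automorphism of odd order with `α (α z) = z` fixes `z`. -/
theorem fix_of_sq_fix (α : MulAut P) (hα : Odd (orderOf α)) {z : P} (h : α (α z) = z) : α z = z := by
  obtain ⟨m, hm⟩ := hα
  have h1 : ∀ k : ℕ, (α ^ (2 * k)) z = z := by
    intro k
    induction k with
    | zero => simp
    | succ k ih =>
      rw [show 2 * (k + 1) = 2 * k + 2 by ring, pow_add, MulAut.mul_apply, pow_two, MulAut.mul_apply, h,
        ih]
  have h2 : α ^ (2 * m + 1) = 1 := by rw [← hm]; exact pow_orderOf_eq_one α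
  have h3 : (α ^ (2 * m + 1)) z = z := by rw [h2]; rfl
  rw [pow_succ', MulAut.mul_apply, h1 m] at h3
  exact h3

/-- Frattini subgroup is proper. -/
theorem frattini_ne_top [Finite P] [Nontrivial P] : frattini P ≠ ⊤ := by
  obtain ⟨M, hM, _⟩ := (eq_top_or_exists_le_coatom (⊥ : Subgroup P)).resolve_left bot_ne_top
  intro h
  have h1 := frattini_le_coatom hM
  rw [h] at h1
  exact hM.1 (top_le_iff.mp h1)

/-- Step two: the Frattini subgroup is central. -/
theorem frattini_le_center [Finite P] (hP : IsPGroup 2 P) (Γ : Subgroup (MulAut P))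
    (hodd : ∀ α ∈ Γ, Odd (orderOf α))
    (hmin : ∀ Y : Subgroup P, Y ≠ ⊤ → (∀ α ∈ Γ, ∀ y ∈ Y, α y ∈ Y) → ¬ HasA Y)
    (hna : ¬ IsMulCommutative P) (hnt : ∃ α ∈ Γ, ∃ x, α x ≠ x)
    (hΦc : IsMulCommutative (frattini P)) : frattini P ≤ center P := by
  classical
  haveI : Fact (Nat.Prime 2) := ⟨Nat.prime_two⟩
  by_contra hnot
  set Φ := frattini P with hΦ
  haveI hΦn : Φ.Normal := inferInstance
  set C := centralizer (Φ : Set P) with hC
  have hΦcomm : ∀ a ∈ Φ, ∀ b ∈ Φ, a * b = b * a := fun a ha b hb =>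
    congrArg Subtype.val (hΦc.is_comm.comm (⟨a, ha⟩ : Φ) ⟨b, hb⟩)
  have hCtop : C ≠ ⊤ := by
    intro h
    apply hnot
    intro φ hφ
    rw [Subgroup.mem_center_iff]
    intro g
    have hg : g ∈ C := h ▸ Subgroup.mem_top g
    exact ((Subgroup.mem_centralizer_iff.mp hg) φ hφ).symm
  have hCinv : ∀ α ∈ Γ, ∀ y ∈ C, α y ∈ C := by
    intro α _ y hy
    rw [Subgroup.mem_centralizer_iff]
    intro φ hφ
    have h1 : α⁻¹ φ ∈ Φ := char_mem Φ α⁻¹ hφ
    have h2 := (Subgroup.mem_centralizer_iff.mp hy) _ h1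
    have h3 := congrArg α h2
    rw [map_mul, map_mul] at h3
    have h4 : α (α⁻¹ φ) = φ := by simp
    rwa [h4] at h3
  have hCf : ¬ HasA C := hmin C hCtop hCinv
  have hΦC : Φ ≤ C := by
    intro a ha
    rw [Subgroup.mem_centralizer_iff]
    intro b hb
    exact hΦcomm b hb a ha
  have hCP : IsPGroup 2 C := hP.to_subgroup C
  have hΦ4 : 4 ≤ Nat.card Φ := by
    by_contra hlt
    apply hnot
    apply le_center_of_card_le_two hP
    obtain ⟨k, hk⟩ := IsPGroup.iff_card.mp (hP.to_subgroup Φ)
    rcases k with _ | _ | k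
    · rw [hk]; norm_num
    · rw [hk]; norm_num
    · exfalso
      apply hlt
      rw [hk, pow_succ, pow_succ]
      have : 1 ≤ 2 ^ k := Nat.one_le_two_pow
      omega
  have hCcomm : IsMulCommutative C := by
    by_contra hcn
    have h2 := card_center_eq_two hCP hCf hcn
    have hle : Φ.subgroupOf C ≤ center C := by
      intro a ha
      rw [Subgroup.mem_center_iff]
      intro g
      apply Subtype.ext
      exact ((Subgroup.mem_centralizer_iff.mp g.2) (a : P) ha).symm
    have h3 : Nat.card (Φ.subgroupOf C) ≤ Nat.card (center C) := Subgroup.card_le_of_le hle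
    have h4 : Nat.card (Φ.subgroupOf C) = Nat.card Φ :=
      Nat.card_congr (Subgroup.subgroupOfEquivOfLe hΦC).toEquiv
    omega
  rcases self_cyclic_or_four hCP hCf hCcomm with hcyc | h4
  · obtain ⟨α, hα, x, hx⟩ := hnt
    apply hx
    have hfixC := fix_of_cyclic_odd hP α (hodd α hα) hcyc (hCinv α hα)
    apply eq_of_trivial_mod hP α (hodd α hα) (N := C) hfixC
    rw [Subgroup.mem_centralizer_iff]
    intro y hy
    have hyα : α y = y := hfixC y (hΦC hy)
    have hconj : x * y * x⁻¹ ∈ Φ := hΦn.conj_mem y hy x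
    have h1 : α (x * y * x⁻¹) = x * y * x⁻¹ := hfixC _ (hΦC hconj)
    rw [map_mul, map_mul, map_inv, hyα] at h1
    -- `h1 : α x * y * (α x)⁻¹ = x * y * x⁻¹`
    calc y * (x⁻¹ * α x) = x⁻¹ * (x * y * x⁻¹) * α x := by group
      _ = x⁻¹ * (α x * y * (α x)⁻¹) * α x := by rw [h1]
      _ = x⁻¹ * α x * y := by group
  · -- `Φ = C` has order four
    have hΦeq : Φ = C := by
      apply Subgroup.eq_of_le_of_card_ge hΦC
      rw [h4]; exact hΦ4
    have hΦcard : Nat.card Φ = 4 := by rw [hΦeq]; exact h4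
    have hidx := index_centralizer_four_le_two hP hΦcard
    rw [← hC, ← hΦeq] at hidx
    have hΦtop : Φ ≠ ⊤ := by
      rw [hΦeq]; exact hCtop
    have hi2 : Φ.index = 2 := by
      have h0 : Φ.index ≠ 0 := Subgroup.FiniteIndex.index_ne_zero
      have h1 : Φ.index ≠ 1 := fun h => hΦtop (Subgroup.index_eq_one.mp h)
      omega
    obtain ⟨x, hx⟩ : ∃ x, x ∉ Φ := by
      by_contra hcon
      push Not at hcon
      exact hΦtop (eq_top_iff.mpr fun y _ => hcon y)
    have htop : zpowers x = ⊤ := by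
      by_contra hne
      obtain ⟨M, hxM, hMn, hMi⟩ := exists_normal_index_ge hP hne
      have hΦM : Φ ≤ M := frattini_le_of_index_le_two hP (by omega)
      have hcard : Nat.card Φ = Nat.card M := by
        have h1 := Subgroup.card_mul_index Φ
        have h2 := Subgroup.card_mul_index M
        rw [hi2] at h1
        rw [hMi] at h2
        omega
      have hΦMeq : Φ = M := Subgroup.eq_of_le_of_card_ge hΦM hcard.ge
      exact hx (hΦMeq ▸ hxM (mem_zpowers x))
    apply hna
    haveI : IsCyclic P := ⟨⟨x, fun y => by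
      have : y ∈ zpowers x := htop ▸ Subgroup.mem_top y
      exact this⟩⟩
    exact IsCyclic.isMulCommutative

/-- The class-two formula for squares. -/
theorem sq_mul_of_central {x y : P} (hc : ⁅y, x⁆ ∈ center P) : (x * y) ^ 2 = x ^ 2 * y ^ 2 * ⁅y, x⁆ := by
  have h1 : y * x = ⁅y, x⁆ * (x * y) := by
    rw [commutatorElement_def]; group
  have hc' := Subgroup.mem_center_iff.mp hc
  calc (x * y) ^ 2 = x * (y * x) * y := by rw [pow_two]; group
    _ = x * (⁅y, x⁆ * (x * y)) * y := by rw [← h1]
    _ = (x * ⁅y, x⁆) * (x * y * y) := by group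
    _ = (⁅y, x⁆ * x) * (x * y * y) := by rw [hc' x]
    _ = ⁅y, x⁆ * (x ^ 2 * y ^ 2) := by rw [pow_two, pow_two]; group
    _ = x ^ 2 * y ^ 2 * ⁅y, x⁆ := (hc' _).symm

/-- A class-two `2`-group without `HasA`, non-abelian, squares central: order eight. -/
theorem card_eq_eight [Finite P] (hP : IsPGroup 2 P) (hf : ¬ HasA P) (hna : ¬ IsMulCommutative P)
    (hs : ∀ x : P, x ^ 2 ∈ center P) :
    Nat.card P = 8 ∧ ∃ B : Subgroup P, IsCyclic B ∧ B.index = 2 ∧ centralizer (B : Set P) ≤ B := by
  classical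
  obtain ⟨B, hBc, hBi, hBs⟩ := exists_cyclic_index_two hP hf hna
  refine ⟨?_, B, hBc, hBi, hBs⟩
  have hZ2 := card_center_eq_two hP hf hna
  obtain ⟨g, hg⟩ := Cfsg.Agent.Lib.PGroup.CyclicMax.exists_zpowers_eq_of_isCyclic B hBc
  have h4 : g ^ 4 = 1 := by
    have h1 := pow_card_eq_one' (x := (⟨g ^ 2, hs g⟩ : center P))
    rw [hZ2] at h1
    have h2 := congrArg Subtype.val h1
    simp only [SubgroupClass.coe_pow, OneMemClass.coe_one] at h2
    rw [← pow_mul] at h2
    exact h2
  have hdvd : Nat.card B ∣ 4 := by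
    rw [← hg, Nat.card_zpowers]
    exact orderOf_dvd_of_pow_eq_one h4
  have hcard := Subgroup.card_mul_index B
  rw [hBi] at hcard
  haveI hBn : B.Normal := Subgroup.normal_of_index_eq_two hBi
  by_cases h2 : Nat.card B ≤ 2
  · exfalso
    exact hna (comm_of_index_two_le_center hBi (le_center_of_card_le_two hP h2))
  · have : Nat.card B ≤ 4 := Nat.le_of_dvd (by norm_num) hdvd
    have h5 : Nat.card B = 3 ∨ Nat.card B = 4 := by omega
    rcases h5 with h5 | h5
    · rw [h5] at hdvd; omega
    · omega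

/-- The quaternion case. -/
theorem quaternion_case [Finite P] (hP : IsPGroup 2 P) (Γ : Subgroup (MulAut P))
    (hΓ : Odd (Nat.card Γ)) (hodd : ∀ α ∈ Γ, Odd (orderOf α))
    (hmin : ∀ Y : Subgroup P, Y ≠ ⊤ → (∀ α ∈ Γ, ∀ y ∈ Y, α y ∈ Y) → ¬ HasA Y)
    (hna : ¬ IsMulCommutative P) (hnt : ∃ α ∈ Γ, ∃ x, α x ≠ x)
    (hfix : ∀ α ∈ Γ, ∀ z ∈ center P, α z = z)
    (hsq : ∀ x : P, x ^ 2 ∈ center P) {c₀ : P} (hc₀ : c₀ ∈ center P) (hc₀Φ : c₀ ∉ frattini P) :
    ∃ M : Subgroup P, M.index = 2 ∧ Nonempty (M ≃* QuaternionGroup 2) ∧ M ⊔ center P = ⊤ := by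
  classical
  haveI : Fact (Nat.Prime 2) := ⟨Nat.prime_two⟩
  obtain ⟨N₀, hN₀n, hN₀i, _, hc₀N₀⟩ := exists_normal_index_notMem_of_notMem_frattini hP hc₀Φ
  let χ₀ : P →* ℤˣ := MonoidHom.mk' (fun x => if x ∈ N₀ then 1 else -1) (by
    intro a b
    by_cases ha : a ∈ N₀ <;> by_cases hb : b ∈ N₀ <;>
      simp [Subgroup.mul_mem_iff_of_index_two hN₀i, ha, hb])
  have hχ₀ : ∀ x, χ₀ x = if x ∈ N₀ then 1 else -1 := fun x => rfl
  haveI := Fintype.ofFinite Γ
  let f : P →* ℤˣ := ∏ α : Γ, χ₀.comp (α : MulAut P).toMonoidHom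
  have hf : ∀ x, f x = ∏ α : Γ, χ₀ ((α : MulAut P) x) := by
    intro x
    simp only [f, MonoidHom.finset_prod_apply]
    rfl
  have hfc : f c₀ = -1 := by
    rw [hf]
    have h1 : ∀ α : Γ, χ₀ ((α : MulAut P) c₀) = -1 := by
      intro α
      rw [hfix α α.2 c₀ hc₀, hχ₀, if_neg hc₀N₀]
    simp only [h1]
    rw [Finset.prod_const, Finset.card_univ, ← Nat.card_eq_fintype_card]
    exact hΓ.neg_one_pow
  have hinv : ∀ β ∈ Γ, ∀ x, f (β x) = f x := by
    intro β hβ x
    rw [hf, hf]
    apply Fintype.prod_equiv (Equiv.mulRight (⟨β, hβ⟩ : Γ))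
    intro α
    rfl
  set M := f.ker with hM
  have hc₀M : c₀ ∉ M := by
    rw [hM, MonoidHom.mem_ker, hfc]
    decide
  have hMtop : M ≠ ⊤ := fun h => hc₀M (h ▸ Subgroup.mem_top c₀)
  have hMi : M.index = 2 := by
    have h1 : M.index ∣ 2 := by
      rw [hM, Subgroup.index_ker]
      have := Subgroup.card_subgroup_dvd_card f.range
      rwa [show Nat.card ℤˣ = 2 by simp] at this
    have h2 : M.index ≠ 1 := fun h => hMtop (Subgroup.index_eq_one.mp h)
    have h3 := Nat.le_of_dvd (by norm_num) h1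
    have h4 : M.index ≠ 0 := Subgroup.FiniteIndex.index_ne_zero
    omega
  have hMinv : ∀ α ∈ Γ, ∀ y ∈ M, α y ∈ M := by
    intro α hα y hy
    rw [hM, MonoidHom.mem_ker] at hy ⊢
    rw [hinv α hα, hy]
  have hMf : ¬ HasA M := hmin M hMtop hMinv
  have hform : ∀ x : P, ∃ m ∈ M, ∃ z ∈ center P, x = m * z := by
    intro x
    by_cases hx : x ∈ M
    · exact ⟨x, hx, 1, one_mem _, by simp⟩
    · refine ⟨x * c₀⁻¹, ?_, c₀, hc₀, by group⟩
      rw [Subgroup.mul_mem_iff_of_index_two hMi, inv_mem_iff]
      simp [hx, hc₀M]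
  have hsup : M ⊔ center P = ⊤ := by
    rw [eq_top_iff]
    intro x _
    obtain ⟨m, hm, z, hz, rfl⟩ := hform x
    exact mul_mem (Subgroup.mem_sup_left hm) (Subgroup.mem_sup_right hz)
  have hMna : ¬ IsMulCommutative M := by
    intro hc
    apply hna
    refine ⟨⟨fun a b => ?_⟩⟩
    obtain ⟨m, hm, z, hz, rfl⟩ := hform a
    obtain ⟨m', hm', z', hz', rfl⟩ := hform b
    have h1 : m * m' = m' * m := congrArg Subtype.val (hc.is_comm.comm (⟨m, hm⟩ : M) ⟨m', hm'⟩)
    have hzc := Subgroup.mem_center_iff.mp hz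
    have hzc' := Subgroup.mem_center_iff.mp hz'
    calc m * z * (m' * z') = m * (z * m') * z' := by group
      _ = m * (m' * z) * z' := by rw [hzc m']
      _ = (m * m') * (z * z') := by group
      _ = (m' * m) * (z' * z) := by rw [h1, hzc z']
      _ = m' * (m * z') * z := by group
      _ = m' * (z' * m) * z := by rw [hzc' m]
      _ = m' * z' * (m * z) := by group
  have hMP : IsPGroup 2 M := hP.to_subgroup M
  have hMs : ∀ x : M, x ^ 2 ∈ center M := by
    intro x
    rw [Subgroup.mem_center_iff]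
    intro g
    apply Subtype.ext
    exact (Subgroup.mem_center_iff.mp (hsq (x : P))) (g : P)
  obtain ⟨h8, B, hBc, hBi, hBs⟩ := card_eq_eight hMP hMf hMna hMs
  refine ⟨M, hMi, ?_, hsup⟩
  -- a nontrivial action on `M`
  obtain ⟨α, hα, x, hx⟩ := hnt
  have hαM : ∃ m ∈ M, α m ≠ m := by
    by_contra hcon
    push Not at hcon
    apply hx
    obtain ⟨m, hm, z, hz, rfl⟩ := hform x
    rw [map_mul, hcon m hm, hfix α hα z hz]
  set B' := B.map M.subtype with hB'
  have hB'M : B' ≤ M := Subgroup.map_subtype_le B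
  have heB' : B ≃* B' := B.equivMapOfInjective _ M.subtype_injective
  have hB'c : IsCyclic B' := isCyclic_of_surjective heB' heB'.surjective
  set B'' := B'.map (α : MulAut P).toMonoidHom with hB''
  have heB'' : B' ≃* B'' := B'.equivMapOfInjective _ α.injective
  have hB''M : B'' ≤ M := by
    rintro _ ⟨y, hy, rfl⟩
    exact hMinv α hα y (hB'M hy)
  have hne : B'' ≠ B' := by
    intro heq
    have hstab : ∀ c ∈ B', α c ∈ B' := by
      intro c hc
      rw [← heq]
      exact ⟨c, hc, rfl⟩
    have hfixB := fix_of_cyclic_odd hP α (hodd α hα) hB'c hstab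
    obtain ⟨m, hm, hm'⟩ := hαM
    apply hm'
    apply eq_of_trivial_mod hP α (hodd α hα) (N := B') hfixB
    by_cases hmB : m ∈ B'
    · rw [hfixB m hmB]; simp [one_mem]
    · have hαmB : α m ∉ B' := by
        intro h
        rw [← heq] at h
        obtain ⟨c, hc, hcm⟩ := h
        have : c = m := α.injective hcm
        exact hmB (this ▸ hc)
      have hinM : (⟨m, hm⟩ : M) ∉ B := by
        intro h
        exact hmB ⟨_, h, rfl⟩
      have hinM' : (⟨α m, hMinv α hα m hm⟩ : M) ∉ B := by
        intro h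
        exact hαmB ⟨_, h, rfl⟩
      have h1 : (⟨m, hm⟩ : M)⁻¹ * ⟨α m, hMinv α hα m hm⟩ ∈ B := by
        rw [Subgroup.mul_mem_iff_of_index_two hBi, inv_mem_iff]
        simp [hinM, hinM']
      exact ⟨_, h1, rfl⟩
  let B₁ : Subgroup M := B''.subgroupOf M
  have heB₁ : B₁ ≃* B'' := Subgroup.subgroupOfEquivOfLe hB''M
  have hB₁c : IsCyclic B₁ :=
    isCyclic_of_surjective (heB₁.trans (heB''.symm.trans heB'.symm)).symm
      (heB₁.trans (heB''.symm.trans heB'.symm)).symm.surjective
  have hB₁card : Nat.card B₁ = Nat.card B :=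
    Nat.card_congr (heB₁.trans (heB''.symm.trans heB'.symm)).toEquiv
  have hB₁i : B₁.index = 2 := by
    have h1 := Subgroup.card_mul_index B₁
    have h2 := Subgroup.card_mul_index B
    rw [hBi] at h2
    rw [hB₁card] at h1
    have hpos : 0 < Nat.card B := Nat.card_pos
    have : Nat.card B * B₁.index = Nat.card B * 2 := by rw [h1, h2]
    exact Nat.eq_of_mul_eq_mul_left hpos this
  have hne' : B ≠ B₁ := by
    intro heq
    apply hne
    have h1 : B' = B'' := by
      rw [hB', heq]
      exact Subgroup.map_subgroupOf_eq_of_le hB''M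
    exact h1.symm
  exact quaternion_of_two_cyclic h8 hMna hBc hB₁c hBi hB₁i hne'

/-- The impossible case `Φ(P) = Z(P) ≠ P'`. -/
theorem no_case_frattini_eq_center [Finite P] (hP : IsPGroup 2 P) (Γ : Subgroup (MulAut P))
    (hmin : ∀ Y : Subgroup P, Y ≠ ⊤ → (∀ α ∈ Γ, ∀ y ∈ Y, α y ∈ Y) → ¬ HasA Y)
    (hna : ¬ IsMulCommutative P)
    (hfix : ∀ α ∈ Γ, ∀ z ∈ center P, α z = z)
    (hsq : ∀ x : P, x ^ 2 ∈ center P) (hcz : ∀ x y : P, ⁅x, y⁆ ∈ center P)
    (hΦ : frattini P = center P) (hPZ : commutator P ≠ center P) (hPc : commutator P ≠ ⊥)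
    (hPle : commutator P ≤ center P) : False := by
  classical
  haveI : Fact (Nat.Prime 2) := ⟨Nat.prime_two⟩
  set Z := center P with hZ
  have hZP : IsPGroup 2 Z := hP.to_subgroup Z
  set K : Subgroup Z := (commutator P).subgroupOf Z with hK
  have hKne : K ≠ ⊤ := by
    intro h
    apply hPZ
    apply le_antisymm hPle
    rw [hK, Subgroup.subgroupOf_eq_top] at h
    exact h
  obtain ⟨M₀, hKM, hM₀n, hM₀i⟩ := exists_normal_index_ge hZP hKne
  have hM₀c : ∀ x y : P, (⟨⁅x, y⁆, hcz x y⟩ : Z) ∈ M₀ := by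
    intro x y
    apply hKM
    rw [hK, Subgroup.mem_subgroupOf]
    exact Subgroup.commutator_mem_commutator (Subgroup.mem_top x) (Subgroup.mem_top y)
  let sq : P → Z := fun x => ⟨x ^ 2, hsq x⟩
  have hsqmul : ∀ x y : P, sq (x * y) = sq x * sq y * ⟨⁅y, x⁆, hcz y x⟩ := by
    intro x y
    apply Subtype.ext
    exact sq_mul_of_central (hcz y x)
  have hmem : ∀ x y : P, sq (x * y) ∈ M₀ ↔ (sq x ∈ M₀ ↔ sq y ∈ M₀) := by
    intro x y
    rw [hsqmul, Subgroup.mul_mem_cancel_right _ (hM₀c y x), Subgroup.mul_mem_iff_of_index_two hM₀i]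
  let q : P →* ℤˣ := MonoidHom.mk' (fun x => if sq x ∈ M₀ then 1 else -1) (by
    intro a b
    by_cases ha : sq a ∈ M₀ <;> by_cases hb : sq b ∈ M₀ <;> simp [hmem, ha, hb])
  have hq : ∀ x, q x = if sq x ∈ M₀ then 1 else -1 := fun x => rfl
  set Y := q.ker with hY
  have hYmem : ∀ x, x ∈ Y ↔ sq x ∈ M₀ := by
    intro x
    rw [hY, MonoidHom.mem_ker, hq]
    by_cases h : sq x ∈ M₀
    · simp [h]
    · simp only [h, if_false, iff_false]
      decide
  have hZY : Z ≤ Y := by
    intro z hz
    rw [hYmem]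
    have h1 : sq z = (⟨z, hz⟩ : Z) * ⟨z, hz⟩ := by
      apply Subtype.ext
      exact pow_two z
    rw [h1, Subgroup.mul_mem_iff_of_index_two hM₀i]
  set D : Subgroup P := M₀.map Z.subtype with hD
  have hDZ : D ≤ Z := Subgroup.map_subtype_le M₀
  have hDne : ¬ Z ≤ D := by
    intro h
    have hM₀top : M₀ = ⊤ := by
      rw [eq_top_iff]
      intro z _
      obtain ⟨w, hw, hwz⟩ := h z.2
      have : w = z := Subtype.ext hwz
      exact this ▸ hw
    rw [hM₀top, Subgroup.index_top] at hM₀i
    omega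
  have hYtop : Y ≠ ⊤ := by
    intro h
    apply hDne
    rw [← hΦ, Cfsg.Agent.Lib.PGroup.Basic.frattini_le_iff hP]
    constructor
    · intro x
      have h1 : x ∈ Y := h ▸ Subgroup.mem_top x
      exact ⟨_, (hYmem x).mp h1, rfl⟩
    · intro x y
      exact ⟨_, hM₀c x y, rfl⟩
  have hYinv : ∀ α ∈ Γ, ∀ y ∈ Y, α y ∈ Y := by
    intro α hα y hy
    rw [hYmem] at hy ⊢
    have h1 : sq (α y) = sq y := by
      apply Subtype.ext
      show (α y) ^ 2 = y ^ 2
      rw [← map_pow, hfix α hα _ (hsq y)]
    rwa [h1]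
  have hYf : ¬ HasA Y := hmin Y hYtop hYinv
  have hYP : IsPGroup 2 Y := hP.to_subgroup Y
  -- `Z` has order at least four
  have hZ4 : 4 ≤ Nat.card Z := by
    have h1 := Subgroup.card_mul_index M₀
    rw [hM₀i] at h1
    have h2 : 1 < Nat.card M₀ := by
      have hKb : K ≠ ⊥ := by
        intro h
        apply hPc
        rw [eq_bot_iff]
        intro c hc
        have hcZ : c ∈ Z := hPle hc
        have h3 : (⟨c, hcZ⟩ : Z) ∈ K := by
          rw [hK, Subgroup.mem_subgroupOf]; exact hc
        rw [h, Subgroup.mem_bot] at h3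
        have := congrArg Subtype.val h3
        simpa using this
      have hM₀b : M₀ ≠ ⊥ := by
        intro h
        rw [h] at hKM
        exact hKb (le_bot_iff.mp hKM)
      haveI : Nontrivial M₀ := (Subgroup.nontrivial_iff_ne_bot _).mpr hM₀b
      exact Finite.one_lt_card
    omega
  have hZYc : Nat.card (Z.subgroupOf Y) = Nat.card Z :=
    Nat.card_congr (Subgroup.subgroupOfEquivOfLe hZY).toEquiv
  have hYc : IsMulCommutative Y := by
    by_contra hcn
    have h2 := card_center_eq_two hYP hYf hcn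
    have hle : Z.subgroupOf Y ≤ center Y := by
      intro a ha
      rw [Subgroup.mem_center_iff]
      intro g
      apply Subtype.ext
      exact (Subgroup.mem_center_iff.mp ha) (g : P)
    have h3 : Nat.card (Z.subgroupOf Y) ≤ Nat.card (center Y) := Subgroup.card_le_of_le hle
    omega
  have hYZ : Y ≤ Z := by
    rcases self_cyclic_or_four hYP hYf hYc with hcyc | h4
    · obtain ⟨g, hg⟩ := Cfsg.Agent.Lib.PGroup.CyclicMax.exists_zpowers_eq_of_isCyclic Y hcyc
      have hgY : g ∈ Y := by rw [← hg]; exact mem_zpowers g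
      by_cases hgZ : g ∈ Z
      · rw [← hg]; exact zpowers_le.mpr hgZ
      · exfalso
        apply hDne
        intro z hz
        have hzY : z ∈ zpowers g := by rw [hg]; exact hZY hz
        obtain ⟨i, hi⟩ := (mem_powers_iff_mem_zpowers.mpr hzY : z ∈ Submonoid.powers g)
        have hi' : g ^ i = z := hi
        rcases Nat.even_or_odd' i with ⟨l, rfl | rfl⟩
        · rw [← hi', pow_mul]
          have h1 : g ^ 2 ∈ D := ⟨_, (hYmem g).mp hgY, rfl⟩
          exact pow_mem h1 l
        · exfalso
          apply hgZ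
          obtain ⟨y0, hy0, hy0g⟩ := exists_root hP (B := Y) (c := 2 * l + 1) (by simp) hgY
          rw [← hg] at hy0
          obtain ⟨s, hs⟩ := (mem_powers_iff_mem_zpowers.mpr hy0 : y0 ∈ Submonoid.powers g)
          have hs' : g ^ s = y0 := hs
          have h2 : g = z ^ s := by
            rw [← hi', ← pow_mul, mul_comm, pow_mul, hs', hy0g]
          rw [h2]
          exact pow_mem hz s
    · have hZYeq : Z = Y := Subgroup.eq_of_le_of_card_ge hZY (by rw [h4]; exact hZ4)
      exact hZYeq.ge
  have hZeq : Z = Y := le_antisymm hZY hYZ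
  have hYi : Y.index ∣ 2 := by
    rw [hY, Subgroup.index_ker]
    have := Subgroup.card_subgroup_dvd_card q.range
    rwa [show Nat.card ℤˣ = 2 by simp] at this
  have h3 := Nat.le_of_dvd (by norm_num) hYi
  have h4 : Y.index ≠ 0 := Subgroup.FiniteIndex.index_ne_zero
  have h1 : Y.index ≠ 1 := fun h => hYtop (Subgroup.index_eq_one.mp h)
  have hi2 : Y.index = 2 := by omega
  exact hna (comm_of_index_two_le_center hi2 (hZeq ▸ le_rfl))

/-- **Main structure theorem.** -/
theorem main_structure [Finite P] (hP : IsPGroup 2 P) (Γ : Subgroup (MulAut P))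
    (hΓ : Odd (Nat.card Γ)) (hA : HasA P)
    (hmin : ∀ Y : Subgroup P, Y ≠ ⊤ → (∀ α ∈ Γ, ∀ y ∈ Y, α y ∈ Y) → ¬ HasA Y) :
    IsMulCommutative P ∨ (Cfsg.IsExtraspecial 2 P ∧ 32 ≤ Nat.card P) ∨
      (∃ M : Subgroup P, M.index = 2 ∧ Nonempty (M ≃* QuaternionGroup 2) ∧ M ⊔ center P = ⊤) ∨
      (Cfsg.IsSpecial 2 P ∧ Nat.card (center P) = 4) := by
  classical
  haveI : Fact (Nat.Prime 2) := ⟨Nat.prime_two⟩
  by_cases hna : IsMulCommutative P
  · exact Or.inl hna
  right
  have hodd : ∀ α ∈ Γ, Odd (orderOf α) := by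
    intro α hα
    exact Odd.of_dvd_nat hΓ (Subgroup.orderOf_dvd_natCard Γ hα)
  obtain ⟨A, hAc, hAnc, hA8⟩ := hA
  have hAtop : A ≠ ⊤ := by
    intro h
    apply hna
    refine ⟨⟨fun a b => ?_⟩⟩
    have := hAc.is_comm.comm (⟨a, h ▸ Subgroup.mem_top a⟩ : A) ⟨b, h ▸ Subgroup.mem_top b⟩
    exact congrArg Subtype.val this
  have hnt : ∃ α ∈ Γ, ∃ x, α x ≠ x := by
    by_contra hcon
    push Not at hcon
    apply hmin A hAtop
    · intro α hα y hy
      rw [hcon α hα y]; exact hy
    · exact hasA_of_le le_rfl hAc hAnc hA8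
  haveI : Nontrivial P := by
    by_contra hnt'
    rw [not_nontrivial_iff_subsingleton] at hnt'
    exact hna ⟨⟨fun a b => Subsingleton.elim _ _⟩⟩
  have hΦf : ¬ HasA (frattini P) :=
    hmin _ frattini_ne_top (fun α _ y hy => char_mem _ α hy)
  have hΦc : IsMulCommutative (frattini P) := comm_of_le_frattini hP le_rfl hΦf
  have hΦZ : frattini P ≤ center P := frattini_le_center hP Γ hodd hmin hna hnt hΦc
  have hsq : ∀ x : P, x ^ 2 ∈ center P := fun x => hΦZ (pow_mem_frattini hP x)
  have hcz : ∀ x y : P, ⁅x, y⁆ ∈ center P := fun x y => hΦZ (commutatorElement_mem_frattini hP x y)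
  have hPle : commutator P ≤ center P := by
    rw [commutator_def, Subgroup.commutator_le]
    intro a _ b _
    exact hcz a b
  have hPΦ : commutator P ≤ frattini P := commutator_le_frattini hP
  have hPc : commutator P ≠ ⊥ := by
    intro h
    apply hna
    refine ⟨⟨fun a b => ?_⟩⟩
    have h1 : ⁅a, b⁆ ∈ commutator P :=
      Subgroup.commutator_mem_commutator (Subgroup.mem_top a) (Subgroup.mem_top b)
    rw [h, Subgroup.mem_bot] at h1
    exact commutatorElement_eq_one_iff_mul_comm.mp h1
  have hZtop : center P ≠ ⊤ := by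
    intro h
    apply hna
    refine ⟨⟨fun a b => ?_⟩⟩
    have : a ∈ center P := h ▸ Subgroup.mem_top a
    exact ((Subgroup.mem_center_iff.mp this) b).symm
  have hZf : ¬ HasA (center P) := hmin _ hZtop (fun α _ y hy => char_mem _ α hy)
  have hZP : IsPGroup 2 (center P) := hP.to_subgroup _
  have hZc : IsMulCommutative (center P) := inferInstance
  have hPe : ∀ c ∈ commutator P, c ^ 2 = 1 := by
    intro c hc
    rw [commutator_eq_closure] at hc
    induction hc using Subgroup.closure_induction with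
    | mem x hx =>
      obtain ⟨a, b, rfl⟩ := hx
      rw [← Cfsg.Agent.Lib.PGroup.Extraspecial.comm_pow_left hcz a b 2]
      exact commutatorElement_eq_one_iff_commute.mpr
        (Subgroup.mem_center_iff.mp (hsq a) b).symm
    | one => simp
    | mul x y hx hy ihx ihy =>
      have hxZ : x ∈ center P := hPle (by rw [commutator_eq_closure]; exact hx)
      have : Commute x y := (Subgroup.mem_center_iff.mp hxZ y).symm
      rw [this.mul_pow, ihx, ihy, one_mul]
    | inv x hx ih => rw [inv_pow, ih, inv_one]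
  by_cases hPZ : commutator P = center P
  · -- the special cases
    have hΦ : frattini P = center P := le_antisymm hΦZ (hPZ ▸ hPΦ)
    have hspec : Cfsg.IsSpecial 2 P := ⟨hP, hΦ, hPZ⟩
    rcases self_cyclic_or_four hZP hZf hZc with hcyc | h4
    · left
      have h2 : Nat.card (center P) = 2 := by
        obtain ⟨g, hg⟩ := Cfsg.Agent.Lib.PGroup.CyclicMax.exists_zpowers_eq_of_isCyclic _ hcyc
        have hgZ : g ∈ center P := by rw [← hg]; exact mem_zpowers g
        have hg2 : g ^ 2 = 1 := hPe g (hPZ ▸ hgZ)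
        have hdvd : Nat.card (center P) ∣ 2 := by
          rw [← hg, Nat.card_zpowers]; exact orderOf_dvd_of_pow_eq_one hg2
        have h1 : Nat.card (center P) ≠ 1 := by
          intro h
          have hb : center P = ⊥ := Subgroup.eq_bot_of_card_eq _ h
          have : Nontrivial (center P) := hP.center_nontrivial
          exact ((Subgroup.nontrivial_iff_ne_bot _).mp this) hb
        have h3 := Nat.le_of_dvd (by norm_num) hdvd
        have h0 : 0 < Nat.card (center P) := Nat.card_pos
        omega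
      have hext : Cfsg.IsExtraspecial 2 P := ⟨hspec, h2⟩
      refine ⟨hext, ?_⟩
      obtain ⟨n, hn1, hn⟩ := Cfsg.Agent.Lib.PGroup.Extraspecial.IsExtraspecial.exists_card_eq hext
      have hn2 : 2 ≤ n := by
        by_contra hlt
        have hn' : n = 1 := by omega
        subst hn'
        have h8 : Nat.card P = 8 := by rw [hn]; norm_num
        apply hAtop
        apply Subgroup.eq_top_of_card_eq
        rw [hA8, h8]
      rw [hn]
      calc 32 = 2 ^ 5 := by norm_num
        _ ≤ 2 ^ (2 * n + 1) := Nat.pow_le_pow_right (by norm_num) (by omega)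
    · right; right
      exact ⟨hspec, h4⟩
  · -- `P'` is proper in `Z`
    have hfix : ∀ α ∈ Γ, ∀ z ∈ center P, α z = z := by
      intro α hα z hz
      by_cases hcyc : IsCyclic (center P)
      · exact fix_of_cyclic_odd hP α (hodd α hα) hcyc (fun c hc => char_mem _ α hc) z hz
      · have h4 := (self_cyclic_or_four hZP hZf hZc).resolve_left hcyc
        -- the commutator subgroup has index two in the centre
        have hKc : Nat.card ((commutator P).subgroupOf (center P)) = Nat.card (commutator P) :=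
          Nat.card_congr (Subgroup.subgroupOfEquivOfLe hPle).toEquiv
        have hdvd : Nat.card (commutator P) ∣ 4 := by
          rw [← h4]; exact Subgroup.card_dvd_of_le hPle
        have hne1 : Nat.card (commutator P) ≠ 1 := fun h => hPc (Subgroup.eq_bot_of_card_eq _ h)
        have hne4 : Nat.card (commutator P) ≠ 4 := by
          intro h
          exact hPZ (Subgroup.eq_of_le_of_card_ge hPle (by rw [h, h4]))
        have hc2 : Nat.card (commutator P) = 2 := by
          have h5 := Nat.le_of_dvd (by norm_num) hdvd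
          have h0 : 0 < Nat.card (commutator P) := Nat.card_pos
          have h6 : Nat.card (commutator P) ≠ 3 := by
            intro h; rw [h] at hdvd; omega
          omega
        have hKi : ((commutator P).subgroupOf (center P)).index = 2 := by
          have h1 := Subgroup.card_mul_index ((commutator P).subgroupOf (center P))
          rw [hKc, hc2, h4] at h1
          omega
        obtain ⟨⟨c, hcP⟩, hc1⟩ : ∃ c : commutator P, c ≠ 1 := by
          haveI : Nontrivial (commutator P) := (Subgroup.nontrivial_iff_ne_bot _).mpr hPc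
          exact exists_ne 1
        have hc1' : c ≠ 1 := fun h => hc1 (Subtype.ext h)
        have hPset : ∀ t ∈ commutator P, t = 1 ∨ t = c := by
          intro t ht
          by_contra hcon
          push Not at hcon
          have hsub : ({1, ⟨c, hcP⟩, ⟨t, ht⟩} : Finset (commutator P)).card = 3 := by
            rw [Finset.card_eq_three]
            refine ⟨1, ⟨c, hcP⟩, ⟨t, ht⟩, ?_, ?_, ?_, rfl⟩
            · intro h; exact hc1' (congrArg Subtype.val h).symm
            · intro h; exact hcon.1 (congrArg Subtype.val h).symm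
            · intro h; exact hcon.2 (congrArg Subtype.val h).symm
          haveI := Fintype.ofFinite (commutator P)
          have := Finset.card_le_univ ({1, ⟨c, hcP⟩, ⟨t, ht⟩} : Finset (commutator P))
          rw [hsub, ← Nat.card_eq_fintype_card, hc2] at this
          omega
        have hαc : α c = c := by
          have h1 : α c ∈ commutator P := char_mem _ α hcP
          rcases hPset _ h1 with h | h
          · exact absurd ((map_eq_one_iff α α.injective).mp h) hc1'
          · exact h
        by_cases hzP : z ∈ commutator P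
        · rcases hPset z hzP with rfl | rfl
          · simp
          · exact hαc
        · have hαzZ : α z ∈ center P := char_mem _ α hz
          have hαzP : α z ∉ commutator P := by
            intro h
            apply hzP
            have := char_mem (commutator P) α⁻¹ h
            simpa using this
          have h1 : (⟨z, hz⟩ : center P)⁻¹ * ⟨α z, hαzZ⟩ ∈ (commutator P).subgroupOf (center P) := by
            rw [Subgroup.mul_mem_iff_of_index_two hKi, inv_mem_iff]
            simp [Subgroup.mem_subgroupOf, hzP, hαzP]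
          have h2 : z⁻¹ * α z ∈ commutator P := by
            simpa [Subgroup.mem_subgroupOf] using h1
          apply fix_of_sq_fix α (hodd α hα)
          rcases hPset _ h2 with h | h
          · have : α z = z := by
              have h3 : α z = z * (z⁻¹ * α z) := by group
              rw [h3, h, mul_one]
            rw [this, this]
          · have h3 : α z = z * c := by
              have h4 : α z = z * (z⁻¹ * α z) := by group
              rw [h4, h]
            rw [h3, map_mul, h3, hαc, mul_assoc, ← pow_two, hPe c hcP, mul_one]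
    by_cases hΦ : frattini P = center P
    · exact absurd (no_case_frattini_eq_center hP Γ hmin hna hfix hsq hcz hΦ hPZ hPc hPle) id
    · right; left
      have hex : ∃ c₀ ∈ center P, c₀ ∉ frattini P := by
        by_contra hcon
        push Not at hcon
        exact hΦ (le_antisymm hΦZ hcon)
      obtain ⟨c₀, hc₀, hc₀Φ⟩ := hex
      exact quaternion_case hP Γ hΓ hodd hmin hna hnt hfix hsq hc₀ hc₀Φ

end Cfsg.Agent.Lib.PGroup.AFreeMain
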