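import Mathlib
import Cfsg.Agent.Lib.PGroup.Taussky

/-!
# Automorphism groups of 2-groups with a cyclic maximal subgroup
-/

set_option autoImplicit false

namespace Cfsg.Agent.Lib.PGroup.AutMaxClass

open Subgroup Cfsg.Agent.Lib.PGroup.Taussky

variable {X : Type*} [Group X]

/-- An odd prime cannot divide the order of the automorphism group, if a cyclic maximal subgroup
contains all the elements of the top order. -/
theorem aut_isPGroup_of_index_two [Finite X] (hX : IsPGroup 2 X) {u : X}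
    (hi : (zpowers u).index = 2) (hout : ∀ y, y ∉ zpowers u → orderOf y < orderOf u) :
    IsPGroup 2 (MulAut X) := by
  classical
  haveI : Fact (Nat.Prime 2) := ⟨Nat.prime_two⟩
  haveI := Fintype.ofFinite X
  haveI : Finite (MulAut X) := MulEquiv.finite_left
  have hA : ∀ τ : MulAut X, ∀ g ∈ zpowers u, τ g ∈ zpowers u := by
    intro τ g hg
    have hτu : τ u ∈ zpowers u := by
      by_contra hcon
      have := hout _ hcon
      rw [MulEquiv.orderOf_eq] at this
      exact lt_irrefl _ this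
    obtain ⟨i, rfl⟩ := hg
    show τ (u ^ i) ∈ zpowers u
    rw [map_zpow]
    exact zpow_mem hτu i
  have hB : ∀ τ : MulAut X, ∀ g, g ∉ zpowers u → τ g ∉ zpowers u := by
    intro τ g hg hc
    apply hg
    have := hA τ⁻¹ _ hc
    simpa using this
  have hA2 : ∀ τ : MulAut X, ∀ g ∈ zpowers (u ^ 2), τ g ∈ zpowers (u ^ 2) := by
    intro τ g hg
    obtain ⟨j, hj⟩ := hA τ u (mem_zpowers u)
    obtain ⟨i, rfl⟩ := hg
    show τ ((u ^ 2) ^ i) ∈ zpowers (u ^ 2)
    rw [map_zpow, map_pow]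
    apply zpow_mem
    have hj' : τ u = u ^ j := hj.symm
    have e : (u ^ j) ^ 2 = (u ^ 2) ^ j := by
      rw [← zpow_natCast (u ^ j), ← zpow_natCast u, ← zpow_mul, ← zpow_mul, mul_comm]
    rw [hj', e]
    exact zpow_mem (mem_zpowers _) j
  have hB2 : ∀ τ : MulAut X, ∀ g, g ∉ zpowers (u ^ 2) → τ g ∉ zpowers (u ^ 2) := by
    intro τ g hg hc
    apply hg
    have := hA2 τ⁻¹ _ hc
    simpa using this
  -- orders
  obtain ⟨k, hk⟩ := IsPGroup.iff_card.mp hX
  have hc1 := Subgroup.card_mul_index (zpowers u)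
  rw [hi, Nat.card_zpowers, hk] at hc1
  have hk0 : k ≠ 0 := by
    rintro rfl
    simp at hc1
  obtain ⟨m, rfl⟩ : ∃ m, k = m + 1 := ⟨k - 1, by omega⟩
  have hord : orderOf u = 2 ^ m := by
    rw [pow_succ] at hc1
    omega
  have hm : m ≠ 0 := by
    rintro rfl
    rw [pow_zero] at hord
    have hb : ∃ y, y ∉ zpowers u := by
      by_contra hcon
      push Not at hcon
      have : zpowers u = ⊤ := eq_top_iff.mpr fun y _ => hcon y
      rw [this, Subgroup.index_top] at hi
      omega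
    obtain ⟨y, hy⟩ := hb
    have := hout y hy
    rw [hord] at this
    have h2 : orderOf y ≠ 0 := (orderOf_pos y).ne'
    omega
  obtain ⟨l, rfl⟩ : ∃ l, m = l + 1 := ⟨m - 1, by omega⟩
  have hord2 : orderOf (u ^ 2) = 2 ^ l := by
    rw [orderOf_pow_of_dvd (by norm_num) (by rw [hord]; exact dvd_pow_self 2 (by omega)), hord, pow_succ]
    simp
  have hA2le : zpowers (u ^ 2) ≤ zpowers u := zpowers_le.mpr (pow_mem (mem_zpowers u) 2)
  -- fixing elements
  have hfix : ∀ τ : MulAut X, ∀ x y : X, x ∈ zpowers u → x ∉ zpowers (u ^ 2) → y ∉ zpowers u →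
      τ x = x → τ y = y → τ = 1 := by
    intro τ x y hx hx2 hy hτx hτy
    have hxgen : u ∈ zpowers x := by
      obtain ⟨i, hi'⟩ := hx
      have hi0 : x = u ^ i := hi'.symm
      have hiodd : ¬ Even i := by
        rintro ⟨j, hj⟩
        apply hx2
        rw [hi0, hj, ← two_mul, zpow_mul, zpow_two, ← pow_two]
        exact zpow_mem (mem_zpowers _) j
      have hodd : Odd i.natAbs := by
        rw [Int.natAbs_odd, ← Int.not_even_iff_odd]
        exact hiodd
      have h5 := MC.mem_zpowers_odd_pow hord hodd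
      rcases Int.natAbs_eq i with hh | hh
      · have : u ^ i.natAbs = x := by
          rw [hi0, ← zpow_natCast, ← hh]
        rwa [this] at h5
      · have : u ^ i.natAbs = x⁻¹ := by
          rw [hi0, ← zpow_natCast]
          nth_rewrite 2 [hh]
          rw [zpow_neg, inv_inv]
        rw [this] at h5
        rwa [Subgroup.zpowers_inv] at h5
    have hfixA : ∀ g ∈ zpowers u, τ g = g := by
      intro g hg
      have hg2 : g ∈ zpowers x := (zpowers_le.mpr hxgen) hg
      obtain ⟨i, rfl⟩ := hg2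
      show τ (x ^ i) = x ^ i
      rw [map_zpow, hτx]
    ext g
    by_cases hg : g ∈ zpowers u
    · exact hfixA g hg
    · have h1 : g * y⁻¹ ∈ zpowers u := by
        rw [Subgroup.mul_mem_iff_of_index_two hi, inv_mem_iff]
        exact iff_of_false hg hy
      have h2 := hfixA _ h1
      rw [map_mul, map_inv, hτy] at h2
      simpa using h2
  -- the set
  let FA : Finset X := (zpowers u : Set X).toFinset
  let FA2 : Finset X := (zpowers (u ^ 2) : Set X).toFinset
  let FB : Finset X := ((zpowers u : Set X)ᶜ).toFinset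
  have hFA : FA.card = 2 ^ (l + 1) := by
    rw [← hord, ← Nat.card_zpowers u, Nat.card_eq_fintype_card]
    exact Set.toFinset_card _
  have hFA2 : FA2.card = 2 ^ l := by
    rw [← hord2, ← Nat.card_zpowers (u ^ 2), Nat.card_eq_fintype_card]
    exact Set.toFinset_card _
  have hFB : FB.card = 2 ^ (l + 1) := by
    have h1 : FB = FAᶜ := by
      ext g
      simp [FB, FA]
    rw [h1, Finset.card_compl, hFA, ← Nat.card_eq_fintype_card, hk]
    have : 2 ^ (l + 1 + 1) = 2 ^ (l + 1) * 2 := pow_succ 2 (l + 1)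
    omega
  have hsub : FA2 ⊆ FA := by
    intro g hg
    simp only [FA, FA2, Set.mem_toFinset, SetLike.mem_coe] at hg ⊢
    exact hA2le hg
  have hFS : (FA \ FA2).card = 2 ^ l := by
    rw [Finset.card_sdiff_of_subset hsub, hFA, hFA2, pow_succ]
    omega
  let S : Finset (X × X) := (FA \ FA2) ×ˢ FB
  have hS : S.card = 2 ^ (l + (l + 1)) := by
    rw [Finset.card_product, hFS, hFB]
    exact (pow_add 2 l (l + 1)).symm
  have hmemS : ∀ p : X × X, p ∈ S ↔ (p.1 ∈ zpowers u ∧ p.1 ∉ zpowers (u ^ 2)) ∧ p.2 ∉ zpowers u := by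
    intro p
    simp [S, FA, FA2, FB]
  have hprime : ∀ q : ℕ, q.Prime → q ∣ Nat.card (MulAut X) → q = 2 := by
    intro q hq hdvd
    by_contra hq2
    haveI : Fact q.Prime := ⟨hq⟩
    obtain ⟨σ, hσ⟩ := exists_prime_orderOf_dvd_card' q hdvd
    have hmapS : ∀ τ : MulAut X, ∀ p : X × X, p ∈ S → (τ p.1, τ p.2) ∈ S := by
      intro τ p hp
      rw [hmemS] at hp ⊢
      exact ⟨⟨hA τ _ hp.1.1, hB2 τ _ hp.1.2⟩, hB τ _ hp.2⟩
    let f : Function.End S := fun p => ⟨(σ p.1.1, σ p.1.2), hmapS σ p.1 p.2⟩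
    have hfpow : ∀ n : ℕ, ∀ p : S, ((f ^ n) p : X × X) = ((σ ^ n) (p : X × X).1, (σ ^ n) (p : X × X).2) := by
      intro n
      induction n with
      | zero => intro p; rfl
      | succ n ih =>
        intro p
        have h0 : (f ^ (n + 1)) p = (f ^ n) (f p) := by
          rw [pow_succ]; rfl
        rw [h0, ih (f p), pow_succ]
        rfl
    have hf : f ^ q ^ 1 = 1 := by
      rw [pow_one]
      funext p
      apply Subtype.ext
      rw [hfpow, ← hσ, pow_orderOf_eq_one]
      rfl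
    have h1 := Equiv.Perm.card_fixedPoints_modEq hf
    have hfixed : Fintype.card (Function.fixedPoints f) = 0 := by
      rw [Fintype.card_eq_zero_iff]
      refine ⟨fun p => ?_⟩
      obtain ⟨p, hp⟩ := p
      have hp2 := hp
      rw [Function.mem_fixedPoints, Function.IsFixedPt] at hp2
      have hpS := (hmemS _).mp p.2
      have h3 : σ (p : X × X).1 = (p : X × X).1 := congrArg (fun w : S => (w : X × X).1) hp2
      have h4 : σ (p : X × X).2 = (p : X × X).2 := congrArg (fun w : S => (w : X × X).2) hp2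
      have hσ1 := hfix σ _ _ hpS.1.1 hpS.1.2 hpS.2 h3 h4
      rw [hσ1, orderOf_one] at hσ
      exact hq.one_lt.ne hσ
    rw [hfixed, Fintype.card_coe, hS] at h1
    have h2 : q ∣ 2 ^ (l + (l + 1)) := (Nat.modEq_zero_iff_dvd).mp h1
    have h3 : q ∣ 2 := hq.dvd_of_dvd_pow h2
    exact hq2 ((Nat.prime_dvd_prime_iff_eq hq Nat.prime_two).mp h3)
  rw [IsPGroup.iff_card]
  exact ⟨_, Nat.eq_prime_pow_of_unique_prime_dvd Nat.card_pos.ne' (fun {d} hd h => hprime d hd h)⟩

/-- Squares of elements outside the cyclic maximal subgroup, inverting case. -/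
theorem sq_of_inv {x y g : X} (hyx : y * x * y⁻¹ = x⁻¹) (hg : g * y⁻¹ ∈ zpowers x) :
    g ^ 2 = y ^ 2 := by
  obtain ⟨i, hi⟩ := hg
  have hgy : g = x ^ i * y := by
    have : x ^ i = g * y⁻¹ := hi
    rw [this]; group
  have hconj : y * x ^ i * y⁻¹ = (x ^ i)⁻¹ := by
    rw [← conj_zpow, hyx, inv_zpow]
  rw [hgy, pow_two, pow_two]
  calc x ^ i * y * (x ^ i * y) = x ^ i * (y * x ^ i * y⁻¹) * (y * y) := by group
    _ = y * y := by rw [hconj]; group

/-- Elements outside the cyclic maximal subgroup, semidihedral case: they have order at most 4. -/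
theorem pow_four_of_sd {x y g : X} {n : ℕ} (hn : 3 ≤ n) (hx : orderOf x = 2 ^ n) (hy2 : y ^ 2 = 1)
    (hyx : y * x * y⁻¹ = x ^ (2 ^ (n - 1) - 1)) (hg : g * y⁻¹ ∈ zpowers x) : g ^ 4 = 1 := by
  obtain ⟨i, hi⟩ := hg
  have hgy : g = x ^ i * y := by
    have : x ^ i = g * y⁻¹ := hi
    rw [this]; group
  have hconj : y * x ^ i * y⁻¹ = (x ^ (2 ^ (n - 1) - 1)) ^ i := by
    rw [← conj_zpow, hyx]
  have hpos : 1 ≤ 2 ^ (n - 1) := Nat.one_le_two_pow
  have hsq : g ^ 2 = x ^ (i * (2 ^ (n - 1) : ℕ)) := by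
    rw [hgy, pow_two]
    have h1 : x ^ i * y * (x ^ i * y) = x ^ i * (y * x ^ i * y⁻¹) * (y * y) := by group
    rw [h1, hconj, ← pow_two y, hy2, mul_one, ← zpow_natCast x, ← zpow_mul, ← zpow_add]
    congr 1
    have : ((2 ^ (n - 1) - 1 : ℕ) : ℤ) = ((2 ^ (n - 1) : ℕ) : ℤ) - 1 := by
      rw [Nat.cast_sub hpos]; simp
    rw [this]
    ring
  have h4 : g ^ 4 = (g ^ 2) ^ 2 := by rw [← pow_mul]
  rw [h4, hsq, ← zpow_natCast (x ^ _), ← zpow_mul]
  have e : i * ((2 ^ (n - 1) : ℕ) : ℤ) * ((2 : ℕ) : ℤ) = i * ((2 ^ n : ℕ) : ℤ) := by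
    have : (2 ^ n : ℕ) = 2 ^ (n - 1) * 2 := by
      rw [← pow_succ]; congr 1; omega
    rw [this]; push_cast; ring
  rw [e, mul_comm, zpow_mul, zpow_natCast, ← hx, pow_orderOf_eq_one, one_zpow]

/-- The automorphism group of a maximal class 2-group other than `Q₈` is a 2-group. -/
theorem MC.aut_isPGroup [Finite X] {m : ℕ} {u b : X} (h : MC m u b) (hQ : m = 2 → b ^ 2 = 1) :
    IsPGroup 2 (MulAut X) := by
  have hm := h.hm
  have hi := h.index_two
  have hord := h.sc.hu
  apply aut_isPGroup_of_index_two h.isPGroup hi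
  intro g hg
  have hgb : g * b⁻¹ ∈ zpowers u := by
    rw [Subgroup.mul_mem_iff_of_index_two hi, inv_mem_iff]
    exact iff_of_false hg h.hb
  have hm8 : 3 ≤ m → 8 ≤ 2 ^ m := fun h3 => by
    calc 8 = 2 ^ 3 := by norm_num
      _ ≤ 2 ^ m := Nat.pow_le_pow_right (by norm_num) h3
  have h4m : 4 ≤ 2 ^ m := by
    calc 4 = 2 ^ 2 := by norm_num
      _ ≤ 2 ^ m := Nat.pow_le_pow_right (by norm_num) hm
  rw [hord]
  rcases h.hform with ⟨hbu, hb2⟩ | ⟨hm3, hbu, hb2⟩
  · have h2 := sq_of_inv hbu hgb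
    by_cases hm3 : 3 ≤ m
    · have hz : (u ^ 2 ^ (m - 1)) ^ 2 = 1 := by
        rw [← pow_mul, ← pow_succ, show m - 1 + 1 = m by omega, ← hord, pow_orderOf_eq_one]
      have h4 : g ^ 4 = 1 := by
        have e : g ^ 4 = (g ^ 2) ^ 2 := by rw [← pow_mul]
        rw [e, h2]
        rcases hb2 with hb2 | hb2
        · rw [hb2, one_pow]
        · rw [hb2, hz]
      have := orderOf_le_of_pow_eq_one (by norm_num) h4
      have := hm8 hm3
      omega
    · have hm2 : m = 2 := by omega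
      have h2' : g ^ 2 = 1 := by rw [h2, hQ hm2]
      have := orderOf_le_of_pow_eq_one (by norm_num) h2'
      omega
  · have h4 := pow_four_of_sd hm3 hord hb2 hbu hgb
    have := orderOf_le_of_pow_eq_one (by norm_num) h4
    have := hm8 hm3
    omega

end Cfsg.Agent.Lib.PGroup.AutMaxClass
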