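import Mathlib

/-! Hall collection formula in class at most three. -/

set_option autoImplicit false
open scoped commutatorElement

namespace Cfsg.Agent.Lib.PGroup.ClassThree

variable {R : Type*} [Group R]

section Collect

variable {x y c d e : R}

lemma cpow_x (hd : ∀ z, d * z = z * d) (hcx : c * x = d * x * c) (k : ℕ) :
    c ^ k * x = d ^ k * x * c ^ k := by
  induction k with
  | zero => simp
  | succ k ih =>
    have hdk : ∀ z, d ^ k * z = z * d ^ k := fun z =>
      (Commute.pow_left (show Commute d z from hd z) k).eq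
    calc c ^ (k + 1) * x = c * (c ^ k * x) := by rw [pow_succ', mul_assoc]
      _ = c * (d ^ k * x * c ^ k) := by rw [ih]
      _ = (c * d ^ k) * x * c ^ k := by simp only [mul_assoc]
      _ = (d ^ k * c) * x * c ^ k := by rw [hdk c]
      _ = d ^ k * (c * x) * c ^ k := by simp only [mul_assoc]
      _ = d ^ k * (d * x * c) * c ^ k := by rw [hcx]
      _ = d ^ (k + 1) * x * c ^ (k + 1) := by
          rw [pow_succ, pow_succ']; simp only [mul_assoc]

lemma cpow_ypow (he : ∀ z, e * z = z * e) (hcy : c * y = e * y * c) (a b : ℕ) :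
    c ^ a * y ^ b = e ^ (a * b) * y ^ b * c ^ a := by
  have h1 : ∀ k : ℕ, c ^ k * y = e ^ k * y * c ^ k := fun k => cpow_x he hcy k
  have hek : ∀ (k : ℕ) (z : R), e ^ k * z = z * e ^ k := fun k z =>
    (Commute.pow_left (show Commute e z from he z) k).eq
  induction b with
  | zero => simp
  | succ b ih =>
    calc c ^ a * y ^ (b + 1) = (c ^ a * y ^ b) * y := by rw [pow_succ, mul_assoc]
      _ = e ^ (a * b) * y ^ b * (c ^ a * y) := by rw [ih]; simp only [mul_assoc]
      _ = e ^ (a * b) * y ^ b * (e ^ a * y * c ^ a) := by rw [h1]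
      _ = e ^ (a * (b + 1)) * y ^ (b + 1) * c ^ a := by
          rw [mul_add, mul_one, pow_add, pow_succ y b]
          rw [mul_assoc (e ^ (a * b)) (y ^ b) (e ^ a * y * c ^ a)]
          rw [← mul_assoc (y ^ b) (e ^ a * y) (c ^ a), ← mul_assoc (y ^ b) (e ^ a) y,
            ← hek a (y ^ b)]
          simp only [mul_assoc]

/-- `e^C(n,2) y^n x = c^n x y^n`. -/
lemma ypow_x (he : ∀ z, e * z = z * e) (hyx : y * x = c * x * y) (hcy : c * y = e * y * c)
    (n : ℕ) : e ^ (n.choose 2) * y ^ n * x = c ^ n * x * y ^ n := by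
  have h1 : ∀ k : ℕ, c ^ k * y = e ^ k * y * c ^ k := fun k => cpow_x he hcy k
  have hek : ∀ (k : ℕ) (z : R), e ^ k * z = z * e ^ k := fun k z =>
    (Commute.pow_left (show Commute e z from he z) k).eq
  induction n with
  | zero => simp
  | succ n ih =>
    have hch : (n + 1).choose 2 = n + n.choose 2 := by
      rw [Nat.choose_succ_succ' n 1, Nat.choose_one_right]
    calc e ^ ((n + 1).choose 2) * y ^ (n + 1) * x
        = e ^ n * y * (e ^ (n.choose 2) * y ^ n * x) := by
          rw [hch, pow_add, pow_succ' y n]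
          rw [show e ^ n * e ^ n.choose 2 * (y * y ^ n) * x
              = e ^ n * (e ^ n.choose 2 * y) * y ^ n * x by simp only [mul_assoc]]
          rw [hek (n.choose 2) y]; simp only [mul_assoc]
      _ = e ^ n * y * (c ^ n * x * y ^ n) := by rw [ih]
      _ = (e ^ n * y * c ^ n) * x * y ^ n := by simp only [mul_assoc]
      _ = (c ^ n * y) * x * y ^ n := by rw [h1]
      _ = c ^ n * (y * x) * y ^ n := by simp only [mul_assoc]
      _ = c ^ n * (c * x * y) * y ^ n := by rw [hyx]
      _ = c ^ (n + 1) * x * y ^ (n + 1) := by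
          rw [pow_succ c n, pow_succ' y n]; simp only [mul_assoc]

/-- The Hall collection formula in class three, in terms of its raw relations. -/
theorem collect (hd : ∀ z, d * z = z * d) (he : ∀ z, e * z = z * e)
    (hyx : y * x = c * x * y) (hcx : c * x = d * x * c) (hcy : c * y = e * y * c) (n : ℕ) :
    (x * y) ^ n = x ^ n * y ^ n * c ^ (n.choose 2) * d ^ ((n + 1).choose 3)
      * e ^ (2 * (n + 1).choose 3) := by
  have hdk : ∀ (k : ℕ) (z : R), d ^ k * z = z * d ^ k := fun k z =>
    (Commute.pow_left (show Commute d z from hd z) k).eq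
  have hek : ∀ (k : ℕ) (z : R), e ^ k * z = z * e ^ k := fun k z =>
    (Commute.pow_left (show Commute e z from he z) k).eq
  have hcxk := cpow_x hd hcx
  have hcyk := cpow_ypow he hcy
  have hyxk := ypow_x he hyx hcy
  induction n with
  | zero => simp [Nat.choose]
  | succ n ih =>
    set A := n.choose 2 with hA
    set B := (n + 1).choose 3 with hB
    set D := 2 * (n + 1).choose 3 with hD
    have hA' : (n + 1).choose 2 = n + A := by
      rw [hA, Nat.choose_succ_succ' n 1, Nat.choose_one_right]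
    have hB' : (n + 1 + 1).choose 3 = B + n + A := by
      rw [hB, Nat.choose_succ_succ' (n + 1) 2, hA']; ring
    have hD' : 2 * (n + 1 + 1).choose 3 = D + (n * n + n) := by
      have h2A : 2 * A = n * n - n := by
        rw [hA, Nat.choose_two_right]
        have : 2 ∣ n * (n - 1) := by
          rcases Nat.even_or_odd n with h | h
          · exact Dvd.dvd.mul_right h.two_dvd _
          · rcases n with _ | n
            · simp
            · simp only [Nat.add_sub_cancel]
              have : Even n := by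
                rcases h with ⟨k, hk⟩; exact ⟨k, by omega⟩
              exact Dvd.dvd.mul_left this.two_dvd _
        rw [Nat.mul_div_cancel' this]
        rw [Nat.mul_sub, mul_one]
      have hle : n ≤ n * n := Nat.le_mul_self n
      rw [hB', hD]
      omega
    -- the key computation, multiplied on the left by `e ^ A`
    have key : e ^ A * (x * y) ^ (n + 1)
        = e ^ A * (x ^ (n + 1) * y ^ (n + 1) * c ^ (n + A) * d ^ (B + n + A)
            * e ^ (D + (n * n + n))) := by
      have step1 : (x * y) ^ (n + 1)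
          = d ^ (B + A) * e ^ D * (x ^ n * (y ^ n * x) * (c ^ A * y)) := by
        rw [pow_succ, ih]
        have : x ^ n * y ^ n * c ^ A * d ^ B * e ^ D * (x * y)
            = (x ^ n * y ^ n * (d ^ B * e ^ D)) * (c ^ A * x) * y := by
          have h1 : c ^ A * d ^ B = d ^ B * c ^ A := (hdk B _).symm
          have h2 : c ^ A * e ^ D = e ^ D * c ^ A := (hek D _).symm
          calc x ^ n * y ^ n * c ^ A * d ^ B * e ^ D * (x * y)
              = x ^ n * y ^ n * (c ^ A * d ^ B) * e ^ D * (x * y) := by simp only [mul_assoc]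
            _ = x ^ n * y ^ n * (d ^ B * (c ^ A * e ^ D)) * (x * y) := by
                rw [h1]; simp only [mul_assoc]
            _ = _ := by rw [h2]; simp only [mul_assoc]
        rw [this, hcxk A]
        have h3 : ∀ z : R, d ^ (B + A) * e ^ D * z = d ^ B * e ^ D * (d ^ A * z) := by
          intro z
          rw [pow_add]
          simp only [mul_assoc]
          rw [← mul_assoc (d ^ A) (e ^ D), hdk A (e ^ D)]
          simp only [mul_assoc]
        rw [h3]
        -- move the central factors to the front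
        have h4 : ∀ z : R, (d ^ B * e ^ D) * z = z * (d ^ B * e ^ D) := by
          intro z
          rw [mul_assoc, hek D z, ← mul_assoc, hdk B z, mul_assoc]
        rw [show x ^ n * y ^ n * (d ^ B * e ^ D) * (d ^ A * x * c ^ A) * y
            = (x ^ n * y ^ n) * (d ^ B * e ^ D) * (d ^ A * (x * c ^ A * y)) by
              simp only [mul_assoc]]
        rw [← h4, mul_assoc (d ^ B * e ^ D), ← mul_assoc (x ^ n * y ^ n) (d ^ A), ← hdk A]
        simp only [mul_assoc]
      rw [step1]
      have hcomm : ∀ (k l : ℕ) (z : R), d ^ k * e ^ l * z = z * (d ^ k * e ^ l) := by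
        intro k l z
        rw [mul_assoc, hek l z, ← mul_assoc, hdk k z, mul_assoc]
      -- now push `e^A` into `y^n x`
      have step2 : e ^ A * (d ^ (B + A) * e ^ D * (x ^ n * (y ^ n * x) * (c ^ A * y)))
          = d ^ (B + A) * e ^ D * (x ^ n * (c ^ n * x * y ^ n) * (c ^ A * y)) := by
        rw [← hyxk n]
        have : e ^ A * (d ^ (B + A) * e ^ D * (x ^ n * (y ^ n * x) * (c ^ A * y)))
            = d ^ (B + A) * e ^ D * (e ^ A * (x ^ n * (y ^ n * x) * (c ^ A * y))) := by
          rw [← mul_assoc (e ^ A), hek A (d ^ (B + A) * e ^ D), mul_assoc]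
        rw [this]
        congr 1
        rw [hA]
        rw [← mul_assoc (e ^ n.choose 2), ← mul_assoc (e ^ n.choose 2), hek]
        simp only [mul_assoc]
      rw [step2]
      -- `c^n x = d^n x c^n`
      have step3 : x ^ n * (c ^ n * x * y ^ n) * (c ^ A * y)
          = d ^ n * (x ^ (n + 1) * (c ^ n * y ^ n) * (c ^ A * y)) := by
        rw [hcxk n]
        rw [show x ^ n * (d ^ n * x * c ^ n * y ^ n) * (c ^ A * y)
            = (x ^ n * d ^ n) * (x * c ^ n * y ^ n) * (c ^ A * y) by simp only [mul_assoc]]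
        rw [← hdk n (x ^ n), pow_succ x n]
        simp only [mul_assoc]
      rw [step3]
      have step4 : c ^ n * y ^ n = e ^ (n * n) * (y ^ n * c ^ n) := by
        rw [hcyk n n]; simp only [mul_assoc]
      have step5 : c ^ n * (c ^ A * y) = e ^ (n + A) * (y * c ^ (n + A)) := by
        rw [← mul_assoc, ← pow_add]
        have := hcyk (n + A) 1
        simp only [pow_one, mul_one] at this
        rw [this, mul_assoc]
      rw [step4]
      -- final normal form
      have hfinal : x ^ (n + 1) * (e ^ (n * n) * (y ^ n * c ^ n)) * (c ^ A * y)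
          = e ^ (n * n) * e ^ (n + A) * (x ^ (n + 1) * y ^ (n + 1) * c ^ (n + A)) := by
        rw [mul_assoc (x ^ (n + 1))]
        rw [mul_assoc (e ^ (n * n))]
        rw [mul_assoc (y ^ n)]
        rw [step5]
        rw [show y ^ n * (e ^ (n + A) * (y * c ^ (n + A)))
            = (y ^ n * e ^ (n + A)) * (y * c ^ (n + A)) by simp only [mul_assoc]]
        rw [← hek (n + A) (y ^ n)]
        rw [show x ^ (n + 1) * (e ^ (n * n) * (e ^ (n + A) * y ^ n * (y * c ^ (n + A))))
            = (x ^ (n + 1) * e ^ (n * n)) * (e ^ (n + A) * (y ^ n * (y * c ^ (n + A)))) by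
              simp only [mul_assoc]]
        rw [← hek (n * n) (x ^ (n + 1))]
        rw [show e ^ (n * n) * x ^ (n + 1) * (e ^ (n + A) * (y ^ n * (y * c ^ (n + A))))
            = e ^ (n * n) * ((x ^ (n + 1) * e ^ (n + A)) * (y ^ n * (y * c ^ (n + A)))) by
              simp only [mul_assoc]]
        rw [← hek (n + A) (x ^ (n + 1)), pow_succ y n]
        simp only [mul_assoc]
      rw [hfinal]
      -- collect the central part
      have hgoal : ∀ z : R, d ^ (B + A) * e ^ D * (d ^ n * (e ^ (n * n) * e ^ (n + A) * z))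
          = e ^ A * (z * d ^ (B + n + A) * e ^ (D + (n * n + n))) := by
        intro z
        have hcen : ∀ (k l : ℕ) (w : R), d ^ k * (e ^ l * w) = e ^ l * (d ^ k * w) := by
          intro k l w
          rw [← mul_assoc, hdk k (e ^ l), mul_assoc]
        have lhs : d ^ (B + A) * e ^ D * (d ^ n * (e ^ (n * n) * e ^ (n + A) * z))
            = e ^ (D + (n * n + (n + A))) * (d ^ (B + n + A) * z) := by
          rw [show B + n + A = (B + A) + n by omega, pow_add d (B + A) n]
          rw [show D + (n * n + (n + A)) = D + n * n + (n + A) by omega]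
          rw [pow_add e (D + n * n) (n + A), pow_add e D (n * n)]
          simp only [mul_assoc]
          rw [hcen (B + A) D, hcen n (n * n), hcen n (n + A)]
          rw [hcen (B + A) (n * n), hcen (B + A) (n + A)]
        have rhs : e ^ A * (z * d ^ (B + n + A) * e ^ (D + (n * n + n)))
            = e ^ (D + (n * n + (n + A))) * (d ^ (B + n + A) * z) := by
          rw [mul_assoc z, ← hcomm]
          rw [show D + (n * n + (n + A)) = A + (D + (n * n + n)) by omega, pow_add e A]
          simp only [mul_assoc]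
          rw [hcen]
        rw [lhs, rhs]
      rw [hgoal]
    have := mul_left_cancel key
    rw [this, hA', hD', hB']

end Collect



section Class

/-- Class at most three: triple commutators are central. -/
lemma triple_central (hcl : ⁅⁅commutator R, (⊤ : Subgroup R)⁆, (⊤ : Subgroup R)⁆ = ⊥)
    (a b z w : R) : ⁅⁅a, b⁆, z⁆ * w = w * ⁅⁅a, b⁆, z⁆ := by
  have h1 : ⁅a, b⁆ ∈ commutator R := by
    rw [commutator_def]; exact Subgroup.commutator_mem_commutator (Subgroup.mem_top _) (Subgroup.mem_top _)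
  have h2 : ⁅⁅a, b⁆, z⁆ ∈ ⁅commutator R, (⊤ : Subgroup R)⁆ :=
    Subgroup.commutator_mem_commutator h1 (Subgroup.mem_top _)
  have h3 : ⁅⁅⁅a, b⁆, z⁆, w⁆ ∈ ⁅⁅commutator R, (⊤ : Subgroup R)⁆, (⊤ : Subgroup R)⁆ :=
    Subgroup.commutator_mem_commutator h2 (Subgroup.mem_top _)
  rw [hcl, Subgroup.mem_bot] at h3
  exact commutatorElement_eq_one_iff_mul_comm.mp h3

lemma rel_yx (x y : R) : y * x = ⁅y, x⁆ * x * y := by
  simp [commutatorElement_def]

lemma rel_cx (c x : R) : c * x = ⁅c, x⁆ * x * c := by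
  simp [commutatorElement_def]

/-- The collection formula for a group of class at most three. -/
theorem collect_class_three (hcl : ⁅⁅commutator R, (⊤ : Subgroup R)⁆, (⊤ : Subgroup R)⁆ = ⊥)
    (x y : R) (n : ℕ) :
    (x * y) ^ n = x ^ n * y ^ n * ⁅y, x⁆ ^ (n.choose 2) * ⁅⁅y, x⁆, x⁆ ^ ((n + 1).choose 3)
      * ⁅⁅y, x⁆, y⁆ ^ (2 * (n + 1).choose 3) :=
  collect (fun z => triple_central hcl _ _ _ _) (fun z => triple_central hcl _ _ _ _)
    (rel_yx x y) (rel_cx _ x) (rel_cx _ y) n

/-- Exponent data: in class at most three, if `x^p = y^p = 1` then `[y,x]^p = 1`, `[[y,x],x]^p = 1`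
and `[[y,x],y]^p = 1` (when `p ≠ 2`). -/
lemma comm_pow_eq_one (hcl : ⁅⁅commutator R, (⊤ : Subgroup R)⁆, (⊤ : Subgroup R)⁆ = ⊥)
    {p : ℕ} (hp : p.Prime) (hp2 : p ≠ 2) {x y : R} (hx : x ^ p = 1) (hy : y ^ p = 1) :
    ⁅y, x⁆ ^ p = 1 ∧ ⁅⁅y, x⁆, x⁆ ^ p = 1 ∧ ⁅⁅y, x⁆, y⁆ ^ p = 1 := by
  set c := ⁅y, x⁆ with hc
  set d := ⁅c, x⁆ with hd
  set e := ⁅c, y⁆ with he
  have hd' : ∀ z, d * z = z * d := fun z => triple_central hcl _ _ _ _
  have he' : ∀ z, e * z = z * e := fun z => triple_central hcl _ _ _ _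
  have hdp : d ^ p = 1 := by
    have := cpow_ypow (c := c) (y := x) hd' (rel_cx c x) 1 p
    simp only [pow_one, one_mul, hx, mul_one] at this
    exact (mul_eq_right.mp this.symm)
  have hep : e ^ p = 1 := by
    have := cpow_ypow (c := c) (y := y) he' (rel_cx c y) 1 p
    simp only [pow_one, one_mul, hy, mul_one] at this
    exact (mul_eq_right.mp this.symm)
  have hp2lt : 2 < p := lt_of_le_of_ne hp.two_le (Ne.symm hp2)
  have hdvd : p ∣ p.choose 2 := hp.dvd_choose_self (by norm_num) hp2lt
  refine ⟨?_, hdp, hep⟩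
  have h := ypow_x (e := e) (c := c) (x := x) (y := y) he' (rel_yx x y) (rel_cx c y) p
  rw [hy] at h
  simp only [mul_one] at h
  have h2 : e ^ p.choose 2 = c ^ p := mul_right_cancel h
  rw [← h2]
  obtain ⟨k, hk⟩ := hdvd
  rw [hk, pow_mul, hep, one_pow]

/-- Power map on a pair whose commutators have exponent `p`. -/
lemma mul_pow_eq_of_comm (hcl : ⁅⁅commutator R, (⊤ : Subgroup R)⁆, (⊤ : Subgroup R)⁆ = ⊥)
    {p : ℕ} (hp : p.Prime) (hp2 : p ≠ 2) (x y : R)
    (h3 : 3 < p ∨ (⁅⁅y, x⁆, x⁆ = 1 ∧ ⁅⁅y, x⁆, y⁆ = 1))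
    (hc : ⁅y, x⁆ ^ p = 1) (hd : ⁅⁅y, x⁆, x⁆ ^ p = 1) (he : ⁅⁅y, x⁆, y⁆ ^ p = 1) :
    (x * y) ^ p = x ^ p * y ^ p := by
  rw [collect_class_three hcl]
  have hp2lt : 2 < p := lt_of_le_of_ne hp.two_le (Ne.symm hp2)
  have h2 : p ∣ p.choose 2 := hp.dvd_choose_self (by norm_num) hp2lt
  obtain ⟨k, hk⟩ := h2
  have hcc : ⁅y, x⁆ ^ p.choose 2 = 1 := by rw [hk, pow_mul, hc, one_pow]
  rw [hcc, mul_one]
  rcases h3 with h3 | ⟨hd1, he1⟩
  · have h33 : p ∣ (p + 1).choose 3 := by
      rw [Nat.choose_succ_succ' p 2]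
      exact dvd_add ⟨k, hk⟩ (hp.dvd_choose_self (by norm_num) h3)
    obtain ⟨l, hl⟩ := h33
    have hdd : ⁅⁅y, x⁆, x⁆ ^ (p + 1).choose 3 = 1 := by rw [hl, pow_mul, hd, one_pow]
    have hee : ⁅⁅y, x⁆, y⁆ ^ (2 * (p + 1).choose 3) = 1 := by
      rw [hl, show 2 * (p * l) = p * (2 * l) by ring, pow_mul, he, one_pow]
    rw [hdd, hee, mul_one, mul_one]
  · rw [hd1, he1, one_pow, one_pow, mul_one, mul_one]

/-- If `x^p = y^p = 1` in class at most three with `p > 3` or class at most two and `p` odd, then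
`(xy)^p = 1`. -/
lemma mul_pow_eq_one (hcl : ⁅⁅commutator R, (⊤ : Subgroup R)⁆, (⊤ : Subgroup R)⁆ = ⊥)
    {p : ℕ} (hp : p.Prime) (hp2 : p ≠ 2) (h3 : 3 < p ∨ ⁅commutator R, (⊤ : Subgroup R)⁆ = ⊥)
    {x y : R} (hx : x ^ p = 1) (hy : y ^ p = 1) : (x * y) ^ p = 1 := by
  obtain ⟨hc, hd, he⟩ := comm_pow_eq_one hcl hp hp2 hx hy
  rw [mul_pow_eq_of_comm hcl hp hp2 x y ?_ hc hd he, hx, hy, one_mul]
  rcases h3 with h3 | h3
  · exact Or.inl h3
  · right
    have h1 : ⁅y, x⁆ ∈ commutator R := by
      rw [commutator_def]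
      exact Subgroup.commutator_mem_commutator (Subgroup.mem_top _) (Subgroup.mem_top _)
    have h2 : ∀ z : R, ⁅⁅y, x⁆, z⁆ = 1 := fun z => by
      have := Subgroup.commutator_mem_commutator h1 (Subgroup.mem_top z)
      rwa [h3, Subgroup.mem_bot] at this
    exact ⟨h2 x, h2 y⟩

/-- In class at most three (`p > 3`), or class at most two (`p` odd), the elements of order dividing
`p` generate a subgroup of exponent dividing `p`. -/
theorem closure_pow_eq_one (hcl : ⁅⁅commutator R, (⊤ : Subgroup R)⁆, (⊤ : Subgroup R)⁆ = ⊥)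
    {p : ℕ} (hp : p.Prime) (hp2 : p ≠ 2) (h3 : 3 < p ∨ ⁅commutator R, (⊤ : Subgroup R)⁆ = ⊥)
    {g : R} (hg : g ∈ Subgroup.closure {x : R | x ^ p = 1}) : g ^ p = 1 := by
  induction hg using Subgroup.closure_induction with
  | mem x hx => exact hx
  | one => exact one_pow _
  | mul x y _ _ hx hy => exact mul_pow_eq_one hcl hp hp2 h3 hx hy
  | inv x _ hx => rw [inv_pow, hx, inv_one]

end Class

end Cfsg.Agent.Lib.PGroup.ClassThree
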