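import Cfsg.Prelude.Def_DStar
import Cfsg.Agent.Lib.PGroup.Basic
import Cfsg.Agent.Lib.PGroup.Timmesfeld
import Cfsg.Agent.Lib.PGroup.ZJ

/-!
# Glauberman's subgroup `D*(S)`

Members of the family centralize all normal abelian subgroups; `D*(S)` belongs to the family,
lies in `Z(J(S))` and in every maximal normal abelian subgroup; the `D*`-theorem.
-/

set_option autoImplicit false
open Cfsg
open Subgroup
open scoped commutatorElement

namespace Cfsg.Agent.Lib.PGroup.DStar

variable {G : Type*} [Group G]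

/-- Elementwise form of "`⟨F, x⟩` has class at most two". -/
def Cl2 (F : Subgroup G) (x : G) : Prop :=
  (∀ a ∈ F, ∀ b ∈ F, ⁅a, x⁆ * b = b * ⁅a, x⁆) ∧ ∀ a ∈ F, ⁅a, x⁆ * x = x * ⁅a, x⁆

theorem commute_of_comm_eq_one {a b : G} (h : ⁅a, b⁆ = 1) : a * b = b * a := by
  exact commutatorElement_eq_one_iff_mul_comm.mp h

theorem class_two_of_cl2 {F : Subgroup G} {x : G} (hF : ∀ a ∈ F, ∀ b ∈ F, a * b = b * a)
    (h : Cl2 F x) : ⁅⁅F ⊔ zpowers x, F ⊔ zpowers x⁆, F ⊔ zpowers x⁆ = ⊥ := by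
  set H := F ⊔ zpowers x with hH
  have hHc : H = closure ((F : Set G) ∪ {x}) := by
    rw [hH, Subgroup.closure_union, closure_eq, zpowers_eq_closure]
  -- central elements of H
  have hcen : ∀ c : G, (∀ b ∈ F, c * b = b * c) → c * x = x * c → c ∈ centralizer (H : Set G) := by
    intro c h1 h2
    rw [mem_centralizer_iff]
    have : H ≤ centralizer ({c} : Set G) := by
      refine sup_le (fun y hy => ?_) ?_
      · rw [mem_centralizer_singleton_iff]; exact (h1 y hy).symm
      · rw [zpowers_le, mem_centralizer_singleton_iff]; exact h2.symm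
    intro y hy
    have := this hy
    rw [mem_centralizer_singleton_iff] at this
    exact this
  have hconj : ∀ c ∈ centralizer (H : Set G), ∀ y ∈ H, y * c * y⁻¹ = c := by
    intro c hc y hy
    rw [mem_centralizer_iff] at hc
    rw [hc y hy]; group
  have hmain : ∀ y ∈ H, ∀ z ∈ H, ⁅y, z⁆ ∈ centralizer (H : Set G) := by
    intro y hy z hz
    have hy' : y ∈ closure ((F : Set G) ∪ {x}) := hHc ▸ hy
    have hz' : z ∈ closure ((F : Set G) ∪ {x}) := hHc ▸ hz
    have hsub : ∀ w ∈ closure ((F : Set G) ∪ {x}), w ∈ H := fun w hw => hHc ▸ hw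
    refine closure_induction₂ (p := fun y z _ _ => ⁅y, z⁆ ∈ centralizer (H : Set G))
      ?_ ?_ ?_ ?_ ?_ ?_ ?_ hy' hz'
    · intro a b ha hb
      rcases ha with ha | ha <;> rcases hb with hb | hb
      · have : ⁅a, b⁆ = 1 := commutatorElement_eq_one_iff_mul_comm.mpr (hF a ha b hb)
        rw [this]; exact one_mem _
      · rw [Set.mem_singleton_iff] at hb; subst hb
        exact hcen _ (h.1 a ha) (h.2 a ha)
      · rw [Set.mem_singleton_iff] at ha; subst ha
        have : ⁅a, b⁆ = ⁅b, a⁆⁻¹ := by rw [commutatorElement_inv]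
        rw [this]
        exact inv_mem (hcen _ (h.1 b hb) (h.2 b hb))
      · rw [Set.mem_singleton_iff] at ha hb; subst ha; subst hb
        rw [commutatorElement_self]; exact one_mem _
    · intro w _; simp
    · intro w _; simp
    · intro u v w hu hv _ h1 h2
      have e : ⁅u * v, w⁆ = (u * ⁅v, w⁆ * u⁻¹) * ⁅u, w⁆ := by
        simp only [commutatorElement_def]; group
      rw [e, hconj _ h2 u (hsub u hu)]
      exact mul_mem h2 h1
    · intro v w u hv hw _ h1 h2
      have e : ⁅u, v * w⁆ = ⁅u, v⁆ * (v * ⁅u, w⁆ * v⁻¹) := by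
        simp only [commutatorElement_def]; group
      rw [e, hconj _ h2 v (hsub v hv)]
      exact mul_mem h1 h2
    · intro u v hu _ h1
      have e : ⁅u⁻¹, v⁆ = (u⁻¹ * ⁅u, v⁆ * u)⁻¹ := by
        simp only [commutatorElement_def]; group
      have := hconj _ h1 u⁻¹ (inv_mem (hsub u hu))
      rw [inv_inv] at this
      rw [e, this]
      exact inv_mem h1
    · intro u v _ hv h1
      have e : ⁅u, v⁻¹⁆ = (v⁻¹ * ⁅u, v⁆ * v)⁻¹ := by
        simp only [commutatorElement_def]; group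
      have := hconj _ h1 v⁻¹ (inv_mem (hsub v hv))
      rw [inv_inv] at this
      rw [e, this]
      exact inv_mem h1
  have hle : ⁅H, H⁆ ≤ centralizer (H : Set G) := by
    rw [commutator_le]
    exact fun y hy z hz => hmain y hy z hz
  rw [eq_bot_iff, commutator_le]
  intro c hc y hy
  have := hle hc
  rw [mem_centralizer_iff] at this
  have h2 := this y hy
  rw [mem_bot, commutatorElement_eq_one_iff_mul_comm]
  exact h2.symm

theorem cl2_of_class_two {F : Subgroup G} {x : G}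
    (h : ⁅⁅F ⊔ zpowers x, F ⊔ zpowers x⁆, F ⊔ zpowers x⁆ = ⊥) : Cl2 F x := by
  have hx : x ∈ F ⊔ zpowers x := (le_sup_right : zpowers x ≤ _) (mem_zpowers x)
  have hF : ∀ a ∈ F, a ∈ F ⊔ zpowers x := fun a ha => (le_sup_left : F ≤ _) ha
  have key : ∀ a ∈ F, ∀ y ∈ F ⊔ zpowers x, ⁅a, x⁆ * y = y * ⁅a, x⁆ := by
    intro a ha y hy
    have h1 : ⁅a, x⁆ ∈ ⁅F ⊔ zpowers x, F ⊔ zpowers x⁆ := commutator_mem_commutator (hF a ha) hx
    have h2 : ⁅⁅a, x⁆, y⁆ ∈ ⁅⁅F ⊔ zpowers x, F ⊔ zpowers x⁆, F ⊔ zpowers x⁆ :=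
      commutator_mem_commutator h1 hy
    rw [h, mem_bot, commutatorElement_eq_one_iff_mul_comm] at h2
    exact h2
  exact ⟨fun a ha b hb => key a ha b (hF b hb), fun a ha => key a ha x hx⟩

/-- `F` abelian: the class two condition is `Cl2`. -/
theorem class_two_iff {F : Subgroup G} {x : G} (hF : ∀ a ∈ F, ∀ b ∈ F, a * b = b * a) :
    ⁅⁅F ⊔ zpowers x, F ⊔ zpowers x⁆, F ⊔ zpowers x⁆ = ⊥ ↔ Cl2 F x :=
  ⟨cl2_of_class_two, class_two_of_cl2 hF⟩

theorem comm_of_isMulCommutative {F : Subgroup G} (h : IsMulCommutative F) :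
    ∀ a ∈ F, ∀ b ∈ F, a * b = b * a := by
  intro a ha b hb
  have := h.is_comm.comm (⟨a, ha⟩ : F) ⟨b, hb⟩
  exact congrArg Subtype.val this

theorem isMulCommutative_of_comm {F : Subgroup G} (h : ∀ a ∈ F, ∀ b ∈ F, a * b = b * a) :
    IsMulCommutative F :=
  ⟨⟨fun a b => Subtype.ext (h a a.2 b b.2)⟩⟩

/-- The defining property of `dStarFamily`, elementwise. -/
theorem mem_dStarFamily_iff {F : Subgroup G} :
    F ∈ dStarFamily G ↔ (∀ a ∈ F, ∀ b ∈ F, a * b = b * a) ∧
      ∀ x : G, Cl2 F x → ∀ a ∈ F, a * x = x * a := by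
  constructor
  · rintro ⟨h1, h2⟩
    have hc := comm_of_isMulCommutative h1
    exact ⟨hc, fun x hx => h2 x ((class_two_iff hc).mpr hx)⟩
  · rintro ⟨h1, h2⟩
    exact ⟨isMulCommutative_of_comm h1, fun x hx => h2 x ((class_two_iff h1).mp hx)⟩

/-- Members of the family centralize normal abelian subgroups. -/
theorem fam_centralizes [Group.IsNilpotent G] {F M : Subgroup G} (hF : F ∈ dStarFamily G)
    (hM : M.Normal) (hMc : ∀ a ∈ M, ∀ b ∈ M, a * b = b * a) :
    ∀ a ∈ F, ∀ x ∈ M, a * x = x * a := by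
  obtain ⟨hFc, hFx⟩ := mem_dStarFamily_iff.mp hF
  have key : ∀ n : ℕ, ∀ x ∈ M, x ∈ Subgroup.upperCentralSeries G n → ∀ a ∈ F, a * x = x * a := by
    intro n
    induction n with
    | zero =>
      intro x _ hx a _
      have : x = 1 := by simpa using hx
      simp [this]
    | succ n ih =>
      intro x hxM hx
      refine hFx x ⟨?_, ?_⟩
      · intro a ha b hb
        have h1 : ⁅a, x⁆ ∈ M := by
          have : ⁅a, x⁆ = (a * x * a⁻¹) * x⁻¹ := by rw [commutatorElement_def]
          rw [this]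
          exact mul_mem (hM.conj_mem x hxM a) (inv_mem hxM)
        have h2 : ⁅a, x⁆ ∈ Subgroup.upperCentralSeries G n := by
          have := (Subgroup.mem_upperCentralSeries_succ_iff (n := n) (x := x)).mp hx a
          have e : ⁅a, x⁆ = ⁅x, a⁆⁻¹ := by rw [commutatorElement_inv]
          rw [e]; exact inv_mem this
        exact (ih _ h1 h2 b hb).symm
      · intro a ha
        have h1 : ⁅a, x⁆ ∈ M := by
          have : ⁅a, x⁆ = (a * x * a⁻¹) * x⁻¹ := by rw [commutatorElement_def]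
          rw [this]
          exact mul_mem (hM.conj_mem x hxM a) (inv_mem hxM)
        exact hMc _ h1 _ hxM
  obtain ⟨n, hn⟩ := Group.IsNilpotent.nilpotent G
  intro a ha x hx
  exact key n x hx (by rw [hn]; trivial) a ha

theorem sup_zpowers_comm {M : Subgroup G} {x : G} (hMc : ∀ a ∈ M, ∀ b ∈ M, a * b = b * a)
    (hx : ∀ a ∈ M, a * x = x * a) :
    ∀ a ∈ M ⊔ zpowers x, ∀ b ∈ M ⊔ zpowers x, a * b = b * a := by
  intro a ha b hb
  have hsup : M ⊔ zpowers x = closure ((M : Set G) ∪ {x}) := by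
    rw [Subgroup.closure_union, closure_eq, zpowers_eq_closure]
  rw [hsup] at ha hb
  refine Cfsg.Agent.Lib.PGroup.Replacement.closure_comm ?_ ha hb
  rintro u (hu | hu) v (hv | hv)
  · exact hMc u hu v hv
  · rw [Set.mem_singleton_iff] at hv; subst hv; exact hx u hu
  · rw [Set.mem_singleton_iff] at hu; subst hu; exact (hx v hv).symm
  · rw [Set.mem_singleton_iff] at hu hv; subst hu; subst hv; rfl

/-- Conjugates of family members are family members. -/
theorem cl2_conj {F : Subgroup G} {x : G} (g : G)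
    (h : Cl2 (F.map (MulAut.conj g).toMonoidHom) (g * x * g⁻¹)) : Cl2 F x := by
  have hmem : ∀ a ∈ F, g * a * g⁻¹ ∈ F.map (MulAut.conj g).toMonoidHom := fun a ha =>
    ⟨a, ha, rfl⟩
  have hc : ∀ a : G, ⁅g * a * g⁻¹, g * x * g⁻¹⁆ = g * ⁅a, x⁆ * g⁻¹ := by
    intro a; simp only [commutatorElement_def]; group
  constructor
  · intro a ha b hb
    have := h.1 _ (hmem a ha) _ (hmem b hb)
    rw [hc] at this
    have h2 : g * (⁅a, x⁆ * b) * g⁻¹ = g * (b * ⁅a, x⁆) * g⁻¹ := by
      calc g * (⁅a, x⁆ * b) * g⁻¹ = g * ⁅a, x⁆ * g⁻¹ * (g * b * g⁻¹) := by group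
        _ = g * b * g⁻¹ * (g * ⁅a, x⁆ * g⁻¹) := this
        _ = g * (b * ⁅a, x⁆) * g⁻¹ := by group
    simpa using h2
  · intro a ha
    have := h.2 _ (hmem a ha)
    rw [hc] at this
    have h2 : g * (⁅a, x⁆ * x) * g⁻¹ = g * (x * ⁅a, x⁆) * g⁻¹ := by
      calc g * (⁅a, x⁆ * x) * g⁻¹ = g * ⁅a, x⁆ * g⁻¹ * (g * x * g⁻¹) := by group
        _ = g * x * g⁻¹ * (g * ⁅a, x⁆ * g⁻¹) := this
        _ = g * (x * ⁅a, x⁆) * g⁻¹ := by group
    simpa using h2

/-- Family membership relative to a subgroup `P`, inside the ambient group. -/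
def IsFam (P A : Subgroup G) : Prop :=
  A ≤ P ∧ (∀ a ∈ A, ∀ b ∈ A, a * b = b * a) ∧ ∀ x ∈ P, Cl2 A x → ∀ a ∈ A, a * x = x * a

theorem IsFam.conj {P A : Subgroup G} (h : IsFam P A) (g : G) :
    IsFam (P.map (MulAut.conj g).toMonoidHom) (A.map (MulAut.conj g).toMonoidHom) := by
  obtain ⟨h1, h2, h3⟩ := h
  refine ⟨map_mono h1, ?_, ?_⟩
  · rintro _ ⟨a, ha, rfl⟩ _ ⟨b, hb, rfl⟩
    show g * a * g⁻¹ * (g * b * g⁻¹) = g * b * g⁻¹ * (g * a * g⁻¹)
    calc g * a * g⁻¹ * (g * b * g⁻¹) = g * (a * b) * g⁻¹ := by group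
      _ = g * (b * a) * g⁻¹ := by rw [h2 a ha b hb]
      _ = g * b * g⁻¹ * (g * a * g⁻¹) := by group
  · rintro _ ⟨x, hx, rfl⟩ hcl _ ⟨a, ha, rfl⟩
    have := h3 x hx (cl2_conj g hcl) a ha
    show g * a * g⁻¹ * (g * x * g⁻¹) = g * x * g⁻¹ * (g * a * g⁻¹)
    calc g * a * g⁻¹ * (g * x * g⁻¹) = g * (a * x) * g⁻¹ := by group
      _ = g * (x * a) * g⁻¹ := by rw [this]
      _ = g * x * g⁻¹ * (g * a * g⁻¹) := by group

theorem fam_conj {F : Subgroup G} (hF : F ∈ dStarFamily G) (g : G) :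
    F.map (MulAut.conj g).toMonoidHom ∈ dStarFamily G := by
  obtain ⟨h1, h2⟩ := mem_dStarFamily_iff.mp hF
  have : IsFam ⊤ F := ⟨le_top, h1, fun x _ => h2 x⟩
  obtain ⟨-, h3, h4⟩ := this.conj g
  exact mem_dStarFamily_iff.mpr ⟨h3, fun x hx => h4 x (by
    refine ⟨g⁻¹ * x * g, trivial, ?_⟩
    show g * (g⁻¹ * x * g) * g⁻¹ = x
    group) hx⟩

theorem dStar_normal : (dStar G).Normal := by
  refine ⟨fun a ha g => ?_⟩
  have hle : dStar G ≤ (dStar G).comap (MulAut.conj g).toMonoidHom := by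
    refine sSup_le fun F hF => ?_
    rw [← map_le_iff_le_comap]
    exact le_sSup (fam_conj hF g)
  exact hle ha

theorem center_le_dStar : center G ≤ dStar G := by
  refine le_sSup (mem_dStarFamily_iff.mpr ⟨?_, ?_⟩)
  · intro a ha b _
    exact (mem_center_iff.mp ha b).symm
  · intro x _ a ha
    exact (mem_center_iff.mp ha x).symm

section PGroup

variable {p : ℕ} [Fact p.Prime] [Finite G]

/-- A maximal normal abelian subgroup of a finite `p`-group contains its centralizer. -/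
theorem centralizer_le_of_maximal (hG : IsPGroup p G) {M : Subgroup G} (hM : M.Normal)
    (hMc : ∀ a ∈ M, ∀ b ∈ M, a * b = b * a)
    (hmax : ∀ B : Subgroup G, B.Normal → (∀ a ∈ B, ∀ b ∈ B, a * b = b * a) → M ≤ B → B = M) :
    centralizer (M : Set G) ≤ M := by
  by_contra hcon
  -- image of the centralizer in `G / M`
  have hN : (centralizer (M : Set G)).Normal := inferInstance
  set Q := (centralizer (M : Set G)).map (QuotientGroup.mk' M) with hQ
  have hQn : Q.Normal := hN.map _ (QuotientGroup.mk'_surjective M)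
  have hQne : Q ≠ ⊥ := by
    intro h
    apply hcon
    intro x hx
    have : (QuotientGroup.mk' M) x ∈ Q := mem_map_of_mem _ hx
    rw [h, mem_bot] at this
    exact (QuotientGroup.eq_one_iff x).mp this
  have hp' : IsPGroup p (G ⧸ M) := hG.of_surjective (QuotientGroup.mk' M) (QuotientGroup.mk'_surjective M)
  have hne := Cfsg.Agent.Lib.PGroup.Basic.inf_center_ne_bot hp' hQne
  obtain ⟨⟨z, hz⟩, hz1⟩ := (Subgroup.ne_bot_iff_exists_ne_one.mp hne)
  obtain ⟨⟨x, hxC, rfl⟩, hzc⟩ := hz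
  have hxM : x ∉ M := by
    intro hx
    apply hz1
    apply Subtype.ext
    exact (QuotientGroup.eq_one_iff x).mpr hx
  rw [SetLike.mem_coe, mem_centralizer_iff] at hxC
  -- `B = M ⊔ ⟨x⟩` is normal abelian
  have hBn : (M ⊔ zpowers x).Normal := by
    refine ⟨fun y hy g => ?_⟩
    have hle : M ⊔ zpowers x ≤ (M ⊔ zpowers x).comap (MulAut.conj g).toMonoidHom := by
      refine sup_le (fun m hm => ?_) ?_
      · rw [Subgroup.mem_comap]
        show g * m * g⁻¹ ∈ M ⊔ zpowers x
        exact (le_sup_left : M ≤ M ⊔ zpowers x) (hM.conj_mem m hm g)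
      · rw [zpowers_le, Subgroup.mem_comap]
        show g * x * g⁻¹ ∈ M ⊔ zpowers x
        have hcomm : (QuotientGroup.mk' M) x * (QuotientGroup.mk' M) g⁻¹ =
            (QuotientGroup.mk' M) g⁻¹ * (QuotientGroup.mk' M) x :=
          (Subgroup.mem_center_iff.mp hzc _).symm
        have h1 : x⁻¹ * (g * x * g⁻¹) ∈ M := by
          rw [← QuotientGroup.eq_one_iff]
          have : ((x⁻¹ * (g * x * g⁻¹) : G) : G ⧸ M) =
              (QuotientGroup.mk' M) (x⁻¹ * (g * (x * g⁻¹))) := by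
            rw [mul_assoc g x]; rfl
          rw [this, map_mul, map_mul, map_mul, hcomm, map_inv, map_inv]
          have h2 := Subgroup.mem_center_iff.mp hzc ((QuotientGroup.mk' M) g)
          group
        have h3 : g * x * g⁻¹ = x * (x⁻¹ * (g * x * g⁻¹)) := by group
        rw [h3]
        exact mul_mem ((le_sup_right : zpowers x ≤ M ⊔ zpowers x) (mem_zpowers x))
          ((le_sup_left : M ≤ M ⊔ zpowers x) h1)
    exact hle hy
  have hBc := sup_zpowers_comm hMc (fun a ha => hxC a ha)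
  have := hmax _ hBn hBc le_sup_left
  apply hxM
  rw [← this]
  exact (le_sup_right : zpowers x ≤ M ⊔ zpowers x) (mem_zpowers x)

/-- Existence of a maximal normal abelian subgroup. -/
theorem exists_maximal_normal_abelian : ∃ M : Subgroup G, M.Normal ∧
    (∀ a ∈ M, ∀ b ∈ M, a * b = b * a) ∧
    ∀ B : Subgroup G, B.Normal → (∀ a ∈ B, ∀ b ∈ B, a * b = b * a) → M ≤ B → B = M := by
  have hs : ({M : Subgroup G | M.Normal ∧ ∀ a ∈ M, ∀ b ∈ M, a * b = b * a}).Nonempty :=
    ⟨⊥, inferInstance, by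
      intro a ha b hb
      rw [mem_bot] at ha hb
      simp [ha, hb]⟩
  obtain ⟨M, hM⟩ := (Set.toFinite _).exists_maximal hs
  refine ⟨M, hM.1.1, hM.1.2, fun B hB hBc hle => ?_⟩
  exact le_antisymm (hM.2 ⟨hB, hBc⟩ hle) hle

/-- Members of the family lie in every maximal normal abelian subgroup. -/
theorem fam_le_of_maximal (hG : IsPGroup p G) {F M : Subgroup G} (hF : F ∈ dStarFamily G)
    (hM : M.Normal) (hMc : ∀ a ∈ M, ∀ b ∈ M, a * b = b * a)
    (hmax : ∀ B : Subgroup G, B.Normal → (∀ a ∈ B, ∀ b ∈ B, a * b = b * a) → M ≤ B → B = M) :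
    F ≤ M := by
  have := hG.isNilpotent
  intro a ha
  refine centralizer_le_of_maximal hG hM hMc hmax ?_
  rw [mem_centralizer_iff]
  intro m hm
  exact (fam_centralizes hF hM hMc a ha m hm).symm

theorem dStar_le_of_maximal (hG : IsPGroup p G) {M : Subgroup G}
    (hM : M.Normal) (hMc : ∀ a ∈ M, ∀ b ∈ M, a * b = b * a)
    (hmax : ∀ B : Subgroup G, B.Normal → (∀ a ∈ B, ∀ b ∈ B, a * b = b * a) → M ≤ B → B = M) :
    dStar G ≤ M :=
  sSup_le fun _ hF => fam_le_of_maximal hG hF hM hMc hmax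

theorem dStar_comm (hG : IsPGroup p G) : ∀ a ∈ dStar G, ∀ b ∈ dStar G, a * b = b * a := by
  obtain ⟨M, hM, hMc, hmax⟩ := exists_maximal_normal_abelian (G := G)
  have hle := dStar_le_of_maximal hG hM hMc hmax
  exact fun a ha b hb => hMc a (hle ha) b (hle hb)

omit [Finite G] in
theorem cl2_mono {F F' : Subgroup G} {x : G} (hle : F ≤ F') (h : Cl2 F' x) : Cl2 F x :=
  ⟨fun a ha b hb => h.1 a (hle ha) b (hle hb), fun a ha => h.2 a (hle ha)⟩

/-- `D*(S)` belongs to its family. -/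
theorem dStar_mem (hG : IsPGroup p G) : dStar G ∈ dStarFamily G := by
  refine mem_dStarFamily_iff.mpr ⟨dStar_comm hG, fun x hx a ha => ?_⟩
  have hle : dStar G ≤ centralizer ({x} : Set G) := by
    refine sSup_le fun F hF b hb => ?_
    rw [mem_centralizer_singleton_iff]
    exact (mem_dStarFamily_iff.mp hF).2 x (cl2_mono (le_sSup hF) hx) b hb
  have := hle ha
  rwa [mem_centralizer_singleton_iff] at this

omit [Fact p.Prime] in
/-- `|B| |C_V(B)| ≤ |A| |C_V(A)|` for `B ≤ A`, `A` abelian of largest order, `V` abelian. -/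
theorem mval_le {V A B : Subgroup G} (hVc : ∀ x ∈ V, ∀ y ∈ V, x * y = y * x)
    (hA : A ∈ maxAbelianSubgroups G) (hB : B ≤ A) :
    Cfsg.Agent.Lib.PGroup.Timmesfeld.mval V B ≤ Cfsg.Agent.Lib.PGroup.Timmesfeld.mval V A := by
  classical
  obtain ⟨hA1, hA2⟩ := hA
  have hAc := comm_of_isMulCommutative hA1
  set C := V ⊓ centralizer (B : Set G) with hC
  have hnorm : B ≤ normalizer (C : Set G) := by
    intro b hb
    rw [mem_normalizer_iff]
    intro y
    constructor
    · intro hy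
      have hyc : y ∈ centralizer (B : Set G) := hy.2
      rw [mem_centralizer_iff] at hyc
      have : b * y * b⁻¹ = y := by rw [hyc b hb]; group
      rw [this]; exact hy
    · intro hy
      have hyc : b * y * b⁻¹ ∈ centralizer (B : Set G) := hy.2
      rw [mem_centralizer_iff] at hyc
      have h1 : b * (b * y * b⁻¹) = (b * y * b⁻¹) * b := hyc b hb
      have h2 : b * y * b⁻¹ = y := by
        have h3 : b * (b * y * b⁻¹) = b * y := by
          rw [h1]; group
        exact mul_left_cancel h3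
      rw [h2] at hy; exact hy
  have h1 := Cfsg.Agent.Lib.PGroup.Timmesfeld.card_sup_mul_card_inf_of_le_normalizer B C hnorm
  -- `B ⊔ C` is abelian
  have habel : ∀ a ∈ B ⊔ C, ∀ b ∈ B ⊔ C, a * b = b * a := by
    intro a ha b hb
    rw [sup_eq_closure] at ha hb
    refine Cfsg.Agent.Lib.PGroup.Replacement.closure_comm ?_ ha hb
    rintro u (hu | hu) v (hv | hv)
    · exact hAc u (hB hu) v (hB hv)
    · have : v ∈ centralizer (B : Set G) := (Subgroup.mem_inf.mp hv).2
      rw [mem_centralizer_iff] at this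
      exact (this u hu)
    · have : u ∈ centralizer (B : Set G) := (Subgroup.mem_inf.mp hu).2
      rw [mem_centralizer_iff] at this
      exact (this v hv).symm
    · exact hVc u (Subgroup.mem_inf.mp hu).1 v (Subgroup.mem_inf.mp hv).1
  have h2 : Nat.card ↥(B ⊔ C) ≤ Nat.card A := hA2 _ (isMulCommutative_of_comm habel)
  have h3 : Nat.card ↥(B ⊓ C) ≤ Nat.card ↥(V ⊓ centralizer (A : Set G)) := by
    apply Subgroup.card_le_of_le
    intro y hy
    obtain ⟨hy1, hy2⟩ := Subgroup.mem_inf.mp hy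
    refine Subgroup.mem_inf.mpr ⟨(Subgroup.mem_inf.mp hy2).1, ?_⟩
    rw [mem_centralizer_iff]
    intro a ha
    exact hAc a ha y (hB hy1)
  show Nat.card B * Nat.card C ≤ _
  rw [← h1]
  exact Nat.mul_le_mul h2 h3

omit [Finite G] in
/-- In a nilpotent group, `X ≤ [X, G]` forces `X = 1`. -/
theorem eq_bot_of_le_commutator_top [Group.IsNilpotent G] {X : Subgroup G}
    (h : X ≤ ⁅X, (⊤ : Subgroup G)⁆) : X = ⊥ := by
  have key : ∀ n, X ≤ (⊤ : Subgroup G).lowerCentralSeries n := by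
    intro n
    induction n with
    | zero => simp
    | succ n ih =>
      refine h.trans ?_
      rw [Subgroup.lowerCentralSeries_succ]
      exact commutator_mono ih le_rfl
  obtain ⟨n, hn⟩ := Subgroup.nilpotent_iff_lowerCentralSeries.mp (inferInstance : Group.IsNilpotent G)
  exact le_bot_iff.mp (hn ▸ key n)

/-- Abelian subgroups of largest order centralize a normal abelian family member. -/
theorem maxAbelian_comm (hG : IsPGroup p G) {V A : Subgroup G} (hVn : V.Normal)
    (hV : V ∈ dStarFamily G) (hA : A ∈ maxAbelianSubgroups G) :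
    ∀ a ∈ A, ∀ v ∈ V, a * v = v * a := by
  have := hG.isNilpotent
  obtain ⟨hVc, hVx⟩ := mem_dStarFamily_iff.mp hV
  have hAc := comm_of_isMulCommutative hA.1
  have hAV : A ≤ normalizer (V : Set G) := by
    rw [normalizer_eq_top_iff.mpr hVn]; exact le_top
  have hab : ⁅A, A⁆ ≤ centralizer (V : Set G) := by
    rw [commutator_le]
    intro a ha b hb
    have : ⁅a, b⁆ = 1 := commutatorElement_eq_one_iff_mul_comm.mpr (hAc a ha b hb)
    rw [this]; exact one_mem _
  obtain ⟨B, hB, h⟩ := Cfsg.Agent.Lib.PGroup.Timmesfeld.dichotomy V A hVc hAV hab V le_rfl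
  rcases h with h | ⟨rfl, h2, -⟩
  · exact absurd h (not_lt.mpr (mval_le hVc hA hB))
  -- `B = C_A([V,A])` acts quadratically, so it centralizes `V`
  set X := ⁅V, A⁆ with hX
  have hXV : X ≤ V := by
    rw [hX, commutator_le]
    intro v hv a ha
    have : ⁅v, a⁆ = v * (a * v⁻¹ * a⁻¹) := by rw [commutatorElement_def]; group
    rw [this]
    exact mul_mem hv (hVn.conj_mem _ (inv_mem hv) a)
  have hbV : ∀ b ∈ A ⊓ centralizer (X : Set G), ∀ v ∈ V, v * b = b * v := by
    intro b hb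
    obtain ⟨hb1, hbX⟩ := Subgroup.mem_inf.mp hb
    rw [mem_centralizer_iff] at hbX
    have hcomm : ∀ v ∈ V, ⁅v, b⁆ ∈ X := fun v hv => commutator_mem_commutator hv hb1
    -- apply the family property to `x = b`
    have hfam := hVx b ⟨fun v hv w hw => hVc _ (hXV (hcomm v hv)) _ hw,
      fun v hv => hbX _ (hcomm v hv)⟩
    exact hfam
  have hVle : V ≤ V ⊓ centralizer ((A ⊓ centralizer (X : Set G) : Subgroup G) : Set G) := by
    intro v hv
    refine Subgroup.mem_inf.mpr ⟨hv, ?_⟩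
    rw [mem_centralizer_iff]
    intro b hb
    exact (hbV b hb v hv).symm
  rw [h2] at hVle
  -- `V = X ⊔ C_V(A)`, hence `X ≤ [X, A]`
  set Y : Subgroup G := ⁅X, (⊤ : Subgroup G)⁆ with hY
  have hstep : ∀ v ∈ X ⊔ (V ⊓ centralizer (A : Set G)), ∀ a ∈ A, v ∈ V ∧ ⁅v, a⁆ ∈ Y := by
    intro v hv a ha
    rw [sup_eq_closure] at hv
    induction hv using closure_induction with
    | mem u hu =>
      rcases hu with hu | hu
      · exact ⟨hXV hu, commutator_mem_commutator hu trivial⟩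
      · refine ⟨(Subgroup.mem_inf.mp hu).1, ?_⟩
        have : u ∈ centralizer (A : Set G) := (Subgroup.mem_inf.mp hu).2
        rw [mem_centralizer_iff] at this
        have h1 : ⁅u, a⁆ = 1 := commutatorElement_eq_one_iff_mul_comm.mpr (this a ha).symm
        rw [h1]; exact one_mem _
    | one => simp
    | mul u w _ _ hu hw =>
      refine ⟨mul_mem hu.1 hw.1, ?_⟩
      have hc : ⁅w, a⁆ ∈ V := by
        have : ⁅w, a⁆ = w * (a * w⁻¹ * a⁻¹) := by rw [commutatorElement_def]; group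
        rw [this]
        exact mul_mem hw.1 (hVn.conj_mem _ (inv_mem hw.1) a)
      have e : ⁅u * w, a⁆ = ⁅w, a⁆ * ⁅u, a⁆ := by
        have h0 : u * ⁅w, a⁆ = ⁅w, a⁆ * u := hVc _ hu.1 _ hc
        calc ⁅u * w, a⁆ = (u * ⁅w, a⁆) * (u⁻¹ * ⁅u, a⁆) := by
              simp only [commutatorElement_def]; group
          _ = (⁅w, a⁆ * u) * (u⁻¹ * ⁅u, a⁆) := by rw [h0]
          _ = ⁅w, a⁆ * ⁅u, a⁆ := by group
      rw [e]
      exact mul_mem hw.2 hu.2
    | inv u _ hu =>
      refine ⟨inv_mem hu.1, ?_⟩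
      have hc : ⁅u, a⁆ ∈ V := by
        have : ⁅u, a⁆ = u * (a * u⁻¹ * a⁻¹) := by rw [commutatorElement_def]; group
        rw [this]
        exact mul_mem hu.1 (hVn.conj_mem _ (inv_mem hu.1) a)
      have h0 : u⁻¹ * ⁅u, a⁆ = ⁅u, a⁆ * u⁻¹ := hVc _ (inv_mem hu.1) _ hc
      have e : ⁅u⁻¹, a⁆ = ⁅u, a⁆⁻¹ := by
        have h1 : ⁅u⁻¹, a⁆ = (u⁻¹ * ⁅u, a⁆ * u)⁻¹ := by
          simp only [commutatorElement_def]; group
        rw [h1, h0]; group
      rw [e]
      exact inv_mem hu.2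
  have hXY : X ≤ Y := by
    rw [hX, commutator_le]
    intro v hv a ha
    exact (hstep v (hVle hv) a ha).2
  have hXbot : X = ⊥ := eq_bot_of_le_commutator_top hXY
  intro a ha v hv
  have : ⁅v, a⁆ ∈ X := commutator_mem_commutator hv ha
  rw [hXbot, mem_bot] at this
  exact (commutatorElement_eq_one_iff_mul_comm.mp this).symm

/-- `D*(S)` lies in each abelian subgroup of largest order. -/
theorem dStar_le_of_maxAbelian (hG : IsPGroup p G) {A : Subgroup G}
    (hA : A ∈ maxAbelianSubgroups G) : dStar G ≤ A := by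
  intro d hd
  have hc := maxAbelian_comm hG dStar_normal (dStar_mem hG) hA
  have hAc := comm_of_isMulCommutative hA.1
  have hsup := sup_zpowers_comm (M := A) (x := d) hAc (fun a ha => hc a ha d hd)
  have hcard := hA.2 _ (isMulCommutative_of_comm hsup)
  have heq : A = A ⊔ zpowers d := Subgroup.eq_of_le_of_card_ge le_sup_left hcard
  rw [heq]
  exact (le_sup_right : zpowers d ≤ A ⊔ zpowers d) (mem_zpowers d)

theorem exists_maxAbelian : ∃ A : Subgroup G, A ∈ maxAbelianSubgroups G := by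
  have : Nonempty {B : Subgroup G // IsMulCommutative B} :=
    ⟨⟨⊥, isMulCommutative_of_comm (by
      intro a ha b hb
      rw [mem_bot] at ha hb
      simp [ha, hb])⟩⟩
  obtain ⟨A, hA⟩ := Finite.exists_max (fun B : {B : Subgroup G // IsMulCommutative B} => Nat.card B.1)
  exact ⟨A.1, A.2, fun B hB => hA ⟨B, hB⟩⟩

/-- `D*(S) ≤ Z(J(S))`. -/
theorem dStar_le_center_thompson (hG : IsPGroup p G) :
    dStar G ≤ thompsonSubgroupA G ⊓ centralizer (thompsonSubgroupA G : Set G) := by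
  obtain ⟨A, hA⟩ := exists_maxAbelian (G := G)
  refine le_inf ((dStar_le_of_maxAbelian hG hA).trans (le_sSup hA)) ?_
  intro d hd
  rw [mem_centralizer_iff]
  have hle : thompsonSubgroupA G ≤ centralizer ({d} : Set G) := by
    refine sSup_le fun B hB a ha => ?_
    rw [mem_centralizer_singleton_iff]
    exact comm_of_isMulCommutative hB.1 a ha d (dStar_le_of_maxAbelian hG hB hd)
  intro j hj
  have := hle hj
  rw [mem_centralizer_singleton_iff] at this
  exact this

/-- `D*(P)` for `P ≤ G`, as a family member. -/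
theorem dStarOf_isFam {P : Subgroup G} (hP : IsPGroup p P) : IsFam P (dStarOf P) := by
  have hmem := mem_dStarFamily_iff.mp (dStar_mem hP)
  refine ⟨map_subtype_le _, ?_, ?_⟩
  · rintro _ ⟨a, ha, rfl⟩ _ ⟨b, hb, rfl⟩
    exact congrArg Subtype.val (hmem.1 a ha b hb)
  · rintro x hx hcl _ ⟨a, ha, rfl⟩
    have := hmem.2 ⟨x, hx⟩ ?_ a ha
    · exact congrArg Subtype.val this
    · constructor
      · intro u hu v hv
        apply Subtype.ext
        exact hcl.1 _ (mem_map_of_mem _ hu) _ (mem_map_of_mem _ hv)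
      · intro u hu
        apply Subtype.ext
        exact hcl.2 _ (mem_map_of_mem _ hu)

omit [Fact p.Prime] [Finite G] in
theorem le_dStarOf_of_isFam {P A : Subgroup G} (h : IsFam P A) : A ≤ dStarOf P := by
  obtain ⟨h1, h2, h3⟩ := h
  have hmem : A.subgroupOf P ∈ dStarFamily P := by
    refine mem_dStarFamily_iff.mpr ⟨?_, ?_⟩
    · intro a ha b hb
      exact Subtype.ext (h2 a ha b hb)
    · intro x hx a ha
      refine Subtype.ext (h3 x x.2 ?_ a ha)
      constructor
      · intro u hu v hv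
        exact congrArg Subtype.val (hx.1 ⟨u, h1 hu⟩ hu ⟨v, h1 hv⟩ hv)
      · intro u hu
        exact congrArg Subtype.val (hx.2 ⟨u, h1 hu⟩ hu)
  intro a ha
  exact ⟨⟨a, h1 ha⟩, le_sSup hmem ha, rfl⟩

/-- `D*(P) ≤ Z(J(P))`, inside `G`. -/
theorem dStarOf_le_centerThompsonAOf {P : Subgroup G} (hP : IsPGroup p P) :
    dStarOf P ≤ centerThompsonAOf P := by
  rintro _ ⟨a, ha, rfl⟩
  have h := dStar_le_center_thompson hP ha
  obtain ⟨h1, h2⟩ := Subgroup.mem_inf.mp h
  refine Subgroup.mem_inf.mpr ⟨mem_map_of_mem _ h1, ?_⟩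
  rw [mem_centralizer_iff] at h2 ⊢
  rintro _ ⟨j, hj, rfl⟩
  exact congrArg Subtype.val (h2 j hj)

/-- Lift to Sylow subgroups of the quotient: an element of `O_p(G/C)` has a representative in
each Sylow subgroup. -/
theorem exists_rep_of_mem_pCore (Y : Sylow p G) (C : Subgroup G) [C.Normal] {x : G}
    (hx : (QuotientGroup.mk x : G ⧸ C) ∈ pCore p (G ⧸ C)) :
    ∃ y ∈ (Y : Subgroup G), y⁻¹ * x ∈ C := by
  have h2 := Cfsg.Agent.Lib.Basic.PCore.pCore_le_sylow
    (Y.mapSurjective (QuotientGroup.mk'_surjective C)) hx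
  obtain ⟨y, hy, hyx⟩ := h2
  refine ⟨y, hy, ?_⟩
  exact QuotientGroup.eq.mp hyx

/-- The `D*`-theorem. -/
theorem dStar_theorem (hp : p ≠ 2)
    (hc : centralizer (pCore p G : Set G) ≤ pCore p G)
    (hst : ∀ (P : Subgroup G) [P.Normal], IsPGroup p P → IsPStableOn p P) (S : Sylow p G) :
    (dStarOf (S : Subgroup G)).Normal := by
  classical
  set D := dStarOf (S : Subgroup G) with hD
  have hfam : IsFam (S : Subgroup G) D := dStarOf_isFam S.isPGroup'
  have hZ : (centerThompsonAOf (S : Subgroup G)).Characteristic := by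
    rw [Cfsg.Agent.Lib.PGroup.ZJ.centerThompsonAOf_eq]
    apply Cfsg.Agent.Lib.PGroup.ZJ.ZZ_characteristic S
    exact Cfsg.Agent.Lib.PGroup.ZJ.zz_normal hp (Or.inl rfl) S
      (Cfsg.Agent.Lib.PGroup.ZJ.strongly_closed_self _) hc
      (fun P _ hP a _ hq => hst P hP a hq)
  have hZS : centerThompsonAOf (S : Subgroup G) ≤ S := by
    intro x hx
    obtain ⟨⟨y, -, rfl⟩, -⟩ := Subgroup.mem_inf.mp hx
    exact y.2
  have hZR : centerThompsonAOf (S : Subgroup G) ≤ pCore p G :=
    Cfsg.Agent.Lib.Basic.PCore.le_pCore (Subgroup.normal_of_characteristic _) (S.isPGroup'.to_le hZS)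
  have hDR : D ≤ pCore p G := (dStarOf_le_centerThompsonAOf S.isPGroup').trans hZR
  set W := normalClosure (D : Set G) with hW
  have hWR : W ≤ pCore p G := normalClosure_le_normal hDR
  have hWn : W.Normal := normalClosure_normal
  have hDW : D ≤ W := le_normalClosure
  have hWp : IsPGroup p W := (Cfsg.Agent.Lib.Basic.PCore.pCore_isPGroup p).to_le hWR
  have hRS : ∀ g : G, pCore p G ≤ (S : Subgroup G).map (MulAut.conj g).toMonoidHom := by
    intro g x hx
    refine ⟨g⁻¹ * x * g, ?_, ?_⟩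
    · have hRn : (pCore p G).Normal := by
        have := Cfsg.Agent.Lib.Basic.PCore.pCore_char p G
        exact Subgroup.normal_of_characteristic _
      have := hRn.conj_mem x hx g⁻¹
      rw [inv_inv] at this
      exact Cfsg.Agent.Lib.Basic.PCore.pCore_le_sylow S this
    · show g * (g⁻¹ * x * g) * g⁻¹ = x
      group
  have hDg : ∀ g : G, D.map (MulAut.conj g).toMonoidHom ≤ W := by
    rintro g _ ⟨a, ha, rfl⟩
    exact hWn.conj_mem a (hDW ha) g
  -- an element commuting with all conjugates of `D` centralizes `W`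
  have hK : ∀ x : G, (∀ g : G, ∀ a ∈ D.map (MulAut.conj g).toMonoidHom, a * x = x * a) →
      ∀ a ∈ W, a * x = x * a := by
    intro x hx
    have hle : W ≤ centralizer ({x} : Set G) := by
      rw [hW, normalClosure, closure_le]
      intro y hy
      rw [Group.mem_conjugatesOfSet_iff] at hy
      obtain ⟨a, ha, hay⟩ := hy
      obtain ⟨c, rfl⟩ := isConj_iff.mp hay
      rw [SetLike.mem_coe, mem_centralizer_singleton_iff]
      exact hx c _ ⟨a, ha, rfl⟩
    intro a ha
    have := hle ha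
    rwa [mem_centralizer_singleton_iff] at this
  -- `W` is abelian
  have hWc : ∀ a ∈ W, ∀ b ∈ W, a * b = b * a := by
    have := hWp.isNilpotent
    have key : ∀ n : ℕ, ∀ y : W, y ∈ Subgroup.upperCentralSeries W n → ∀ u : W, y * u = u * y := by
      intro n
      induction n with
      | zero =>
        intro y hy u
        have : y = 1 := by simpa using hy
        simp [this]
      | succ n ih =>
        intro y hy u
        have hcen : ∀ v : W, ∀ w : W, ⁅y, v⁆ * w = w * ⁅y, v⁆ := fun v w =>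
          ih _ ((Subgroup.mem_upperCentralSeries_succ_iff (n := n) (x := y)).mp hy v) w
        have hcen' : ∀ v w : G, v ∈ W → w ∈ W → ⁅v, (y : G)⁆ * w = w * ⁅v, (y : G)⁆ := by
          intro v w hv hw
          have h1 := congrArg Subtype.val (hcen ⟨v, hv⟩ ⟨w, hw⟩)
          have h2 : ⁅v, (y : G)⁆ = ⁅(y : G), v⁆⁻¹ := by rw [commutatorElement_inv]
          rw [h2]
          have h3 : (⁅(y : G), v⁆) * w = w * ⁅(y : G), v⁆ := h1
          calc ⁅(y : G), v⁆⁻¹ * w = ⁅(y : G), v⁆⁻¹ * (w * ⁅(y : G), v⁆) * ⁅(y : G), v⁆⁻¹ := by group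
            _ = ⁅(y : G), v⁆⁻¹ * (⁅(y : G), v⁆ * w) * ⁅(y : G), v⁆⁻¹ := by rw [h3]
            _ = w * ⁅(y : G), v⁆⁻¹ := by group
        have h1 := hK (y : G) (fun g a ha => by
          refine (hfam.conj g).2.2 (y : G) (hRS g (hWR y.2)) ⟨?_, ?_⟩ a ha
          · intro u hu v hv
            exact hcen' u v (hDg g hu) (hDg g hv)
          · intro u hu
            exact hcen' u y (hDg g hu) y.2) u u.2
        exact (Subtype.ext h1).symm
    obtain ⟨n, hn⟩ := Group.IsNilpotent.nilpotent W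
    intro a ha b hb
    have := key n ⟨a, ha⟩ (by rw [hn]; trivial) ⟨b, hb⟩
    exact congrArg Subtype.val this
  -- `W` is a family member
  have hWS : W ≤ S := hWR.trans (Cfsg.Agent.Lib.Basic.PCore.pCore_le_sylow S)
  have hWfam : IsFam (S : Subgroup G) W := by
    refine ⟨hWS, hWc, fun x _ hcl => ?_⟩
    have hclass := class_two_of_cl2 hWc hcl
    have hq : ⁅⁅W, zpowers x⁆, zpowers x⁆ = ⊥ := by
      rw [eq_bot_iff, ← hclass]
      exact commutator_mono (commutator_mono le_sup_left le_sup_right) le_sup_right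
    have hstab := hst W hWp x hq
    refine hK x (fun g a ha => ?_)
    -- a representative of `x` in the conjugate of `S`
    obtain ⟨y, hy, hyx⟩ := exists_rep_of_mem_pCore (g • S) (centralizer (W : Set G)) hstab
    have hy' : y ∈ (S : Subgroup G).map (MulAut.conj g).toMonoidHom := hy
    have hcC := mem_centralizer_iff.mp hyx
    have hcomm : ∀ w ∈ W, w * (y⁻¹ * x) = (y⁻¹ * x) * w := fun w hw => hcC w hw
    have hxy : x = y * (y⁻¹ * x) := by group
    -- commutators with `y` and `x` agree on `W`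
    have hce : ∀ u ∈ W, ⁅u, y⁆ = ⁅u, x⁆ := by
      intro u hu
      have h1 : u⁻¹ * (y⁻¹ * x) = (y⁻¹ * x) * u⁻¹ := hcomm _ (inv_mem hu)
      simp only [commutatorElement_def]
      calc u * y * u⁻¹ * y⁻¹ = u * y * (u⁻¹ * (y⁻¹ * x)) * (y⁻¹ * x)⁻¹ * y⁻¹ := by group
        _ = u * y * ((y⁻¹ * x) * u⁻¹) * (y⁻¹ * x)⁻¹ * y⁻¹ := by rw [h1]
        _ = u * x * u⁻¹ * x⁻¹ := by group
    have hcW : ∀ u ∈ W, ⁅u, x⁆ ∈ W := by
      intro u hu
      have : ⁅u, x⁆ = u * (x * u⁻¹ * x⁻¹) := by rw [commutatorElement_def]; group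
      rw [this]
      exact mul_mem hu (hWn.conj_mem _ (inv_mem hu) x)
    have hfamy := (hfam.conj g).2.2 y hy' ⟨?_, ?_⟩ a ha
    · have h2 := hcomm a (hDg g ha)
      calc a * x = a * (y * (y⁻¹ * x)) := by rw [← hxy]
        _ = (a * y) * (y⁻¹ * x) := by group
        _ = (y * a) * (y⁻¹ * x) := by rw [hfamy]
        _ = y * (a * (y⁻¹ * x)) := by group
        _ = y * ((y⁻¹ * x) * a) := by rw [h2]
        _ = x * a := by group
    · intro u hu v hv
      rw [hce u (hDg g hu)]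
      exact hcl.1 u (hDg g hu) v (hDg g hv)
    · intro u hu
      rw [hce u (hDg g hu)]
      have h3 := hcl.2 u (hDg g hu)
      have h4 := hcomm _ (hcW u (hDg g hu))
      -- `⁅u,x⁆` commutes with `x` and with `y⁻¹ x`, hence with `y`
      set c := ⁅u, x⁆ with hcdef
      have h5 : y = x * (y⁻¹ * x)⁻¹ := by group
      have h6 : c * (y⁻¹ * x)⁻¹ = (y⁻¹ * x)⁻¹ * c := by
        calc c * (y⁻¹ * x)⁻¹ = (y⁻¹ * x)⁻¹ * ((y⁻¹ * x) * c) * (y⁻¹ * x)⁻¹ := by group
          _ = (y⁻¹ * x)⁻¹ * (c * (y⁻¹ * x)) * (y⁻¹ * x)⁻¹ := by rw [h4]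
          _ = (y⁻¹ * x)⁻¹ * c := by group
      calc c * y = c * (x * (y⁻¹ * x)⁻¹) := by rw [← h5]
        _ = (c * x) * (y⁻¹ * x)⁻¹ := by group
        _ = x * (c * (y⁻¹ * x)⁻¹) := by rw [h3]; group
        _ = x * ((y⁻¹ * x)⁻¹ * c) := by rw [h6]
        _ = (x * (y⁻¹ * x)⁻¹) * c := by group
        _ = y * c := by rw [← h5]
  have hle : W ≤ D := le_dStarOf_of_isFam hWfam
  have : D = W := le_antisymm hDW hle
  rw [this]
  exact hWn

end PGroup

end Cfsg.Agent.Lib.PGroup.DStar
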