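import Cfsg.Agent.Lib.PGroup.ExtraQuad
import Mathlib

/-!
# Normal form and classification of extraspecial 2-groups
-/

set_option autoImplicit false
open scoped commutatorElement

namespace Cfsg.Agent.Lib.PGroup.ExtraClass

open Cfsg.Agent.Lib.PGroup.ExtraQuad

universe u v

section Pair

variable {G : Type*} [Group G]

/-- The Gauss sum of the squaring map. -/
noncomputable def gaussT (G : Type*) [Group G] : ℤ := ∑ᶠ g : G, sgn (g ^ 2)

lemma gaussT_eq [Fintype G] : gaussT G = ∑ g : G, sgn (g ^ 2) := finsum_eq_sum_of_fintype _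

lemma sgn_coe (C : Subgroup G) (c : C) : sgn (c : G) = sgn c := by
  by_cases h : c = 1
  · subst h; simp [sgn_one]
  · rw [sgn_of_ne h, sgn_of_ne]
    intro h1
    exact h (Subtype.ext h1)

open Classical in
lemma gaussT_subgroup [Fintype G] (C : Subgroup G) :
    gaussT C = ∑ g : G, if g ∈ C then sgn (g ^ 2) else 0 := by
  letI : Fintype C := Fintype.ofFinite C
  rw [gaussT_eq, ← Finset.sum_filter,
    Finset.sum_subtype (p := (· ∈ C)) (Finset.univ.filter (· ∈ C)) (by simp) (fun g => sgn (g ^ 2))]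
  refine Finset.sum_congr rfl fun c _ => ?_
  rw [← sgn_coe, Subgroup.coe_pow]

/-- The centralizer of two elements. -/
abbrev pairC (x y : G) : Subgroup G := Subgroup.centralizer ({x, y} : Set G)

lemma mem_pairC {x y g : G} : g ∈ pairC x y ↔ ⁅x, g⁆ = 1 ∧ ⁅y, g⁆ = 1 := by
  simp [pairC, Subgroup.mem_centralizer_iff, commutatorElement_eq_one_iff_mul_comm]

variable {Z : Subgroup G} (h : QuadPair G Z)
include h

omit h in
open Classical in
lemma sum_pair [Fintype G] (x y : G) (w : G → ℤ) :
    ∑ g : G, (1 + sgn ⁅x, g⁆) * (1 + sgn ⁅y, g⁆) * w g =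
      4 * ∑ g : G, if g ∈ pairC x y then w g else 0 := by
  rw [Finset.mul_sum]
  refine Finset.sum_congr rfl fun g _ => ?_
  by_cases hg : g ∈ pairC x y
  · rw [if_pos hg]
    obtain ⟨h1, h2⟩ := mem_pairC.1 hg
    rw [h1, h2, sgn_one]; ring
  · rw [if_neg hg]
    rw [mem_pairC, not_and_or] at hg
    rcases hg with h1 | h1
    · rw [sgn_of_ne h1]; ring
    · rw [sgn_of_ne h1]; ring

lemma sgn_comm_mul_left_swap (x y g : G) : sgn ⁅x, g⁆ * sgn ⁅y, g⁆ = sgn ⁅x * y, g⁆ :=
  (h.sgn_comm_mul_left x y g).symm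

lemma expand_pair [Fintype G] (x y : G) (w : G → ℤ) :
    ∑ g : G, (1 + sgn ⁅x, g⁆) * (1 + sgn ⁅y, g⁆) * w g =
      ∑ g : G, w g + ∑ g : G, sgn ⁅x, g⁆ * w g + ∑ g : G, sgn ⁅y, g⁆ * w g +
        ∑ g : G, sgn ⁅x * y, g⁆ * w g := by
  rw [← Finset.sum_add_distrib, ← Finset.sum_add_distrib, ← Finset.sum_add_distrib]
  refine Finset.sum_congr rfl fun g _ => ?_
  rw [h.sgn_comm_mul_left]
  ring

omit h in
lemma not_mem_center_left {x y : G} (hxy : ⁅x, y⁆ ≠ 1) : x ∉ Subgroup.center G :=
  fun hx => hxy (QuadPair.comm_eq_one_of_mem_center hx)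

lemma not_mem_center_right {x y : G} (hxy : ⁅x, y⁆ ≠ 1) : y ∉ Subgroup.center G := by
  intro hy
  apply hxy
  rw [h.comm_symm y x]
  exact QuadPair.comm_eq_one_of_mem_center hy

lemma not_mem_center_mul {x y : G} (hxy : ⁅x, y⁆ ≠ 1) : x * y ∉ Subgroup.center G := by
  intro hxy'
  apply hxy
  have h1 : ⁅x * y, y⁆ = 1 := QuadPair.comm_eq_one_of_mem_center hxy'
  rw [h.comm_mul_left, commutatorElement_self, mul_one] at h1
  exact h1

open Classical in
/-- Size of the centralizer of a noncommuting pair. -/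
lemma card_pairC_mul_four [Fintype G] {x y : G} (hxy : ⁅x, y⁆ ≠ 1) :
    4 * Nat.card (pairC x y) = Nat.card G := by
  have h1 := expand_pair h x y (fun _ => 1)
  rw [sum_pair x y (fun _ => (1:ℤ))] at h1
  simp only [mul_one, h.sum_sgn_comm] at h1
  rw [if_neg (not_mem_center_left hxy), if_neg (not_mem_center_right h hxy),
    if_neg (not_mem_center_mul h hxy)] at h1
  simp only [Finset.sum_ite, Finset.sum_const, Finset.card_univ, add_zero,
    nsmul_eq_mul, mul_one] at h1
  have h2 : Nat.card (pairC x y) = (Finset.univ.filter (fun g : G => g ∈ pairC x y)).card := by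
    rw [Nat.card_eq_fintype_card, Fintype.card_subtype]
  rw [h2, Nat.card_eq_fintype_card]
  exact_mod_cast h1

open Classical in
/-- The Gauss sum of the centralizer of a noncommuting pair. -/
lemma gaussT_pairC [Fintype G] {x y : G} (hxy : ⁅x, y⁆ ≠ 1) :
    4 * gaussT (pairC x y) = gaussT G * (1 + sgn (x ^ 2) + sgn (y ^ 2) + sgn ((x * y) ^ 2)) := by
  have h1 := expand_pair h x y (fun g => sgn (g ^ 2))
  rw [sum_pair x y (fun g => sgn (g ^ 2))] at h1
  rw [h.sum_sgn_comm_mul_sq, h.sum_sgn_comm_mul_sq, h.sum_sgn_comm_mul_sq] at h1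
  rw [gaussT_subgroup, gaussT_eq, h1]
  ring

/-- The pair and its centralizer generate. -/
lemma closure_pairC {x y : G} (hxy : ⁅x, y⁆ ≠ 1) :
    Subgroup.closure ((pairC x y : Set G) ∪ {x, y}) = ⊤ := by
  set M := Subgroup.closure ((pairC x y : Set G) ∪ {x, y}) with hM
  have hxM : x ∈ M := Subgroup.subset_closure (by simp)
  have hyM : y ∈ M := Subgroup.subset_closure (by simp)
  have hCM : ∀ c ∈ pairC x y, c ∈ M := fun c hc => Subgroup.subset_closure (Or.inl hc)
  rw [eq_top_iff]
  intro g _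
  have hyx : ⁅y, x⁆ ≠ 1 := by rwa [h.comm_symm x y]
  have hfix : ∀ a b g : G, ⁅a, g⁆ ≠ 1 → ⁅a, b⁆ ≠ 1 → ⁅a, g * b⁆ = 1 := by
    intro a b g h1 h2
    rw [h.comm_mul_right, h.eq_of_ne_one (h.comm_mem a g) (h.comm_mem a b) h1 h2]
    exact h.mul_self_eq_one_of_mem (h.comm_mem a b)
  obtain ⟨g₁, hg₁, hg₁M⟩ : ∃ g₁, ⁅y, g₁⁆ = 1 ∧ (g₁ ∈ M → g ∈ M) := by
    by_cases h1 : ⁅y, g⁆ = 1
    · exact ⟨g, h1, id⟩
    · refine ⟨g * x, hfix y x g h1 hyx, fun hm => ?_⟩
      have := M.mul_mem hm (M.inv_mem hxM)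
      simpa using this
  obtain ⟨g₂, hg₂y, hg₂x, hg₂M⟩ : ∃ g₂, ⁅y, g₂⁆ = 1 ∧ ⁅x, g₂⁆ = 1 ∧ (g₂ ∈ M → g₁ ∈ M) := by
    by_cases h1 : ⁅x, g₁⁆ = 1
    · exact ⟨g₁, hg₁, h1, id⟩
    · refine ⟨g₁ * y, ?_, hfix x y g₁ h1 hxy, fun hm => ?_⟩
      · rw [h.comm_mul_right, hg₁, commutatorElement_self, mul_one]
      · have := M.mul_mem hm (M.inv_mem hyM)
        simpa using this
  exact hg₁M (hg₂M (hCM _ (mem_pairC.2 ⟨hg₂x, hg₂y⟩)))

/-- The centre of the centralizer of a noncommuting pair. -/
lemma center_pairC {x y : G} (hxy : ⁅x, y⁆ ≠ 1) :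
    Subgroup.center (pairC x y) = (Subgroup.center G).subgroupOf (pairC x y) := by
  ext c
  rw [Subgroup.mem_subgroupOf, Subgroup.mem_center_iff, Subgroup.mem_center_iff]
  constructor
  · intro hc
    -- `c` commutes with the generators
    have hgen : (⊤ : Subgroup G) ≤ Subgroup.centralizer ({(c : G)} : Set G) := by
      rw [← closure_pairC h hxy, Subgroup.closure_le]
      rintro g (hg | hg)
      · simp only [SetLike.mem_coe, Subgroup.mem_centralizer_singleton_iff]
        have := hc ⟨g, hg⟩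
        have h2 := congrArg Subtype.val this
        simpa using h2
      · have hcx := (mem_pairC.1 c.2)
        simp only [SetLike.mem_coe, Subgroup.mem_centralizer_singleton_iff]
        rcases hg with rfl | hg
        · exact (commutatorElement_eq_one_iff_mul_comm.1 hcx.1)
        · rw [Set.mem_singleton_iff] at hg
          subst hg
          exact (commutatorElement_eq_one_iff_mul_comm.1 hcx.2)
    intro g
    have := hgen (Subgroup.mem_top g)
    rw [Subgroup.mem_centralizer_singleton_iff] at this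
    exact this
  · intro hc g
    apply Subtype.ext
    exact hc g

/-- The centralizer of a noncommuting pair is again a quadratic pair with its centre. -/
lemma quadPair_pairC (h' : Z = Subgroup.center G) {x y : G} (hxy : ⁅x, y⁆ ≠ 1) :
    QuadPair (pairC x y) (Subgroup.center (pairC x y)) := by
  subst h'
  have hle : Subgroup.center G ≤ pairC x y := by
    intro u hu
    exact mem_pairC.2 ⟨h.comm_symm u x ▸ QuadPair.comm_eq_one_of_mem_center hu,
      h.comm_symm u y ▸ QuadPair.comm_eq_one_of_mem_center hu⟩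
  have hc := center_pairC h hxy
  refine ⟨?_, le_rfl, ?_, ?_⟩
  · rw [hc, ← h.card_eq]
    exact Nat.card_congr (Subgroup.subgroupOfEquivOfLe hle).toEquiv
  · intro a b
    rw [hc, Subgroup.mem_subgroupOf]
    have : ((⁅a, b⁆ : pairC x y) : G) = ⁅(a : G), (b : G)⁆ := by
      simp [commutatorElement_def]
    rw [this]
    exact h.comm_mem _ _
  · intro a
    rw [hc, Subgroup.mem_subgroupOf, Subgroup.coe_pow]
    exact h.sq_mem _

end Pair

/-- A standard generating tuple of a quadratic pair: `m` hyperbolic pairs, the first one of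
quaternion type when `ε` holds. -/
structure StdTuple {G : Type*} [Group G] (Z : Subgroup G) {m : ℕ} (ε : Bool) (x y : Fin m → G) :
    Prop where
  gen : Subgroup.closure (Set.range x ∪ Set.range y ∪ (Z : Set G)) = ⊤
  xx : ∀ i j, ⁅x i, x j⁆ = 1
  yy : ∀ i j, ⁅y i, y j⁆ = 1
  xy : ∀ i j, ⁅x i, y j⁆ = 1 ↔ i ≠ j
  sqx : ∀ i, (x i) ^ 2 = 1 ↔ ¬ (ε = true ∧ i.val = 0)
  sqy : ∀ i, (y i) ^ 2 = 1 ↔ ¬ (ε = true ∧ i.val = 0)

section Extend

variable {G : Type*} [Group G] {Z : Subgroup G} (h : QuadPair G Z)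
include h

/-- Extending a standard tuple of the centralizer of a hyperbolic pair of involutions. -/
lemma StdTuple.extend (hZ : Z = Subgroup.center G) {x₀ y₀ : G} (hxy : ⁅x₀, y₀⁆ ≠ 1)
    (hx₀ : x₀ ^ 2 = 1) (hy₀ : y₀ ^ 2 = 1) {m : ℕ} {ε : Bool} (hε : m = 0 → ε = false)
    {x y : Fin m → pairC x₀ y₀}
    (ht : StdTuple (Subgroup.center (pairC x₀ y₀)) ε x y) :
    StdTuple Z ε (Fin.snoc (fun i => (x i : G)) x₀ : Fin (m + 1) → G)
      (Fin.snoc (fun i => (y i : G)) y₀ : Fin (m + 1) → G) := by
  have hcoe : ∀ a b : pairC x₀ y₀, ((⁅a, b⁆ : pairC x₀ y₀) : G) = ⁅(a : G), (b : G)⁆ := by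
    intro a b; simp [commutatorElement_def]
  have hcoe1 : ∀ a b : pairC x₀ y₀, ⁅(a : G), (b : G)⁆ = 1 ↔ ⁅a, b⁆ = 1 := by
    intro a b
    rw [← hcoe, OneMemClass.coe_eq_one]
  have hsq1 : ∀ a : pairC x₀ y₀, (a : G) ^ 2 = 1 ↔ a ^ 2 = 1 := by
    intro a
    rw [← Subgroup.coe_pow, OneMemClass.coe_eq_one]
  have hmem : ∀ a : pairC x₀ y₀, ⁅x₀, (a : G)⁆ = 1 ∧ ⁅y₀, (a : G)⁆ = 1 := fun a => mem_pairC.1 a.2
  have hmem' : ∀ a : pairC x₀ y₀, ⁅(a : G), x₀⁆ = 1 ∧ ⁅(a : G), y₀⁆ = 1 := by
    intro a
    refine ⟨?_, ?_⟩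
    · rw [h.comm_symm x₀ a]; exact (hmem a).1
    · rw [h.comm_symm y₀ a]; exact (hmem a).2
  have hyx : ⁅y₀, x₀⁆ ≠ 1 := by rwa [h.comm_symm x₀ y₀]
  refine ⟨?_, ?_, ?_, ?_, ?_, ?_⟩
  · -- generation
    set M := Subgroup.closure (Set.range (Fin.snoc (fun i => (x i : G)) x₀ : Fin (m + 1) → G) ∪
      Set.range (Fin.snoc (fun i => (y i : G)) y₀ : Fin (m + 1) → G) ∪ (Z : Set G)) with hM
    have hxM : x₀ ∈ M := Subgroup.subset_closure (Or.inl (Or.inl ⟨Fin.last m, by simp⟩))
    have hyM : y₀ ∈ M := Subgroup.subset_closure (Or.inl (Or.inr ⟨Fin.last m, by simp⟩))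
    have hxi : ∀ i, (x i : G) ∈ M := fun i =>
      Subgroup.subset_closure (Or.inl (Or.inl ⟨Fin.castSucc i, by simp⟩))
    have hyi : ∀ i, (y i : G) ∈ M := fun i =>
      Subgroup.subset_closure (Or.inl (Or.inr ⟨Fin.castSucc i, by simp⟩))
    have hZM : ∀ u ∈ Z, u ∈ M := fun u hu => Subgroup.subset_closure (Or.inr hu)
    have hCM : pairC x₀ y₀ ≤ M := by
      intro c hc
      have h1 : (⟨c, hc⟩ : pairC x₀ y₀) ∈ Subgroup.closure
          (Set.range x ∪ Set.range y ∪ (Subgroup.center (pairC x₀ y₀) : Set (pairC x₀ y₀))) := by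
        rw [ht.gen]; trivial
      have h2 : ∀ u ∈ Subgroup.closure
          (Set.range x ∪ Set.range y ∪ (Subgroup.center (pairC x₀ y₀) : Set (pairC x₀ y₀))),
          (u : G) ∈ M := by
        intro u hu
        induction hu using Subgroup.closure_induction with
        | mem u hu =>
          rcases hu with (⟨i, rfl⟩ | ⟨i, rfl⟩) | hu
          · exact hxi i
          · exact hyi i
          · apply hZM
            rw [center_pairC h hxy] at hu
            rw [hZ]
            exact hu
        | one => exact M.one_mem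
        | mul a b _ _ ha hb => exact M.mul_mem ha hb
        | inv a _ ha => exact M.inv_mem ha
      exact h2 _ h1
    rw [eq_top_iff, ← closure_pairC h hxy, Subgroup.closure_le]
    rintro g (hg | hg)
    · exact hCM hg
    · rcases hg with rfl | hg
      · exact hxM
      · rw [Set.mem_singleton_iff] at hg
        subst hg
        exact hyM
  · intro i j
    induction i using Fin.lastCases with
    | last =>
      induction j using Fin.lastCases with
      | last => simp
      | cast j => simpa using (hmem (x j)).1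
    | cast i =>
      induction j using Fin.lastCases with
      | last => simpa using (hmem' (x i)).1
      | cast j =>
        simp only [Fin.snoc_castSucc]
        exact (hcoe1 _ _).2 (ht.xx i j)
  · intro i j
    induction i using Fin.lastCases with
    | last =>
      induction j using Fin.lastCases with
      | last => simp
      | cast j => simpa using (hmem (y j)).2
    | cast i =>
      induction j using Fin.lastCases with
      | last => simpa using (hmem' (y i)).2
      | cast j =>
        simp only [Fin.snoc_castSucc]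
        exact (hcoe1 _ _).2 (ht.yy i j)
  · intro i j
    induction i using Fin.lastCases with
    | last =>
      induction j using Fin.lastCases with
      | last => simpa using hxy
      | cast j =>
        simp only [Fin.snoc_last, Fin.snoc_castSucc]
        constructor
        · intro _ h1
          exact absurd h1.symm (Fin.castSucc_lt_last j).ne
        · intro _
          exact (hmem (y j)).1
    | cast i =>
      induction j using Fin.lastCases with
      | last =>
        simp only [Fin.snoc_last, Fin.snoc_castSucc]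
        constructor
        · intro _ h1
          exact absurd h1 (Fin.castSucc_lt_last i).ne
        · intro _
          exact (hmem' (x i)).2
      | cast j =>
        simp only [Fin.snoc_castSucc]
        rw [hcoe1, ht.xy]
        simp
  · intro i
    induction i using Fin.lastCases with
    | last =>
      simp only [Fin.snoc_last, hx₀, Fin.val_last, true_iff]
      rintro ⟨h1, h2⟩
      rw [hε h2] at h1
      exact Bool.false_ne_true h1
    | cast i =>
      simp only [Fin.snoc_castSucc, Fin.val_castSucc]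
      rw [hsq1, ht.sqx]
  · intro i
    induction i using Fin.lastCases with
    | last =>
      simp only [Fin.snoc_last, hy₀, Fin.val_last, true_iff]
      rintro ⟨h1, h2⟩
      rw [hε h2] at h1
      exact Bool.false_ne_true h1
    | cast i =>
      simp only [Fin.snoc_castSucc, Fin.val_castSucc]
      rw [hsq1, ht.sqy]

end Extend

lemma gaussT_pos_of_sq_one {G : Type*} [Group G] [Finite G] (hG : ∀ g : G, g ^ 2 = 1) :
    gaussT G = Nat.card G := by
  letI : Fintype G := Fintype.ofFinite G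
  rw [gaussT_eq]
  simp [hG, sgn_one, Nat.card_eq_fintype_card]

/-- Existence of a standard tuple, with its type `ε` read off from the sign of the Gauss sum. -/
theorem exists_std (m : ℕ) : ∀ (G : Type u) [Group G] [Finite G],
    QuadPair G (Subgroup.center G) → Nat.card G = 2 ^ (2 * m + 1) →
    ∃ ε : Bool, (m = 0 → ε = false) ∧ (ε = false ↔ 0 < gaussT G) ∧
      ∃ x y : Fin m → G, StdTuple (Subgroup.center G) ε x y := by
  induction m with
  | zero =>
    intro G _ _ h hcard
    have htop : Subgroup.center G = ⊤ := by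
      apply Subgroup.eq_top_of_card_eq
      rw [h.card_eq, hcard]; rfl
    have hsq : ∀ g : G, g ^ 2 = 1 := fun g =>
      h.sq_eq_one_of_mem (htop ▸ Subgroup.mem_top g)
    have hT := gaussT_pos_of_sq_one hsq
    refine ⟨false, fun _ => rfl, ?_, Fin.elim0, Fin.elim0, ?_⟩
    · simp only [true_iff, hT]
      rw [hcard]; norm_num
    · refine ⟨?_, fun i => i.elim0, fun i => i.elim0, fun i => i.elim0, fun i => i.elim0,
        fun i => i.elim0⟩
      rw [htop]
      simp
  | succ m ih =>
    intro G _ _ h hcard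
    classical
    letI : Fintype G := Fintype.ofFinite G
    have hnc : ∃ x : G, x ∉ Subgroup.center G := by
      by_contra hall
      push Not at hall
      have htop : Subgroup.center G = ⊤ := eq_top_iff.2 fun x _ => hall x
      have h1 := h.card_eq
      rw [htop, Subgroup.card_top, hcard] at h1
      have : (2:ℕ) ^ (2 * (m + 1) + 1) = 2 ^ 1 := h1
      have := Nat.pow_right_injective (le_refl 2) this
      omega
    have hpair : ∀ x : G, x ∉ Subgroup.center G → ∃ y : G, ⁅x, y⁆ ≠ 1 := by
      intro x hx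
      rw [Subgroup.mem_center_iff] at hx
      push Not at hx
      obtain ⟨y, hy⟩ := hx
      refine ⟨y, fun h1 => hy ?_⟩
      exact (commutatorElement_eq_one_iff_mul_comm.1 h1).symm
    by_cases hcase : ∃ x : G, x ∉ Subgroup.center G ∧ x ^ 2 = 1
    · -- a noncentral involution: split off a hyperbolic pair
      obtain ⟨x₀, hx₀c, hx₀⟩ := hcase
      obtain ⟨y, hy⟩ := hpair x₀ hx₀c
      obtain ⟨y₀, hxy, hy₀⟩ : ∃ y₀ : G, ⁅x₀, y₀⁆ ≠ 1 ∧ y₀ ^ 2 = 1 := by
        by_cases h1 : y ^ 2 = 1
        · exact ⟨y, hy, h1⟩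
        · refine ⟨y * x₀, ?_, ?_⟩
          · rw [h.comm_mul_right, commutatorElement_self, mul_one]; exact hy
          · rw [h.sq_mul, hx₀, mul_one]
            rw [h.eq_of_ne_one (h.comm_mem x₀ y) (h.sq_mem y) hy h1]
            exact h.mul_self_eq_one_of_mem (h.sq_mem y)
      have hC := quadPair_pairC h rfl hxy
      have hcardC : Nat.card (pairC x₀ y₀) = 2 ^ (2 * m + 1) := by
        have h1 := card_pairC_mul_four h hxy
        rw [hcard] at h1
        have h2 : (2:ℕ) ^ (2 * (m + 1) + 1) = 4 * 2 ^ (2 * m + 1) := by ring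
        omega
      obtain ⟨ε, hε0, hεT, x, y, ht⟩ := ih (pairC x₀ y₀) hC hcardC
      refine ⟨ε, fun h1 => absurd h1 (Nat.succ_ne_zero m), ?_, _, _,
        StdTuple.extend h rfl hxy hx₀ hy₀ hε0 ht⟩
      rw [hεT]
      have hT := gaussT_pairC h hxy
      have hyx : ⁅y₀, x₀⁆ ≠ 1 := by rwa [h.comm_symm x₀ y₀]
      have hs : sgn ((x₀ * y₀) ^ 2) = -1 := by
        apply sgn_of_ne
        rw [h.sq_mul, hx₀, hy₀, mul_one, mul_one]
        exact hyx
      rw [hs, hx₀, hy₀, sgn_one] at hT
      have : gaussT G = 2 * gaussT (pairC x₀ y₀) := by linarith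
      rw [this]
      constructor <;> intro h1 <;> linarith
    · -- no noncentral involution: the quaternion case
      push Not at hcase
      obtain ⟨x₀, hx₀c⟩ := hnc
      obtain ⟨y₀, hxy⟩ := hpair x₀ hx₀c
      have hx₀ := hcase x₀ hx₀c
      have hy₀ := hcase y₀ (not_mem_center_right h hxy)
      have hCle : pairC x₀ y₀ ≤ Subgroup.center G := by
        intro c hc
        by_contra hcc
        have hc2 := hcase c hcc
        have h1 : x₀ * c ∉ Subgroup.center G := by
          intro h2
          apply hxy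
          have h3 : ⁅x₀ * c, y₀⁆ = 1 := QuadPair.comm_eq_one_of_mem_center h2
          rw [h.comm_mul_left, h.comm_symm y₀ c, (mem_pairC.1 hc).2, mul_one] at h3
          exact h3
        have h2 := hcase _ h1
        apply h2
        rw [h.sq_mul, h.comm_symm x₀ c, (mem_pairC.1 hc).1, one_mul,
          h.eq_of_ne_one (h.sq_mem x₀) (h.sq_mem c) hx₀ hc2]
        exact h.mul_self_eq_one_of_mem (h.sq_mem c)
      have hleC : Subgroup.center G ≤ pairC x₀ y₀ := by
        intro u hu
        exact mem_pairC.2 ⟨h.comm_symm u x₀ ▸ QuadPair.comm_eq_one_of_mem_center hu,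
          h.comm_symm u y₀ ▸ QuadPair.comm_eq_one_of_mem_center hu⟩
      have hCeq : pairC x₀ y₀ = Subgroup.center G := le_antisymm hCle hleC
      have hcardC : Nat.card (pairC x₀ y₀) = 2 := by rw [hCeq]; exact h.card_eq
      have h1 := card_pairC_mul_four h hxy
      rw [hcard, hcardC] at h1
      have hm : m = 0 := by
        have h2 : (2:ℕ) ^ (2 * (m + 1) + 1) = 2 ^ 3 := by rw [← h1]; norm_num
        have := Nat.pow_right_injective (le_refl 2) h2
        omega
      subst hm
      -- the Gauss sum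
      have hCsq : ∀ c : pairC x₀ y₀, c ^ 2 = 1 := by
        intro c
        apply Subtype.ext
        rw [Subgroup.coe_pow, Subgroup.coe_one]
        exact h.sq_eq_one_of_mem (hCle c.2)
      have hTC := gaussT_pos_of_sq_one hCsq
      have hT := gaussT_pairC h hxy
      rw [hTC, hcardC, sgn_of_ne hx₀, sgn_of_ne hy₀, sgn_of_ne (hcase _ (not_mem_center_mul h hxy))] at hT
      have hneg : gaussT G = -4 := by push_cast at hT; linarith
      refine ⟨true, fun h1 => absurd h1 (Nat.succ_ne_zero 0), ?_, fun _ => x₀, fun _ => y₀, ?_⟩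
      · rw [hneg]; simp
      · refine ⟨?_, fun _ _ => by simp, fun _ _ => by simp, ?_, ?_, ?_⟩
        · rw [eq_top_iff, ← closure_pairC h hxy, Subgroup.closure_le]
          rintro g (hg | hg)
          · exact Subgroup.subset_closure (Or.inr (hCeq ▸ hg))
          · rcases hg with rfl | hg
            · exact Subgroup.subset_closure (Or.inl (Or.inl ⟨0, rfl⟩))
            · rw [Set.mem_singleton_iff] at hg
              subst hg
              exact Subgroup.subset_closure (Or.inl (Or.inr ⟨0, rfl⟩))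
        · intro i j
          have : i = j := Fin.ext (by omega)
          simp [this, hxy]
        · intro i
          simp [hx₀]
        · intro i
          simp [hy₀]

section Iso

/-- Adjoining an element normalizing `H` with square in `H` at most doubles the order. -/
lemma card_sup_zpowers_le {X : Type*} [Group X] [Finite X] (H : Subgroup X) (x : X)
    (hn : ∀ h ∈ H, x * h * x⁻¹ ∈ H) (hx : x ^ 2 ∈ H) :
    Nat.card (H ⊔ Subgroup.zpowers x : Subgroup X) ≤ 2 * Nat.card H := by
  classical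
  have hx2 : x * x ∈ H := by rw [← pow_two]; exact hx
  have hinv : ∀ h ∈ H, x⁻¹ * h * x ∈ H := by
    intro h hh
    have h1 : x⁻¹ * h * x = (x * x)⁻¹ * (x * h * x⁻¹) * (x * x) := by group
    rw [h1]
    exact H.mul_mem (H.mul_mem (H.inv_mem hx2) (hn h hh)) hx2
  let T : Subgroup X :=
    { carrier := {y | y ∈ H ∨ x⁻¹ * y ∈ H}
      mul_mem' := by
        rintro a b (ha | ha) (hb | hb)
        · exact Or.inl (H.mul_mem ha hb)
        · right
          have h1 : x⁻¹ * (a * b) = (x⁻¹ * a * x) * (x⁻¹ * b) := by group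
          rw [h1]
          exact H.mul_mem (hinv a ha) hb
        · right
          have h1 : x⁻¹ * (a * b) = (x⁻¹ * a) * b := by group
          rw [h1]
          exact H.mul_mem ha hb
        · left
          have h1 : a * b = (x * x) * (x⁻¹ * (x⁻¹ * a) * x) * (x⁻¹ * b) := by group
          rw [h1]
          exact H.mul_mem (H.mul_mem hx2 (hinv _ ha)) hb
      one_mem' := Or.inl H.one_mem
      inv_mem' := by
        rintro a (ha | ha)
        · exact Or.inl (H.inv_mem ha)
        · right
          have h1 : x⁻¹ * a⁻¹ = (x⁻¹ * (x⁻¹ * a)⁻¹ * x) * (x * x)⁻¹ := by group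
          rw [h1]
          exact H.mul_mem (hinv _ (H.inv_mem ha)) (H.inv_mem hx2) }
  have hle : H ⊔ Subgroup.zpowers x ≤ T := by
    refine sup_le (fun h hh => Or.inl hh) ?_
    rw [Subgroup.zpowers_le]
    exact Or.inr (by simp [H.one_mem])
  refine (Subgroup.card_le_of_le hle).trans ?_
  let f : T → Bool × H := fun y =>
    if hy : (y : X) ∈ H then (false, ⟨y, hy⟩)
    else (true, ⟨x⁻¹ * y, (y.2.resolve_left hy)⟩)
  have hf : Function.Injective f := by
    intro a b hab
    simp only [f] at hab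
    split_ifs at hab with h1 h2 h2
    · have := congrArg Prod.snd hab
      have h3 := congrArg Subtype.val this
      exact Subtype.ext h3
    · have := congrArg Prod.fst hab
      simp at this
    · have := congrArg Prod.fst hab
      simp at this
    · have := congrArg Prod.snd hab
      have h3 := congrArg Subtype.val this
      exact Subtype.ext (mul_left_cancel h3)
  have h2 := Nat.card_le_card_of_injective f hf
  rwa [Nat.card_prod, Nat.card_eq_fintype_card (α := Bool), Fintype.card_bool] at h2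

lemma sgn_inv {G : Type*} [Group G] (c : G) : sgn c⁻¹ = sgn c := by
  by_cases h : c = 1
  · subst h; simp
  · rw [sgn_of_ne h, sgn_of_ne (inv_ne_one.2 h)]

lemma sgn_comm_inv_right {G : Type*} [Group G] {Z : Subgroup G} (h : QuadPair G Z)
    (a b : G) : sgn ⁅a, b⁻¹⁆ = sgn ⁅a, b⁆ := by
  have h1 := h.sgn_comm_mul_right b⁻¹ b a
  rw [inv_mul_cancel, commutatorElement_one_right, sgn_one] at h1
  have h2 := sgn_mul_self ⁅a, b⁆
  calc sgn ⁅a, b⁻¹⁆ = sgn ⁅a, b⁻¹⁆ * (sgn ⁅a, b⁆ * sgn ⁅a, b⁆) := by rw [h2, mul_one]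
    _ = (sgn ⁅a, b⁻¹⁆ * sgn ⁅a, b⁆) * sgn ⁅a, b⁆ := by ring
    _ = sgn ⁅a, b⁆ := by rw [← h1, one_mul]

lemma sgn_comm_inv_left {G : Type*} [Group G] {Z : Subgroup G} (h : QuadPair G Z)
    (a b : G) : sgn ⁅a⁻¹, b⁆ = sgn ⁅a, b⁆ := by
  rw [h.comm_symm b a⁻¹, sgn_comm_inv_right h, h.comm_symm a b]

lemma eq_of_sgn_eq {G : Type*} [Group G] {Z : Subgroup G} (h : QuadPair G Z) {z : G} (hz : z ∈ Z)
    (hz1 : z ≠ 1) {a : G} (ha : a ∈ Z) (hs : sgn a = -1) : a = z := by
  have : a ≠ 1 := by
    rintro rfl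
    rw [sgn_one] at hs
    norm_num at hs
  exact h.eq_of_ne_one ha hz this hz1

variable {ι : Type*} [Fintype ι] {E : Type u} {E' : Type v} [Group E] [Group E'] [Finite E]
  [Finite E'] {Z : Subgroup E} {Z' : Subgroup E'}

/-- Two quadratic pairs with generating tuples with the same squares and commutators and
the right order are isomorphic. -/
theorem iso_of_tuples (h : QuadPair E Z) (h' : QuadPair E' Z') (e : ι → E) (e' : ι → E')
    (hgen : Subgroup.closure (Set.range e ∪ (Z : Set E)) = ⊤)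
    (hgen' : Subgroup.closure (Set.range e' ∪ (Z' : Set E')) = ⊤)
    (hq : ∀ i, (e i) ^ 2 = 1 ↔ (e' i) ^ 2 = 1)
    (hB : ∀ i j, ⁅e i, e j⁆ = 1 ↔ ⁅e' i, e' j⁆ = 1)
    (hcard : Nat.card E = Nat.card E')
    (hcard2 : 2 ^ (Fintype.card ι + 1) ≤ Nat.card E) : Nonempty (E ≃* E') := by
  classical
  obtain ⟨z, hz, hz1⟩ := h.exists_ne_one
  obtain ⟨z', hz', hz1'⟩ := h'.exists_ne_one
  let g : ι → E × E' := fun i => (e i, e' i)
  let c : E × E' := (z, z')
  let S : Set (E × E') := Set.range g ∪ {c}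
  let K : Subgroup (E × E') := Subgroup.closure S
  have hB' : ∀ i j, sgn ⁅e i, e j⁆ = sgn ⁅e' i, e' j⁆ := by
    intro i j
    by_cases h1 : ⁅e i, e j⁆ = 1
    · rw [h1, (hB i j).1 h1, sgn_one, sgn_one]
    · rw [sgn_of_ne h1, sgn_of_ne (fun h2 => h1 ((hB i j).2 h2))]
  have hq' : ∀ i, sgn ((e i) ^ 2) = sgn ((e' i) ^ 2) := by
    intro i
    by_cases h1 : (e i) ^ 2 = 1
    · rw [h1, (hq i).1 h1, sgn_one, sgn_one]
    · rw [sgn_of_ne h1, sgn_of_ne (fun h2 => h1 ((hq i).2 h2))]
  -- commutators on generators against everything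
  have F1a : ∀ s ∈ S, ∀ q ∈ K, sgn ⁅s.1, q.1⁆ = sgn ⁅s.2, q.2⁆ := by
    intro s hs q hq
    induction hq using Subgroup.closure_induction with
    | mem q hq =>
      rcases hs with ⟨i, rfl⟩ | hs
      · rcases hq with ⟨j, rfl⟩ | hq
        · exact hB' i j
        · rw [Set.mem_singleton_iff] at hq
          subst hq
          simp only [g, c]
          rw [h.comm_symm z (e i), QuadPair.comm_eq_one_of_mem_center (h.le_center hz),
            h'.comm_symm z' (e' i), QuadPair.comm_eq_one_of_mem_center (h'.le_center hz'),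
            sgn_one, sgn_one]
      · rw [Set.mem_singleton_iff] at hs
        subst hs
        simp only [c]
        rw [QuadPair.comm_eq_one_of_mem_center (h.le_center hz),
          QuadPair.comm_eq_one_of_mem_center (h'.le_center hz'), sgn_one, sgn_one]
    | one => simp [sgn_one]
    | mul a b _ _ ha hb =>
      simp only [Prod.fst_mul, Prod.snd_mul]
      rw [h.sgn_comm_mul_right, h'.sgn_comm_mul_right, ha, hb]
    | inv a _ ha =>
      simp only [Prod.fst_inv, Prod.snd_inv]
      rw [sgn_comm_inv_right h, sgn_comm_inv_right h', ha]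
  have F1 : ∀ p ∈ K, ∀ q ∈ K, sgn ⁅p.1, q.1⁆ = sgn ⁅p.2, q.2⁆ := by
    intro p hp q hq
    induction hp using Subgroup.closure_induction with
    | mem p hp => exact F1a p hp q hq
    | one => simp [sgn_one]
    | mul a b _ _ ha hb =>
      simp only [Prod.fst_mul, Prod.snd_mul]
      rw [h.sgn_comm_mul_left, h'.sgn_comm_mul_left, ha, hb]
    | inv a _ ha =>
      simp only [Prod.fst_inv, Prod.snd_inv]
      rw [sgn_comm_inv_left h, sgn_comm_inv_left h', ha]
  have F2 : ∀ p ∈ K, sgn (p.1 ^ 2) = sgn (p.2 ^ 2) := by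
    intro p hp
    induction hp using Subgroup.closure_induction with
    | mem p hp =>
      rcases hp with ⟨i, rfl⟩ | hp
      · exact hq' i
      · rw [Set.mem_singleton_iff] at hp
        subst hp
        simp only [c]
        rw [h.sq_eq_one_of_mem hz, h'.sq_eq_one_of_mem hz', sgn_one, sgn_one]
    | one => simp [sgn_one]
    | mul a b ha hb ha' hb' =>
      simp only [Prod.fst_mul, Prod.snd_mul]
      rw [h.sgn_sq_mul, h'.sgn_sq_mul, ha', hb', F1 b hb a ha]
    | inv a _ ha =>
      simp only [Prod.fst_inv, Prod.snd_inv]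
      rw [inv_pow, inv_pow, sgn_inv, sgn_inv, ha]
  have hcK : c ∈ K := Subgroup.subset_closure (Or.inr rfl)
  -- `{1, c}` contains squares and commutators
  have hone_or : ∀ (a : E) (a' : E'), a ∈ Z → a' ∈ Z' → sgn a = sgn a' →
      ((a, a') : E × E') = 1 ∨ ((a, a') : E × E') = c := by
    intro a a' ha ha' hs
    by_cases h1 : a = 1
    · left
      rw [h1, sgn_one] at hs
      have := sgn_eq_one_iff.1 hs.symm
      rw [h1, this]; rfl
    · right
      rw [sgn_of_ne h1] at hs
      have h2 := eq_of_sgn_eq h hz hz1 ha (sgn_of_ne h1)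
      have h3 := eq_of_sgn_eq h' hz' hz1' ha' hs.symm
      rw [h2, h3]
  have F3 : ∀ p ∈ K, p ^ 2 = 1 ∨ p ^ 2 = c := by
    intro p hp
    have := hone_or _ _ (h.sq_mem p.1) (h'.sq_mem p.2) (F2 p hp)
    simpa [Prod.ext_iff] using this
  have F4 : ∀ p ∈ K, ∀ q ∈ K, ⁅p, q⁆ = 1 ∨ ⁅p, q⁆ = c := by
    intro p hp q hq
    have := hone_or _ _ (h.comm_mem p.1 q.1) (h'.comm_mem p.2 q.2) (F1 p hp q hq)
    simpa [Prod.ext_iff, commutatorElement_def] using this
  -- the order bound
  have hbound : ∀ s : Finset ι,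
      Nat.card (Subgroup.closure ((g '' s) ∪ {c}) : Subgroup (E × E')) ≤ 2 ^ (s.card + 1) := by
    intro s
    induction s using Finset.induction_on with
    | empty =>
      simp only [Finset.coe_empty, Set.image_empty, Set.empty_union, Finset.card_empty, zero_add,
        pow_one]
      rw [← Subgroup.zpowers_eq_closure]
      rw [Nat.card_zpowers]
      have hc2 : c ^ 2 = 1 := by
        ext
        · exact h.sq_eq_one_of_mem hz
        · exact h'.sq_eq_one_of_mem hz'
      exact orderOf_le_of_pow_eq_one (by norm_num) hc2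
    | insert i s his ih =>
      set H := Subgroup.closure ((g '' s) ∪ {c}) with hH
      have hcH : c ∈ H := Subgroup.subset_closure (Or.inr rfl)
      have hHK : H ≤ K := by
        rw [hH, Subgroup.closure_le]
        rintro a (⟨j, -, rfl⟩ | ha)
        · exact Subgroup.subset_closure (Or.inl ⟨j, rfl⟩)
        · rw [Set.mem_singleton_iff] at ha
          rw [ha]; exact hcK
      have hgK : g i ∈ K := Subgroup.subset_closure (Or.inl ⟨i, rfl⟩)
      have hle : Subgroup.closure ((g '' (insert i s : Finset ι)) ∪ {c}) ≤ H ⊔ Subgroup.zpowers (g i) := by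
        rw [Subgroup.closure_le]
        rintro a (⟨j, hj, rfl⟩ | ha)
        · rw [Finset.mem_coe, Finset.mem_insert] at hj
          rcases hj with rfl | hj
          · exact (le_sup_right : Subgroup.zpowers (g j) ≤ _) (Subgroup.mem_zpowers _)
          · exact (le_sup_left : H ≤ _) (Subgroup.subset_closure (Or.inl ⟨j, hj, rfl⟩))
        · rw [Set.mem_singleton_iff] at ha
          rw [ha]
          exact (le_sup_left : H ≤ _) hcH
      have hcard1 := card_sup_zpowers_le H (g i) (by
          intro u hu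
          have h1 : g i * u * (g i)⁻¹ = ⁅g i, u⁆ * u := by
            rw [commutatorElement_def]; group
          rw [h1]
          refine H.mul_mem ?_ hu
          rcases F4 (g i) hgK u (hHK hu) with h2 | h2
          · rw [h2]; exact H.one_mem
          · rw [h2]; exact hcH) (by
          rcases F3 (g i) hgK with h2 | h2
          · rw [h2]; exact H.one_mem
          · rw [h2]; exact hcH)
      calc _ ≤ Nat.card (H ⊔ Subgroup.zpowers (g i) : Subgroup (E × E')) := Subgroup.card_le_of_le hle
        _ ≤ 2 * Nat.card H := hcard1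
        _ ≤ 2 * 2 ^ (s.card + 1) := Nat.mul_le_mul_left 2 ih
        _ = 2 ^ ((insert i s : Finset ι).card + 1) := by
            rw [Finset.card_insert_of_notMem his]; ring
  have hKcard : Nat.card K ≤ 2 ^ (Fintype.card ι + 1) := by
    have h1 := hbound Finset.univ
    have h2 : (g '' (Finset.univ : Finset ι)) ∪ {c} = S := by
      simp [S, Set.image_univ]
    rw [h2] at h1
    exact h1
  -- the projections
  let φ₁ : K →* E := (MonoidHom.fst E E').comp K.subtype
  let φ₂ : K →* E' := (MonoidHom.snd E E').comp K.subtype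
  have hgK : ∀ i, g i ∈ K := fun i => Subgroup.subset_closure (Or.inl ⟨i, rfl⟩)
  have hs₁ : Function.Surjective φ₁ := by
    rw [← MonoidHom.range_eq_top, eq_top_iff, ← hgen, Subgroup.closure_le]
    rintro a (⟨i, rfl⟩ | ha)
    · exact ⟨⟨g i, hgK i⟩, rfl⟩
    · by_cases h1 : a = 1
      · rw [h1]; exact Subgroup.one_mem _
      · rw [h.eq_of_ne_one ha hz h1 hz1]
        exact ⟨⟨c, hcK⟩, rfl⟩
  have hs₂ : Function.Surjective φ₂ := by
    rw [← MonoidHom.range_eq_top, eq_top_iff, ← hgen', Subgroup.closure_le]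
    rintro a (⟨i, rfl⟩ | ha)
    · exact ⟨⟨g i, hgK i⟩, rfl⟩
    · by_cases h1 : a = 1
      · rw [h1]; exact Subgroup.one_mem _
      · rw [h'.eq_of_ne_one ha hz' h1 hz1']
        exact ⟨⟨c, hcK⟩, rfl⟩
  have hKle : Nat.card K ≤ Nat.card E := hKcard.trans hcard2
  have hEle : Nat.card E ≤ Nat.card K := Nat.card_le_card_of_surjective φ₁ hs₁
  have hKE : Nat.card K = Nat.card E := le_antisymm hKle hEle
  have hb₁ : Function.Bijective φ₁ := (Nat.bijective_iff_surjective_and_card φ₁).2 ⟨hs₁, hKE⟩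
  have hb₂ : Function.Bijective φ₂ :=
    (Nat.bijective_iff_surjective_and_card φ₂).2 ⟨hs₂, hKE.trans hcard⟩
  exact ⟨(MulEquiv.ofBijective φ₁ hb₁).symm.trans (MulEquiv.ofBijective φ₂ hb₂)⟩

end Iso

/-- Same order and same sign of the Gauss sum give an isomorphism. -/
theorem iso_of_same_gauss {E : Type u} {E' : Type v} [Group E] [Group E'] [Finite E] [Finite E']
    (h : QuadPair E (Subgroup.center E)) (h' : QuadPair E' (Subgroup.center E')) (m : ℕ)
    (hc : Nat.card E = 2 ^ (2 * m + 1)) (hc' : Nat.card E' = 2 ^ (2 * m + 1))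
    (hT : 0 < gaussT E ↔ 0 < gaussT E') : Nonempty (E ≃* E') := by
  obtain ⟨ε, -, hε, x, y, ht⟩ := exists_std m E h hc
  obtain ⟨ε', -, hε', x', y', ht'⟩ := exists_std m E' h' hc'
  have hεε : ε = ε' := by
    have h1 : ε = false ↔ ε' = false := by rw [hε, hε', hT]
    cases ε <;> cases ε' <;> simp_all
  subst hεε
  refine iso_of_tuples (ι := Fin m ⊕ Fin m) h h' (Sum.elim x y) (Sum.elim x' y') ?_ ?_ ?_ ?_ ?_ ?_
  · rw [Set.Sum.elim_range]; exact ht.gen
  · rw [Set.Sum.elim_range]; exact ht'.gen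
  · rintro (i | i)
    · simp only [Sum.elim_inl]; rw [ht.sqx, ht'.sqx]
    · simp only [Sum.elim_inr]; rw [ht.sqy, ht'.sqy]
  · rintro (i | i) (j | j)
    · simp only [Sum.elim_inl]; simp [ht.xx, ht'.xx]
    · simp only [Sum.elim_inl, Sum.elim_inr]; rw [ht.xy, ht'.xy]
    · simp only [Sum.elim_inl, Sum.elim_inr]
      rw [h.comm_symm (x j) (y i), h'.comm_symm (x' j) (y' i), ht.xy, ht'.xy]
    · simp only [Sum.elim_inr]; simp [ht.yy, ht'.yy]
  · rw [hc, hc']
  · rw [hc]
    simp only [Fintype.card_sum, Fintype.card_fin]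
    apply le_of_eq
    congr 1
    omega

/-- The order and the Gauss sum of an extraspecial 2-group. -/
theorem extraspecial_card {E : Type*} [Group E] [Finite E] (hE : Cfsg.IsExtraspecial 2 E) :
    ∃ m : ℕ, 1 ≤ m ∧ Nat.card E = 2 ^ (2 * m + 1) ∧
      (gaussT E = 2 ^ (m + 1) ∨ gaussT E = -2 ^ (m + 1)) := by
  letI : Fintype E := Fintype.ofFinite E
  have h := quadPair_of_extraspecial hE
  obtain ⟨k, hk⟩ := (IsPGroup.iff_card).1 hE.1.1
  have hsq : ∀ u ∈ Subgroup.center E, u ^ 2 = 1 := fun u hu => h.sq_eq_one_of_mem hu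
  have hT2 := h.sum_sq_sq
  rw [h.sum_center_sgn, if_pos hsq, ← Nat.card_eq_fintype_card, hk, h.card_eq, ← gaussT_eq] at hT2
  have hT3 : gaussT E ^ 2 = 2 ^ (k + 1) := by
    rw [hT2]; push_cast; rw [pow_succ]
  obtain ⟨s, hs, hsT⟩ := int_sq_eq_two_pow hT3
  -- nonabelian
  have hk1 : k ≠ 1 := by
    rintro rfl
    have htop : Subgroup.center E = ⊤ := by
      apply Subgroup.eq_top_of_card_eq
      rw [h.card_eq, hk]; rfl
    have hcomm : commutator E = ⊥ := by
      rw [commutator_eq_bot_iff_center_eq_top]; exact htop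
    have h1 := hE.1.2.2
    rw [hcomm] at h1
    have h2 := h.card_eq
    rw [← h1] at h2
    simp at h2
  obtain ⟨m, rfl⟩ : ∃ m, s = m + 1 := ⟨s - 1, by omega⟩
  refine ⟨m, by omega, ?_, hsT⟩
  rw [hk]
  congr 1
  omega

section Rank

variable {E : Type*} [Group E] [Finite E]

lemma sum_subgroup [Fintype E] (C : Subgroup E) [Fintype C] (f : E → ℤ) [DecidablePred (· ∈ C)] :
    ∑ a : C, f a = ∑ g : E, if g ∈ C then f g else 0 := by
  rw [← Finset.sum_filter,
    Finset.sum_subtype (p := (· ∈ C)) (Finset.univ.filter (· ∈ C)) (by simp) f]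

/-- Existence of an elementary abelian subgroup of maximal order. -/
lemma exists_max_elementary (E : Type*) [Group E] [Finite E] :
    ∃ A : Subgroup E, Cfsg.IsElementaryAbelian 2 A ∧
      ∀ B : Subgroup E, Cfsg.IsElementaryAbelian 2 B → Nat.card B ≤ Nat.card A := by
  classical
  have hne : Nonempty {A : Subgroup E // Cfsg.IsElementaryAbelian 2 A} :=
    ⟨⟨⊥, Cfsg.Agent.Lib.PGroup.Basic.isElementaryAbelian_bot⟩⟩
  obtain ⟨A, hA⟩ := Finite.exists_max (fun A : {A : Subgroup E // Cfsg.IsElementaryAbelian 2 A} =>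
    Nat.card A.1)
  exact ⟨A.1, A.2, fun B hB => hA ⟨B, hB⟩⟩

end Rank

end Cfsg.Agent.Lib.PGroup.ExtraClass
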