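import Cfsg.Prelude.Def_Transfer
import Cfsg.Agent.Lib.PGroup.Basic
import Mathlib

/-!
# The squaring form of a 2-group with a central subgroup of order two

`QuadPair G Z` says: `Z` is a central subgroup of order two containing all squares and commutators.
Characters of `Z`, through `sgn`, give Gauss sums of the squaring map.
-/

set_option autoImplicit false
open scoped commutatorElement

namespace Cfsg.Agent.Lib.PGroup.ExtraQuad

variable {G : Type*} [Group G]

/-- The sign of an element (intended for elements of a central subgroup of order two). -/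
noncomputable def sgn (c : G) : ℤ := by
  classical exact if c = 1 then 1 else -1

lemma sgn_one : sgn (1 : G) = 1 := by simp [sgn]

lemma sgn_of_ne {c : G} (h : c ≠ 1) : sgn c = -1 := by simp [sgn, h]

lemma sgn_eq_one_iff {c : G} : sgn c = 1 ↔ c = 1 := by
  constructor
  · intro h
    by_contra h1
    rw [sgn_of_ne h1] at h
    norm_num at h
  · rintro rfl; exact sgn_one

lemma sgn_mul_self (c : G) : sgn c * sgn c = 1 := by
  by_cases h : c = 1
  · subst h; simp [sgn_one]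
  · simp [sgn_of_ne h]

/-- `Z` is a central subgroup of order two containing all squares and commutators. -/
structure QuadPair (G : Type*) [Group G] (Z : Subgroup G) : Prop where
  card_eq : Nat.card Z = 2
  le_center : Z ≤ Subgroup.center G
  comm_mem : ∀ x y : G, ⁅x, y⁆ ∈ Z
  sq_mem : ∀ x : G, x ^ 2 ∈ Z

namespace QuadPair

variable {Z : Subgroup G} (h : QuadPair G Z)
include h

lemma eq_of_ne_one {c d : G} (hc : c ∈ Z) (hd : d ∈ Z) (hc1 : c ≠ 1) (hd1 : d ≠ 1) : c = d := by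
  obtain ⟨y, -, hy⟩ := (Nat.card_eq_two_iff' (1 : Z)).1 h.card_eq
  have h1 := hy ⟨c, hc⟩ (by simpa [Subtype.ext_iff] using hc1)
  have h2 := hy ⟨d, hd⟩ (by simpa [Subtype.ext_iff] using hd1)
  have := congrArg Subtype.val (h1.trans h2.symm)
  simpa using this

lemma sq_eq_one_of_mem {c : G} (hc : c ∈ Z) : c ^ 2 = 1 := by
  have : (⟨c, hc⟩ : Z) ^ Nat.card Z = 1 := pow_card_eq_one'
  rw [h.card_eq] at this
  have := congrArg Subtype.val this
  simpa using this

lemma mul_self_eq_one_of_mem {c : G} (hc : c ∈ Z) : c * c = 1 := by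
  rw [← pow_two]; exact h.sq_eq_one_of_mem hc

lemma exists_ne_one : ∃ z ∈ Z, z ≠ 1 := by
  obtain ⟨y, hy, -⟩ := (Nat.card_eq_two_iff' (1 : Z)).1 h.card_eq
  refine ⟨y, y.2, fun h1 => hy (Subtype.ext h1)⟩

lemma sgn_mul {c d : G} (hc : c ∈ Z) (hd : d ∈ Z) :
    sgn (c * d) = sgn c * sgn d := by
  by_cases hc1 : c = 1
  · subst hc1; simp [sgn_one]
  by_cases hd1 : d = 1
  · subst hd1; simp [sgn_one]
  have hcd := h.eq_of_ne_one hc hd hc1 hd1
  subst hcd
  rw [h.mul_self_eq_one_of_mem hc, sgn_one, sgn_of_ne hc1]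
  norm_num

lemma mem_center_of_mem {c : G} (hc : c ∈ Z) (g : G) : g * c = c * g :=
  (Subgroup.mem_center_iff.1 (h.le_center hc)) g

/-- Bimultiplicativity of the commutator: first variable. -/
lemma comm_mul_left (x y w : G) : ⁅x * y, w⁆ = ⁅x, w⁆ * ⁅y, w⁆ := by
  have h2 := h.mem_center_of_mem (h.comm_mem y w) x
  simp only [commutatorElement_def] at h2 ⊢
  calc x * y * w * (x * y)⁻¹ * w⁻¹
      = x * (y * w * y⁻¹ * w⁻¹) * (w * x⁻¹ * w⁻¹) := by group
    _ = (y * w * y⁻¹ * w⁻¹) * x * (w * x⁻¹ * w⁻¹) := by rw [h2]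
    _ = (y * w * y⁻¹ * w⁻¹) * (x * w * x⁻¹ * w⁻¹) := by group
    _ = (x * w * x⁻¹ * w⁻¹) * (y * w * y⁻¹ * w⁻¹) := by
        have h3 := h.mem_center_of_mem (h.comm_mem x w) (y * w * y⁻¹ * w⁻¹)
        simp only [commutatorElement_def] at h3
        exact h3

lemma comm_symm (x y : G) : ⁅y, x⁆ = ⁅x, y⁆ := by
  have h1 : ⁅y, x⁆ = ⁅x, y⁆⁻¹ := (commutatorElement_inv x y).symm
  rw [h1]
  have h2 := h.mul_self_eq_one_of_mem (h.comm_mem x y)
  exact inv_eq_of_mul_eq_one_left h2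

/-- Bimultiplicativity of the commutator: second variable. -/
lemma comm_mul_right (x y w : G) : ⁅w, x * y⁆ = ⁅w, x⁆ * ⁅w, y⁆ := by
  rw [h.comm_symm (x * y) w, h.comm_mul_left, h.comm_symm w x, h.comm_symm w y]

/-- `(x a)^2 = ⁅a, x⁆ x² a²`. -/
lemma sq_mul (x a : G) : (x * a) ^ 2 = ⁅a, x⁆ * x ^ 2 * a ^ 2 := by
  have h1 := h.mem_center_of_mem (h.comm_mem a x) x
  simp only [commutatorElement_def] at h1 ⊢
  calc (x * a) ^ 2 = x * a * (x * a) := pow_two _
    _ = x * (a * x * a⁻¹ * x⁻¹) * (x * a * a) := by group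
    _ = (a * x * a⁻¹ * x⁻¹) * x * (x * a * a) := by rw [h1]
    _ = a * x * a⁻¹ * x⁻¹ * x ^ 2 * a ^ 2 := by
        simp only [pow_two]; group

lemma sgn_sq_mul (x a : G) : sgn ((x * a) ^ 2) = sgn ⁅a, x⁆ * sgn (x ^ 2) * sgn (a ^ 2) := by
  rw [h.sq_mul, h.sgn_mul (Z.mul_mem (h.comm_mem _ _) (h.sq_mem _)) (h.sq_mem _),
    h.sgn_mul (h.comm_mem _ _) (h.sq_mem _)]

lemma sgn_comm_mul_left (x y w : G) : sgn ⁅x * y, w⁆ = sgn ⁅x, w⁆ * sgn ⁅y, w⁆ := by
  rw [h.comm_mul_left, h.sgn_mul (h.comm_mem _ _) (h.comm_mem _ _)]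

lemma sgn_comm_mul_right (x y w : G) : sgn ⁅w, x * y⁆ = sgn ⁅w, x⁆ * sgn ⁅w, y⁆ := by
  rw [h.comm_mul_right, h.sgn_mul (h.comm_mem _ _) (h.comm_mem _ _)]

omit h in
/-- Orthogonality: the sum of the signs of a multiplicative map with a nontrivial value vanishes. -/
lemma sum_sgn_of_ne {H : Type*} [Group H] [Fintype H]
    (f : H → ℤ) (hf : ∀ a b, f (a * b) = f a * f b) (a₀ : H) (h₀ : f a₀ = -1) : ∑ x, f x = 0 := by
  have h1 : ∑ x, f x = ∑ x, f (x * a₀) :=
    (Equiv.sum_comp (Equiv.mulRight a₀) f).symm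
  have h2 : ∑ x, f (x * a₀) = - ∑ x, f x := by
    rw [← Finset.sum_neg_distrib]
    refine Finset.sum_congr rfl fun x _ => ?_
    rw [hf, h₀]; ring
  linarith

omit h in
lemma comm_eq_one_of_mem_center {a g : G} (ha : a ∈ Subgroup.center G) : ⁅a, g⁆ = 1 := by
  rw [commutatorElement_eq_one_iff_mul_comm]
  exact ((Subgroup.mem_center_iff.1 ha) g).symm

open Classical in
/-- Orthogonality for the commutator pairing. -/
lemma sum_sgn_comm [Fintype G] (a : G) :
    ∑ x : G, sgn ⁅a, x⁆ = if a ∈ Subgroup.center G then (Fintype.card G : ℤ) else 0 := by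
  classical
  split_ifs with ha
  · simp [comm_eq_one_of_mem_center ha, sgn_one]
  · rw [Subgroup.mem_center_iff] at ha
    push Not at ha
    obtain ⟨x₀, hx₀⟩ := ha
    refine sum_sgn_of_ne _ (h.sgn_comm_mul_right · · a) x₀ (sgn_of_ne ?_)
    intro h1
    rw [commutatorElement_eq_one_iff_mul_comm] at h1
    exact hx₀ h1.symm

/-- `∑ sgn ⁅a, g⁆ sgn(g²) = sgn(a²) · ∑ sgn (g²)`. -/
lemma sum_sgn_comm_mul_sq [Fintype G] (a : G) :
    ∑ g : G, sgn ⁅a, g⁆ * sgn (g ^ 2) = sgn (a ^ 2) * ∑ g : G, sgn (g ^ 2) := by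
  have h1 : ∑ g : G, sgn (g ^ 2) = ∑ g : G, sgn ((g * a) ^ 2) :=
    (Equiv.sum_comp (Equiv.mulRight a) (fun g => sgn (g ^ 2))).symm
  rw [h1, Finset.mul_sum]
  refine Finset.sum_congr rfl fun g _ => ?_
  rw [h.sgn_sq_mul]
  have := sgn_mul_self (a ^ 2)
  calc sgn ⁅a, g⁆ * sgn (g ^ 2) = sgn ⁅a, g⁆ * sgn (g ^ 2) * (sgn (a ^ 2) * sgn (a ^ 2)) := by
        rw [this, mul_one]
    _ = _ := by ring

open Classical in
/-- The Gauss sum of the squaring map: square. -/
theorem sum_sq_sq [Fintype G] :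
    (∑ g : G, sgn (g ^ 2)) ^ 2 =
      (Fintype.card G : ℤ) * ∑ u : G, if u ∈ Subgroup.center G then sgn (u ^ 2) else 0 := by
  have h1 : (∑ g : G, sgn (g ^ 2)) ^ 2 = ∑ u : G, ∑ g : G, sgn (u ^ 2) * sgn ⁅u, g⁆ := by
    have h2 : ∀ u : G, ∑ g : G, sgn (u ^ 2) * sgn ⁅u, g⁆ =
        ∑ g : G, sgn ((u * g) ^ 2) * sgn (g ^ 2) := by
      intro u
      refine Finset.sum_congr rfl fun g _ => ?_
      rw [h.sgn_sq_mul, h.comm_symm g u]
      have := sgn_mul_self (g ^ 2)
      linear_combination (-(sgn ⁅g, u⁆ * sgn (u ^ 2))) * this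
    simp only [h2]
    rw [pow_two]
    calc (∑ g : G, sgn (g ^ 2)) * ∑ g : G, sgn (g ^ 2)
        = ∑ g : G, (∑ u : G, sgn (u ^ 2)) * sgn (g ^ 2) := Finset.mul_sum _ _ _
      _ = ∑ g : G, ∑ u : G, sgn ((u * g) ^ 2) * sgn (g ^ 2) := by
          refine Finset.sum_congr rfl fun g _ => ?_
          rw [← Finset.sum_mul]
          congr 1
          exact (Equiv.sum_comp (Equiv.mulRight g) (fun x => sgn (x ^ 2))).symm
      _ = _ := Finset.sum_comm
  rw [h1, Finset.mul_sum]
  refine Finset.sum_congr rfl fun u _ => ?_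
  rw [← Finset.mul_sum, h.sum_sgn_comm u]
  split_ifs <;> ring

open Classical in
/-- The central sum. -/
lemma sum_center_sgn [Fintype G] :
    (∑ u : G, if u ∈ Subgroup.center G then sgn (u ^ 2) else 0) =
      if ∀ u ∈ Subgroup.center G, u ^ 2 = 1 then (Nat.card (Subgroup.center G) : ℤ) else 0 := by
  classical
  letI : Fintype (Subgroup.center G) := Fintype.ofFinite _
  have h1 : (∑ u : G, if u ∈ Subgroup.center G then sgn (u ^ 2) else 0) =
      ∑ u : Subgroup.center G, sgn ((u : G) ^ 2) := by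
    rw [← Finset.sum_filter]
    exact (Finset.sum_subtype _ (by simp) _)
  rw [h1]
  split_ifs with hc
  · have : ∀ u : Subgroup.center G, sgn ((u : G) ^ 2) = 1 := fun u => by
      rw [hc u u.2, sgn_one]
    simp [this, Nat.card_eq_fintype_card]
  · push Not at hc
    obtain ⟨u₀, hu₀, hne⟩ := hc
    refine sum_sgn_of_ne (fun u : Subgroup.center G => sgn ((u : G) ^ 2)) ?_ ⟨u₀, hu₀⟩ (sgn_of_ne hne)
    intro a b
    simp only [Subgroup.coe_mul]
    rw [h.sgn_sq_mul, comm_eq_one_of_mem_center b.2, sgn_one, one_mul]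

omit h in
/-- `2 j = |G| + T`, where `j` is the number of solutions of `x² = 1`. -/
lemma two_mul_card_sq_eq_one [Fintype G] :
    2 * ((Nat.card {x : G // x ^ 2 = 1} : ℕ) : ℤ) = (Fintype.card G : ℤ) + ∑ g : G, sgn (g ^ 2) := by
  classical
  have h1 : ∑ g : G, sgn (g ^ 2) = (Finset.univ.filter (fun x : G => x ^ 2 = 1)).card -
      (Finset.univ.filter (fun x : G => ¬ x ^ 2 = 1)).card := by
    have : ∀ x : G, sgn (x ^ 2) = if x ^ 2 = 1 then (1:ℤ) else -1 := by
      intro x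
      split_ifs with h
      · rw [h, sgn_one]
      · exact sgn_of_ne h
    simp only [this]
    rw [Finset.sum_ite]
    simp
    ring
  have h2 : (Finset.univ.filter (fun x : G => x ^ 2 = 1)).card +
      (Finset.univ.filter (fun x : G => ¬ x ^ 2 = 1)).card = Fintype.card G := by
    rw [Finset.card_filter_add_card_filter_not, Finset.card_univ]
  have h3 : Nat.card {x : G // x ^ 2 = 1} = (Finset.univ.filter (fun x : G => x ^ 2 = 1)).card := by
    rw [Nat.card_eq_fintype_card]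
    exact Fintype.card_of_subtype _ (by simp)
  rw [h3, h1]
  have h4 : ((Finset.univ.filter (fun x : G => x ^ 2 = 1)).card : ℤ) +
      (Finset.univ.filter (fun x : G => ¬ x ^ 2 = 1)).card = Fintype.card G := by exact_mod_cast h2
  linarith

end QuadPair

/-- An extraspecial 2-group gives a quadratic pair with its centre. -/
lemma quadPair_of_extraspecial [Finite G] (hE : Cfsg.IsExtraspecial 2 G) :
    QuadPair G (Subgroup.center G) := by
  obtain ⟨⟨hp, hfr, hco⟩, hZ2⟩ := hE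
  haveI : Fact (Nat.Prime 2) := ⟨Nat.prime_two⟩
  refine ⟨hZ2, le_rfl, ?_, ?_⟩
  · intro x y
    rw [← hco]
    exact Subgroup.commutator_mem_commutator (Subgroup.mem_top x) (Subgroup.mem_top y)
  · intro x
    rw [← hfr]
    exact Cfsg.Agent.Lib.PGroup.Basic.pow_mem_frattini hp x

/-- A normal subgroup of order two is central. -/
lemma le_center_of_card_two {Z : Subgroup G} [Z.Normal] (hZ : Nat.card Z = 2) :
    Z ≤ Subgroup.center G := by
  intro c hc
  rw [Subgroup.mem_center_iff]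
  intro g
  by_cases hc1 : c = 1
  · subst hc1; simp
  obtain ⟨y, -, hy⟩ := (Nat.card_eq_two_iff' (1 : Z)).1 hZ
  have h1 := hy ⟨c, hc⟩ (by simpa [Subtype.ext_iff] using hc1)
  have hm : g * c * g⁻¹ ∈ Z := Subgroup.Normal.conj_mem inferInstance c hc g
  have h2 := hy ⟨g * c * g⁻¹, hm⟩ (by
    simp only [ne_eq, Subtype.ext_iff, OneMemClass.coe_one]
    intro h3
    apply hc1
    have : c = g⁻¹ * (g * c * g⁻¹) * g := by group
    rw [this, h3]; group)
  have h3 := congrArg Subtype.val (h2.trans h1.symm)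
  simp only at h3
  calc g * c = g * c * g⁻¹ * g := by group
    _ = c * g := by rw [h3]

/-- A 2-group whose Frattini subgroup has order two gives a quadratic pair. -/
lemma quadPair_of_frattini [Finite G] (hG : IsPGroup 2 G) (hΦ : Nat.card (frattini G) = 2) :
    QuadPair G (frattini G) := by
  haveI : Fact (Nat.Prime 2) := ⟨Nat.prime_two⟩
  refine ⟨hΦ, le_center_of_card_two hΦ, ?_, ?_⟩
  · intro x y
    exact Cfsg.Agent.Lib.PGroup.Basic.commutatorElement_mem_frattini hG x y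
  · intro x
    exact Cfsg.Agent.Lib.PGroup.Basic.pow_mem_frattini hG x

/-- An integer whose square is a power of two. -/
lemma int_sq_eq_two_pow {T : ℤ} {n : ℕ} (h : T ^ 2 = 2 ^ n) :
    ∃ s : ℕ, n = 2 * s ∧ (T = 2 ^ s ∨ T = -2 ^ s) := by
  have h1 : T.natAbs ^ 2 = 2 ^ n := by
    have := congrArg Int.natAbs h
    simpa [Int.natAbs_pow] using this
  have h2 : T.natAbs ∣ 2 ^ n := by
    rw [← h1]; exact dvd_pow_self _ (by norm_num)
  obtain ⟨a, -, ha⟩ := (Nat.dvd_prime_pow Nat.prime_two).1 h2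
  rw [ha, ← pow_mul] at h1
  have h3 : a * 2 = n := Nat.pow_right_injective (le_refl 2) h1
  refine ⟨a, by omega, ?_⟩
  rcases Int.natAbs_eq T with h4 | h4
  · left; rw [h4, ha]; push_cast; rfl
  · right; rw [h4, ha]; push_cast; rfl

end Cfsg.Agent.Lib.PGroup.ExtraQuad
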