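import Cfsg.Agent.Lib.PGroup.FFDuo
import Cfsg.Agent.Lib.Coprime.Averaging
import Mathlib

/-!
# The dichotomy between two duos
-/

set_option autoImplicit false
set_option linter.unusedSectionVars false
set_option linter.style.haveILetI false
open Cfsg
open scoped commutatorElement

namespace Cfsg.Agent.Lib.PGroup.FFDich

open Cfsg.Agent.Lib.PGroup.Timmesfeld Cfsg.Agent.Lib.PGroup.FFPair Cfsg.Agent.Lib.PGroup.FFTv
  Cfsg.Agent.Lib.PGroup.FFDuo
open Cfsg.Agent.Lib.Components.LayerProduct (mem_sup_of_commute)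

variable {G : Type*} [Group G] [Finite G] {p : ℕ} [hp : Fact p.Prime] {V H : Subgroup G}
variable {a b c e : G}

theorem cen_le_W_of_mem_E (S : Setup p V H) (D : Duo p V H a b) {g : G} (hg : g ∈ EE a b) :
    cen V g ≤ WW V a b := by
  rw [← comm_W S D]
  apply Subgroup.commutator_mono le_rfl
  rw [Subgroup.zpowers_le]
  exact hg

theorem a_mem_E : a ∈ EE a b := (le_sup_left : Subgroup.zpowers a ≤ EE a b) (Subgroup.mem_zpowers a)
theorem b_mem_E : b ∈ EE a b := (le_sup_right : Subgroup.zpowers b ≤ EE a b) (Subgroup.mem_zpowers b)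

/-- The core normalizes the plane. -/
theorem core_conj_W (S : Setup p V H) (D : Duo p V H a b) {x w : G} (hx : x ∈ core p H) (hw : w ∈ WW V a b) :
    x * w * x⁻¹ ∈ WW V a b := by
  obtain ⟨u₁, hu₁, u₂, hu₂, rfl⟩ := mem_W S D hw
  have hxN := S.hHV (core_le H hx)
  have h1 := conj_mem_cen hxN hu₁
  have h2 := conj_mem_cen hxN hu₂
  have h3 := cen_le_W_of_mem_E S D (mem_E_of_cl S D (D.cl_a.conj_core S D.ha hx)) h1
  have h4 := cen_le_W_of_mem_E S D (mem_E_of_cl S D (D.cl_b.conj_core S D.ha hx)) h2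
  have h5 := (WW V a b).mul_mem h3 h4
  have h6 : x * u₁ * x⁻¹ * (x * u₂ * x⁻¹) = x * (u₁ * u₂) * x⁻¹ := by group
  rwa [h6] at h5

/-- `E` normalizes the plane, and `[w, g] ∈ W`. -/
theorem comm_mem_W (S : Setup p V H) (D : Duo p V H a b) {g v : G} (hg : g ∈ EE a b) (hv : v ∈ V) :
    g * v * g⁻¹ * v⁻¹ ∈ WW V a b := by
  have h1 : ⁅v, g⁆ ∈ ⁅V, EE a b⁆ := Subgroup.commutator_mem_commutator hv hg
  rw [comm_W S D] at h1
  have h2 := (WW V a b).inv_mem h1
  have h3 : ⁅v, g⁆⁻¹ = g * v * g⁻¹ * v⁻¹ := by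
    rw [commutatorElement_def]; group
  rwa [h3] at h2

theorem E_conj_W (S : Setup p V H) (D : Duo p V H a b) {g w : G} (hg : g ∈ EE a b) (hw : w ∈ WW V a b) :
    g * w * g⁻¹ ∈ WW V a b := by
  have h1 := comm_mem_W S D hg (WW_le S D hw)
  have h2 := (WW V a b).mul_mem h1 hw
  have h3 : g * w * g⁻¹ * w⁻¹ * w = g * w * g⁻¹ := by group
  rwa [h3] at h2

/-- For each element of the class, there is a different element of `{a, b}`. -/
theorem exists_other (D : Duo p V H a b) {c : G} :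
    ∃ c', Cl p V H a c' ∧ c' ∈ EE a b ∧ c' ≠ c := by
  by_cases h : a = c
  · exact ⟨b, D.cl_b, b_mem_E, fun h2 => D.hne (h.trans h2.symm)⟩
  · exact ⟨a, D.cl_a, a_mem_E, h⟩

/-- The `p'`-part of `E` fixes no line of the plane. -/
theorem exists_move (S : Setup p V H) (D : Duo p V H a b) {w : G} (hw : w ∈ WW V a b) (hw1 : w ≠ 1) :
    ∃ y ∈ core p H ⊓ EE a b, y * w * y⁻¹ ∉ Subgroup.zpowers w := by
  obtain ⟨c, hc, hcE, hwc⟩ := exists_cl_of_mem_W S D hw hw1
  obtain ⟨c', hc', hc'E, hne⟩ := exists_other D (c := c)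
  refine ⟨c' * c⁻¹, Subgroup.mem_inf.mpr ⟨hc'.mul_inv hc, (EE a b).mul_mem hc'E ((EE a b).inv_mem hcE)⟩, ?_⟩
  intro hmem
  have hwV := cen_le S hc.1.mem hwc
  have hfix := fix_cen S hc.1 w hwc
  have hfix' : c⁻¹ * w * c = w := by
    calc c⁻¹ * w * c = c⁻¹ * (w * c) := by group
      _ = c⁻¹ * (c * w) := by rw [hfix]
      _ = w := by group
  have h1 : c' * c⁻¹ * w * (c' * c⁻¹)⁻¹ = c' * w * c'⁻¹ := by
    calc c' * c⁻¹ * w * (c' * c⁻¹)⁻¹ = c' * (c⁻¹ * w * c) * c'⁻¹ := by group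
      _ = _ := by rw [hfix']
  rw [h1] at hmem
  have ht := comm'_mem_cen (a := c') hwV
  have hzp := (Subgroup.zpowers_le).mpr hwc
  have ht2 : c' * w * c'⁻¹ * w⁻¹ ∈ cen V c :=
    hzp ((Subgroup.zpowers w).mul_mem hmem ((Subgroup.zpowers w).inv_mem (Subgroup.mem_zpowers w)))
  have ht3 : c' * w * c'⁻¹ * w⁻¹ ∈ cen V c ⊓ cen V c' := Subgroup.mem_inf.mpr ⟨ht2, ht⟩
  rw [cen_inf_of_ne S hc hc' hne.symm] at ht3
  have ht4 : c' * w * c'⁻¹ * w⁻¹ = 1 := ht3
  have hfix2 : c' * w = w * c' := by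
    calc c' * w = (c' * w * c'⁻¹ * w⁻¹) * (w * c') := by group
      _ = w * c' := by rw [ht4, one_mul]
  exact hne (hc'.eq_of_fix_elt S hc hwc hw1 hfix2)

/-- Part A of the dichotomy. -/
theorem W_eq_of_inf_ne (S : Setup p V H) (D₁ : Duo p V H a b) (D₂ : Duo p V H c e)
    (h : WW V a b ⊓ WW V c e ≠ ⊥) : WW V a b = WW V c e := by
  by_contra hne
  obtain ⟨w, hw, hw1⟩ := (Subgroup.ne_bot_iff_exists_ne_one.mp h) |> fun ⟨w, hw⟩ =>
    (⟨w.1, w.2, fun h => hw (Subtype.ext h)⟩ : ∃ w ∈ WW V a b ⊓ WW V c e, w ≠ 1)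
  obtain ⟨hw₁, hw₂⟩ := Subgroup.mem_inf.mp hw
  -- the intersection has order `p`
  have hpg : IsPGroup p ↥(WW V a b) := (isPGroup_of_isEA S.hV).to_le (WW_le S D₁)
  have hdvd : Nat.card ↥(WW V a b ⊓ WW V c e) ∣ p ^ 2 := by
    rw [← card_W S D₁]
    exact Subgroup.card_dvd_of_le inf_le_left
  obtain ⟨k, hk, hcard⟩ := (Nat.dvd_prime_pow hp.out).mp hdvd
  have hk1 : k ≠ 2 := by
    rintro rfl
    apply hne
    have h3 : WW V a b ⊓ WW V c e = WW V a b :=
      Subgroup.eq_of_le_of_card_ge inf_le_left (by rw [hcard, card_W S D₁])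
    have h4 : WW V a b ⊓ WW V c e = WW V c e :=
      Subgroup.eq_of_le_of_card_ge inf_le_right (by rw [hcard, card_W S D₂])
    rw [← h3, h4]
  have hk0 : k ≠ 0 := by
    rintro rfl
    rw [pow_zero] at hcard
    have h3 := Subgroup.eq_bot_of_card_eq _ hcard
    exact h h3
  have hk' : k = 1 := by omega
  subst hk'
  rw [pow_one] at hcard
  have hwV := WW_le S D₁ hw₁
  have hod : orderOf w = p := orderOf_eq_prime (pow_V S hwV) hw1
  have hzeq : Subgroup.zpowers w = WW V a b ⊓ WW V c e := by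
    apply Subgroup.eq_of_le_of_card_ge
    · rw [Subgroup.zpowers_le]; exact hw
    · rw [hcard, Nat.card_zpowers, hod]
  obtain ⟨y, hy, hmove⟩ := exists_move S D₁ hw₁ hw1
  obtain ⟨hyX, hyE⟩ := Subgroup.mem_inf.mp hy
  apply hmove
  rw [hzeq]
  exact Subgroup.mem_inf.mpr ⟨E_conj_W S D₁ hyE hw₁, core_conj_W S D₂ hyX hw₂⟩

/-- Part B: if the planes meet trivially, the second group centralizes the first plane. -/
theorem fix_W_of_inf_eq (S : Setup p V H) (D₁ : Duo p V H a b) (D₂ : Duo p V H c e)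
    (h : WW V a b ⊓ WW V c e = ⊥) {g w : G} (hg : g ∈ EE c e) (hw : w ∈ WW V a b) : g * w = w * g := by
  -- `X ⊓ E₂` centralizes `W₁`
  have h1 : ∀ y ∈ core p H ⊓ EE c e, ∀ w ∈ WW V a b, y * w = w * y := by
    intro y hy w hw
    obtain ⟨hyX, hyE⟩ := Subgroup.mem_inf.mp hy
    have h2 : y * w * y⁻¹ * w⁻¹ ∈ WW V a b ⊓ WW V c e := by
      refine Subgroup.mem_inf.mpr ⟨?_, comm_mem_W S D₂ hyE (WW_le S D₁ hw)⟩
      exact (WW V a b).mul_mem (core_conj_W S D₁ hyX hw) ((WW V a b).inv_mem hw)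
    rw [h] at h2
    have h3 : y * w * y⁻¹ * w⁻¹ = 1 := h2
    calc y * w = (y * w * y⁻¹ * w⁻¹) * (w * y) := by group
      _ = w * y := by rw [h3, one_mul]
  -- elements of the class
  have h2 : ∀ c₀, Cl p V H c c₀ → c₀ ∈ EE c e → ∀ w ∈ WW V a b, c₀ * w = w * c₀ := by
    intro c₀ hc₀ hc₀E w hw
    obtain ⟨c', hc', hc'E, hne⟩ := exists_other D₂ (c := c₀)
    have hwV := WW_le S D₁ hw
    obtain ⟨t, ht, hconj⟩ := exists_conj_inv S hc₀.1.mem hwV
    have htV := cen_le S hc₀.1.mem ht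
    have hy : c' * c₀⁻¹ ∈ core p H ⊓ EE c e :=
      Subgroup.mem_inf.mpr ⟨hc'.mul_inv hc₀, (EE c e).mul_mem hc'E ((EE c e).inv_mem hc₀E)⟩
    have h3 := h1 _ hy w hw
    have h4 : (c' * c₀⁻¹) * w * (c' * c₀⁻¹)⁻¹ = w := by
      rw [h3]; group
    have h5 : c' * (t * w) * c'⁻¹ = w := by
      calc c' * (t * w) * c'⁻¹ = c' * (c₀⁻¹ * w * c₀) * c'⁻¹ := by rw [hconj]
        _ = (c' * c₀⁻¹) * w * (c' * c₀⁻¹)⁻¹ := by group
        _ = w := h4
    obtain ⟨s₁, hs₁, h6⟩ := exists_conj (a := c') htV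
    obtain ⟨s₂, hs₂, h7⟩ := exists_conj (a := c') hwV
    have h8 : s₁ * t * s₂ = 1 := by
      have h9 : s₁ * t * s₂ * w = 1 * w := by
        calc s₁ * t * s₂ * w = (s₁ * t) * (s₂ * w) := by group
          _ = (c' * t * c'⁻¹) * (c' * w * c'⁻¹) := by rw [h6, h7]
          _ = c' * (t * w) * c'⁻¹ := by group
          _ = w := h5
          _ = 1 * w := by group
      exact mul_right_cancel h9
    have h10 : t = s₁⁻¹ * s₂⁻¹ := by
      calc t = s₁⁻¹ * (s₁ * t * s₂) * s₂⁻¹ := by group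
        _ = s₁⁻¹ * s₂⁻¹ := by rw [h8]; group
    have h11 : t ∈ cen V c' := by
      rw [h10]
      exact (cen V c').mul_mem ((cen V c').inv_mem hs₁) ((cen V c').inv_mem hs₂)
    have h12 : t ∈ cen V c₀ ⊓ cen V c' := Subgroup.mem_inf.mpr ⟨ht, h11⟩
    rw [cen_inf_of_ne S hc₀ hc' hne.symm] at h12
    have h13 : t = 1 := h12
    rw [h13, one_mul] at hconj
    calc c₀ * w = c₀ * (c₀⁻¹ * w * c₀) := by rw [hconj]
      _ = w * c₀ := by group
  have hle : EE c e ≤ Subgroup.centralizer ({w} : Set G) := by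
    refine sup_le ?_ ?_
    · rw [Subgroup.zpowers_le]
      exact Subgroup.mem_centralizer_singleton_iff.mpr (h2 c D₂.cl_a a_mem_E w hw)
    · rw [Subgroup.zpowers_le]
      exact Subgroup.mem_centralizer_singleton_iff.mpr (h2 e D₂.cl_b b_mem_E w hw)
  exact Subgroup.mem_centralizer_singleton_iff.mp (hle hg)

/-- Part B': the two groups commute. -/
theorem commute_of_inf_eq (S : Setup p V H) (D₁ : Duo p V H a b) (D₂ : Duo p V H c e)
    (h : WW V a b ⊓ WW V c e = ⊥) {g k : G} (hg : g ∈ EE a b) (hk : k ∈ EE c e) : g * k = k * g := by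
  have hgH := EE_le D₁ hg
  have hkH := EE_le D₂ hk
  have h' : WW V c e ⊓ WW V a b = ⊥ := by rw [inf_comm]; exact h
  have hu : (k * g)⁻¹ * (g * k) = 1 := by
    apply faithful S (H.mul_mem (H.inv_mem (H.mul_mem hkH hgH)) (H.mul_mem hgH hkH))
    intro v hv
    have ht := comm_mem_W S D₂ hk hv
    have hs := comm_mem_W S D₁ hg hv
    set t := k * v * k⁻¹ * v⁻¹ with htdef
    set s := g * v * g⁻¹ * v⁻¹ with hsdef
    have hk1 : k * v * k⁻¹ = t * v := by rw [htdef]; group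
    have hg1 : g * v * g⁻¹ = s * v := by rw [hsdef]; group
    have hgt : g * t = t * g := fix_W_of_inf_eq S D₂ D₁ h' hg ht
    have hks : k * s = s * k := fix_W_of_inf_eq S D₁ D₂ h hk hs
    have hts : t * s = s * t := comm S (WW_le S D₂ ht) (WW_le S D₁ hs)
    have h1 : (g * k) * v * (g * k)⁻¹ = (k * g) * v * (k * g)⁻¹ := by
      calc (g * k) * v * (g * k)⁻¹ = g * (k * v * k⁻¹) * g⁻¹ := by group
        _ = (g * t) * (v * g⁻¹) := by rw [hk1]; group
        _ = t * (g * v * g⁻¹) := by rw [hgt]; group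
        _ = t * (s * v) := by rw [hg1]
        _ = s * (t * v) := by rw [← mul_assoc, hts]; group
        _ = s * (k * v * k⁻¹) := by rw [hk1]
        _ = (k * s) * (v * k⁻¹) := by rw [hks]; group
        _ = k * (s * v) * k⁻¹ := by group
        _ = k * (g * v * g⁻¹) * k⁻¹ := by rw [hg1]
        _ = (k * g) * v * (k * g)⁻¹ := by group
    calc (k * g)⁻¹ * (g * k) * v = (k * g)⁻¹ * ((g * k) * v * (g * k)⁻¹) * (g * k) := by group
      _ = (k * g)⁻¹ * ((k * g) * v * (k * g)⁻¹) * (g * k) := by rw [h1]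
      _ = v * ((k * g)⁻¹ * (g * k)) := by group
  calc g * k = (k * g) * ((k * g)⁻¹ * (g * k)) := by group
    _ = k * g := by rw [hu, mul_one]

/-- Part C: equal planes have equal fixed points. -/
theorem Z_le_of_W_eq (S : Setup p V H) (D₁ : Duo p V H a b) (D₂ : Duo p V H c e)
    (h : WW V a b = WW V c e) : ZZ V a b ≤ ZZ V c e := by
  -- the centralizer of `X ⊓ E` in `V`
  have hCZ : ∀ {a b : G}, Duo p V H a b → ∀ u ∈ V, (∀ y ∈ core p H ⊓ EE a b, y * u = u * y) → u ∈ ZZ V a b := by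
    intro a b D u hu hfix
    rw [← W_sup_Z S D] at hu
    obtain ⟨w, hw, z, hz, rfl⟩ := mem_sup_of_commute
      (fun _ hx _ hy => comm S (WW_le S D hx) ((inf_le_left : ZZ V a b ≤ V) hy)) hu
    have hw1 : w = 1 := by
      by_contra hne
      obtain ⟨y, hy, hmove⟩ := exists_move S D hw hne
      apply hmove
      have hyE := (Subgroup.mem_inf.mp hy).2
      have h1 := hfix y hy
      have h2 := fix_Z_of_mem_E hyE hz
      have h3 : y * w = w * y := by
        have : (y * w) * z = (w * y) * z := by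
          calc (y * w) * z = y * (w * z) := by group
            _ = (w * z) * y := h1
            _ = w * (z * y) := by group
            _ = w * (y * z) := by rw [h2]
            _ = _ := by group
        exact mul_right_cancel this
      rw [h3]
      have : w * y * y⁻¹ = w := by group
      rw [this]
      exact Subgroup.mem_zpowers w
    rw [hw1, one_mul]
    exact hz
  set T : Subgroup G := (core p H ⊓ EE a b) ⊔ (core p H ⊓ EE c e) with hT
  have hTX : T ≤ core p H := sup_le inf_le_left inf_le_left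
  haveI : IsMulCommutative ↥V := S.hV.1
  have hTN : T ≤ Subgroup.normalizer (V : Set G) := (hTX.trans (core_le H)).trans S.hHV
  have hcop : (Nat.card T).Coprime (Nat.card V) := by
    obtain ⟨n, hn⟩ := (IsPGroup.iff_card).mp (isPGroup_of_isEA S.hV)
    rw [hn]
    exact Nat.Coprime.pow_right n (Nat.Coprime.coprime_dvd_left (Subgroup.card_dvd_of_le hTX) (core_coprime H))
  obtain ⟨h1, h2⟩ := Cfsg.Agent.Lib.Coprime.Averaging.centralizer_inf_commutator_and_sup T V hTN hcop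
  have hcT : ⁅V, T⁆ ≤ WW V a b := by
    have hN1 : core p H ⊓ EE a b ≤ Subgroup.normalizer (V : Set G) :=
      ((inf_le_left).trans (core_le H)).trans S.hHV
    have hN2 : core p H ⊓ EE c e ≤ Subgroup.normalizer (V : Set G) :=
      ((inf_le_left).trans (core_le H)).trans S.hHV
    have hb1 : ⁅V, core p H ⊓ EE a b⁆ ≤ WW V a b := by
      rw [← comm_W S D₁]
      exact Subgroup.commutator_mono le_rfl inf_le_right
    have hb2 : ⁅V, core p H ⊓ EE c e⁆ ≤ WW V a b := by
      rw [h, ← comm_W S D₂]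
      exact Subgroup.commutator_mono le_rfl inf_le_right
    have hWV := WW_le S D₁
    exact (commutator_sup_le hN1 hN2 ((sup_le hb1 hb2).trans hWV)).trans (sup_le hb1 hb2)
  intro v hv
  have hvV : v ∈ V := (Subgroup.mem_inf.mp hv).1
  rw [← h2] at hvV
  obtain ⟨z, hz, w, hw, rfl⟩ := mem_sup_of_commute
    (fun _ hx _ hy => comm S (Subgroup.mem_inf.mp hx).1 (WW_le S D₁ (hcT hy))) hvV
  obtain ⟨hzV, hzT⟩ := Subgroup.mem_inf.mp hz
  have hzZ₁ : z ∈ ZZ V a b := hCZ D₁ z hzV fun y hy =>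
    (Subgroup.mem_centralizer_iff.mp hzT) y ((le_sup_left : _ ≤ T) hy)
  have hzZ₂ : z ∈ ZZ V c e := hCZ D₂ z hzV fun y hy =>
    (Subgroup.mem_centralizer_iff.mp hzT) y ((le_sup_right : _ ≤ T) hy)
  have hwZ : w ∈ ZZ V a b := by
    have : w = z⁻¹ * (z * w) := by group
    rw [this]
    exact (ZZ V a b).mul_mem ((ZZ V a b).inv_mem hzZ₁) hv
  have hw1 : w ∈ WW V a b ⊓ ZZ V a b := Subgroup.mem_inf.mpr ⟨hcT hw, hwZ⟩
  rw [W_inf_Z S D₁] at hw1
  have hw2 : w = 1 := hw1
  rw [hw2, mul_one]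
  exact hzZ₂

/-- Two transvection elements with the same centre and axis generate the same group. -/
theorem mem_zpowers_of_same (S : Setup p V H) {c c₀ : G} (hc : IsTv p V H c) (hc₀ : IsTv p V H c₀)
    (hcen : cen V c = cen V c₀) (hfix : ∀ v ∈ V, c * v = v * c → c₀ * v = v * c₀) : c₀ ∈ Subgroup.zpowers c := by
  -- an element moved by `c`
  obtain ⟨e, he, hne⟩ : ∃ e ∈ V, c * e ≠ e * c := by
    by_contra hno
    push Not at hno
    exact ne_one_of_isTv hc (faithful S hc.mem hno)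
  have hd := comm'_mem_cen (a := c) he
  set d := c * e * c⁻¹ * e⁻¹ with hd_def
  have hd1 : d ≠ 1 := by
    intro h
    apply hne
    rw [hd_def] at h
    calc c * e = (c * e * c⁻¹ * e⁻¹) * (e * c) := by group
      _ = e * c := by rw [h, one_mul]
  have hz := cen_eq_zpowers S hc hd hd1
  have hfd := fix_cen S hc d hd
  have hconj : c * e * c⁻¹ = d * e := by rw [hd_def]; group
  -- the action of `c₀` on `e`
  have hd₀ := comm'_mem_cen (a := c₀) he
  rw [← hcen, hz] at hd₀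
  obtain ⟨k, hk⟩ := (mem_powers_iff_mem_zpowers (x := d) (y := c₀ * e * c₀⁻¹ * e⁻¹)).mpr hd₀
  dsimp only at hk
  have h1 := conj_pow_eq hfd hconj k
  have h2 : c₀ * e * c₀⁻¹ = d ^ k * e := by rw [hk]; group
  set u := (c ^ k)⁻¹ * c₀ with hu
  have hue : u * e = e * u := by
    have h3 : u * e * u⁻¹ = e := by
      calc u * e * u⁻¹ = (c ^ k)⁻¹ * (c₀ * e * c₀⁻¹) * c ^ k := by rw [hu]; group
        _ = (c ^ k)⁻¹ * (c ^ k * e * (c ^ k)⁻¹) * c ^ k := by rw [h2, h1]
        _ = e := by group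
    calc u * e = (u * e * u⁻¹) * u := by group
      _ = e * u := by rw [h3]
  have hfixu : ∀ v ∈ V, c * v = v * c → u * v = v * u := by
    intro v hv hcv
    have h3 := hfix v hv hcv
    have h4 : (c ^ k)⁻¹ * v = v * (c ^ k)⁻¹ := by
      have : c ^ k * v = v * c ^ k := Commute.pow_left hcv k
      calc (c ^ k)⁻¹ * v = (c ^ k)⁻¹ * (v * c ^ k) * (c ^ k)⁻¹ := by group
        _ = (c ^ k)⁻¹ * (c ^ k * v) * (c ^ k)⁻¹ := by rw [this]
        _ = v * (c ^ k)⁻¹ := by group
    calc u * v = (c ^ k)⁻¹ * (c₀ * v) := by rw [hu]; group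
      _ = (c ^ k)⁻¹ * v * c₀ := by rw [h3]; group
      _ = v * (c ^ k)⁻¹ * c₀ := by rw [h4]
      _ = v * u := by rw [hu]; group
  have hu1 : u = 1 := by
    apply faithful S (H.mul_mem (H.inv_mem (H.pow_mem hc.mem k)) hc₀.mem)
    intro v hv
    have ht := comm'_mem_cen (a := c) hv
    rw [hz] at ht
    obtain ⟨m, hm⟩ := (mem_powers_iff_mem_zpowers (x := d) (y := c * v * c⁻¹ * v⁻¹)).mpr ht
    dsimp only at hm
    have h3 : c * v * c⁻¹ = d ^ m * v := by rw [hm]; group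
    have h4 : c * e ^ m * c⁻¹ = d ^ m * e ^ m := by
      rw [← conj_pow, hconj]
      have hde : Commute d e := comm S (cen_le S hc.mem hd) he
      exact hde.mul_pow m
    set v' := v * (e ^ m)⁻¹ with hv'
    have hv'V : v' ∈ V := V.mul_mem hv (V.inv_mem (V.pow_mem he m))
    have hcv' : c * v' = v' * c := by
      have h5 : c * v' * c⁻¹ = v' := by
        calc c * v' * c⁻¹ = (c * v * c⁻¹) * (c * e ^ m * c⁻¹)⁻¹ := by rw [hv']; group
          _ = (d ^ m * v) * (d ^ m * e ^ m)⁻¹ := by rw [h3, h4]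
          _ = d ^ m * (v * (e ^ m)⁻¹) * (d ^ m)⁻¹ := by group
          _ = d ^ m * v' * (d ^ m)⁻¹ := by rw [hv']
          _ = v' := by
            have hc2 : d ^ m * v' = v' * d ^ m :=
              comm S (V.pow_mem (cen_le S hc.mem hd) m) hv'V
            rw [hc2]; group
      calc c * v' = (c * v' * c⁻¹) * c := by group
        _ = v' * c := by rw [h5]
    have h6 := hfixu v' hv'V hcv'
    have h7 : u * e ^ m = e ^ m * u := Commute.pow_right hue m
    calc u * v = u * (v' * e ^ m) := by rw [hv']; group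
      _ = (u * v') * e ^ m := by group
      _ = v' * (u * e ^ m) := by rw [h6]; group
      _ = v' * (e ^ m * u) := by rw [h7]
      _ = v * u := by rw [hv']; group
  have h3 : c₀ = c ^ k := by
    calc c₀ = c ^ k * ((c ^ k)⁻¹ * c₀) := by group
      _ = c ^ k := by rw [← hu, hu1, mul_one]
  rw [h3]
  exact Subgroup.npow_mem_zpowers c k

/-- Part C: equal planes give the same group. -/
theorem E_le_of_W_eq (S : Setup p V H) (D₁ : Duo p V H a b) (D₂ : Duo p V H c e)
    (h : WW V a b = WW V c e) : EE c e ≤ EE a b := by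
  have hZ : ZZ V a b = ZZ V c e :=
    le_antisymm (Z_le_of_W_eq S D₁ D₂ h) (Z_le_of_W_eq S D₂ D₁ h.symm)
  have key : ∀ c₀, IsTv p V H c₀ → c₀ ∈ EE c e → c₀ ∈ EE a b := by
    intro c₀ hc₀ hc₀E
    -- choose a generator of the centre of `c₀`
    obtain ⟨d, hd, hd1⟩ : ∃ d ∈ cen V c₀, d ≠ 1 := by
      by_contra hno
      push Not at hno
      have hb : cen V c₀ = ⊥ := by
        rw [eq_bot_iff]
        intro x hx
        exact hno x hx
      have := hc₀.card
      rw [hb, Subgroup.card_bot] at this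
      exact hp.out.one_lt.ne this
    have hdW : d ∈ WW V a b := by
      rw [h]
      exact cen_le_W_of_mem_E S D₂ hc₀E hd
    obtain ⟨c₁, hc₁, hc₁E, hdc₁⟩ := exists_cl_of_mem_W S D₁ hdW hd1
    have hcen : cen V c₁ = cen V c₀ := by
      rw [cen_eq_zpowers S hc₁.1 hdc₁ hd1, cen_eq_zpowers S hc₀ hd hd1]
    have hfix : ∀ v ∈ V, c₁ * v = v * c₁ → c₀ * v = v * c₀ := by
      intro v hv hc₁v
      -- `C_V(c₁) = cen c₁ ⊔ Z`
      set Y := cen V c₁ ⊔ ZZ V a b with hY
      have hYle : Y ≤ V ⊓ Subgroup.centralizer ({c₁} : Set G) := by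
        refine sup_le ?_ ?_
        · intro x hx
          exact Subgroup.mem_inf.mpr ⟨cen_le S hc₁.1.mem hx,
            Subgroup.mem_centralizer_singleton_iff.mpr (fix_cen S hc₁.1 x hx).symm⟩
        · intro x hx
          exact Subgroup.mem_inf.mpr ⟨(Subgroup.mem_inf.mp hx).1,
            Subgroup.mem_centralizer_singleton_iff.mpr (fix_Z_of_mem_E hc₁E hx).symm⟩
      have hYcard : Nat.card (V ⊓ Subgroup.centralizer ({c₁} : Set G) : Subgroup G) ≤ Nat.card Y := by
        have hn : cen V c₁ ≤ Subgroup.normalizer (ZZ V a b : Set G) := by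
          intro x hx
          apply Cfsg.Agent.Lib.Coprime.Three.mem_normalizer_of_conj_mem
          intro y hy
          have : x * y * x⁻¹ = y := by
            rw [comm S (cen_le S hc₁.1.mem hx) ((inf_le_left : ZZ V a b ≤ V) hy)]; group
          rwa [this]
        have h1 := card_sup_mul_card_inf_of_le_normalizer _ _ hn
        have hinf : cen V c₁ ⊓ ZZ V a b = ⊥ := by
          rw [eq_bot_iff, ← W_inf_Z S D₁]
          exact inf_le_inf_right _ (cen_le_W_of_mem_E S D₁ hc₁E)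
        rw [hinf, Subgroup.card_bot, mul_one, hc₁.1.card] at h1
        have h2 := card_centralizer_eq S hc₁.1
        -- `|V| = p ^ 2 * |Z|`
        have hn2 : ZZ V a b ≤ Subgroup.normalizer (WW V a b : Set G) := by
          intro x hx
          apply Cfsg.Agent.Lib.Coprime.Three.mem_normalizer_of_conj_mem
          intro y hy
          have hxV : x ∈ V := (Subgroup.mem_inf.mp hx).1
          have : x * y * x⁻¹ = y := by
            rw [comm S hxV (WW_le S D₁ hy)]; group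
          rwa [this]
        have h3 := card_sup_mul_card_inf_of_le_normalizer _ _ hn2
        rw [inf_comm, W_inf_Z S D₁, Subgroup.card_bot, mul_one, card_W S D₁, sup_comm, W_sup_Z S D₁] at h3
        have hpos := hp.out.pos
        have h4 : p * Nat.card ↥(V ⊓ Subgroup.centralizer ({c₁} : Set G)) = p * Nat.card Y := by
          rw [h2, h3, h1]
          ring
        exact (Nat.eq_of_mul_eq_mul_left hpos h4).le
      have hYeq : Y = V ⊓ Subgroup.centralizer ({c₁} : Set G) := Subgroup.eq_of_le_of_card_ge hYle hYcard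
      have hvY : v ∈ Y := by
        rw [hYeq]
        exact Subgroup.mem_inf.mpr ⟨hv, Subgroup.mem_centralizer_singleton_iff.mpr hc₁v.symm⟩
      obtain ⟨u, hu, z, hz, rfl⟩ := mem_sup_of_commute
        (fun _ hx _ hy => comm S (cen_le S hc₁.1.mem hx) ((inf_le_left : ZZ V a b ≤ V) hy)) hvY
      have h5 : c₀ * u = u * c₀ := fix_cen S hc₀ u (hcen ▸ hu)
      have hz2 : z ∈ ZZ V c e := by rw [← hZ]; exact hz
      have h6 : c₀ * z = z * c₀ := fix_Z_of_mem_E hc₀E hz2
      calc c₀ * (u * z) = (c₀ * u) * z := by group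
        _ = u * (c₀ * z) := by rw [h5]; group
        _ = u * z * c₀ := by rw [h6]; group
    have h1 := mem_zpowers_of_same S hc₁.1 hc₀ hcen hfix
    exact (Subgroup.zpowers_le.mpr hc₁E) h1
  refine sup_le ?_ ?_
  · rw [Subgroup.zpowers_le]
    exact key c D₂.ha a_mem_E
  · rw [Subgroup.zpowers_le]
    exact key e D₂.hb b_mem_E

/-- **The dichotomy.** -/
theorem dichotomy (S : Setup p V H) (D₁ : Duo p V H a b) (D₂ : Duo p V H c e) :
    (EE a b = EE c e ∧ WW V a b = WW V c e) ∨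
      (WW V a b ⊓ WW V c e = ⊥ ∧ (∀ g ∈ EE a b, ∀ w ∈ WW V c e, g * w = w * g) ∧
        (∀ g ∈ EE c e, ∀ w ∈ WW V a b, g * w = w * g) ∧ ∀ g ∈ EE a b, ∀ k ∈ EE c e, g * k = k * g) := by
  by_cases h : WW V a b ⊓ WW V c e = ⊥
  · right
    have h' : WW V c e ⊓ WW V a b = ⊥ := by rw [inf_comm]; exact h
    exact ⟨h, fun g hg w hw => fix_W_of_inf_eq S D₂ D₁ h' hg hw,
      fun g hg w hw => fix_W_of_inf_eq S D₁ D₂ h hg hw, fun g hg k hk => commute_of_inf_eq S D₁ D₂ h hg hk⟩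
  · left
    have hW := W_eq_of_inf_ne S D₁ D₂ h
    exact ⟨le_antisymm (E_le_of_W_eq S D₂ D₁ hW.symm) (E_le_of_W_eq S D₁ D₂ hW), hW⟩

end Cfsg.Agent.Lib.PGroup.FFDich
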