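import Cfsg.Agent.Lib.PSL2.Basic
import Mathlib

/-!
# Recognizing `SL(2, p)` from its natural action

A group generated by two elements acting on a "plane" `⟨d₁⟩ × ⟨d₂⟩` through the matrices
`[[1, 1], [0, 1]]` and `[[1, 0], [1, 1]]`, faithfully, is isomorphic to `SL(2, p)`.
-/

set_option autoImplicit false
set_option linter.unusedSectionVars false
set_option linter.style.haveILetI false

namespace Cfsg.Agent.Lib.PGroup.FFSL2

open Matrix Cfsg.Agent.Lib.PSL2.Basic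
open scoped MatrixGroups

variable {G : Type*} [Group G] {p : ℕ} [hp : Fact p.Prime]

/-- The coordinate map of the plane. -/
def psi (d₁ d₂ : G) (v : Fin 2 → ZMod p) : G := d₁ ^ (v 0).val * d₂ ^ (v 1).val

/-- `g` acts on the plane through the matrix `A`. -/
def R (d₁ d₂ g : G) (A : SL(2, ZMod p)) : Prop :=
  ∀ v : Fin 2 → ZMod p, g * psi d₁ d₂ v * g⁻¹ = psi d₁ d₂ (A.1.mulVec v)

theorem pow_val_add {d : G} (hd : d ^ p = 1) (s t : ZMod p) :
    d ^ (s + t).val = d ^ s.val * d ^ t.val := by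
  rw [ZMod.val_add, ← pow_add, ← pow_eq_pow_mod _ hd]

theorem pow_val_natCast {d : G} (hd : d ^ p = 1) (k : ℕ) : d ^ ((k : ZMod p).val) = d ^ k := by
  rw [ZMod.val_natCast, ← pow_eq_pow_mod _ hd]

theorem psi_e0 (d₁ d₂ : G) : psi d₁ d₂ (![1, 0] : Fin 2 → ZMod p) = d₁ := by
  simp [psi, ZMod.val_one]

theorem psi_e1 (d₁ d₂ : G) : psi d₁ d₂ (![0, 1] : Fin 2 → ZMod p) = d₂ := by
  simp [psi, ZMod.val_one]

theorem R_one (d₁ d₂ : G) : R d₁ d₂ 1 (1 : SL(2, ZMod p)) := by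
  intro v
  simp

theorem R_mul {d₁ d₂ g h : G} {A B : SL(2, ZMod p)} (hg : R d₁ d₂ g A) (hh : R d₁ d₂ h B) :
    R d₁ d₂ (g * h) (A * B) := by
  intro v
  have h1 := hh v
  have h2 := hg (B.1.mulVec v)
  rw [← h1] at h2
  rw [Matrix.SpecialLinearGroup.coe_mul, ← Matrix.mulVec_mulVec, ← h2]
  group

theorem R_inv {d₁ d₂ g : G} {A : SL(2, ZMod p)} (hg : R d₁ d₂ g A) : R d₁ d₂ g⁻¹ A⁻¹ := by
  intro v
  have h2 := hg ((A⁻¹).1.mulVec v)
  have h3 : A.1.mulVec ((A⁻¹).1.mulVec v) = v := by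
    rw [Matrix.mulVec_mulVec, ← Matrix.SpecialLinearGroup.coe_mul]
    simp
  rw [h3] at h2
  rw [← h2]
  group

/-- Hypotheses on the plane. -/
structure Plane (p : ℕ) (d₁ d₂ : G) : Prop where
  pow₁ : d₁ ^ p = 1
  pow₂ : d₂ ^ p = 1
  comm : d₁ * d₂ = d₂ * d₁
  ne₁ : d₁ ≠ 1
  ne₂ : d₂ ≠ 1
  ind : Subgroup.zpowers d₁ ⊓ Subgroup.zpowers d₂ = ⊥

theorem Plane.psi_inj {d₁ d₂ : G} (P : Plane p d₁ d₂) : Function.Injective (psi (p := p) d₁ d₂) := by
  intro u v h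
  have ho₁ : orderOf d₁ = p := orderOf_eq_prime P.pow₁ P.ne₁
  have ho₂ : orderOf d₂ = p := orderOf_eq_prime P.pow₂ P.ne₂
  unfold psi at h
  have h1 : (d₁ ^ (v 0).val)⁻¹ * d₁ ^ (u 0).val = d₂ ^ (v 1).val * (d₂ ^ (u 1).val)⁻¹ := by
    calc (d₁ ^ (v 0).val)⁻¹ * d₁ ^ (u 0).val
        = (d₁ ^ (v 0).val)⁻¹ * (d₁ ^ (u 0).val * d₂ ^ (u 1).val) * (d₂ ^ (u 1).val)⁻¹ := by group
      _ = (d₁ ^ (v 0).val)⁻¹ * (d₁ ^ (v 0).val * d₂ ^ (v 1).val) * (d₂ ^ (u 1).val)⁻¹ := by rw [h]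
      _ = _ := by group
  have h2 : (d₁ ^ (v 0).val)⁻¹ * d₁ ^ (u 0).val ∈ Subgroup.zpowers d₁ ⊓ Subgroup.zpowers d₂ := by
    refine Subgroup.mem_inf.mpr ⟨?_, ?_⟩
    · exact Subgroup.mul_mem _ (Subgroup.inv_mem _ (Subgroup.npow_mem_zpowers _ _))
        (Subgroup.npow_mem_zpowers _ _)
    · rw [h1]
      exact Subgroup.mul_mem _ (Subgroup.npow_mem_zpowers _ _)
        (Subgroup.inv_mem _ (Subgroup.npow_mem_zpowers _ _))
  rw [P.ind] at h2
  have h3 : (d₁ ^ (v 0).val)⁻¹ * d₁ ^ (u 0).val = 1 := h2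
  have h4 : d₁ ^ (u 0).val = d₁ ^ (v 0).val := by
    rw [inv_mul_eq_one] at h3
    exact h3.symm
  have h5 : d₂ ^ (v 1).val = d₂ ^ (u 1).val := by
    rw [h3] at h1
    exact mul_inv_eq_one.mp h1.symm
  have hlt₁ : ∀ s : ZMod p, s.val < orderOf d₁ := fun s => by rw [ho₁]; exact ZMod.val_lt s
  have hlt₂ : ∀ s : ZMod p, s.val < orderOf d₂ := fun s => by rw [ho₂]; exact ZMod.val_lt s
  have h6 : (u 0).val = (v 0).val := pow_injOn_Iio_orderOf (hlt₁ _) (hlt₁ _) h4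
  have h7 : (v 1).val = (u 1).val := pow_injOn_Iio_orderOf (hlt₂ _) (hlt₂ _) h5
  funext i
  fin_cases i
  · exact ZMod.val_injective p h6
  · exact (ZMod.val_injective p h7).symm

theorem Plane.R_unique {d₁ d₂ g : G} (P : Plane p d₁ d₂) {A B : SL(2, ZMod p)}
    (hA : R d₁ d₂ g A) (hB : R d₁ d₂ g B) : A = B := by
  have h : ∀ v, A.1.mulVec v = B.1.mulVec v := by
    intro v
    apply P.psi_inj
    rw [← hA v, ← hB v]
  apply Subtype.ext
  ext i j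
  have h1 := congrFun (h (Pi.single j 1)) i
  simpa using h1

/-- Actions of the generators. -/
theorem Plane.R_x {d₁ d₂ a : G} (P : Plane p d₁ d₂) (h1 : a * d₁ = d₁ * a) (h2 : a * d₂ * a⁻¹ = d₁ * d₂) :
    R d₁ d₂ a (x (1 : ZMod p)) := by
  intro v
  have hm : (x (1 : ZMod p)).1.mulVec v = ![v 0 + v 1, v 1] := by
    funext i
    fin_cases i <;> simp [Matrix.mulVec, dotProduct, Fin.sum_univ_two, x, sl2]
  rw [hm]
  unfold psi
  simp only [Matrix.cons_val_zero, Matrix.cons_val_one]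
  rw [pow_val_add P.pow₁]
  have h3 : a * d₁ * a⁻¹ = d₁ := by rw [h1]; group
  have h4 : a * (d₁ ^ (v 0).val * d₂ ^ (v 1).val) * a⁻¹ =
      (a * d₁ * a⁻¹) ^ (v 0).val * (a * d₂ * a⁻¹) ^ (v 1).val := by
    rw [conj_pow, conj_pow]; group
  rw [h4, h3, h2]
  have hc : Commute d₁ d₂ := P.comm
  rw [hc.mul_pow]
  group

theorem Plane.R_y {d₁ d₂ b : G} (P : Plane p d₁ d₂) (h1 : b * d₂ = d₂ * b) (h2 : b * d₁ * b⁻¹ = d₂ * d₁) :
    R d₁ d₂ b (y (1 : ZMod p)) := by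
  intro v
  have hm : (y (1 : ZMod p)).1.mulVec v = ![v 0, v 0 + v 1] := by
    funext i
    fin_cases i <;> simp [Matrix.mulVec, dotProduct, Fin.sum_univ_two, y, sl2]
  rw [hm]
  unfold psi
  simp only [Matrix.cons_val_zero, Matrix.cons_val_one]
  rw [pow_val_add P.pow₂]
  have h3 : b * d₂ * b⁻¹ = d₂ := by rw [h1]; group
  have h4 : b * (d₁ ^ (v 0).val * d₂ ^ (v 1).val) * b⁻¹ =
      (b * d₁ * b⁻¹) ^ (v 0).val * (b * d₂ * b⁻¹) ^ (v 1).val := by
    rw [conj_pow, conj_pow]; group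
  rw [h4, h3, h2]
  have hc : Commute d₂ d₁ := P.comm.symm
  rw [hc.mul_pow]
  have hc2 : Commute (d₂ ^ (v 0).val) (d₁ ^ (v 0).val) := (hc.pow_pow _ _)
  rw [hc2.eq]
  group

/-- `SL(2, p)` is generated by `x 1` and `y 1`. -/
theorem sl2_induction (K : Subgroup SL(2, ZMod p)) (hx : x (1 : ZMod p) ∈ K) (hy : y (1 : ZMod p) ∈ K) :
    K = ⊤ := by
  have hxt : ∀ t : ZMod p, x t ∈ K := by
    intro t
    have h1 : x t = (x (1 : ZMod p)) ^ t.val := by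
      rw [x_pow]; simp
    rw [h1]
    exact K.pow_mem hx _
  have hyt : ∀ t : ZMod p, y t ∈ K := by
    intro t
    have h1 : y t = (y (1 : ZMod p)) ^ t.val := by
      rw [y_pow]; simp
    rw [h1]
    exact K.pow_mem hy _
  have key : ∀ A : SL(2, ZMod p), A.1 1 0 ≠ 0 → A ∈ K := by
    intro A hA
    have hdet := det_entries A
    have h1 : A = x ((A.1 0 0 - 1) / A.1 1 0) * y (A.1 1 0) * x ((A.1 1 1 - 1) / A.1 1 0) := by
      apply ext2
      · simp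
        field_simp
        ring
      · simp
        field_simp
        linear_combination -hdet
      · simp
      · simp
        field_simp
        ring
    rw [h1]
    exact K.mul_mem (K.mul_mem (hxt _) (hyt _)) (hxt _)
  rw [eq_top_iff]
  intro A _
  by_cases hA : A.1 1 0 = 0
  · have hdet := det_entries A
    have h11 : A.1 1 1 ≠ 0 := by
      intro h
      rw [h, hA] at hdet
      simp at hdet
    have h2 : A * y 1 ∈ K := key _ (by simp [hA, h11])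
    have h3 : A = (A * y 1) * (y (1 : ZMod p))⁻¹ := by group
    rw [h3]
    exact K.mul_mem h2 (K.inv_mem hy)
  · exact key A hA

/-- **Recognition of `SL(2, p)`.** -/
theorem exists_equiv {a b d₁ d₂ : G} (P : Plane p d₁ d₂)
    (ha1 : a * d₁ = d₁ * a) (ha2 : a * d₂ * a⁻¹ = d₁ * d₂)
    (hb1 : b * d₂ = d₂ * b) (hb2 : b * d₁ * b⁻¹ = d₂ * d₁)
    (hf : ∀ g ∈ Subgroup.zpowers a ⊔ Subgroup.zpowers b, g * d₁ = d₁ * g → g * d₂ = d₂ * g → g = 1) :
    ∃ f : ↥(Subgroup.zpowers a ⊔ Subgroup.zpowers b) ≃* SL(2, ZMod p),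
      ∀ g : ↥(Subgroup.zpowers a ⊔ Subgroup.zpowers b), R d₁ d₂ g.1 (f g) := by
  classical
  set E := Subgroup.zpowers a ⊔ Subgroup.zpowers b with hE
  have hRa := P.R_x ha1 ha2
  have hRb := P.R_y hb1 hb2
  -- total on the left
  let Y : Subgroup G :=
    { carrier := {g | ∃ A : SL(2, ZMod p), R d₁ d₂ g A}
      mul_mem' := by
        rintro g h ⟨A, hA⟩ ⟨B, hB⟩
        exact ⟨A * B, R_mul hA hB⟩
      one_mem' := ⟨1, R_one d₁ d₂⟩
      inv_mem' := by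
        rintro g ⟨A, hA⟩
        exact ⟨A⁻¹, R_inv hA⟩ }
  have hEY : E ≤ Y := by
    refine sup_le ?_ ?_
    · rw [Subgroup.zpowers_le]; exact ⟨_, hRa⟩
    · rw [Subgroup.zpowers_le]; exact ⟨_, hRb⟩
  have htot : ∀ g : E, ∃ A : SL(2, ZMod p), R d₁ d₂ g.1 A := fun g => hEY g.2
  choose f₀ hf₀ using htot
  have hf₀mul : ∀ g h : E, f₀ (g * h) = f₀ g * f₀ h := by
    intro g h
    exact P.R_unique (hf₀ (g * h)) (R_mul (hf₀ g) (hf₀ h))
  let φ : E →* SL(2, ZMod p) := MonoidHom.mk' f₀ hf₀mul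
  have hφ : ∀ g, φ g = f₀ g := fun _ => rfl
  have hinj : Function.Injective φ := by
    rw [injective_iff_map_eq_one]
    intro g hg
    rw [hφ] at hg
    have h1 := hf₀ g
    rw [hg] at h1
    apply Subtype.ext
    apply hf g.1 g.2
    · have h2 := h1 ![1, 0]
      simp only [Matrix.SpecialLinearGroup.coe_one, Matrix.one_mulVec, psi_e0] at h2
      calc g.1 * d₁ = (g.1 * d₁ * g.1⁻¹) * g.1 := by group
        _ = d₁ * g.1 := by rw [h2]
    · have h2 := h1 ![0, 1]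
      simp only [Matrix.SpecialLinearGroup.coe_one, Matrix.one_mulVec, psi_e1] at h2
      calc g.1 * d₂ = (g.1 * d₂ * g.1⁻¹) * g.1 := by group
        _ = d₂ * g.1 := by rw [h2]
  have hsurj : Function.Surjective φ := by
    rw [← MonoidHom.range_eq_top]
    apply sl2_induction
    · refine ⟨⟨a, (le_sup_left : Subgroup.zpowers a ≤ E) (Subgroup.mem_zpowers a)⟩, ?_⟩
      exact P.R_unique (hf₀ _) hRa
    · refine ⟨⟨b, (le_sup_right : Subgroup.zpowers b ≤ E) (Subgroup.mem_zpowers b)⟩, ?_⟩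
      exact P.R_unique (hf₀ _) hRb
  refine ⟨MulEquiv.ofBijective φ ⟨hinj, hsurj⟩, ?_⟩
  intro g
  exact hf₀ g

end Cfsg.Agent.Lib.PGroup.FFSL2
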