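import Cfsg.Agent.Lib.PGroup.FFTv
import Cfsg.Agent.Lib.PGroup.FFSL2
import Mathlib

/-!
# Two distinct transvection elements congruent modulo the core

They generate `SL(2, p)`, `p ∈ {2, 3}`, acting naturally on the plane generated by their centres.
-/

set_option autoImplicit false
set_option linter.unusedSectionVars false
set_option linter.style.haveILetI false
open Cfsg
open scoped commutatorElement

namespace Cfsg.Agent.Lib.PGroup.FFDuo

open Cfsg.Agent.Lib.PGroup.Timmesfeld Cfsg.Agent.Lib.PGroup.FFPair Cfsg.Agent.Lib.PGroup.FFTv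
  Cfsg.Agent.Lib.PGroup.FFSL2
open Cfsg.Agent.Lib.Components.LayerProduct (mem_sup_of_commute)

variable {G : Type*} [Group G] [Finite G] {p : ℕ} [hp : Fact p.Prime] {V H : Subgroup G}

/-- `[V, A ⊔ B] ≤ [V, A] ⊔ [V, B]`. -/
theorem commutator_sup_le {V A B : Subgroup G} (hA : A ≤ Subgroup.normalizer (V : Set G))
    (hB : B ≤ Subgroup.normalizer (V : Set G)) (hWV : ⁅V, A⁆ ⊔ ⁅V, B⁆ ≤ V) :
    ⁅V, A ⊔ B⁆ ≤ ⁅V, A⁆ ⊔ ⁅V, B⁆ := by
  set W := ⁅V, A⁆ ⊔ ⁅V, B⁆ with hW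
  have hconj : ∀ g ∈ Subgroup.normalizer (V : Set G), (∀ v ∈ V, ⁅v, g⁆ ∈ W) → ∀ w ∈ W, g * w * g⁻¹ ∈ W := by
    intro g _ h w hw
    have h1 := W.inv_mem (h w (hWV hw))
    have h2 : g * w * g⁻¹ = ⁅w, g⁆⁻¹ * w := by
      rw [commutatorElement_def]; group
    rw [h2]
    exact W.mul_mem h1 hw
  let M : Subgroup G :=
    { carrier := {g | g ∈ Subgroup.normalizer (V : Set G) ∧ ∀ v ∈ V, ⁅v, g⁆ ∈ W}
      mul_mem' := by
        rintro g h ⟨hg, hg'⟩ ⟨hh, hh'⟩
        refine ⟨Subgroup.mul_mem _ hg hh, fun v hv => ?_⟩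
        have h1 : ⁅v, g * h⁆ = ⁅v, g⁆ * (g * ⁅v, h⁆ * g⁻¹) := by
          simp only [commutatorElement_def]; group
        rw [h1]
        exact W.mul_mem (hg' v hv) (hconj g hg hg' _ (hh' v hv))
      one_mem' := ⟨Subgroup.one_mem _, fun v _ => by simp⟩
      inv_mem' := by
        rintro g ⟨hg, hg'⟩
        refine ⟨Subgroup.inv_mem _ hg, fun v hv => ?_⟩
        have hu : g⁻¹ * v * g ∈ V := by
          have := (Subgroup.mem_normalizer_iff.mp (Subgroup.inv_mem _ hg) v).mp hv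
          simpa using this
        have h1 : ⁅v, g⁻¹⁆ = ⁅g⁻¹ * v * g, g⁆⁻¹ := by
          simp only [commutatorElement_def]; group
        rw [h1]
        exact W.inv_mem (hg' _ hu) }
  have hsup : A ⊔ B ≤ M := by
    refine sup_le (fun a ha => ⟨hA ha, fun v hv => ?_⟩) (fun b hb => ⟨hB hb, fun v hv => ?_⟩)
    · exact (le_sup_left : ⁅V, A⁆ ≤ W) (Subgroup.commutator_mem_commutator hv ha)
    · exact (le_sup_right : ⁅V, B⁆ ≤ W) (Subgroup.commutator_mem_commutator hv hb)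
  rw [Subgroup.commutator_le]
  intro v hv g hg
  exact (hsup hg).2 v hv

theorem commutator_sup_eq {V A B : Subgroup G} (hA : A ≤ Subgroup.normalizer (V : Set G))
    (hB : B ≤ Subgroup.normalizer (V : Set G)) (hWV : ⁅V, A⁆ ⊔ ⁅V, B⁆ ≤ V) :
    ⁅V, A ⊔ B⁆ = ⁅V, A⁆ ⊔ ⁅V, B⁆ :=
  le_antisymm (commutator_sup_le hA hB hWV)
    (sup_le (Subgroup.commutator_mono le_rfl le_sup_left) (Subgroup.commutator_mono le_rfl le_sup_right))

theorem core_conj {h y : G} (hh : h ∈ H) (hy : y ∈ core p H) : h * y * h⁻¹ ∈ core p H :=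
  (Subgroup.mem_normalizer_iff.mp (le_normalizer_core H hh) y).mp hy

/-- The class of `a`: transvection elements congruent to `a` modulo the core. -/
def Cl (p : ℕ) (V H : Subgroup G) (a c : G) : Prop := IsTv p V H c ∧ c * a⁻¹ ∈ core p H

theorem Cl.self {a : G} (h : IsTv p V H a) : Cl p V H a a :=
  ⟨h, by rw [mul_inv_cancel]; exact Subgroup.one_mem _⟩

theorem Cl.mul_inv {a c c' : G} (hc : Cl p V H a c) (hc' : Cl p V H a c') : c * c'⁻¹ ∈ core p H := by
  have h := Subgroup.mul_mem _ hc.2 (Subgroup.inv_mem _ hc'.2)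
  have h2 : c * a⁻¹ * (c' * a⁻¹)⁻¹ = c * c'⁻¹ := by group
  rwa [h2] at h

theorem Cl.eq_of_fix_elt (S : Setup p V H) {a c c' u : G} (hc : Cl p V H a c) (hc' : Cl p V H a c')
    (hu : u ∈ cen V c') (hu1 : u ≠ 1) (hfix : c * u = u * c) : c = c' := by
  apply eq_of_fix S hc.1 hc'.1 (hc.mul_inv hc')
  rw [cen_eq_zpowers S hc'.1 hu hu1]
  rintro _ ⟨k, rfl⟩
  exact (Commute.zpow_right hfix k)

theorem Cl.conj_pow {a c : G} (S : Setup p V H) (ha : IsTv p V H a) (hc : Cl p V H a c) (k : ℕ) :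
    Cl p V H a (a ^ k * c * (a ^ k)⁻¹) := by
  refine ⟨hc.1.conj S (H.pow_mem ha.mem k), ?_⟩
  have h := core_conj (p := p) (H.pow_mem ha.mem k) hc.2
  have h2 : a ^ k * (c * a⁻¹) * (a ^ k)⁻¹ = a ^ k * c * (a ^ k)⁻¹ * a⁻¹ := by
    have h3 : a⁻¹ * (a ^ k)⁻¹ = (a ^ k)⁻¹ * a⁻¹ := by
      rw [← mul_inv_rev, ← mul_inv_rev, (Commute.pow_right (Commute.refl a) k).eq]
    calc a ^ k * (c * a⁻¹) * (a ^ k)⁻¹ = a ^ k * c * (a⁻¹ * (a ^ k)⁻¹) := by group
      _ = a ^ k * c * ((a ^ k)⁻¹ * a⁻¹) := by rw [h3]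
      _ = _ := by group
  rwa [h2] at h

theorem Cl.conj_core {a c x : G} (S : Setup p V H) (ha : IsTv p V H a) (hc : Cl p V H a c) (hx : x ∈ core p H) :
    Cl p V H a (x * c * x⁻¹) := by
  have hxH : x ∈ H := core_le H hx
  refine ⟨hc.1.conj S hxH, ?_⟩
  have h1 := core_conj (p := p) hxH hc.2
  have h2 := core_conj (p := p) ha.mem ((core p H).inv_mem hx)
  have h3 := (core p H).mul_mem h1 ((core p H).mul_mem hx h2)
  have h4 : x * (c * a⁻¹) * x⁻¹ * (x * (a * x⁻¹ * a⁻¹)) = x * c * x⁻¹ * a⁻¹ := by group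
  rwa [h4] at h3

/-- Two distinct transvection elements in the same class. -/
structure Duo (p : ℕ) (V H : Subgroup G) (a b : G) : Prop where
  ha : IsTv p V H a
  hb : IsTv p V H b
  hX : b * a⁻¹ ∈ core p H
  hne : a ≠ b

theorem Duo.cl_a {a b : G} (D : Duo p V H a b) : Cl p V H a a := Cl.self D.ha
theorem Duo.cl_b {a b : G} (D : Duo p V H a b) : Cl p V H a b := ⟨D.hb, D.hX⟩

theorem Duo.symm {a b : G} (D : Duo p V H a b) : Duo p V H b a := by
  refine ⟨D.hb, D.ha, ?_, D.hne.symm⟩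
  have := (core p H).inv_mem D.hX
  have h2 : (b * a⁻¹)⁻¹ = a * b⁻¹ := by group
  rwa [h2] at this

/-- Distinct elements of a class have trivially intersecting centres. -/
theorem cen_inf_of_ne (S : Setup p V H) {a c c' : G} (hc : Cl p V H a c) (hc' : Cl p V H a c') (hne : c ≠ c') :
    cen V c ⊓ cen V c' = ⊥ := by
  rw [eq_bot_iff]
  intro u hu
  obtain ⟨hu1, hu2⟩ := Subgroup.mem_inf.mp hu
  by_contra hu3
  exact hne (hc.eq_of_fix_elt S hc' hu2 hu3 (fix_cen S hc.1 u hu1))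

/-- Conjugates of an element by powers of a transvection. -/
theorem conj_pow_eq {g t v : G} (hgt : g * t = t * g) (h : g * v * g⁻¹ = t * v) (n : ℕ) :
    g ^ n * v * (g ^ n)⁻¹ = t ^ n * v := by
  induction n with
  | zero => simp
  | succ n ih =>
    have h1 : g ^ (n + 1) * v * (g ^ (n + 1))⁻¹ = g ^ n * (g * v * g⁻¹) * (g ^ n)⁻¹ := by
      rw [pow_succ]; group
    rw [h1, h]
    have hc : g ^ n * t = t * g ^ n := (Commute.pow_left hgt n)
    calc g ^ n * (t * v) * (g ^ n)⁻¹ = (g ^ n * t) * v * (g ^ n)⁻¹ := by group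
      _ = t * (g ^ n * v * (g ^ n)⁻¹) := by rw [hc]; group
      _ = t ^ (n + 1) * v := by rw [ih, pow_succ']; group

/-- The group generated by a duo. -/
noncomputable abbrev EE (a b : G) : Subgroup G := Subgroup.zpowers a ⊔ Subgroup.zpowers b

/-- The plane of a duo. -/
noncomputable abbrev WW (V : Subgroup G) (a b : G) : Subgroup G := cen V a ⊔ cen V b

/-- The fixed points. -/
noncomputable abbrev ZZ (V : Subgroup G) (a b : G) : Subgroup G :=
  V ⊓ Subgroup.centralizer ((EE a b : Subgroup G) : Set G)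

variable {a b : G}

theorem EE_le (D : Duo p V H a b) : EE a b ≤ H :=
  sup_le ((Subgroup.zpowers_le).mpr D.ha.mem) ((Subgroup.zpowers_le).mpr D.hb.mem)

theorem WW_le (S : Setup p V H) (D : Duo p V H a b) : WW V a b ≤ V :=
  sup_le (cen_le S D.ha.mem) (cen_le S D.hb.mem)

theorem comm_W (S : Setup p V H) (D : Duo p V H a b) : ⁅V, EE a b⁆ = WW V a b :=
  commutator_sup_eq ((Subgroup.zpowers_le).mpr (S.hHV D.ha.mem)) ((Subgroup.zpowers_le).mpr (S.hHV D.hb.mem))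
    (WW_le S D)

theorem mem_W (S : Setup p V H) (D : Duo p V H a b) {w : G} (hw : w ∈ WW V a b) :
    ∃ u₁ ∈ cen V a, ∃ u₂ ∈ cen V b, w = u₁ * u₂ :=
  mem_sup_of_commute (fun _ hx _ hy => comm S (cen_le S D.ha.mem hx) (cen_le S D.hb.mem hy)) hw

theorem card_W (S : Setup p V H) (D : Duo p V H a b) : Nat.card (WW V a b) = p ^ 2 := by
  have hn : cen V a ≤ Subgroup.normalizer (cen V b : Set G) := by
    intro x hx
    apply Cfsg.Agent.Lib.Coprime.Three.mem_normalizer_of_conj_mem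
    intro y hy
    have : x * y * x⁻¹ = y := by
      rw [comm S (cen_le S D.ha.mem hx) (cen_le S D.hb.mem hy)]; group
    rwa [this]
  have h := card_sup_mul_card_inf_of_le_normalizer _ _ hn
  rw [cen_inf_of_ne S D.cl_a D.cl_b D.hne, Subgroup.card_bot, mul_one, D.ha.card, D.hb.card] at h
  rw [h]; ring

theorem mem_Z_iff {z : G} : z ∈ ZZ V a b ↔ z ∈ V ∧ a * z = z * a ∧ b * z = z * b := by
  constructor
  · intro h
    obtain ⟨h1, h2⟩ := Subgroup.mem_inf.mp h
    refine ⟨h1, ?_, ?_⟩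
    · exact (Subgroup.mem_centralizer_iff.mp h2) a ((le_sup_left : Subgroup.zpowers a ≤ EE a b) (Subgroup.mem_zpowers a))
    · exact (Subgroup.mem_centralizer_iff.mp h2) b ((le_sup_right : Subgroup.zpowers b ≤ EE a b) (Subgroup.mem_zpowers b))
  · rintro ⟨h1, h2, h3⟩
    refine Subgroup.mem_inf.mpr ⟨h1, ?_⟩
    have hle : EE a b ≤ Subgroup.centralizer ({z} : Set G) := by
      refine sup_le ?_ ?_
      · rw [Subgroup.zpowers_le]
        exact Subgroup.mem_centralizer_singleton_iff.mpr h2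
      · rw [Subgroup.zpowers_le]
        exact Subgroup.mem_centralizer_singleton_iff.mpr h3
    apply Subgroup.mem_centralizer_iff.mpr
    intro g hg
    exact Subgroup.mem_centralizer_singleton_iff.mp (hle hg)

theorem W_inf_Z (S : Setup p V H) (D : Duo p V H a b) : WW V a b ⊓ ZZ V a b = ⊥ := by
  rw [eq_bot_iff]
  intro w hw
  obtain ⟨hw1, hw2⟩ := Subgroup.mem_inf.mp hw
  obtain ⟨-, hfa, hfb⟩ := mem_Z_iff.mp hw2
  obtain ⟨u₁, hu₁, u₂, hu₂, rfl⟩ := mem_W S D hw1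
  have h1 := fix_cen S D.ha u₁ hu₁
  have h2 := fix_cen S D.hb u₂ hu₂
  have hu₂1 : u₂ = 1 := by
    by_contra hne
    apply D.hne
    apply D.cl_a.eq_of_fix_elt S D.cl_b hu₂ hne
    have : u₁ * (a * u₂) = u₁ * (u₂ * a) := by
      calc u₁ * (a * u₂) = (u₁ * a) * u₂ := by group
        _ = (a * u₁) * u₂ := by rw [h1]
        _ = a * (u₁ * u₂) := by group
        _ = (u₁ * u₂) * a := hfa
        _ = _ := by group
    exact mul_left_cancel this
  have hu₁1 : u₁ = 1 := by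
    by_contra hne
    apply D.hne.symm
    apply D.cl_b.eq_of_fix_elt S D.cl_a hu₁ hne
    have : (b * u₁) * u₂ = (u₁ * b) * u₂ := by
      calc (b * u₁) * u₂ = b * (u₁ * u₂) := by group
        _ = (u₁ * u₂) * b := hfb
        _ = u₁ * (u₂ * b) := by group
        _ = u₁ * (b * u₂) := by rw [h2]
        _ = _ := by group
    exact mul_right_cancel this
  rw [hu₁1, hu₂1, one_mul]
  exact Subgroup.one_mem _

theorem relIndex_centralizer (S : Setup p V H) {c : G} (hc : IsTv p V H c) :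
    (V ⊓ Subgroup.centralizer ({c} : Set G)).relIndex V = p := by
  have h1 := card_mul_relIndex' (inf_le_left : V ⊓ Subgroup.centralizer ({c} : Set G) ≤ V)
  have h2 := card_centralizer_eq S hc
  have hpos : 0 < Nat.card ↥(V ⊓ Subgroup.centralizer ({c} : Set G)) := Nat.card_pos
  rw [mul_comm] at h2
  exact Nat.eq_of_mul_eq_mul_left hpos (h1.trans h2.symm)

theorem W_sup_Z (S : Setup p V H) (D : Duo p V H a b) : WW V a b ⊔ ZZ V a b = V := by
  have hle : WW V a b ⊔ ZZ V a b ≤ V := sup_le (WW_le S D) inf_le_left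
  have hZeq : ZZ V a b = (V ⊓ Subgroup.centralizer ({a} : Set G)) ⊓ (V ⊓ Subgroup.centralizer ({b} : Set G)) := by
    ext z
    rw [mem_Z_iff]
    simp only [Subgroup.mem_inf, Subgroup.mem_centralizer_singleton_iff]
    tauto
  have hidx : (ZZ V a b).relIndex V ≤ p * p := by
    rw [hZeq]
    refine Subgroup.relIndex_inf_le.trans ?_
    rw [relIndex_centralizer S D.ha, relIndex_centralizer S D.hb]
  have hcardV := card_mul_relIndex' (inf_le_left : ZZ V a b ≤ V)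
  have hn : ZZ V a b ≤ Subgroup.normalizer (WW V a b : Set G) := by
    intro x hx
    apply Cfsg.Agent.Lib.Coprime.Three.mem_normalizer_of_conj_mem
    intro y hy
    have hxV : x ∈ V := (Subgroup.mem_inf.mp hx).1
    have : x * y * x⁻¹ = y := by
      rw [comm S hxV (WW_le S D hy)]; group
    rwa [this]
  have h := card_sup_mul_card_inf_of_le_normalizer _ _ hn
  rw [inf_comm, W_inf_Z S D, Subgroup.card_bot, mul_one, card_W S D, sup_comm] at h
  apply Subgroup.eq_of_le_of_card_ge hle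
  rw [h, ← hcardV]
  calc Nat.card ↥(ZZ V a b) * (ZZ V a b).relIndex V ≤ Nat.card ↥(ZZ V a b) * (p * p) :=
        Nat.mul_le_mul_left _ hidx
    _ = Nat.card ↥(ZZ V a b) * p ^ 2 := by ring

/-- An element fixing the plane and `Z` is trivial. -/
theorem eq_one_of_fix (S : Setup p V H) (D : Duo p V H a b) {g : G} (hg : g ∈ H)
    (h1 : ∀ w ∈ WW V a b, g * w = w * g) (h2 : ∀ z ∈ ZZ V a b, g * z = z * g) : g = 1 := by
  apply faithful S hg
  intro v hv
  rw [← W_sup_Z S D] at hv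
  obtain ⟨w, hw, z, hz, rfl⟩ := mem_sup_of_commute
    (fun _ hx _ hy => comm S (WW_le S D hx) ((inf_le_left : ZZ V a b ≤ V) hy)) hv
  calc g * (w * z) = (g * w) * z := by group
    _ = w * (g * z) := by rw [h1 w hw]; group
    _ = w * z * g := by rw [h2 z hz]; group

theorem fix_Z_of_mem_E {g z : G} (hg : g ∈ EE a b) (hz : z ∈ ZZ V a b) : g * z = z * g :=
  (Subgroup.mem_centralizer_iff.mp (Subgroup.mem_inf.mp hz).2) g hg

theorem E_inf_centralizer (S : Setup p V H) (D : Duo p V H a b) :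
    EE a b ⊓ Subgroup.centralizer ((WW V a b : Subgroup G) : Set G) = ⊥ := by
  rw [eq_bot_iff]
  intro g hg
  obtain ⟨hg1, hg2⟩ := Subgroup.mem_inf.mp hg
  refine eq_one_of_fix S D (EE_le D hg1) (fun w hw => ?_) (fun z hz => fix_Z_of_mem_E hg1 hz)
  exact ((Subgroup.mem_centralizer_iff.mp hg2) w hw).symm

/-- Every nontrivial element of the plane lies in the centre of an element of the class, inside `E`. -/
theorem exists_cl_of_mem_W (S : Setup p V H) (D : Duo p V H a b) {w : G} (hw : w ∈ WW V a b) (hw1 : w ≠ 1) :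
    ∃ c, Cl p V H a c ∧ c ∈ EE a b ∧ w ∈ cen V c := by
  obtain ⟨u₁, hu₁, u₂, hu₂, rfl⟩ := mem_W S D hw
  have haE : a ∈ EE a b := (le_sup_left : Subgroup.zpowers a ≤ EE a b) (Subgroup.mem_zpowers a)
  have hbE : b ∈ EE a b := (le_sup_right : Subgroup.zpowers b ≤ EE a b) (Subgroup.mem_zpowers b)
  by_cases hu₂1 : u₂ = 1
  · refine ⟨a, D.cl_a, haE, ?_⟩
    rw [hu₂1, mul_one]
    exact hu₁
  have hnf : a * u₂ ≠ u₂ * a := by
    intro h
    exact D.hne (D.cl_a.eq_of_fix_elt S D.cl_b hu₂ hu₂1 h)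
  have hu₂V := cen_le S D.hb.mem hu₂
  have hd := comm'_mem_cen (a := a) hu₂V
  set d := a * u₂ * a⁻¹ * u₂⁻¹ with hd_def
  have hd1 : d ≠ 1 := by
    intro h
    apply hnf
    rw [hd_def] at h
    calc a * u₂ = (a * u₂ * a⁻¹ * u₂⁻¹) * (u₂ * a) := by group
      _ = u₂ * a := by rw [h, one_mul]
  have hzp := cen_eq_zpowers S D.ha hd hd1
  rw [hzp] at hu₁
  obtain ⟨k, hk⟩ := (mem_powers_iff_mem_zpowers (x := d) (y := u₁)).mpr hu₁
  dsimp only at hk
  have hfix := fix_cen S D.ha d hd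
  have h1 : a * u₂ * a⁻¹ = d * u₂ := by rw [hd_def]; group
  have h2 := conj_pow_eq hfix h1 k
  refine ⟨a ^ k * b * (a ^ k)⁻¹, D.cl_b.conj_pow S D.ha k, ?_, ?_⟩
  · exact (EE a b).mul_mem ((EE a b).mul_mem ((EE a b).pow_mem haE k) hbE) ((EE a b).inv_mem ((EE a b).pow_mem haE k))
  · rw [← hk, ← h2]
    exact conj_mem_cen (S.hHV (H.pow_mem D.ha.mem k)) hu₂

/-- An element of the class has a nontrivial fixed point in the plane. -/
theorem exists_fixed_in_W (S : Setup p V H) (D : Duo p V H a b) {c : G} (hc : IsTv p V H c) :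
    ∃ w ∈ WW V a b, w ≠ 1 ∧ c * w = w * c := by
  have hVc : ∀ x ∈ V, ∀ y ∈ V, x * y = y * x := fun x hx y hy => comm S hx hy
  let θ : ↥(WW V a b) →* ↥V := (commHom hVc c (S.hHV hc.mem)).comp (Subgroup.inclusion (WW_le S D))
  have hr : Nat.card θ.range ≤ p := by
    rw [← hc.card]
    have hrl : θ.range.map V.subtype ≤ cen V c := by
      rintro _ ⟨_, ⟨w, rfl⟩, rfl⟩
      exact comm_mem_cen (WW_le S D w.2)
    have h1 : Nat.card θ.range = Nat.card ↥(θ.range.map V.subtype) :=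
      Nat.card_congr (Subgroup.equivMapOfInjective _ _ V.subtype_injective).toEquiv
    rw [h1]
    exact Subgroup.card_le_of_le hrl
  have h2 : Nat.card θ.ker * Nat.card θ.range = p ^ 2 := by
    rw [← card_W S D, ← Subgroup.index_ker]
    exact Subgroup.card_mul_index _
  have h3 : θ.ker ≠ ⊥ := by
    intro hk
    rw [hk, Subgroup.card_bot, one_mul] at h2
    rw [h2] at hr
    have hp2 := hp.out.two_le
    nlinarith
  obtain ⟨w, hw⟩ := (Subgroup.ne_bot_iff_exists_ne_one).mp h3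
  refine ⟨w.1.1, w.1.2, ?_, ?_⟩
  · intro h
    apply hw
    apply Subtype.ext
    apply Subtype.ext
    exact h
  · have h4 : ⁅w.1.1, c⁆ = 1 := congrArg Subtype.val (MonoidHom.mem_ker.mp w.2)
    exact (commutatorElement_eq_one_iff_mul_comm.mp h4).symm

/-- The class of `a` is contained in `E`. -/
theorem mem_E_of_cl (S : Setup p V H) (D : Duo p V H a b) {c : G} (hc : Cl p V H a c) : c ∈ EE a b := by
  obtain ⟨w, hw, hw1, hfix⟩ := exists_fixed_in_W S D hc.1
  obtain ⟨c₀, hc₀, hc₀E, hwc₀⟩ := exists_cl_of_mem_W S D hw hw1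
  rw [hc.eq_of_fix_elt S hc₀ hwc₀ hw1 hfix]
  exact hc₀E

/-- Every element of `E` has its `p`-th power in the core. -/
theorem pow_mem_core_of_mem_E (S : Setup p V H) (D : Duo p V H a b) {g : G} (hg : g ∈ EE a b) :
    g ^ p ∈ core p H := by
  have ha := D.ha
  have hkconj : ∀ (k : ℤ) {y : G}, y ∈ core p H → a ^ k * y * (a ^ k)⁻¹ ∈ core p H :=
    fun k y hy => core_conj (H.zpow_mem ha.mem k) hy
  let T : Subgroup G :=
    { carrier := {g | ∃ n ∈ core p H, ∃ k : ℤ, g = n * a ^ k}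
      mul_mem' := by
        rintro _ _ ⟨n, hn, k, rfl⟩ ⟨n', hn', k', rfl⟩
        refine ⟨n * (a ^ k * n' * (a ^ k)⁻¹), (core p H).mul_mem hn (hkconj k hn'), k + k', ?_⟩
        rw [zpow_add]; group
      one_mem' := ⟨1, Subgroup.one_mem _, 0, by simp⟩
      inv_mem' := by
        rintro _ ⟨n, hn, k, rfl⟩
        refine ⟨a ^ (-k) * n⁻¹ * (a ^ (-k))⁻¹, hkconj (-k) ((core p H).inv_mem hn), -k, ?_⟩
        group }
  have hle : EE a b ≤ T := by
    refine sup_le ?_ ?_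
    · rw [Subgroup.zpowers_le]
      exact ⟨1, Subgroup.one_mem _, 1, by simp⟩
    · rw [Subgroup.zpowers_le]
      exact ⟨b * a⁻¹, D.hX, 1, by simp⟩
  obtain ⟨n, hn, k, rfl⟩ := hle hg
  have hpow : ∀ m : ℕ, ∃ n' ∈ core p H, (n * a ^ k) ^ m = n' * a ^ (k * m) := by
    intro m
    induction m with
    | zero => exact ⟨1, Subgroup.one_mem _, by simp⟩
    | succ m ih =>
      obtain ⟨n', hn', h⟩ := ih
      refine ⟨n' * (a ^ (k * m) * n * (a ^ (k * m))⁻¹), (core p H).mul_mem hn' (hkconj _ hn), ?_⟩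
      rw [pow_succ, h]
      have : k * ((m + 1 : ℕ) : ℤ) = k * m + k := by push_cast; ring
      rw [this, zpow_add]
      group
  obtain ⟨n', hn', h⟩ := hpow p
  rw [h]
  have : a ^ (k * (p : ℤ)) = 1 := by
    rw [mul_comm, zpow_mul, zpow_natCast, ha.pow, one_zpow]
  rw [this, mul_one]
  exact hn'

/-- An element of `E` of order prime to `p` lies in the core. -/
theorem mem_core_of_pow_eq_one (S : Setup p V H) (D : Duo p V H a b) {g : G} (hg : g ∈ EE a b) {n : ℕ}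
    (hn : n.Coprime p) (hgn : g ^ n = 1) : g ∈ core p H := by
  have h1 := pow_mem_core_of_mem_E S D hg
  -- Bezout
  have hcop : IsCoprime (p : ℤ) (n : ℤ) := Nat.isCoprime_iff_coprime.mpr hn.symm
  obtain ⟨u, v, huv⟩ := hcop
  have h2 : g = (g ^ p) ^ u := by
    calc g = g ^ (u * (p : ℤ) + v * (n : ℤ)) := by rw [huv, zpow_one]
      _ = (g ^ p) ^ u * (g ^ n) ^ v := by
        rw [zpow_add, mul_comm u, mul_comm v, zpow_mul, zpow_mul, zpow_natCast, zpow_natCast]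
      _ = (g ^ p) ^ u := by rw [hgn, one_zpow, mul_one]
  rw [h2]
  exact (core p H).zpow_mem h1 u

/-- Normal form of a duo. -/
theorem exists_normal_form (S : Setup p V H) (D : Duo p V H a b) :
    ∃ (b₁ d₁ d₂ : G), Subgroup.zpowers b₁ = Subgroup.zpowers b ∧ cen V a = Subgroup.zpowers d₁ ∧
      cen V b = Subgroup.zpowers d₂ ∧ Plane p d₁ d₂ ∧ a * d₁ = d₁ * a ∧ a * d₂ * a⁻¹ = d₁ * d₂ ∧
      b₁ * d₂ = d₂ * b₁ ∧ b₁ * d₁ * b₁⁻¹ = d₂ * d₁ := by
  -- choose `d₂`
  have hno : ¬ ∀ d ∈ cen V b, a * d = d * a := fun h =>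
    D.hne (eq_of_fix S D.ha D.hb (D.symm.hX) h)
  push Not at hno
  obtain ⟨d₂, hd₂, hnf⟩ := hno
  have hd₂V := cen_le S D.hb.mem hd₂
  have hd₂1 : d₂ ≠ 1 := by
    rintro rfl
    simp at hnf
  have hd₁ := comm'_mem_cen (a := a) hd₂V
  set d₁ := a * d₂ * a⁻¹ * d₂⁻¹ with hd₁_def
  have hd₁1 : d₁ ≠ 1 := by
    intro h
    apply hnf
    rw [hd₁_def] at h
    calc a * d₂ = (a * d₂ * a⁻¹ * d₂⁻¹) * (d₂ * a) := by group
      _ = d₂ * a := by rw [h, one_mul]
  have hd₁V := cen_le S D.ha.mem hd₁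
  have hza := cen_eq_zpowers S D.ha hd₁ hd₁1
  have hzb := cen_eq_zpowers S D.hb hd₂ hd₂1
  have hfa₁ := fix_cen S D.ha d₁ hd₁
  have hfb₂ := fix_cen S D.hb d₂ hd₂
  have hP : Plane p d₁ d₂ := by
    refine ⟨pow_V S hd₁V, pow_V S hd₂V, comm S hd₁V hd₂V, hd₁1, hd₂1, ?_⟩
    rw [← hza, ← hzb]
    exact cen_inf_of_ne S D.cl_a D.cl_b D.hne
  -- the action of `b` on `d₁`
  have hnb : b * d₁ ≠ d₁ * b := fun h =>
    D.hne.symm (D.cl_b.eq_of_fix_elt S D.cl_a hd₁ hd₁1 h)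
  have ht := comm'_mem_cen (a := b) hd₁V
  set t := b * d₁ * b⁻¹ * d₁⁻¹ with ht_def
  have ht1 : t ≠ 1 := by
    intro h
    apply hnb
    rw [ht_def] at h
    calc b * d₁ = (b * d₁ * b⁻¹ * d₁⁻¹) * (d₁ * b) := by group
      _ = d₁ * b := by rw [h, one_mul]
  have htz := ht
  rw [hzb] at htz
  obtain ⟨σ, hσ⟩ := (mem_powers_iff_mem_zpowers (x := d₂) (y := t)).mpr htz
  dsimp only at hσ
  have hod₂ : orderOf d₂ = p := orderOf_eq_prime hP.pow₂ hP.ne₂
  have hσp : σ.Coprime p := by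
    rw [Nat.coprime_comm, Nat.Prime.coprime_iff_not_dvd hp.out]
    intro hdvd
    apply ht1
    rw [← hσ, ← hod₂] at *
    exact orderOf_dvd_iff_pow_eq_one.mp hdvd
  obtain ⟨τ, -, hτ⟩ := Nat.exists_mul_mod_eq_one_of_coprime hσp hp.out.one_lt
  have ht2 : t ^ τ = d₂ := by
    rw [← hσ, ← pow_mul, pow_eq_pow_mod _ hP.pow₂, hτ, pow_one]
  have hbt : b * t = t * b := fix_cen S D.hb t ht
  have hconj : b * d₁ * b⁻¹ = t * d₁ := by rw [ht_def]; group
  have hpow := conj_pow_eq hbt hconj τ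
  rw [ht2] at hpow
  have hb₁2 : b ^ τ * d₂ = d₂ * b ^ τ := Commute.pow_left hfb₂ τ
  have hb₁ne : b ^ τ ≠ 1 := by
    intro h
    rw [h] at hpow
    simp only [one_mul, inv_one, mul_one] at hpow
    apply hd₂1
    have : 1 * d₁ = d₂ * d₁ := by rw [one_mul]; exact hpow
    exact (mul_right_cancel this).symm
  have hb₁p : (b ^ τ) ^ p = 1 := by
    rw [← pow_mul, mul_comm, pow_mul, D.hb.pow, one_pow]
  have hzeq : Subgroup.zpowers (b ^ τ) = Subgroup.zpowers b := by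
    apply Subgroup.eq_of_le_of_card_ge
    · rw [Subgroup.zpowers_le]
      exact Subgroup.npow_mem_zpowers b τ
    · rw [Nat.card_zpowers, Nat.card_zpowers, orderOf_eq_prime hb₁p hb₁ne,
        orderOf_eq_prime D.hb.pow (ne_one_of_isTv D.hb)]
  refine ⟨b ^ τ, d₁, d₂, hzeq, hza, hzb, hP, hfa₁, ?_, hb₁2, hpow⟩
  rw [hd₁_def]; group

open Matrix Cfsg.Agent.Lib.PSL2.Basic
open scoped MatrixGroups

/-- The isomorphism with `SL(2, p)`. -/
theorem exists_equiv_E (S : Setup p V H) (D : Duo p V H a b) :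
    ∃ (d₁ d₂ : G) (f : ↥(EE a b) ≃* SL(2, ZMod p)), cen V a = Subgroup.zpowers d₁ ∧
      cen V b = Subgroup.zpowers d₂ ∧ Plane p d₁ d₂ ∧ R d₁ d₂ a (x (1 : ZMod p)) ∧
      ∀ g : ↥(EE a b), R d₁ d₂ g.1 (f g) := by
  obtain ⟨b₁, d₁, d₂, hz, hza, hzb, P, h1, h2, h3, h4⟩ := exists_normal_form S D
  have hEE : EE a b = Subgroup.zpowers a ⊔ Subgroup.zpowers b₁ := by rw [hz]
  have hf : ∀ g ∈ Subgroup.zpowers a ⊔ Subgroup.zpowers b₁, g * d₁ = d₁ * g → g * d₂ = d₂ * g → g = 1 := by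
    intro g hg hg1 hg2
    rw [← hEE] at hg
    refine eq_one_of_fix S D (EE_le D hg) ?_ (fun z hz => fix_Z_of_mem_E hg hz)
    have hle : WW V a b ≤ Subgroup.centralizer ({g} : Set G) := by
      refine sup_le ?_ ?_
      · rw [hza, Subgroup.zpowers_le]
        exact Subgroup.mem_centralizer_singleton_iff.mpr hg1.symm
      · rw [hzb, Subgroup.zpowers_le]
        exact Subgroup.mem_centralizer_singleton_iff.mpr hg2.symm
    intro w hw
    exact (Subgroup.mem_centralizer_singleton_iff.mp (hle hw)).symm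
  obtain ⟨f, hfR⟩ := exists_equiv P h1 h2 h3 h4 hf
  refine ⟨d₁, d₂, (MulEquiv.subgroupCongr hEE).trans f, hza, hzb, P, P.R_x h1 h2, ?_⟩
  intro g
  exact hfR (MulEquiv.subgroupCongr hEE g)

/-- `p` is `2` or `3`. -/
theorem p_eq (S : Setup p V H) (D : Duo p V H a b) : p = 2 ∨ p = 3 := by
  by_cases hp2 : p = 2
  · exact Or.inl hp2
  right
  have h2 : (2 : ZMod p) ≠ 0 := by
    intro h
    have h3 : ((2 : ℕ) : ZMod p) = 0 := by exact_mod_cast h
    rw [ZMod.natCast_eq_zero_iff] at h3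
    exact hp2 ((Nat.prime_dvd_prime_iff_eq hp.out Nat.prime_two).mp h3)
  obtain ⟨d₁, d₂, f, hza, hzb, P, hRa, hfR⟩ := exists_equiv_E S D
  set D₂ : SL(2, ZMod p) := d (2 : ZMod p) h2 with hD₂
  set g : ↥(EE a b) := f.symm D₂ with hg
  have hRg : R d₁ d₂ g.1 D₂ := by
    have := hfR g
    rwa [hg, MulEquiv.apply_symm_apply] at this
  have hpm : D₂ ^ (p - 1) = 1 := by
    rw [hD₂, d_pow]
    have h3 : (2 : ZMod p) ^ (p - 1) = 1 := ZMod.pow_card_sub_one_eq_one h2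
    apply ext2 <;> simp [h3]
  have hg1 : g.1 ^ (p - 1) = 1 := by
    have h3 : f (g ^ (p - 1)) = 1 := by
      rw [map_pow, hg, MulEquiv.apply_symm_apply, hpm]
    have h4 : g ^ (p - 1) = 1 := (map_eq_one_iff f f.injective).mp h3
    have h5 := congrArg Subtype.val h4
    simpa using h5
  have hp3 : 2 ≤ p := hp.out.two_le
  have hcop : (p - 1).Coprime p := by
    rw [Nat.coprime_comm, Nat.Prime.coprime_iff_not_dvd hp.out]
    intro h
    have := Nat.le_of_dvd (by omega) h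
    omega
  have hgcore : g.1 ∈ core p H := mem_core_of_pow_eq_one S D g.2 hcop hg1
  have hc₁ := (Cl.self D.ha).conj_core S D.ha hgcore
  have hg_d₁ : g.1 * d₁ * g.1⁻¹ ∈ Subgroup.zpowers d₁ := by
    have h3 := hRg ![1, 0]
    rw [psi_e0] at h3
    rw [h3]
    have hm : D₂.1.mulVec (![1, 0] : Fin 2 → ZMod p) = ![2, 0] := by
      funext i
      fin_cases i <;> simp [Matrix.mulVec, dotProduct, Fin.sum_univ_two, hD₂, d, sl2]
    rw [hm]
    simp only [psi, Matrix.cons_val_zero, Matrix.cons_val_one, ZMod.val_zero, pow_zero, mul_one]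
    exact Subgroup.npow_mem_zpowers _ _
  have hacen : a = g.1 * a * g.1⁻¹ := by
    apply eq_of_fix S D.ha hc₁.1 ((Cl.self D.ha).mul_inv hc₁)
    intro u hu
    rw [cen_conj_eq S (EE_le D g.2)] at hu
    obtain ⟨v, hv, rfl⟩ := hu
    have hv2 : v ∈ Subgroup.zpowers d₁ := by rw [← hza]; exact hv
    have hv3 : (MulAut.conj g.1).toMonoidHom v ∈ cen V a := by
      rw [hza]
      obtain ⟨k, rfl⟩ := hv2
      dsimp only
      simp only [MulEquiv.toMonoidHom_eq_coe, MonoidHom.coe_coe, map_zpow, MulAut.conj_apply]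
      exact Subgroup.zpow_mem _ hg_d₁ k
    exact fix_cen S D.ha _ hv3
  have h5 : R d₁ d₂ a (D₂ * x (1 : ZMod p) * D₂⁻¹) := by
    have := R_mul (R_mul hRg hRa) (R_inv hRg)
    rwa [← hacen] at this
  rw [hD₂, d_x_d_inv] at h5
  have h6 := P.R_unique hRa h5
  have h7 : (1 : ZMod p) = 2 ^ 2 * 1 := x_injective h6
  have h8 : ((3 : ℕ) : ZMod p) = 0 := by
    push_cast
    linear_combination -h7
  rw [ZMod.natCast_eq_zero_iff] at h8
  exact (Nat.prime_dvd_prime_iff_eq hp.out Nat.prime_three).mp h8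

end Cfsg.Agent.Lib.PGroup.FFDuo
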