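import Cfsg.Agent.Lib.PGroup.FFPair
import Mathlib

/-!
# Transvection elements in an FF-pair

`a ∈ H` with `a ^ p = 1` and `|[V, ⟨a⟩]| = p`.
-/

set_option autoImplicit false
set_option linter.unusedSectionVars false
set_option linter.style.haveILetI false
open Cfsg
open scoped commutatorElement

namespace Cfsg.Agent.Lib.PGroup.FFTv

open Cfsg.Agent.Lib.PGroup.Timmesfeld Cfsg.Agent.Lib.PGroup.FFPair

variable {G : Type*} [Group G] [Finite G] {p : ℕ} [hp : Fact p.Prime] {V H : Subgroup G}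

/-- The centre `[V, ⟨a⟩]`. -/
noncomputable abbrev cen (V : Subgroup G) (a : G) : Subgroup G := ⁅V, Subgroup.zpowers a⁆

/-- A transvection element. -/
structure IsTv (p : ℕ) (V H : Subgroup G) (a : G) : Prop where
  mem : a ∈ H
  pow : a ^ p = 1
  card : Nat.card (cen V a) = p

theorem comm (S : Setup p V H) {x y : G} (hx : x ∈ V) (hy : y ∈ V) : x * y = y * x := by
  have := S.hV.1.is_comm.comm ⟨x, hx⟩ ⟨y, hy⟩
  simpa using congrArg Subtype.val this

theorem pow_V (S : Setup p V H) {x : G} (hx : x ∈ V) : x ^ p = 1 := S.hV.2 x hx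

theorem conj_mem (S : Setup p V H) {h v : G} (hh : h ∈ H) (hv : v ∈ V) : h * v * h⁻¹ ∈ V :=
  (Subgroup.mem_normalizer_iff.mp (S.hHV hh) v).mp hv

theorem faithful (S : Setup p V H) {g : G} (hg : g ∈ H) (h : ∀ v ∈ V, g * v = v * g) : g = 1 := by
  have h1 : g ∈ H ⊓ Subgroup.centralizer (V : Set G) :=
    Subgroup.mem_inf.mpr ⟨hg, Subgroup.mem_centralizer_iff.mpr fun v hv => (h v hv).symm⟩
  rw [S.hf] at h1
  exact h1

theorem cen_le (S : Setup p V H) {a : G} (ha : a ∈ H) : cen V a ≤ V := by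
  rw [Subgroup.commutator_le]
  rintro v hv g ⟨k, rfl⟩
  have hg : a ^ k ∈ H := H.zpow_mem ha k
  dsimp only
  have h1 := conj_mem S hg (V.inv_mem hv)
  rw [commutatorElement_def]
  have : v * a ^ k * v⁻¹ * (a ^ k)⁻¹ = v * (a ^ k * v⁻¹ * (a ^ k)⁻¹) := by group
  rw [this]
  exact V.mul_mem hv h1

theorem comm_mem_cen {a v : G} (hv : v ∈ V) : ⁅v, a⁆ ∈ cen V a :=
  Subgroup.commutator_mem_commutator hv (Subgroup.mem_zpowers a)

theorem comm'_mem_cen {a v : G} (hv : v ∈ V) : a * v * a⁻¹ * v⁻¹ ∈ cen V a := by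
  have := (cen V a).inv_mem (comm_mem_cen (a := a) hv)
  have h2 : ⁅v, a⁆⁻¹ = a * v * a⁻¹ * v⁻¹ := by
    rw [commutatorElement_def]; group
  rwa [h2] at this

theorem exists_conj {a v : G} (hv : v ∈ V) : ∃ t ∈ cen V a, a * v * a⁻¹ = t * v :=
  ⟨_, comm'_mem_cen hv, by group⟩

theorem exists_conj_inv (S : Setup p V H) {a v : G} (ha : a ∈ H) (hv : v ∈ V) :
    ∃ t ∈ cen V a, a⁻¹ * v * a = t * v := by
  have hv' : a⁻¹ * v * a ∈ V := by
    have := conj_mem S (H.inv_mem ha) hv
    simpa using this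
  obtain ⟨t, ht, h⟩ := exists_conj (a := a) hv'
  refine ⟨t⁻¹, (cen V a).inv_mem ht, ?_⟩
  have h1 : v = t * (a⁻¹ * v * a) := by
    rw [← h]; group
  calc a⁻¹ * v * a = t⁻¹ * (t * (a⁻¹ * v * a)) := by group
    _ = t⁻¹ * v := by rw [← h1]

/-- A transvection element fixes its centre. -/
theorem fix_cen (S : Setup p V H) {a : G} (h : IsTv p V H a) : ∀ d ∈ cen V a, a * d = d * a := by
  intro d hd
  by_cases hd1 : d = 1
  · rw [hd1]; group
  have hdV : d ∈ V := cen_le S h.mem hd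
  have hod : orderOf d = p := orderOf_eq_prime (pow_V S hdV) hd1
  -- `cen = ⟨d⟩`
  have hzle : Subgroup.zpowers d ≤ cen V a := by
    rw [Subgroup.zpowers_le]; exact hd
  have hzeq : Subgroup.zpowers d = cen V a := by
    apply Subgroup.eq_of_le_of_card_ge hzle
    rw [h.card, Nat.card_zpowers, hod]
  obtain ⟨t, ht, hconj⟩ := exists_conj (a := a) hdV
  have hmem : a * d * a⁻¹ ∈ cen V a := by
    rw [hconj]; exact (cen V a).mul_mem ht hd
  rw [← hzeq] at hmem
  obtain ⟨k, hk⟩ := (mem_powers_iff_mem_zpowers (x := d) (y := a * d * a⁻¹)).mpr hmem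
  dsimp only at hk
  have hpowers : ∀ n : ℕ, a ^ n * d * (a ^ n)⁻¹ = d ^ (k ^ n) := by
    intro n
    induction n with
    | zero => simp
    | succ n ih =>
      have h1 : a ^ (n + 1) * d * (a ^ (n + 1))⁻¹ = a ^ n * (a * d * a⁻¹) * (a ^ n)⁻¹ := by
        rw [pow_succ]; group
      rw [h1, ← hk]
      have h2 : a ^ n * (d ^ k) * (a ^ n)⁻¹ = (a ^ n * d * (a ^ n)⁻¹) ^ k := by
        rw [conj_pow]
      rw [h2, ih, ← pow_mul, pow_succ]
  have h3 := hpowers p
  rw [h.pow] at h3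
  simp only [one_mul, inv_one, mul_one] at h3
  have h4 : k ^ p ≡ 1 [MOD p] := by
    have : d ^ (k ^ p) = d ^ 1 := by rw [← h3, pow_one]
    rw [pow_eq_pow_iff_modEq, hod] at this
    exact this
  have h5 : k ≡ 1 [MOD p] := by
    have h6 : ((k ^ p : ℕ) : ZMod p) = ((1 : ℕ) : ZMod p) := (ZMod.natCast_eq_natCast_iff _ _ _).mpr h4
    push_cast at h6
    rw [ZMod.pow_card] at h6
    exact (ZMod.natCast_eq_natCast_iff _ _ _).mp (by push_cast; exact h6)
  have h7 : d ^ k = d := by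
    have : d ^ k = d ^ 1 := by
      rw [pow_eq_pow_iff_modEq, hod]; exact h5
    rwa [pow_one] at this
  rw [h7] at hk
  calc a * d = (a * d * a⁻¹) * a := by group
    _ = d * a := by rw [← hk]

theorem cen_eq_zpowers (S : Setup p V H) {a d : G} (h : IsTv p V H a) (hd : d ∈ cen V a) (hd1 : d ≠ 1) :
    cen V a = Subgroup.zpowers d := by
  have hdV : d ∈ V := cen_le S h.mem hd
  have hod : orderOf d = p := orderOf_eq_prime (pow_V S hdV) hd1
  have hzle : Subgroup.zpowers d ≤ cen V a := by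
    rw [Subgroup.zpowers_le]; exact hd
  symm
  apply Subgroup.eq_of_le_of_card_ge hzle
  rw [h.card, Nat.card_zpowers, hod]

/-- Elementwise stability under a `p'`-element. -/
theorem stab_elt {y v t : G} (hy : (orderOf y).Coprime p) (htp : t ^ p = 1) (hyt : y * t = t * y)
    (h : y * v * y⁻¹ = t * v) : y * v = v * y := by
  have hpow : ∀ n : ℕ, y ^ n * v * (y ^ n)⁻¹ = t ^ n * v := by
    intro n
    induction n with
    | zero => simp
    | succ n ih =>
      have h1 : y ^ (n + 1) * v * (y ^ (n + 1))⁻¹ = y ^ n * (y * v * y⁻¹) * (y ^ n)⁻¹ := by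
        rw [pow_succ]; group
      rw [h1, h]
      have hc : y ^ n * t = t * y ^ n := (Commute.pow_left hyt n)
      calc y ^ n * (t * v) * (y ^ n)⁻¹ = (y ^ n * t) * v * (y ^ n)⁻¹ := by group
        _ = t * (y ^ n * v * (y ^ n)⁻¹) := by rw [hc]; group
        _ = t ^ (n + 1) * v := by rw [ih, pow_succ']; group
  have h2 := hpow (orderOf y)
  rw [pow_orderOf_eq_one] at h2
  simp only [one_mul, inv_one, mul_one] at h2
  have h3 : t ^ orderOf y = 1 := by
    have : t ^ orderOf y * v = 1 * v := by rw [← h2, one_mul]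
    exact mul_right_cancel this
  have h4 : orderOf t ∣ Nat.gcd (orderOf y) p :=
    Nat.dvd_gcd (orderOf_dvd_of_pow_eq_one h3) (orderOf_dvd_of_pow_eq_one htp)
  rw [hy.gcd_eq_one, Nat.dvd_one, orderOf_eq_one_iff] at h4
  rw [h4, one_mul] at h
  calc y * v = (y * v * y⁻¹) * y := by group
    _ = v * y := by rw [h]

theorem coprime_of_mem_core {y : G} (hy : y ∈ core p H) : (orderOf y).Coprime p :=
  Nat.Coprime.coprime_dvd_left (Subgroup.orderOf_dvd_natCard _ hy) (core_coprime H)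

/-- **Key lemma**: two transvection elements congruent modulo the core, with the first one fixing the centre
of the second one, coincide. -/
theorem eq_of_fix (S : Setup p V H) {b c : G} (hb : IsTv p V H b) (hc : IsTv p V H c)
    (hX : b * c⁻¹ ∈ core p H) (hfix : ∀ d ∈ cen V c, b * d = d * b) : b = c := by
  set y := b * c⁻¹ with hy
  have hyc := coprime_of_mem_core hX
  have hcfix := fix_cen S hc
  have hbfix := fix_cen S hb
  have hcinv : ∀ d ∈ cen V c, c⁻¹ * d = d * c⁻¹ := by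
    intro d hd
    have := hcfix d hd
    calc c⁻¹ * d = c⁻¹ * (d * c) * c⁻¹ := by group
      _ = c⁻¹ * (c * d) * c⁻¹ := by rw [this]
      _ = d * c⁻¹ := by group
  -- `y` fixes `cen c`
  have h1 : ∀ d ∈ cen V c, y * d = d * y := by
    intro d hd
    rw [hy, mul_assoc, hcinv d hd, ← mul_assoc, hfix d hd, mul_assoc]
  -- `y` fixes `cen b`
  have h2 : ∀ w ∈ cen V b, y * w = w * y := by
    intro w hw
    have hwV := cen_le S hb.mem hw
    obtain ⟨t, ht, hconj⟩ := exists_conj_inv S hc.mem hwV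
    have htp : t ^ p = 1 := pow_V S (cen_le S hc.mem ht)
    apply stab_elt hyc htp (h1 t ht)
    calc y * w * y⁻¹ = b * (c⁻¹ * w * c) * b⁻¹ := by rw [hy]; group
      _ = (b * t) * (w * b⁻¹) := by rw [hconj]; group
      _ = t * (b * w) * b⁻¹ := by rw [hfix t ht]; group
      _ = t * w := by rw [hbfix w hw]; group
  -- `y` fixes `V`
  have h3 : ∀ v ∈ V, y * v = v * y := by
    intro v hv
    obtain ⟨t, ht, hconj⟩ := exists_conj_inv S hc.mem hv
    obtain ⟨s, hs, hconj2⟩ := exists_conj (a := b) hv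
    have htV := cen_le S hc.mem ht
    have hsV := cen_le S hb.mem hs
    have htp : (t * s) ^ p = 1 := pow_V S (V.mul_mem htV hsV)
    have hys : y * (t * s) = (t * s) * y := by
      rw [← mul_assoc, h1 t ht, mul_assoc, h2 s hs, mul_assoc]
    apply stab_elt hyc htp hys
    calc y * v * y⁻¹ = b * (c⁻¹ * v * c) * b⁻¹ := by rw [hy]; group
      _ = (b * t) * (v * b⁻¹) := by rw [hconj]; group
      _ = t * (b * v * b⁻¹) := by rw [hfix t ht]; group
      _ = t * (s * v) := by rw [hconj2]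
      _ = t * s * v := by group
  have hyH : y ∈ H := H.mul_mem hb.mem (H.inv_mem hc.mem)
  have h4 : y = 1 := faithful S hyH h3
  calc b = y * c := by rw [hy]; group
    _ = c := by rw [h4, one_mul]

theorem conj_mem_cen {a g d : G} (hg : g ∈ Subgroup.normalizer (V : Set G)) (hd : d ∈ cen V a) :
    g * d * g⁻¹ ∈ cen V (g * a * g⁻¹) := by
  have h1 : (cen V a).map (MulAut.conj g).toMonoidHom ≤ cen V (g * a * g⁻¹) := by
    rw [Subgroup.map_commutator]
    apply Subgroup.commutator_mono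
    · rintro _ ⟨v, hv, rfl⟩
      exact (Subgroup.mem_normalizer_iff.mp hg v).mp hv
    · rw [MonoidHom.map_zpowers]
      rfl
  exact h1 ⟨d, hd, rfl⟩

theorem cen_conj_eq (S : Setup p V H) {a g : G} (hg : g ∈ H) :
    cen V (g * a * g⁻¹) = (cen V a).map (MulAut.conj g).toMonoidHom := by
  apply le_antisymm
  · intro d hd
    refine ⟨g⁻¹ * d * g, ?_, by simp [mul_assoc]⟩
    have := conj_mem_cen (a := g * a * g⁻¹) (g := g⁻¹) (S.hHV (H.inv_mem hg)) hd
    have h2 : g⁻¹ * (g * a * g⁻¹) * g⁻¹⁻¹ = a := by group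
    rw [h2] at this
    simpa using this
  · rintro _ ⟨d, hd, rfl⟩
    exact conj_mem_cen (S.hHV hg) hd

theorem IsTv.conj (S : Setup p V H) {a g : G} (h : IsTv p V H a) (hg : g ∈ H) : IsTv p V H (g * a * g⁻¹) := by
  refine ⟨H.mul_mem (H.mul_mem hg h.mem) (H.inv_mem hg), ?_, ?_⟩
  · rw [conj_pow, h.pow]; group
  · rw [cen_conj_eq S hg]
    rw [← h.card]
    exact Nat.card_congr (Subgroup.equivMapOfInjective _ _ (MulAut.conj g).injective).symm.toEquiv

theorem card_centralizer_eq (S : Setup p V H) {a : G} (h : IsTv p V H a) :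
    p * Nat.card ↥(V ⊓ Subgroup.centralizer ({a} : Set G)) = Nat.card V := by
  have hVc : ∀ x ∈ V, ∀ y ∈ V, x * y = y * x := fun x hx y hy => comm S hx hy
  have := card_commutator_zpowers hVc a (S.hHV h.mem)
  rwa [h.card] at this

theorem ne_one_of_isTv {a : G} (h : IsTv p V H a) : a ≠ 1 := by
  rintro rfl
  have h1 := h.card
  have h2 : cen V (1 : G) = ⊥ := by
    simp [cen, Subgroup.zpowers_one_eq_bot, Subgroup.commutator_bot_right]
  rw [h2, Subgroup.card_bot] at h1
  exact hp.out.one_lt.ne h1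

/-- Minimal best offenders are generated by transvection elements. -/
theorem isTv_of_minimal (S : Setup p V H) {A : Subgroup G} (hAH : A ≤ H)
    (hA : Cfsg.IsBestOffenderOn p V A) (hAV : ⁅V, A⁆ ≠ ⊥)
    (hmin : ∀ B : Subgroup G, B ≤ A → Cfsg.IsBestOffenderOn p V B → ⁅V, B⁆ ≠ ⊥ → B = A) :
    ∃ a : G, A = Subgroup.zpowers a ∧ IsTv p V H a := by
  obtain ⟨h1, h2, -⟩ := minimal_spec S hAH hA hAV hmin
  obtain ⟨a, ha⟩ := exists_gen_of_card_prime h1
  have haA : a ∈ A := by rw [ha]; exact Subgroup.mem_zpowers a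
  have hpow : a ^ p = 1 := by
    have h3 : a ^ p ∈ H ⊓ Subgroup.centralizer (V : Set G) :=
      Subgroup.mem_inf.mpr ⟨H.pow_mem (hAH haA) p, hA.2.2 a haA⟩
    rw [S.hf] at h3
    exact h3
  refine ⟨a, ha, hAH haA, hpow, ?_⟩
  show Nat.card ↥⁅V, Subgroup.zpowers a⁆ = p
  rw [← ha]
  exact h2

/-- A subgroup generated by a transvection element is a minimal best offender. -/
theorem minimal_of_isTv (S : Setup p V H) {a : G} (h : IsTv p V H a) :
    Subgroup.zpowers a ≤ H ∧ Cfsg.IsBestOffenderOn p V (Subgroup.zpowers a) ∧ ⁅V, Subgroup.zpowers a⁆ ≠ ⊥ ∧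
      ∀ B : Subgroup G, B ≤ Subgroup.zpowers a → Cfsg.IsBestOffenderOn p V B → ⁅V, B⁆ ≠ ⊥ →
        B = Subgroup.zpowers a := by
  have hord : orderOf a = p := orderOf_eq_prime h.pow (ne_one_of_isTv h)
  have hcard : Nat.card (Subgroup.zpowers a) = p := by rw [Nat.card_zpowers, hord]
  have hne : ⁅V, Subgroup.zpowers a⁆ ≠ ⊥ := by
    intro hb
    have h1 := h.card
    rw [cen, hb, Subgroup.card_bot] at h1
    exact hp.out.one_lt.ne h1
  have hval : mval V (Subgroup.zpowers a) = Nat.card V := by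
    have h1 := card_centralizer_eq S h
    rw [← centralizer_zpowers_eq] at h1
    rw [← h1, mval, hcard]
  have hcomm : ∀ x ∈ Subgroup.zpowers a, ∀ y ∈ Subgroup.zpowers a, x * y = y * x := by
    rintro _ ⟨k, rfl⟩ _ ⟨l, rfl⟩
    dsimp only
    rw [← zpow_add, ← zpow_add, add_comm]
  refine ⟨(Subgroup.zpowers_le).mpr h.mem, ⟨?_, ?_, ?_⟩, hne, minimal_of_card_prime hcard⟩
  · intro B hB
    have hd : Nat.card B ∣ p := hcard ▸ Subgroup.card_dvd_of_le hB
    rcases (Nat.dvd_prime hp.out).mp hd with h1 | h1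
    · have hb := Subgroup.eq_bot_of_card_eq B h1
      have h3 : mval V B ≤ mval V (Subgroup.zpowers a) := by
        rw [hb, hval, mval_bot]
      exact h3
    · have hb : B = Subgroup.zpowers a := Subgroup.eq_of_le_of_card_ge hB (by rw [hcard, h1])
      rw [hb]
  · rw [Subgroup.commutator_le]
    intro x hx y hy
    have : ⁅x, y⁆ = 1 := commutatorElement_eq_one_iff_mul_comm.mpr (hcomm x hx y hy)
    rw [this]
    exact Subgroup.one_mem _
  · rintro _ ⟨k, rfl⟩
    dsimp only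
    have : (a ^ k) ^ p = 1 := by
      rw [← zpow_natCast, ← zpow_mul, mul_comm, zpow_mul, zpow_natCast, h.pow, one_zpow]
    rw [this]
    exact Subgroup.one_mem _

end Cfsg.Agent.Lib.PGroup.FFTv
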