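import Mathlib
import Cfsg.Agent.Lib.PGroup.KInfQuartic
import Cfsg.Agent.Lib.PGroup.WeakLocal
import Cfsg.Agent.Lib.Transfer.SectionBasic

/-!
# The K-infinity subgroup as a conjugacy functor satisfying the hypotheses of the weak closure theorems
-/

set_option autoImplicit false
set_option linter.unusedSectionVars false
set_option linter.style.haveILetI false

universe u

namespace Cfsg.Agent.Lib.PGroup.KInfBridge

open Subgroup Cfsg Cfsg.Agent.Lib.Transfer.WellPlaced Cfsg.Agent.Lib.PGroup.KInf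
open scoped commutatorElement

variable {G : Type u} [Group G] [Finite G] {p : ℕ} [hp : Fact p.Prime]

theorem isConj_lower : IsConjugacyFunctor p (inducedFunctor (G := G) kInfLower) :=
  Cfsg.Agent.Lib.Transfer.SectionBasic.isConjugacyFunctor_iW
    (Cfsg.Agent.Lib.PGroup.KInfIso.isCharPFunctor_kInfLower p)

theorem center_le_lower (P : Subgroup G) (hP : IsPGroup p ↥P) :
    P ⊓ centralizer (P : Set G) ≤ inducedFunctor kInfLower P := by
  rintro x ⟨hx1, hx2⟩
  haveI : Group.IsNilpotent ↥P := hP.isNilpotent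
  have h1 : center ↥P ≤ kInfLower ↥P :=
    (center_le_centralizer' _).trans (centralizer_kInfLower_le (P := ↥P))
  refine ⟨⟨x, hx1⟩, h1 ?_, rfl⟩
  rw [Subgroup.mem_center_iff]
  intro y
  apply Subtype.ext
  exact mem_centralizer_iff.mp hx2 (y : G) y.2

/-- The element given by the K-infinity theorem in the subgroup `H`. -/
theorem exists_element {H T : Subgroup G} (hTH : T ≤ H) (hTp : IsPGroup p ↥T)
    (hTi : ¬ p ∣ T.relIndex H) (hN : ¬ H ≤ normalizer ((inducedFunctor kInfLower T : Subgroup G) : Set G)) :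
    ∃ g : G, g ∈ T ∧ g ∉ pCoreOf p H ∧
      ⁅⁅pCoreOf p H ⊓ centralizer ((pCoreOf p H : Subgroup G) : Set G), zpowers g⁆, zpowers g⁆ = ⊥ := by
  have hinj := H.subtype_injective
  have h1 : IsPGroup p ↥(T.subgroupOf H) := hTp.comap_of_injective _ hinj
  let S' : Sylow p ↥H := h1.toSylow hTi
  have hS'map : (S' : Subgroup ↥H).map H.subtype = T := map_subgroupOf_eq_of_le hTH
  have hK : ¬ (inducedFunctor kInfLower (S' : Subgroup ↥H)).Normal := by
    intro hnorm
    apply hN
    have h2 := Cfsg.Agent.Lib.Transfer.SectionBasic.iW_map_of_injOn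
      (Cfsg.Agent.Lib.PGroup.KInfIso.isCharPFunctor_kInfLower p) H.subtype S'.isPGroup'
      (fun a _ b _ h => hinj h)
    rw [hS'map] at h2
    rw [h2]
    intro h hh
    refine (map_mem_normalizer_iff H _ ⟨h, hh⟩).mpr ?_
    rw [normalizer_eq_top_iff.mpr hnorm]
    exact mem_top _
  obtain ⟨g, hgS, hgQ, -, hq, -⟩ := Cfsg.Agent.Lib.PGroup.KInfQuartic.main S' (Or.inl hK)
  refine ⟨(g : G), hgS, ?_, ?_⟩
  · rintro ⟨y, hy, hyg⟩
    have : y = g := Subtype.ext hyg
    exact hgQ (this ▸ hy)
  · have hz : zpowers (g : G) = (zpowers g).map H.subtype := by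
      rw [MonoidHom.map_zpowers]
      rfl
    rw [hz]
    change ⁅⁅((pCore p ↥H).map H.subtype) ⊓ centralizer (((pCore p ↥H).map H.subtype : Subgroup G) : Set G), _⁆, _⁆ = ⊥
    rw [map_center_eq, ← Subgroup.map_commutator, ← Subgroup.map_commutator, hq, Subgroup.map_bot]

end Cfsg.Agent.Lib.PGroup.KInfBridge
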