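import Mathlib
import Cfsg.Agent.S3975
import Cfsg.Agent.S3976
import Cfsg.Agent.Lib.PGroup.Basic
import Cfsg.Agent.Lib.PGroup.CyclicMax
import Cfsg.Agent.Lib.PGroup.ModularCyclic
import Cfsg.Agent.Lib.PGroup.Regular

set_option autoImplicit false

/-!
# Counting subgroups modulo `p²` in finite `p`-groups: characters to `ℤ/p`

For a finite `p`-group `G` let `X = Hom(G, ℤ/p)`.  Double counting of pairs `(χ, H)` with `H ≤ ker χ`
gives, for `q = p^a` with `p^a ≤ |G|/p²`, that `p²` divides `∑_χ c(ker χ)`, where `c(L)` is the number of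
subgroups of order `q` inside `L`.
-/

namespace Cfsg.Agent.Lib.PGroup.Kulakoff

open Subgroup

/-! ### Invariant sums over orbits -/

section Inv

variable {Γ α : Type*} [Group Γ] [MulAction Γ α] [Fintype α]

/-- The sum of an invariant function over a finite set with a group action is divisible by `d`, when
`d` divides the size of every orbit on which the function does not vanish. -/
theorem dvd_sum_of_invariant (w : α → ℕ) (d : ℕ) (hw : ∀ (g : Γ) (a : α), w (g • a) = w a)
    (hd : ∀ a, w a ≠ 0 → d ∣ Nat.card (MulAction.orbit Γ a)) : d ∣ ∑ a, w a := by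
  classical
  let Ω := MulAction.orbitRel.Quotient Γ α
  let e := MulAction.selfEquivSigmaOrbits Γ α
  haveI : Fintype Ω := Fintype.ofFinite _
  haveI : ∀ ω : Ω, Fintype (MulAction.orbit Γ (Quotient.out ω)) := fun _ => Fintype.ofFinite _
  have h1 : ∑ a, w a = ∑ x : (Σ ω : Ω, MulAction.orbit Γ (Quotient.out ω)), w (e.symm x) :=
    (Fintype.sum_equiv e.symm _ _ (fun _ => rfl)).symm
  rw [h1, Fintype.sum_sigma]
  refine Finset.dvd_sum (fun ω _ => ?_)
  have hconst : ∀ b : MulAction.orbit Γ (Quotient.out ω), w (e.symm ⟨ω, b⟩) = w (Quotient.out ω) := by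
    intro b
    obtain ⟨g, hg⟩ := b.2
    have : e.symm ⟨ω, b⟩ = (b : α) := rfl
    rw [this, ← hg]
    exact hw g _
  rw [Finset.sum_congr rfl (fun b _ => hconst b), Finset.sum_const, Finset.card_univ, smul_eq_mul]
  by_cases h0 : w (Quotient.out ω) = 0
  · simp [h0]
  · refine Dvd.dvd.mul_right ?_ _
    rw [← Nat.card_eq_fintype_card]
    exact hd _ h0

end Inv

/-! ### Subgroups of a given order inside a subgroup -/

section Cnt

variable {G : Type*} [Group G]

/-- Subgroups of order `q` of `↥L` correspond to subgroups of order `q` of `G` inside `L`. -/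
noncomputable def subEquiv (L : Subgroup G) (q : ℕ) :
    {H : Subgroup L // Nat.card H = q} ≃ {H : Subgroup G // H ≤ L ∧ Nat.card H = q} where
  toFun H := ⟨H.1.map L.subtype, map_subtype_le _, by
    rw [Nat.card_congr (Subgroup.equivMapOfInjective _ _ L.subtype_injective).symm.toEquiv]; exact H.2⟩
  invFun H := ⟨H.1.subgroupOf L, by
    rw [Nat.card_congr (Subgroup.subgroupOfEquivOfLe H.2.1).toEquiv]; exact H.2.2⟩
  left_inv H := by
    ext x
    simp only [mem_subgroupOf, mem_map, subtype_apply]
    constructor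
    · rintro ⟨y, hy, hyx⟩
      have : y = x := Subtype.ext hyx
      exact this ▸ hy
    · intro hx
      exact ⟨x, hx, rfl⟩
  right_inv H := by
    ext x
    simp only [mem_map, mem_subgroupOf, subtype_apply]
    constructor
    · rintro ⟨y, hy, rfl⟩
      exact hy
    · intro hx
      exact ⟨⟨x, H.2.1 hx⟩, hx, rfl⟩

theorem card_sub_eq (L : Subgroup G) (q : ℕ) :
    Nat.card {H : Subgroup G // H ≤ L ∧ Nat.card H = q} = Nat.card {H : Subgroup L // Nat.card H = q} :=
  (Nat.card_congr (subEquiv L q)).symm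

variable [Finite G]

/-- Frobenius: the number of subgroups of order `p^a` of a subgroup `L` with `p^a ∣ |L|` is `1 mod p`. -/
theorem card_sub_modEq (L : Subgroup G) (p a : ℕ) (hp : p.Prime) (hdvd : p ^ a ∣ Nat.card L) :
    Nat.card {H : Subgroup G // H ≤ L ∧ Nat.card H = p ^ a} ≡ 1 [MOD p] := by
  rw [card_sub_eq]
  exact Cfsg.Agent.S3975.result p a hp hdvd

end Cnt

/-! ### Characters -/

section Chi

variable {G : Type*} [Group G] [Finite G] {p : ℕ} [hp : Fact p.Prime]

instance instFiniteChi : Finite (G →* Multiplicative (ZMod p)) :=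
  DFunLike.finite _

theorem chi_pow (χ : G →* Multiplicative (ZMod p)) : χ ^ p = 1 := by
  ext g
  simp only [MonoidHom.pow_apply, MonoidHom.one_apply]
  rw [← ofAdd_toAdd (χ g), ← ofAdd_nsmul]
  simp

theorem isPGroup_chi (G : Type*) [Group G] (p : ℕ) [Fact p.Prime] :
    IsPGroup p (G →* Multiplicative (ZMod p)) := fun χ => ⟨1, by
  ext g
  simp only [pow_one, MonoidHom.pow_apply, MonoidHom.one_apply]
  rw [← ofAdd_toAdd (χ g), ← ofAdd_nsmul]
  simp⟩

/-- The characters trivial on `H`. -/
def Ysub (p : ℕ) (H : Subgroup G) : Subgroup (G →* Multiplicative (ZMod p)) where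
  carrier := {χ | H ≤ χ.ker}
  mul_mem' := by
    intro a b ha hb g hg
    have h1 : a g = 1 := ha hg
    have h2 : b g = 1 := hb hg
    show (a * b) g = 1
    simp [h1, h2]
  one_mem' := by
    intro g _
    rfl
  inv_mem' := by
    intro a ha g hg
    have h1 : a g = 1 := ha hg
    show (a⁻¹) g = 1
    simp [h1]

theorem mem_Ysub {H : Subgroup G} {χ : G →* Multiplicative (ZMod p)} : χ ∈ Ysub p H ↔ H ≤ χ.ker := Iff.rfl

/-- A normal subgroup of index `p` is the kernel of a character. -/
theorem exists_chi_ker (M : Subgroup G) [M.Normal] (hM : M.index = p) :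
    ∃ χ : G →* Multiplicative (ZMod p), χ.ker = M := by
  have h1 : Nat.card (G ⧸ M) = p := hM
  have h2 : Nat.card (Multiplicative (ZMod p)) = p := by
    rw [Nat.card_congr Multiplicative.toAdd, Nat.card_zmod]
  let e := mulEquivOfPrimeCardEq h1 h2
  refine ⟨e.toMonoidHom.comp (QuotientGroup.mk' M), ?_⟩
  ext x
  simp [MonoidHom.mem_ker]

/-- A proper subgroup of a finite `p`-group lies in the kernel of a nontrivial character. -/
theorem exists_chi_ne_one (hG : IsPGroup p G) {H : Subgroup G} (hH : H ≠ ⊤) :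
    ∃ χ : G →* Multiplicative (ZMod p), χ ≠ 1 ∧ H ≤ χ.ker := by
  obtain h | ⟨M, hM, hHM⟩ := eq_top_or_exists_le_coatom H
  · exact absurd h hH
  · haveI := Cfsg.Agent.Lib.PGroup.Basic.normal_of_isCoatom hG hM
    obtain ⟨χ, hχ⟩ := exists_chi_ker (p := p) M (Cfsg.Agent.Lib.PGroup.Basic.index_eq_of_isCoatom hG hM)
    refine ⟨χ, ?_, hχ ▸ hHM⟩
    rintro rfl
    apply hM.1
    rw [← hχ]
    ext x
    simp [MonoidHom.mem_ker]

theorem prime_dvd_card_Ysub (hG : IsPGroup p G) {H : Subgroup G} (hH : H ≠ ⊤) :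
    p ∣ Nat.card (Ysub p H) := by
  obtain ⟨χ, hχ, hHχ⟩ := exists_chi_ne_one hG hH
  have hY : IsPGroup p (Ysub p H) := (isPGroup_chi G p).to_subgroup _
  haveI : Nontrivial (Ysub p H) := ⟨⟨⟨χ, hHχ⟩, 1, fun h => hχ (congrArg Subtype.val h)⟩⟩
  obtain ⟨n, hn0, hn⟩ := hY.nontrivial_iff_card.mp inferInstance
  rw [hn]
  exact dvd_pow_self p hn0.ne'

/-- The kernel of a nontrivial character has index `p`. -/
theorem index_ker {χ : G →* Multiplicative (ZMod p)} (hχ : χ ≠ 1) : χ.ker.index = p := by
  rw [Subgroup.index_ker]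
  have h2 : Nat.card (Multiplicative (ZMod p)) = p := by
    rw [Nat.card_congr Multiplicative.toAdd, Nat.card_zmod]
  have hdvd : Nat.card χ.range ∣ p := by
    have := Subgroup.card_subgroup_dvd_card χ.range
    rwa [h2] at this
  rcases (Nat.dvd_prime hp.out).mp hdvd with h | h
  · exfalso
    apply hχ
    have : χ.range = ⊥ := (Subgroup.card_eq_one).mp h
    ext x
    have hx : χ x ∈ χ.range := ⟨x, rfl⟩
    rw [this, Subgroup.mem_bot] at hx
    simp [hx]
  · exact h

/-- In a noncyclic `p`-group there are at least `p²` characters. -/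
theorem sq_dvd_card_chi (hG : IsPGroup p G) (hnc : ¬ IsCyclic G) :
    p ^ 2 ∣ Nat.card (G →* Multiplicative (ZMod p)) := by
  obtain ⟨d, hd⟩ := (isPGroup_chi G p).exists_card_eq
  rw [hd]
  refine pow_dvd_pow p ?_
  by_contra hlt
  have hle : d ≤ 1 := by omega
  -- pick a nontrivial character
  have hne : (⊥ : Subgroup G) ≠ ⊤ := by
    intro h
    apply hnc
    haveI : Subsingleton G := Subgroup.subsingleton_iff.mp
      (by
        constructor
        intro a b
        have h1 : ∀ K : Subgroup G, K = ⊥ := by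
          intro K
          exact eq_bot_iff.mpr (le_top.trans h.symm.le)
        rw [h1 a, h1 b])
    infer_instance
  obtain ⟨χ₁, hχ₁, -⟩ := exists_chi_ne_one hG hne
  -- `X` is generated by `χ₁`
  have hX : ∀ χ : G →* Multiplicative (ZMod p), ∃ k : ℕ, χ = χ₁ ^ k := by
    have hord : orderOf χ₁ = p := by
      exact orderOf_eq_prime (chi_pow χ₁) hχ₁
    have hcard : Nat.card (G →* Multiplicative (ZMod p)) ≤ p := by
      rw [hd]
      calc p ^ d ≤ p ^ 1 := Nat.pow_le_pow_right hp.out.pos hle
        _ = p := pow_one p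
    have htop : zpowers χ₁ = ⊤ := by
      apply Subgroup.eq_top_of_le_card
      rw [Nat.card_zpowers, hord]
      exact hcard
    intro χ
    have hm : χ ∈ zpowers χ₁ := htop ▸ mem_top χ
    haveI : Finite (G →* Multiplicative (ZMod p)) := inferInstance
    have := (mem_powers_iff_mem_zpowers).mpr hm
    obtain ⟨k, hk⟩ := this
    exact ⟨k, hk.symm⟩
  -- an element outside the kernel
  have : ∃ g, g ∉ χ₁.ker := by
    by_contra h
    push Not at h
    apply hχ₁
    ext g
    have : χ₁ g = 1 := h g
    simp [this]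
  obtain ⟨g, hg⟩ := this
  have hz : zpowers g ≠ ⊤ := by
    intro h
    apply hnc
    exact ⟨⟨g, fun x => by
      have : x ∈ zpowers g := h ▸ mem_top x
      exact this⟩⟩
  obtain ⟨χ₂, hχ₂, hle2⟩ := exists_chi_ne_one hG hz
  obtain ⟨k, hk⟩ := hX χ₂
  have hker : χ₁.ker ≤ χ₂.ker := by
    intro y hy
    have hy' : χ₁ y = 1 := hy
    show χ₂ y = 1
    rw [hk, MonoidHom.pow_apply, hy', one_pow]
  have hidx : χ₁.ker = χ₂.ker := by
    apply Subgroup.eq_of_le_of_card_ge hker
    have h1 := Subgroup.card_mul_index χ₁.ker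
    have h2 := Subgroup.card_mul_index χ₂.ker
    rw [index_ker hχ₁] at h1
    rw [index_ker hχ₂] at h2
    have : Nat.card χ₁.ker = Nat.card χ₂.ker :=
      Nat.eq_of_mul_eq_mul_right hp.out.pos (h1.trans h2.symm)
    omega
  apply hg
  rw [hidx]
  exact hle2 (mem_zpowers g)

end Chi

/-! ### The main count -/

section Main

theorem double_count {A B : Type*} [Fintype A] [Fintype B] (r : A → B → Prop) :
    ∑ a, Nat.card {b // r a b} = ∑ b, Nat.card {a // r a b} := by
  classical
  have h1 : ∀ a, Nat.card {b // r a b} = (Finset.univ.filter (fun b => r a b)).card := by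
    intro a
    rw [Nat.card_eq_fintype_card, Fintype.card_subtype]
  have h2 : ∀ b, Nat.card {a // r a b} = (Finset.univ.filter (fun a => r a b)).card := by
    intro b
    rw [Nat.card_eq_fintype_card, Fintype.card_subtype]
  simp_rw [h1, h2, Finset.card_filter]
  exact Finset.sum_comm

variable {G : Type*} [Group G] [Finite G] {p : ℕ} [hp : Fact p.Prime]

/-- `p^a` divides the order of the intersection of two character kernels, when `a + 2 ≤ b`. -/
theorem dvd_card_inf (b a : ℕ) (hG : Nat.card G = p ^ b) (hab : a + 2 ≤ b)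
    (χ₀ χ : G →* Multiplicative (ZMod p)) : p ^ a ∣ Nat.card (χ₀.ker ⊓ χ.ker : Subgroup G) := by
  have hpp := hp.out
  have hle : ∀ ψ : G →* Multiplicative (ZMod p), ψ.ker.index ≤ p := by
    intro ψ
    by_cases h : ψ = 1
    · subst h
      have : (1 : G →* Multiplicative (ZMod p)).ker = ⊤ := MonoidHom.ker_one
      rw [this, Subgroup.index_top]
      exact hpp.one_lt.le
    · exact (index_ker h).le
  set L : Subgroup G := χ₀.ker ⊓ χ.ker with hL
  have h1 : L.index ≤ p ^ 2 := by
    calc L.index ≤ χ₀.ker.index * χ.ker.index := Subgroup.index_inf_le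
      _ ≤ p * p := Nat.mul_le_mul (hle _) (hle _)
      _ = p ^ 2 := by ring
  have h2 := L.card_mul_index
  rw [hG] at h2
  have h3 : Nat.card L ∣ p ^ b := ⟨_, h2.symm⟩
  obtain ⟨c, hc, hcL⟩ := (Nat.dvd_prime_pow hpp).mp h3
  have h4 : L.index ∣ p ^ b := ⟨_, by rw [← h2, mul_comm]⟩
  obtain ⟨e, he, heL⟩ := (Nat.dvd_prime_pow hpp).mp h4
  rw [heL] at h1
  have he2 : e ≤ 2 := (Nat.pow_le_pow_iff_right hpp.one_lt).mp h1
  rw [hcL, heL, ← pow_add] at h2
  have := Nat.pow_right_injective hpp.two_le h2
  rw [hcL]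
  exact pow_dvd_pow p (by omega)

/-- For a nontrivial character `χ₀`, the sum `∑_χ c(ker χ₀ ∩ ker χ)` is divisible by `p²`. -/
theorem sq_dvd_sum_inf (b a : ℕ) (hG : Nat.card G = p ^ b) (hab : a + 2 ≤ b) (hnc : ¬ IsCyclic G)
    [Fintype (G →* Multiplicative (ZMod p))]
    (χ₀ : G →* Multiplicative (ZMod p)) (hχ₀ : χ₀ ≠ 1) :
    p ^ 2 ∣ ∑ χ : G →* Multiplicative (ZMod p),
      Nat.card {H : Subgroup G // H ≤ χ₀.ker ⊓ χ.ker ∧ Nat.card H = p ^ a} := by
  have hpp := hp.out
  have hPG : IsPGroup p G := IsPGroup.of_card hG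
  set u : (G →* Multiplicative (ZMod p)) → ℕ := fun χ =>
    Nat.card {H : Subgroup G // H ≤ χ₀.ker ⊓ χ.ker ∧ Nat.card H = p ^ a} with hu
  have hu1 : ∀ χ, u χ = 1 + p * (u χ / p) := by
    intro χ
    have h := card_sub_modEq (χ₀.ker ⊓ χ.ker) p a hpp (dvd_card_inf b a hG hab χ₀ χ)
    have h1 : u χ % p = 1 % p := h
    rw [Nat.mod_eq_of_lt hpp.one_lt] at h1
    have := Nat.div_add_mod (u χ) p
    omega
  let Γ := zpowers χ₀
  have hw : ∀ (g : Γ) (χ : G →* Multiplicative (ZMod p)), u (g • χ) / p = u χ / p := by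
    rintro ⟨g, k, rfl⟩ χ
    have hL : χ₀.ker ⊓ ((⟨χ₀ ^ k, ⟨k, rfl⟩⟩ : Γ) • χ).ker = χ₀.ker ⊓ χ.ker := by
      ext x
      simp only [mem_inf, MonoidHom.mem_ker]
      constructor
      · rintro ⟨h1, h2⟩
        refine ⟨h1, ?_⟩
        have : ((⟨χ₀ ^ k, ⟨k, rfl⟩⟩ : Γ) • χ) x = (χ₀ ^ k) x * χ x := rfl
        rw [this] at h2
        simpa [h1] using h2
      · rintro ⟨h1, h2⟩
        refine ⟨h1, ?_⟩
        have : ((⟨χ₀ ^ k, ⟨k, rfl⟩⟩ : Γ) • χ) x = (χ₀ ^ k) x * χ x := rfl
        rw [this]
        simp [h1, h2]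
    simp only [hu, hL]
  have horb : ∀ χ : G →* Multiplicative (ZMod p), p ∣ Nat.card (MulAction.orbit Γ χ) := by
    intro χ
    have hcard : Nat.card Γ = p := by
      rw [Nat.card_zpowers]
      exact orderOf_eq_prime (chi_pow χ₀) hχ₀
    have : Nat.card (MulAction.orbit Γ χ) = Nat.card Γ := by
      symm
      apply Nat.card_congr
      refine Equiv.ofBijective (fun g => ⟨g • χ, MulAction.mem_orbit _ g⟩) ⟨?_, ?_⟩
      · intro g h hgh
        have h1 : g • χ = h • χ := congrArg Subtype.val hgh
        have h2 : (g : G →* Multiplicative (ZMod p)) * χ = (h : G →* Multiplicative (ZMod p)) * χ := h1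
        exact Subtype.ext (mul_right_cancel h2)
      · rintro ⟨_, g, rfl⟩
        exact ⟨g, rfl⟩
    rw [this, hcard]
  have hsum : p ∣ ∑ χ, u χ / p :=
    dvd_sum_of_invariant (Γ := Γ) _ p hw (fun χ _ => horb χ)
  have hD : p ^ 2 ∣ Fintype.card (G →* Multiplicative (ZMod p)) := by
    rw [← Nat.card_eq_fintype_card]
    exact sq_dvd_card_chi hPG hnc
  have hexp : ∑ χ, u χ = Fintype.card (G →* Multiplicative (ZMod p)) + p * ∑ χ, u χ / p := by
    rw [Finset.mul_sum, Finset.card_univ.symm.trans rfl]
    calc ∑ χ, u χ = ∑ χ, (1 + p * (u χ / p)) := Finset.sum_congr rfl (fun χ _ => hu1 χ)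
      _ = _ := by
        rw [Finset.sum_add_distrib]
        simp
  show p ^ 2 ∣ ∑ χ, u χ
  rw [hexp]
  refine dvd_add hD ?_
  rw [pow_two]
  exact Nat.mul_dvd_mul_left p hsum

/-- Double counting: `p²` divides `∑_χ c(ker χ)`, for `a + 2 ≤ b`, in a noncyclic group of order `p^b`. -/
theorem sq_dvd_sum_ker (b a : ℕ) (hG : Nat.card G = p ^ b) (hab : a + 2 ≤ b) (hnc : ¬ IsCyclic G)
    [Fintype (G →* Multiplicative (ZMod p))] :
    p ^ 2 ∣ ∑ χ : G →* Multiplicative (ZMod p),
      Nat.card {H : Subgroup G // H ≤ χ.ker ∧ Nat.card H = p ^ a} := by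
  classical
  have hpp := hp.out
  have hPG : IsPGroup p G := IsPGroup.of_card hG
  haveI : Fintype (Subgroup G) := Fintype.ofFinite _
  -- `g H` is `y(H)` for subgroups of the right order, and `0` otherwise
  set y : Subgroup G → ℕ := fun H => Nat.card (Ysub p H) with hy
  set g : Subgroup G → ℕ := fun H => if Nat.card H = p ^ a then y H else 0 with hg
  have hycard : ∀ H : Subgroup G, Nat.card {χ : G →* Multiplicative (ZMod p) // H ≤ χ.ker} = y H := by
    intro H
    rfl
  -- `T χ₀ = ∑_H (if H ≤ ker χ₀ then g H else 0)`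
  have hT : ∀ χ₀ : G →* Multiplicative (ZMod p),
      ∑ χ : G →* Multiplicative (ZMod p),
        Nat.card {H : Subgroup G // H ≤ χ₀.ker ⊓ χ.ker ∧ Nat.card H = p ^ a} =
      ∑ H : Subgroup G, if H ≤ χ₀.ker then g H else 0 := by
    intro χ₀
    rw [double_count]
    refine Finset.sum_congr rfl (fun H _ => ?_)
    by_cases h1 : H ≤ χ₀.ker
    · by_cases h2 : Nat.card H = p ^ a
      · rw [if_pos h1]
        simp only [hg, if_pos h2, ← hycard]
        apply Nat.card_congr
        refine Equiv.subtypeEquivRight (fun χ => ?_)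
        rw [le_inf_iff]
        simp [h1, h2]
      · rw [if_pos h1]
        simp only [hg, if_neg h2]
        have : IsEmpty {χ : G →* Multiplicative (ZMod p) // H ≤ χ₀.ker ⊓ χ.ker ∧ Nat.card H = p ^ a} :=
          ⟨fun x => h2 x.2.2⟩
        exact Nat.card_of_isEmpty
    · rw [if_neg h1]
      have : IsEmpty {χ : G →* Multiplicative (ZMod p) // H ≤ χ₀.ker ⊓ χ.ker ∧ Nat.card H = p ^ a} :=
        ⟨fun x => h1 (le_trans x.2.1 inf_le_left)⟩
      exact Nat.card_of_isEmpty
  -- the total
  have htotal : ∑ χ₀ : G →* Multiplicative (ZMod p), ∑ H : Subgroup G, (if H ≤ χ₀.ker then g H else 0) =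
      ∑ H : Subgroup G, g H * y H := by
    rw [Finset.sum_comm]
    refine Finset.sum_congr rfl (fun H _ => ?_)
    rw [← Finset.sum_filter, Finset.sum_const, smul_eq_mul, mul_comm]
    congr 1
    rw [← hycard, Nat.card_eq_fintype_card, Fintype.card_subtype]
  have hdvdtotal : p ^ 2 ∣ ∑ H : Subgroup G, g H * y H := by
    refine Finset.dvd_sum (fun H _ => ?_)
    simp only [hg]
    by_cases h2 : Nat.card H = p ^ a
    · rw [if_pos h2, pow_two]
      have hH : H ≠ ⊤ := by
        rintro rfl
        rw [Nat.card_congr Subgroup.topEquiv.toEquiv, hG] at h2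
        have := Nat.pow_right_injective hpp.two_le h2
        omega
      have := prime_dvd_card_Ysub hPG hH
      exact Nat.mul_dvd_mul this this
    · rw [if_neg h2]
      simp
  -- remove the term at `χ₀ = 1`
  have hsplit := Finset.add_sum_erase Finset.univ
    (fun χ₀ : G →* Multiplicative (ZMod p) => ∑ H : Subgroup G, (if H ≤ χ₀.ker then g H else 0))
    (Finset.mem_univ (1 : G →* Multiplicative (ZMod p)))
  rw [htotal] at hsplit
  have herase : p ^ 2 ∣ ∑ χ₀ ∈ Finset.univ.erase (1 : G →* Multiplicative (ZMod p)),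
      ∑ H : Subgroup G, (if H ≤ χ₀.ker then g H else 0) := by
    refine Finset.dvd_sum (fun χ₀ hχ₀ => ?_)
    rw [← hT χ₀]
    exact sq_dvd_sum_inf b a hG hab hnc χ₀ (Finset.ne_of_mem_erase hχ₀)
  have hone : p ^ 2 ∣ ∑ H : Subgroup G, (if H ≤ (1 : G →* Multiplicative (ZMod p)).ker then g H else 0) := by
    rw [← hsplit] at hdvdtotal
    exact (Nat.dvd_add_left herase).mp hdvdtotal
  rw [← hT 1] at hone
  have hk : (1 : G →* Multiplicative (ZMod p)).ker = ⊤ := MonoidHom.ker_one
  simp only [hk, top_inf_eq] at hone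
  exact hone

end Main

/-! ### Cyclic groups -/

section Cyclic

variable {G : Type*} [Group G] [Finite G]

theorem subgroup_eq_of_card_eq [hc : IsCyclic G] {H K : Subgroup G} (h : Nat.card H = Nat.card K) :
    H = K := by
  classical
  haveI : Fintype G := Fintype.ofFinite _
  have hle : ∀ L : Subgroup G, ∀ x ∈ L, x ^ Nat.card L = 1 := by
    intro L x hx
    have := pow_card_eq_one' (x := (⟨x, hx⟩ : L))
    exact congrArg Subtype.val this
  set S : Finset G := Finset.univ.filter (fun x => x ^ Nat.card H = 1) with hS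
  have hScard : S.card ≤ Nat.card H := IsCyclic.card_pow_eq_one_le (Nat.card_pos)
  have hsub : ∀ L : Subgroup G, Nat.card L = Nat.card H → (L : Set G) = (S : Set G) := by
    intro L hL
    have hfin : (L : Set G).toFinset ⊆ S := by
      intro x hx
      have hx' : x ∈ L := by simpa using hx
      simp only [hS, Finset.mem_filter, Finset.mem_univ, true_and]
      rw [← hL]
      exact hle L x hx'
    have hcard : (L : Set G).toFinset.card = Nat.card H := by
      rw [← hL, Set.toFinset_card, Nat.card_eq_fintype_card]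
      rfl
    have heq : (L : Set G).toFinset = S := Finset.eq_of_subset_of_card_le hfin (by rw [hcard]; exact hScard)
    ext x
    have : x ∈ (L : Set G).toFinset ↔ x ∈ S := by rw [heq]
    simpa using this
  apply Subgroup.ext
  intro x
  have h1 := hsub H rfl
  have h2 := hsub K h.symm
  have h3 : (H : Set G) = (K : Set G) := h1.trans h2.symm
  exact Set.ext_iff.mp h3 x

/-- A cyclic group has exactly one subgroup of each order `p^a` dividing its order. -/
theorem card_sub_cyclic [IsCyclic G] {p a : ℕ} (hp : p.Prime) (hdvd : p ^ a ∣ Nat.card G) :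
    Nat.card {H : Subgroup G // Nat.card H = p ^ a} = 1 := by
  have h := Cfsg.Agent.S3975.result p a hp hdvd
  have hne : Nonempty {H : Subgroup G // Nat.card H = p ^ a} := by
    by_contra hne
    rw [not_nonempty_iff] at hne
    rw [Nat.card_of_isEmpty] at h
    have : (0 % p) = 1 % p := h
    rw [Nat.zero_mod, Nat.mod_eq_of_lt hp.one_lt] at this
    omega
  rw [Nat.card_eq_one_iff_unique]
  refine ⟨⟨?_⟩, hne⟩
  rintro ⟨H, hH⟩ ⟨K, hK⟩
  exact Subtype.ext (subgroup_eq_of_card_eq (hH.trans hK.symm))

end Cyclic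

/-! ### Noncyclic `p`-groups (`p` odd) with a cyclic maximal subgroup -/

section CyclicMaximal

open scoped commutatorElement

variable {G : Type*} [Group G] [Finite G] {p : ℕ} [hp : Fact p.Prime]

/-- In a noncyclic group of order `p^(n+1)`, `p` odd, with a cyclic subgroup of index `p`, the commutators
lie in a central subgroup of exponent `p`. -/
theorem exists_central_commutators (hodd : p ≠ 2) (n : ℕ) (hG : Nat.card G = p ^ (n + 1))
    (x : G) (hx : orderOf x = p ^ n) :
    ∃ z : G, (∀ g : G, g * z = z * g) ∧ z ^ p = 1 ∧ ∀ u v : G, ⁅u, v⁆ ∈ zpowers z := by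
  have hpp := hp.out
  by_cases hab : ∀ u v : G, u * v = v * u
  · refine ⟨1, by simp, by simp, ?_⟩
    intro u v
    have : ⁅u, v⁆ = 1 := by
      rw [commutatorElement_eq_one_iff_mul_comm]
      exact hab u v
    rw [this]
    exact one_mem _
  · push Not at hab
    obtain ⟨a, b', hab'⟩ := hab
    have hSC := Cfsg.Agent.Lib.PGroup.CyclicMax.sc_of_index (p := p) (n := n) hG x hx ⟨a, b', hab'⟩
    have hne : zpowers x ≠ ⊤ := by
      intro h
      have h1 : Nat.card (zpowers x) = Nat.card G := by
        rw [h]; exact Nat.card_congr Subgroup.topEquiv.toEquiv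
      rw [Nat.card_zpowers, hx, hG] at h1
      have := Nat.pow_right_injective hpp.two_le h1
      omega
    have hn := hSC.two_le hpp hne
    obtain ⟨b, hb, -, hbx⟩ := hSC.odd_case hodd hne
    refine ⟨x ^ p ^ (n - 1), ?_, ?_, ?_⟩
    · intro g
      have := Cfsg.Agent.Lib.PGroup.ModularCyclic.SC_central_z hSC (by omega) g
      calc g * x ^ p ^ (n - 1) = (g * x ^ p ^ (n - 1) * g⁻¹) * g := by group
        _ = x ^ p ^ (n - 1) * g := by rw [this]
    · rw [← pow_mul, ← pow_succ]
      have : n - 1 + 1 = n := by omega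
      rw [this, ← hx]
      exact pow_orderOf_eq_one x
    · -- `G = ⟨x, b⟩`
      set z := x ^ p ^ (n - 1) with hz
      have hzc : ∀ g : G, g * z * g⁻¹ = z :=
        fun g => Cfsg.Agent.Lib.PGroup.ModularCyclic.SC_central_z hSC (by omega) g
      have hclos : closure ({x, b} : Set G) = ⊤ := by
        set L := closure ({x, b} : Set G) with hL
        have hxL : zpowers x ≤ L := by
          rw [zpowers_le]
          exact subset_closure (by simp)
        have hbL : b ∈ L := subset_closure (by simp)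
        have h1 : Nat.card L ∣ p ^ (n + 1) := hG ▸ Subgroup.card_subgroup_dvd_card L
        obtain ⟨c, hc, hcL⟩ := (Nat.dvd_prime_pow hpp).mp h1
        have h2 : p ^ n ∣ Nat.card L := by
          have := Subgroup.card_dvd_of_le hxL
          rwa [Nat.card_zpowers, hx] at this
        rw [hcL] at h2
        have h3 := (Nat.pow_dvd_pow_iff_le_right hpp.one_lt).mp h2
        have hcn : c ≠ n := by
          rintro rfl
          apply hb
          have : zpowers x = L := by
            apply Subgroup.eq_of_le_of_card_ge hxL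
            rw [hcL, Nat.card_zpowers, hx]
          rw [this]
          exact hbL
        apply Subgroup.eq_top_of_card_eq
        rw [hcL, hG]
        congr 1
        omega
      have hN : ⁅closure ({x, b} : Set G), closure ({x, b} : Set G)⁆ ≤ zpowers z := by
        apply Cfsg.Agent.Lib.PGroup.Regular.commutator_closure_pair_le
        · intro g _ n hn
          obtain ⟨k, rfl⟩ := hn
          simp only
          rw [← conj_zpow, hzc]
          exact zpow_mem (mem_zpowers z) k
        · have : ⁅x, b⁆ = z⁻¹ := by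
            have h2 : b * x * b⁻¹ = x * z := by
              rw [hbx, pow_add, pow_one]
            have h3 : ⁅x, b⁆ = x * (b * x * b⁻¹)⁻¹ := by
              rw [commutatorElement_def]; group
            have h4 : x * z * x⁻¹ = z := hzc x
            rw [h3, h2, mul_inv_rev]
            have h5 : z⁻¹ = x * z⁻¹ * x⁻¹ := by
              nth_rewrite 1 [← h4]
              group
            calc x * (z⁻¹ * x⁻¹) = x * z⁻¹ * x⁻¹ := by group
              _ = z⁻¹ := h5.symm
          rw [this]
          exact inv_mem (mem_zpowers z)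
      rw [hclos] at hN
      intro u v
      exact hN (commutator_mem_commutator (mem_top u) (mem_top v))

/-- In a noncyclic group of order `p^(n+1)`, `p` odd, `n ≥ 2`, with a cyclic subgroup of index `p`, all the
elements outside a proper noncyclic subgroup have order `p^n`. -/
theorem exists_noncyclic_complement (hodd : p ≠ 2) (n : ℕ) (hn : 2 ≤ n) (hG : Nat.card G = p ^ (n + 1))
    (hnc : ¬ IsCyclic G) (x : G) (hx : orderOf x = p ^ n) :
    ∃ M₀ : Subgroup G, M₀ ≠ ⊤ ∧ ¬ IsCyclic M₀ ∧ ∀ g, g ∉ M₀ → orderOf g = p ^ n := by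
  have hpp := hp.out
  have hp3 : 3 ≤ p := by
    have := hpp.two_le
    omega
  obtain ⟨z, hzc, hzp, hcomm⟩ := exists_central_commutators hodd n hG x hx
  -- `g ↦ g^p` is a homomorphism
  have hchoose : p ∣ p.choose 2 := hpp.dvd_choose_self (by norm_num) (by omega)
  have hmul : ∀ u v : G, (u * v) ^ p = u ^ p * v ^ p := by
    intro u v
    obtain ⟨k, hk⟩ := hcomm v u
    have hk' : ⁅v, u⁆ = z ^ k := hk.symm
    have hcz : ∀ g : G, Commute g (z ^ k) := by
      intro g
      have h : Commute g z := hzc g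
      exact h.zpow_right k
    rw [Cfsg.Agent.Lib.PGroup.Basic.mul_pow_of_commutator_central
      (by rw [hk']; exact hcz u) (by rw [hk']; exact hcz v) p]
    obtain ⟨c, hc⟩ := hchoose
    have h1 : (z ^ k) ^ p = 1 := by
      rw [← zpow_natCast (z ^ k) p, ← zpow_mul, mul_comm, zpow_mul, zpow_natCast, hzp, one_zpow]
    rw [hk', hc, pow_mul, h1, one_pow, mul_one]
  let θ : G →* G := MonoidHom.mk' (fun g => g ^ p) hmul
  have hθ : ∀ g, θ g = g ^ p := fun _ => rfl
  -- exponent
  have hexp : ∀ g : G, g ^ p ^ n = 1 := by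
    intro g
    have h1 : orderOf g ∣ p ^ (n + 1) := hG ▸ orderOf_dvd_natCard g
    obtain ⟨c, hc, hcg⟩ := (Nat.dvd_prime_pow hpp).mp h1
    by_cases hcn : c = n + 1
    · exfalso
      apply hnc
      subst hcn
      apply isCyclic_of_orderOf_eq_card g
      rw [hcg, hG]
    · rw [← orderOf_dvd_iff_pow_eq_one, hcg]
      exact pow_dvd_pow p (by omega)
  -- `M = ⟨x⟩` has index `p`; `g^p ∈ ⟨x^p⟩`
  have hidx : (zpowers x).index = p := by
    have h1 := Subgroup.card_mul_index (zpowers x)
    rw [Nat.card_zpowers, hx, hG, pow_succ] at h1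
    exact Nat.eq_of_mul_eq_mul_left (pow_pos hpp.pos n) h1
  haveI hMn : (zpowers x).Normal := by
    apply Subgroup.normal_of_index_eq_minFac_card
    rw [hidx, hG, Nat.Prime.pow_minFac hpp (by omega)]
  have hpow : ∀ g : G, g ^ p ∈ zpowers (x ^ p) := by
    intro g
    have h1 : g ^ p ∈ zpowers x := by
      have : ((g : G ⧸ zpowers x)) ^ p = 1 := by
        have : Nat.card (G ⧸ zpowers x) = p := hidx
        rw [← this]
        exact pow_card_eq_one'
      rw [← QuotientGroup.mk_pow, QuotientGroup.eq_one_iff] at this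
      exact this
    obtain ⟨i, hi⟩ := mem_zpowers_iff.mp h1
    have h2 : x ^ (i * (p ^ (n - 1) : ℕ)) = 1 := by
      rw [zpow_mul, hi, zpow_natCast, ← pow_mul, ← pow_succ']
      have : n - 1 + 1 = n := by omega
      rw [this]
      exact hexp g
    have h3 : ((p ^ n : ℕ) : ℤ) ∣ i * (p ^ (n - 1) : ℕ) := by
      rw [← hx]
      exact orderOf_dvd_iff_zpow_eq_one.mpr h2
    have h4 : ((p : ℕ) : ℤ) ∣ i := by
      have e : ((p ^ n : ℕ) : ℤ) = ((p ^ (n - 1) : ℕ) : ℤ) * (p : ℤ) := by
        rw [← Nat.cast_mul, ← pow_succ]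
        congr 2
        omega
      rw [e, mul_comm (i) , ] at h3
      have hne : ((p ^ (n - 1) : ℕ) : ℤ) ≠ 0 := by
        exact_mod_cast (pow_pos hpp.pos _).ne'
      exact (mul_dvd_mul_iff_left hne).mp h3
    obtain ⟨j, rfl⟩ := h4
    rw [← hi, zpow_mul, zpow_natCast]
    exact zpow_mem (mem_zpowers _) j
  -- the subgroup
  let M₀ : Subgroup G := (zpowers (x ^ p ^ 2)).comap θ
  have hordp : orderOf (x ^ p) = p ^ (n - 1) := by
    rw [orderOf_pow_of_dvd (by exact hpp.ne_zero)  (by rw [hx]; exact dvd_pow_self p (by omega)), hx]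
    rw [show n = (n - 1) + 1 by omega, pow_succ, Nat.add_sub_cancel]
    exact Nat.mul_div_cancel _ hpp.pos
  have hordp2 : orderOf (x ^ p ^ 2) = p ^ (n - 2) := by
    rw [orderOf_pow_of_dvd (by exact (pow_pos hpp.pos 2).ne') (by rw [hx]; exact pow_dvd_pow p hn), hx]
    exact Nat.pow_div hn hpp.pos
  have hout : ∀ g, g ∉ M₀ → orderOf (g ^ p) = p ^ (n - 1) := by
    intro g hg
    have hg' : g ^ p ∉ zpowers (x ^ p ^ 2) := hg
    obtain ⟨m, hm⟩ := (mem_powers_iff_mem_zpowers).mpr (hpow g)
    have hm' : (x ^ p) ^ m = g ^ p := hm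
    have hmp : ¬ p ∣ m := by
      rintro ⟨k, rfl⟩
      apply hg'
      rw [← hm', ← pow_mul, ← mul_assoc, ← pow_two, pow_mul]
      exact pow_mem (mem_zpowers _) k
    rw [← hm']
    have hcop : (orderOf (x ^ p)).Coprime m := by
      rw [hordp]
      exact Nat.Coprime.pow_left _ ((Nat.Prime.coprime_iff_not_dvd hpp).mpr hmp)
    rw [hcop.orderOf_pow, hordp]
  refine ⟨M₀, ?_, ?_, ?_⟩
  · -- `x ∉ M₀`
    intro htop
    have hxm : x ∈ M₀ := htop ▸ mem_top x
    have hxm' : x ^ p ∈ zpowers (x ^ p ^ 2) := hxm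
    have h1 : orderOf (x ^ p) ∣ Nat.card (zpowers (x ^ p ^ 2)) := by
      have := orderOf_dvd_natCard (⟨x ^ p, hxm'⟩ : zpowers (x ^ p ^ 2))
      rwa [Subgroup.orderOf_mk] at this
    rw [Nat.card_zpowers, hordp, hordp2] at h1
    have := (Nat.pow_dvd_pow_iff_le_right hpp.one_lt).mp h1
    omega
  · -- noncyclic
    intro hcyc
    have hker : θ.ker ≤ M₀ := by
      intro g hg
      have : θ g = 1 := hg
      show θ g ∈ zpowers (x ^ p ^ 2)
      rw [this]
      exact one_mem _
    haveI : IsCyclic (θ.ker.subgroupOf M₀) := Subgroup.isCyclic _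
    obtain ⟨g, hg⟩ := IsCyclic.exists_generator (α := θ.ker.subgroupOf M₀)
    have hcardker : p ^ 2 ≤ Nat.card θ.ker := by
      have h1 := Subgroup.card_mul_index θ.ker
      rw [Subgroup.index_ker, hG] at h1
      have hr : θ.range ≤ zpowers (x ^ p) := by
        rintro _ ⟨g, rfl⟩
        exact hpow g
      have h2 : Nat.card θ.range ≤ p ^ (n - 1) := by
        rw [← hordp, ← Nat.card_zpowers]
        exact Subgroup.card_le_of_le hr
      have h3 : p ^ (n + 1) = p ^ 2 * p ^ (n - 1) := by
        rw [← pow_add]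
        congr 1
        omega
      rw [h3] at h1
      have h4 : 0 < Nat.card θ.range := Nat.card_pos
      by_contra hlt
      push Not at hlt
      have : Nat.card θ.ker * Nat.card θ.range < p ^ 2 * p ^ (n - 1) :=
        Nat.mul_lt_mul_of_lt_of_le hlt h2 (by positivity)
      omega
    have h5 : Nat.card (θ.ker.subgroupOf M₀) = Nat.card θ.ker :=
      Nat.card_congr (Subgroup.subgroupOfEquivOfLe hker).toEquiv
    have h6 : orderOf g = Nat.card θ.ker := by
      rw [← h5]
      exact orderOf_eq_card_of_forall_mem_zpowers hg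
    have h7 : orderOf g ∣ p := by
      rw [orderOf_dvd_iff_pow_eq_one]
      have : ((g : M₀) : G) ∈ θ.ker := g.2
      have h8 : ((g : M₀) : G) ^ p = 1 := this
      ext
      simpa using h8
    have h9 : orderOf g ≤ p := Nat.le_of_dvd hpp.pos h7
    rw [h6] at h9
    have : p ^ 2 ≤ p := hcardker.trans h9
    nlinarith [hpp.two_le]
  · intro g hg
    have hord := hout g hg
    have h1 : orderOf g ∣ p ^ (n + 1) := hG ▸ orderOf_dvd_natCard g
    obtain ⟨c, hc, hcg⟩ := (Nat.dvd_prime_pow hpp).mp h1
    have hle : c ≤ n := by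
      by_contra hlt
      have hcn : c = n + 1 := by omega
      have h2 := hexp g
      rw [← orderOf_dvd_iff_pow_eq_one, hcg, hcn] at h2
      have := (Nat.pow_dvd_pow_iff_le_right hpp.one_lt).mp h2
      omega
    have hge : n ≤ c := by
      by_contra hlt
      have h2 : (g ^ p) ^ p ^ (n - 2) = 1 := by
        rw [← pow_mul, ← pow_succ']
        have e : n - 2 + 1 = n - 1 := by omega
        rw [e, ← orderOf_dvd_iff_pow_eq_one, hcg]
        exact pow_dvd_pow p (by omega)
      have h3 : orderOf (g ^ p) ∣ p ^ (n - 2) := orderOf_dvd_of_pow_eq_one h2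
      rw [hord] at h3
      have := (Nat.pow_dvd_pow_iff_le_right hpp.one_lt).mp h3
      omega
    rw [hcg, le_antisymm hle hge]

end CyclicMaximal

/-! ### Kulakoff's theorem for odd primes -/

section KulakoffThm

universe u

variable {p : ℕ} [hp : Fact p.Prime]

theorem card_Ysub_of_index {G : Type*} [Group G] [Finite G] (hPG : IsPGroup p G) {H : Subgroup G}
    (hH : H.index = p) : Nat.card (Ysub p H) = p := by
  have hpp := hp.out
  have hne : H ≠ ⊤ := by
    rintro rfl
    rw [Subgroup.index_top] at hH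
    exact hpp.one_lt.ne hH
  have hdvd := prime_dvd_card_Ysub hPG hne
  have hle : Nat.card (Ysub p H) ≤ p := by
    obtain ⟨g, hg⟩ : ∃ g, g ∉ H := by
      by_contra h
      push Not at h
      exact hne (eq_top_iff.mpr (fun x _ => h x))
    haveI hN : H.Normal := by
      apply Subgroup.normal_of_index_eq_minFac_card
      obtain ⟨n, hn⟩ := hPG.exists_card_eq
      have hn0 : n ≠ 0 := by
        rintro rfl
        have h1 := H.card_mul_index
        rw [hn, hH, pow_zero] at h1
        have := Nat.eq_one_of_mul_eq_one_left h1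
        exact hpp.one_lt.ne' this
      rw [hH, hn, Nat.Prime.pow_minFac hpp hn0]
    have h2 : Nat.card (Multiplicative (ZMod p)) = p := by
      rw [Nat.card_congr Multiplicative.toAdd, Nat.card_zmod]
    refine le_trans (Nat.card_le_card_of_injective (fun χ : Ysub p H => (χ : G →* Multiplicative (ZMod p)) g) ?_) h2.le
    intro χ₁ χ₂ h12
    apply Subtype.ext
    ext x
    have hq : Nat.card (G ⧸ H) = p := hH
    have hgq : (g : G ⧸ H) ≠ 1 := by
      rwa [Ne, QuotientGroup.eq_one_iff]
    have hxq : (x : G ⧸ H) ∈ zpowers (g : G ⧸ H) := mem_zpowers_of_prime_card hq hgq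
    obtain ⟨j, hj⟩ := hxq
    have h3 : ((g ^ j : G) : G ⧸ H) = x := by
      simpa using hj
    have h4 : (g ^ j)⁻¹ * x ∈ H := QuotientGroup.eq.mp h3
    have hval : ∀ χ : Ysub p H, (χ : G →* Multiplicative (ZMod p)) x =
        ((χ : G →* Multiplicative (ZMod p)) g) ^ j := by
      intro χ
      have h5 : (χ : G →* Multiplicative (ZMod p)) ((g ^ j)⁻¹ * x) = 1 := χ.2 h4
      rw [map_mul, map_inv, map_zpow] at h5
      exact (inv_mul_eq_one.mp h5).symm
    rw [hval χ₁, hval χ₂]
    have h12' : (χ₁ : G →* Multiplicative (ZMod p)) g = (χ₂ : G →* Multiplicative (ZMod p)) g := h12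
    rw [h12']
  rcases Nat.lt_or_ge (Nat.card (Ysub p H)) p with h | h
  · exact absurd (Nat.le_of_dvd Nat.card_pos hdvd) (by omega)
  · omega

/-- Subgroups of maximal order: `(p - 1) c = |X| - 1`. -/
theorem modEq_of_index (b a : ℕ) {G : Type*} [Group G] [Finite G] (hG : Nat.card G = p ^ b)
    (hab : a + 1 = b) (hnc : ¬ IsCyclic G) :
    Nat.card {H : Subgroup G // Nat.card H = p ^ a} ≡ 1 + p [MOD p ^ 2] := by
  classical
  have hpp := hp.out
  have hPG : IsPGroup p G := IsPGroup.of_card hG
  haveI : Fintype (G →* Multiplicative (ZMod p)) := Fintype.ofFinite _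
  haveI : Fintype (Subgroup G) := Fintype.ofFinite _
  set c := Nat.card {H : Subgroup G // Nat.card H = p ^ a} with hc
  set D := Fintype.card (G →* Multiplicative (ZMod p)) with hD
  have hDdvd : p ^ 2 ∣ D := by
    rw [hD, ← Nat.card_eq_fintype_card]
    exact sq_dvd_card_chi hPG hnc
  have key := double_count (A := G →* Multiplicative (ZMod p)) (B := Subgroup G)
    (fun χ H => H ≤ χ.ker ∧ Nat.card H = p ^ a)
  -- the left side
  have hker : ∀ χ : G →* Multiplicative (ZMod p), χ ≠ 1 → Nat.card χ.ker = p ^ a := by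
    intro χ hχ
    have h1 := χ.ker.card_mul_index
    rw [index_ker hχ, hG, ← hab, pow_succ] at h1
    exact Nat.eq_of_mul_eq_mul_right hpp.pos h1
  have hL1 : ∀ χ ∈ Finset.univ.erase (1 : G →* Multiplicative (ZMod p)),
      Nat.card {H : Subgroup G // H ≤ χ.ker ∧ Nat.card H = p ^ a} = 1 := by
    intro χ hχ
    have hχ' : χ ≠ 1 := Finset.ne_of_mem_erase hχ
    rw [Nat.card_eq_one_iff_unique]
    refine ⟨⟨?_⟩, ⟨⟨χ.ker, le_rfl, hker χ hχ'⟩⟩⟩
    have hu : ∀ x : {H : Subgroup G // H ≤ χ.ker ∧ Nat.card H = p ^ a}, x.1 = χ.ker := by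
      rintro ⟨H, hH1, hH2⟩
      apply Subgroup.eq_of_le_of_card_ge hH1
      rw [hH2, hker χ hχ']
    intro x y
    exact Subtype.ext ((hu x).trans (hu y).symm)
  have hL2 : Nat.card {H : Subgroup G // H ≤ (1 : G →* Multiplicative (ZMod p)).ker ∧ Nat.card H = p ^ a} = c := by
    rw [hc]
    apply Nat.card_congr
    refine Equiv.subtypeEquivRight (fun H => ?_)
    have hk : (1 : G →* Multiplicative (ZMod p)).ker = ⊤ := MonoidHom.ker_one
    rw [hk]
    simp
  have hL : ∑ χ : G →* Multiplicative (ZMod p), Nat.card {H : Subgroup G // H ≤ χ.ker ∧ Nat.card H = p ^ a} = c + (D - 1) := by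
    rw [← Finset.add_sum_erase _ _ (Finset.mem_univ (1 : G →* Multiplicative (ZMod p))), hL2,
      Finset.sum_congr rfl hL1]
    simp [Finset.card_erase_of_mem, hD]
  -- the right side
  have hR : ∑ H : Subgroup G, Nat.card {χ : G →* Multiplicative (ZMod p) // H ≤ χ.ker ∧ Nat.card H = p ^ a} = c * p := by
    have h1 : ∀ H : Subgroup G, Nat.card {χ : G →* Multiplicative (ZMod p) // H ≤ χ.ker ∧ Nat.card H = p ^ a} =
        if Nat.card H = p ^ a then p else 0 := by
      intro H
      by_cases h2 : Nat.card H = p ^ a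
      · rw [if_pos h2]
        have hidx : H.index = p := by
          have h3 := H.card_mul_index
          rw [h2, hG, ← hab, pow_succ] at h3
          exact Nat.eq_of_mul_eq_mul_left (pow_pos hpp.pos a) h3
        refine Eq.trans ?_ (card_Ysub_of_index hPG hidx)
        apply Nat.card_congr
        refine Equiv.subtypeEquivRight (fun χ => ?_)
        simp [h2, mem_Ysub]
      · rw [if_neg h2]
        haveI : IsEmpty {χ : G →* Multiplicative (ZMod p) // H ≤ χ.ker ∧ Nat.card H = p ^ a} :=
          ⟨fun x => h2 x.2.2⟩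
        exact Nat.card_of_isEmpty
    simp_rw [h1]
    rw [← Finset.sum_filter, Finset.sum_const, smul_eq_mul, hc, Nat.card_eq_fintype_card,
      Fintype.card_subtype]
  have e : c + (D - 1) = c * p := by rw [← hL, ← hR]; exact key
  -- arithmetic
  obtain ⟨D', hD'⟩ := hDdvd
  have hDpos : 1 ≤ D := Fintype.card_pos
  have e' : (c : ℤ) + ((p : ℤ) ^ 2 * D' - 1) = c * p := by
    have : ((c + (D - 1) : ℕ) : ℤ) = ((c * p : ℕ) : ℤ) := by rw [e]
    push_cast [Nat.cast_sub hDpos] at this
    rw [hD'] at this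
    push_cast at this
    exact this
  apply (Nat.modEq_iff_dvd).mpr
  push_cast
  refine ⟨((p : ℤ) + 1) * D' - c, ?_⟩
  linear_combination (-((p : ℤ) + 1)) * e'

/-- **Kulakoff**: for `p` odd, a noncyclic group of order `p^b` has `≡ 1 + p (mod p²)` subgroups of order
`p^a`, for `1 ≤ a < b`. -/
theorem kulakoff (hodd : p ≠ 2) : ∀ b : ℕ, ∀ (G : Type u) [Group G] [Finite G], Nat.card G = p ^ b →
    ∀ a, 1 ≤ a → a < b → ¬ IsCyclic G →
      Nat.card {H : Subgroup G // Nat.card H = p ^ a} ≡ 1 + p [MOD p ^ 2] := by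
  classical
  have hpp := hp.out
  intro b
  induction b using Nat.strong_induction_on with
  | _ b ih =>
    intro G _ _ hG a ha1 hab hnc
    by_cases hab1 : a + 1 = b
    · exact modEq_of_index b a hG hab1 hnc
    have hab2 : a + 2 ≤ b := by omega
    have hPG : IsPGroup p G := IsPGroup.of_card hG
    haveI : Fintype (G →* Multiplicative (ZMod p)) := Fintype.ofFinite _
    set N := p ^ 2 with hN
    set term : (G →* Multiplicative (ZMod p)) → ℕ := fun χ =>
      Nat.card {H : Subgroup G // H ≤ χ.ker ∧ Nat.card H = p ^ a} with hterm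
    have hdvd : N ∣ ∑ χ, term χ := sq_dvd_sum_ker b a hG hab2 hnc
    set D := Fintype.card (G →* Multiplicative (ZMod p)) with hD
    have hDdvd : N ∣ D := by
      rw [hD, ← Nat.card_eq_fintype_card]
      exact sq_dvd_card_chi hPG hnc
    -- kernels
    have hker : ∀ χ : G →* Multiplicative (ZMod p), χ ≠ 1 → Nat.card χ.ker = p ^ (b - 1) := by
      intro χ hχ
      have h1 := χ.ker.card_mul_index
      have e : p ^ b = p ^ (b - 1) * p := by
        rw [← pow_succ]
        congr 1
        omega
      rw [index_ker hχ, hG, e] at h1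
      exact Nat.eq_of_mul_eq_mul_right hpp.pos h1
    -- the value of `term`
    have hterm1 : ∀ χ ∈ Finset.univ.erase (1 : G →* Multiplicative (ZMod p)),
        (term χ : ZMod N) = (1 + p : ZMod N) - (if IsCyclic χ.ker then (p : ZMod N) else 0) := by
      intro χ hχ
      have hχ' : χ ≠ 1 := Finset.ne_of_mem_erase hχ
      have h1 : term χ = Nat.card {H : Subgroup χ.ker // Nat.card H = p ^ a} := card_sub_eq _ _
      by_cases hcyc : IsCyclic χ.ker
      · rw [if_pos hcyc, h1, card_sub_cyclic hpp ?_]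
        · simp
        · rw [hker χ hχ']
          exact pow_dvd_pow p (by omega)
      · rw [if_neg hcyc, h1, sub_zero]
        have h2 := ih (b - 1) (by omega) χ.ker (hker χ hχ') a ha1 (by omega) hcyc
        have h3 := (ZMod.natCast_eq_natCast_iff _ _ _).mpr h2
        rw [h3]
        push_cast
        rfl
    -- the number of cyclic kernels
    set C := ((Finset.univ.erase (1 : G →* Multiplicative (ZMod p))).filter
      (fun χ => IsCyclic χ.ker)).card with hC
    have hCdvd : p ∣ C := by
      by_cases hex : ∃ χ : G →* Multiplicative (ZMod p), χ ≠ 1 ∧ IsCyclic χ.ker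
      · obtain ⟨χ₁, hχ₁, hcyc⟩ := hex
        obtain ⟨x, hx⟩ := Cfsg.Agent.Lib.PGroup.CyclicMax.exists_zpowers_eq_of_isCyclic χ₁.ker hcyc
        have hordx : orderOf x = p ^ (b - 1) := by
          rw [← Nat.card_zpowers, hx, hker χ₁ hχ₁]
        have e : b = (b - 1) + 1 := by omega
        have hG' : Nat.card G = p ^ ((b - 1) + 1) := by rw [← e]; exact hG
        obtain ⟨M₀, hM₀, hM₀nc, hM₀o⟩ := exists_noncyclic_complement hodd (b - 1) (by omega) hG' hnc x hordx
        have hfilter : (Finset.univ.erase (1 : G →* Multiplicative (ZMod p))).filter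
            (fun χ => IsCyclic χ.ker) = Finset.univ.filter (fun χ : G →* Multiplicative (ZMod p) => ¬ (M₀ ≤ χ.ker)) := by
          ext χ
          simp only [Finset.mem_filter, Finset.mem_erase, Finset.mem_univ, and_true, true_and]
          constructor
          · rintro ⟨hχ, hχc⟩ hle
            apply hM₀nc
            exact isCyclic_of_injective (Subgroup.inclusion hle) (Subgroup.inclusion_injective hle)
          · intro hle
            have hχ : χ ≠ 1 := by
              rintro rfl
              apply hle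
              have hk : (1 : G →* Multiplicative (ZMod p)).ker = ⊤ := MonoidHom.ker_one
              rw [hk]
              exact le_top
            refine ⟨hχ, ?_⟩
            -- an element of the kernel outside `M₀`
            have hex2 : ∃ g ∈ χ.ker, g ∉ M₀ := by
              by_contra hno
              push Not at hno
              have hkM : χ.ker ≤ M₀ := hno
              have hcardM : Nat.card M₀ ≤ p ^ (b - 1) := by
                have h1 : Nat.card M₀ ∣ p ^ ((b - 1) + 1) := hG' ▸ Subgroup.card_subgroup_dvd_card M₀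
                obtain ⟨c, hc, hcM⟩ := (Nat.dvd_prime_pow hpp).mp h1
                rw [hcM]
                apply Nat.pow_le_pow_right hpp.pos
                by_contra hlt
                have hc' : c = (b - 1) + 1 := by omega
                apply hM₀
                apply Subgroup.eq_top_of_card_eq
                rw [hcM, hG', hc']
              have : χ.ker = M₀ := by
                apply Subgroup.eq_of_le_of_card_ge hkM
                rw [hker χ hχ]
                exact hcardM
              exact hle this.ge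
            obtain ⟨g, hgk, hgM⟩ := hex2
            apply isCyclic_of_orderOf_eq_card (⟨g, hgk⟩ : χ.ker)
            rw [Subgroup.orderOf_mk, hM₀o g hgM, hker χ hχ]
        have hcount : C + Nat.card (Ysub p M₀) = D := by
          rw [hC, hfilter]
          have h1 : Nat.card (Ysub p M₀) = (Finset.univ.filter (fun χ : G →* Multiplicative (ZMod p) => M₀ ≤ χ.ker)).card := by
            rw [Nat.card_eq_fintype_card, Fintype.card_subtype]
            rfl
          rw [h1, add_comm]
          exact Finset.card_filter_add_card_filter_not _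
        have hp1 : p ∣ Nat.card (Ysub p M₀) := prime_dvd_card_Ysub hPG hM₀
        have hp2 : p ∣ D := dvd_trans (dvd_pow_self p (by norm_num)) hDdvd
        rw [← hcount] at hp2
        exact (Nat.dvd_add_left hp1).mp hp2
      · push Not at hex
        have : C = 0 := by
          rw [hC, Finset.card_eq_zero, Finset.filter_eq_empty_iff]
          intro χ hχ
          exact hex χ (Finset.ne_of_mem_erase hχ)
        rw [this]
        exact dvd_zero p
    -- arithmetic in `ZMod N`
    have h0 : ((∑ χ, term χ : ℕ) : ZMod N) = 0 := (ZMod.natCast_eq_zero_iff _ _).mpr hdvd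
    rw [← Finset.add_sum_erase _ _ (Finset.mem_univ (1 : G →* Multiplicative (ZMod p)))] at h0
    push_cast at h0
    rw [Finset.sum_congr rfl hterm1, Finset.sum_sub_distrib] at h0
    have hDz : ((D : ℕ) : ZMod N) = 0 := (ZMod.natCast_eq_zero_iff _ _).mpr hDdvd
    have hs1 : ∑ χ ∈ Finset.univ.erase (1 : G →* Multiplicative (ZMod p)), ((1 + p : ZMod N)) = -(1 + p) := by
      have h1 := Finset.add_sum_erase Finset.univ (fun _ : G →* Multiplicative (ZMod p) => ((1 + p : ZMod N)))
        (Finset.mem_univ (1 : G →* Multiplicative (ZMod p)))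
      have h2 : ∑ _χ : G →* Multiplicative (ZMod p), ((1 + p : ZMod N)) = 0 := by
        rw [Finset.sum_const, Finset.card_univ, nsmul_eq_mul, ← hD, hDz, zero_mul]
      rw [h2] at h1
      exact eq_neg_of_add_eq_zero_right h1
    have hs2 : ∑ χ ∈ Finset.univ.erase (1 : G →* Multiplicative (ZMod p)),
        (if IsCyclic χ.ker then (p : ZMod N) else 0) = 0 := by
      rw [← Finset.sum_filter, Finset.sum_const, nsmul_eq_mul, ← hC]
      obtain ⟨k, hk⟩ := hCdvd
      have : ((C * p : ℕ) : ZMod N) = 0 := by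
        apply (ZMod.natCast_eq_zero_iff _ _).mpr
        rw [hk, hN, pow_two]
        exact ⟨k, by ring⟩
      exact_mod_cast this
    rw [hs1, hs2, sub_zero] at h0
    have hfinal : ((term 1 : ℕ) : ZMod N) = ((1 + p : ℕ) : ZMod N) := by
      push_cast
      exact eq_of_add_neg_eq_zero h0
    have h1 := (ZMod.natCast_eq_natCast_iff _ _ _).mp hfinal
    have h2 : term 1 = Nat.card {H : Subgroup G // Nat.card H = p ^ a} := by
      apply Nat.card_congr
      refine Equiv.subtypeEquivRight (fun H => ?_)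
      have hk : (1 : G →* Multiplicative (ZMod p)).ker = ⊤ := MonoidHom.ker_one
      rw [hk]
      simp
    rwa [h2] at h1

end KulakoffThm

end Cfsg.Agent.Lib.PGroup.Kulakoff
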