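import Mathlib
import Cfsg.Agent.Lib.PGroup.Kulakoff

set_option autoImplicit false

/-!
# Counting subgroups of `p`-power order modulo `p²`: reduction to a Sylow subgroup

If `P` is a Sylow `p`-subgroup of `G` and `p^(a+1)` divides `|P|`, then `G` and `P` have the same number of
subgroups of order `p^a` modulo `p²`.
-/

namespace Cfsg.Agent.Lib.PGroup.KulakoffG

open Subgroup Cfsg.Agent.Lib.PGroup.Kulakoff

variable {G : Type*} [Group G]

/-! ### Conjugation on subgroups -/

/-- Conjugation on subgroups. -/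
def cj (g : G) (H : Subgroup G) : Subgroup G := H.map (MulAut.conj g).toMonoidHom

theorem mem_cj {g x : G} {H : Subgroup G} : x ∈ cj g H ↔ g⁻¹ * x * g ∈ H := by
  simp only [cj, mem_map]
  constructor
  · rintro ⟨y, hy, rfl⟩
    have : g⁻¹ * (MulAut.conj g).toMonoidHom y * g = y := by
      simp [MulAut.conj_apply]
      group
    rwa [this]
  · intro h
    refine ⟨_, h, ?_⟩
    simp [MulAut.conj_apply]
    group

theorem cj_one (H : Subgroup G) : cj 1 H = H := by
  ext x
  simp [mem_cj]

theorem cj_mul (g h : G) (H : Subgroup G) : cj (g * h) H = cj g (cj h H) := by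
  ext x
  simp only [mem_cj]
  have : (g * h)⁻¹ * x * (g * h) = h⁻¹ * (g⁻¹ * x * g) * h := by group
  rw [this]

theorem cj_le {g : G} {H L : Subgroup G} (h : H ≤ L) : cj g H ≤ cj g L := by
  intro x hx
  rw [mem_cj] at hx ⊢
  exact h hx

theorem cj_inv_cj (g : G) (H : Subgroup G) : cj g⁻¹ (cj g H) = H := by
  rw [← cj_mul, inv_mul_cancel, cj_one]

theorem cj_cj_inv (g : G) (H : Subgroup G) : cj g (cj g⁻¹ H) = H := by
  rw [← cj_mul, mul_inv_cancel, cj_one]

theorem cj_le_iff {g : G} {H L : Subgroup G} : cj g H ≤ cj g L ↔ H ≤ L := by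
  refine ⟨fun h => ?_, cj_le⟩
  have := cj_le (g := g⁻¹) h
  rwa [cj_inv_cj, cj_inv_cj] at this

theorem card_cj (g : G) (H : Subgroup G) : Nat.card (cj g H) = Nat.card H :=
  Subgroup.card_map_of_injective (MulAut.conj g).injective

theorem cj_inf (g : G) (H L : Subgroup G) : cj g (H ⊓ L) = cj g H ⊓ cj g L := by
  ext x
  simp only [mem_inf, mem_cj]

theorem cj_normalizer (g : G) (H : Subgroup G) : normalizer (cj g H) = cj g (normalizer H) :=
  (Subgroup.map_equiv_normalizer_eq H (MulAut.conj g)).symm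

theorem cj_eq_of_mem_normalizer {g : G} {H : Subgroup G} (hg : g ∈ normalizer H) : cj g H = H := by
  ext x
  rw [mem_cj]
  have h1 := (mem_normalizer_iff.mp (inv_mem hg)) x
  rw [h1]
  simp

theorem mem_normalizer_of_cj_eq {g : G} {H : Subgroup G} (h : cj g H = H) : g ∈ normalizer H := by
  rw [mem_normalizer_iff]
  intro x
  have h1 : g * x * g⁻¹ ∈ cj g H ↔ x ∈ H := by
    rw [mem_cj]
    have : g⁻¹ * (g * x * g⁻¹) * g = x := by group
    rw [this]
  rw [h] at h1
  exact h1.symm

/-- The conjugation action of a subgroup on the subgroups. -/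
@[reducible] def actK (K : Subgroup G) : MulAction K (Subgroup G) where
  smul g H := cj (g : G) H
  one_smul H := cj_one H
  mul_smul g h H := cj_mul (g : G) (h : G) H

theorem orbit_card [Finite G] (K H : Subgroup G) :
    letI := actK K
    Nat.card (MulAction.orbit K H) * Nat.card (K ⊓ normalizer H : Subgroup G) = Nat.card K := by
  letI := actK K
  have h1 : Nat.card (MulAction.orbit K H) = (MulAction.stabilizer K H).index :=
    Nat.card_congr (MulAction.orbitEquivQuotientStabilizer K H)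
  have h2 : Nat.card (K ⊓ normalizer H : Subgroup G) = Nat.card (MulAction.stabilizer K H) := by
    apply Nat.card_congr
    refine
      { toFun := fun x => ⟨⟨x.1, x.2.1⟩, ?_⟩
        invFun := fun x => ⟨x.1.1, x.1.2, ?_⟩
        left_inv := fun x => rfl
        right_inv := fun x => rfl }
    · exact cj_eq_of_mem_normalizer x.2.2
    · exact mem_normalizer_of_cj_eq x.2
  rw [h1, h2, mul_comm]
  exact Subgroup.card_mul_index _

/-- Invariant sums over the conjugation action on subgroups. -/
theorem dvd_sum_cj [Finite G] [Fintype (Subgroup G)] (K : Subgroup G) (d : ℕ) (w : Subgroup G → ℕ)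
    (hw : ∀ g ∈ K, ∀ H, w H ≤ w (cj g H))
    (hd : ∀ H, w H ≠ 0 → d * Nat.card (K ⊓ normalizer H : Subgroup G) ∣ Nat.card K) :
    d ∣ ∑ H, w H := by
  letI := actK K
  refine dvd_sum_of_invariant (Γ := K) w d ?_ ?_
  · rintro ⟨g, hg⟩ H
    refine le_antisymm ?_ (hw g hg H)
    have := hw g⁻¹ (inv_mem hg) (cj g H)
    rwa [cj_inv_cj] at this
  · intro H hH
    have h1 := hd H hH
    rw [← orbit_card K H] at h1
    exact Nat.dvd_of_mul_dvd_mul_right Nat.card_pos h1

theorem card_subtype_eq_sum {α : Type*} [Fintype α] (A : α → Prop) [DecidablePred A] :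
    Nat.card {x // A x} = ∑ x, if A x then 1 else 0 := by
  rw [Nat.card_eq_fintype_card, Fintype.card_subtype, Finset.card_filter]

/-! ### `p`-subgroups -/

section PSub

variable [Finite G] {p : ℕ} [hp : Fact p.Prime]

theorem mul_card_dvd_of_lt {K L : Subgroup G} (hL : IsPGroup p L) (h : K < L) :
    p * Nat.card K ∣ Nat.card L := by
  have hpp := hp.out
  obtain ⟨n, hn⟩ := hL.exists_card_eq
  have h1 : Nat.card K ∣ Nat.card L := Subgroup.card_dvd_of_le h.le
  obtain ⟨k, hk⟩ := h1
  have h2 : k ∣ p ^ n := hn ▸ Dvd.intro_left _ hk.symm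
  obtain ⟨j, _, hj⟩ := (Nat.dvd_prime_pow hpp).mp h2
  have hj0 : j ≠ 0 := by
    rintro rfl
    rw [pow_zero] at hj
    rw [hj, mul_one] at hk
    exact h.ne (Subgroup.eq_of_le_of_card_ge h.le hk.le)
  rw [hk, mul_comm]
  apply Nat.mul_dvd_mul_left
  rw [hj]
  exact dvd_pow_self p hj0

variable (P : Sylow p G)

theorem card_le_sylow {K : Subgroup G} (hK : IsPGroup p K) : Nat.card K ≤ Nat.card P := by
  obtain ⟨Q, hQ⟩ := hK.exists_le_sylow
  have h1 : Nat.card (Q : Subgroup G) = Nat.card P := by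
    rw [Sylow.card_eq_multiplicity, Sylow.card_eq_multiplicity]
  rw [← h1]
  exact Subgroup.card_le_of_le hQ

theorem le_of_normalizes {H : Subgroup G} (hH : IsPGroup p H) (hn : (P : Subgroup G) ≤ normalizer H) :
    H ≤ P := by
  have h1 : IsPGroup p (H ⊔ (P : Subgroup G) : Subgroup G) :=
    IsPGroup.to_sup_of_normal_left' hH P.2 hn
  have h2 := P.is_maximal' h1 le_sup_right
  exact sup_eq_right.mp h2

/-- A subgroup of the order of `P` contains each `p`-element normalizing it. -/
theorem mem_of_normalizes {R : Subgroup G} (hR : IsPGroup p R) (hcard : Nat.card R = Nat.card P) {x : G}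
    (hxP : x ∈ (P : Subgroup G)) (hx : x ∈ normalizer R) : x ∈ R := by
  have hz : IsPGroup p (zpowers x) := by
    have : zpowers x ≤ (P : Subgroup G) := by
      rw [zpowers_le]
      exact hxP
    exact P.2.to_le this
  have hzR : zpowers x ≤ normalizer R := by
    rw [zpowers_le]
    exact hx
  have h1 : IsPGroup p (zpowers x ⊔ R : Subgroup G) := IsPGroup.to_sup_of_normal_right' hz hR hzR
  have h2 : R = zpowers x ⊔ R := by
    apply Subgroup.eq_of_le_of_card_ge le_sup_right
    rw [hcard]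
    exact card_le_sylow P h1
  rw [h2]
  exact (le_sup_left : zpowers x ≤ zpowers x ⊔ R) (mem_zpowers x)

end PSub

/-! ### The relation between subgroups of order `q` and Sylow subgroups -/

section Rel

variable [Finite G] {p : ℕ} [hp : Fact p.Prime] (P : Sylow p G) (q : ℕ)

/-- `H` of order `q` is normal in the "neighbour" `R` of `P`, and not inside `P`. -/
def Rel (H R : Subgroup G) : Prop :=
  Nat.card R = Nat.card P ∧ Nat.card ((P : Subgroup G) ⊓ R : Subgroup G) * p = Nat.card P ∧ H ≤ R ∧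
    R ≤ normalizer H ∧ ¬ H ≤ P ∧ Nat.card H = q

/-- `H` of order `q`, not in `P`, with exactly `p` conjugates under `P`. -/
def W1 (H : Subgroup G) : Prop :=
  Nat.card H = q ∧ ¬ H ≤ P ∧ Nat.card ((P : Subgroup G) ⊓ normalizer H : Subgroup G) * p = Nat.card P

/-- `H` of order `q`, not in `P`, with more than `p` conjugates under `P`. -/
def W2 (H : Subgroup G) : Prop :=
  Nat.card H = q ∧ ¬ H ≤ P ∧ Nat.card ((P : Subgroup G) ⊓ normalizer H : Subgroup G) * p ≠ Nat.card P

variable {P q}

theorem isPGroup_of_card {K : Subgroup G} {a : ℕ} (h : Nat.card K = p ^ a) : IsPGroup p K :=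
  IsPGroup.of_card h

theorem W1_of_rel {a : ℕ} (hq : q = p ^ a) {H R : Subgroup G} (h : Rel P q H R) : W1 P q H := by
  obtain ⟨h1, h2, h3, h4, h5, h6⟩ := h
  refine ⟨h6, h5, ?_⟩
  have hPp : IsPGroup p (P : Subgroup G) := P.2
  have hne : (P : Subgroup G) ⊓ normalizer H < P := by
    refine lt_of_le_of_ne inf_le_left ?_
    intro he
    apply h5
    apply le_of_normalizes P (isPGroup_of_card (a := a) (hq ▸ h6))
    rw [← he]
    exact inf_le_right
  have h7 := mul_card_dvd_of_lt hPp hne
  have h8 : Nat.card ((P : Subgroup G) ⊓ R : Subgroup G) ∣ Nat.card ((P : Subgroup G) ⊓ normalizer H : Subgroup G) :=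
    Subgroup.card_dvd_of_le (inf_le_inf_left _ h4)
  have h9 : Nat.card ((P : Subgroup G) ⊓ normalizer H : Subgroup G) ∣ Nat.card ((P : Subgroup G) ⊓ R : Subgroup G) := by
    refine Nat.dvd_of_mul_dvd_mul_right (hp.out.pos) ?_
    rw [h2, mul_comm]
    exact h7
  rw [Nat.dvd_antisymm h9 h8]
  exact h2

theorem existsUnique_rel {a : ℕ} (hq : q = p ^ a) {H : Subgroup G} (h : W1 P q H) : ∃! R, Rel P q H R := by
  obtain ⟨h1, h2, h3⟩ := h
  have hpp := hp.out
  have hHp : IsPGroup p H := isPGroup_of_card (a := a) (hq ▸ h1)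
  have hPp : IsPGroup p (P : Subgroup G) := P.2
  set Q : Subgroup G := (P : Subgroup G) ⊓ normalizer H with hQ
  have hQp : IsPGroup p Q := hPp.to_le inf_le_left
  have hQN : Q ≤ normalizer H := inf_le_right
  set R : Subgroup G := H ⊔ Q with hR
  have hRp : IsPGroup p R := IsPGroup.to_sup_of_normal_left' hHp hQp hQN
  have hHR : H ≤ R := le_sup_left
  have hQR : Q ≤ R := le_sup_right
  have hRN : R ≤ normalizer H := sup_le Subgroup.le_normalizer hQN
  have hQltR : Q < R := by
    refine lt_of_le_of_ne hQR ?_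
    intro he
    apply h2
    calc H ≤ R := hHR
      _ = Q := he.symm
      _ ≤ P := inf_le_left
  have hRcard : Nat.card R = Nat.card P := by
    apply le_antisymm (card_le_sylow P hRp)
    have h4 := mul_card_dvd_of_lt hRp hQltR
    rw [mul_comm, h3] at h4
    exact Nat.le_of_dvd Nat.card_pos h4
  have hPR : (P : Subgroup G) ⊓ R = Q := by
    have hQle : Q ≤ (P : Subgroup G) ⊓ R := le_inf inf_le_left hQR
    have hlt : (P : Subgroup G) ⊓ R < P := by
      refine lt_of_le_of_ne inf_le_left ?_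
      intro he
      have hle : (P : Subgroup G) ≤ R := inf_eq_left.mp he
      have heq : (P : Subgroup G) = R := Subgroup.eq_of_le_of_card_ge hle hRcard.le
      apply h2
      rw [heq]
      exact hHR
    have h5 := mul_card_dvd_of_lt hPp hlt
    have h6 : Nat.card ((P : Subgroup G) ⊓ R : Subgroup G) ∣ Nat.card Q := by
      refine Nat.dvd_of_mul_dvd_mul_right hpp.pos ?_
      rw [h3, mul_comm]
      exact h5
    exact (Subgroup.eq_of_le_of_card_ge hQle (Nat.le_of_dvd Nat.card_pos h6)).symm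
  refine ⟨R, ⟨hRcard, by rw [hPR]; exact h3, hHR, hRN, h2, h1⟩, ?_⟩
  rintro R' ⟨h4, h5, h6, h7, -, -⟩
  have hQ' : (P : Subgroup G) ⊓ R' = Q := by
    apply Subgroup.eq_of_le_of_card_ge (inf_le_inf_left _ h7)
    have : Nat.card ((P : Subgroup G) ⊓ R' : Subgroup G) = Nat.card Q :=
      Nat.eq_of_mul_eq_mul_right hpp.pos (h5.trans h3.symm)
    exact this.ge
  have hle : R ≤ R' := sup_le h6 (hQ' ▸ inf_le_right)
  exact (Subgroup.eq_of_le_of_card_ge hle (by rw [h4, hRcard])).symm

/-- The subgroups counted by `W1`, by their neighbours. -/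
theorem card_W1_eq [Fintype (Subgroup G)] {a : ℕ} (hq : q = p ^ a) :
    Nat.card {H // W1 P q H} = ∑ R : Subgroup G, Nat.card {H // Rel P q H R} := by
  classical
  rw [← double_count (A := Subgroup G) (B := Subgroup G) (fun H R => Rel P q H R),
    card_subtype_eq_sum]
  refine Finset.sum_congr rfl (fun H _ => ?_)
  by_cases h : W1 P q H
  · rw [if_pos h, eq_comm, Nat.card_eq_one_iff_unique]
    obtain ⟨R, hR, hu⟩ := existsUnique_rel hq h
    refine ⟨⟨?_⟩, ⟨⟨R, hR⟩⟩⟩
    rintro ⟨R₁, h₁⟩ ⟨R₂, h₂⟩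
    exact Subtype.ext ((hu R₁ h₁).trans (hu R₂ h₂).symm)
  · rw [if_neg h]
    haveI : IsEmpty {R // Rel P q H R} := ⟨fun R => h (W1_of_rel hq R.2)⟩
    exact Nat.card_of_isEmpty.symm

/-- Transport of the relation by an element of `P`. -/
theorem rel_cj {g : G} (hg : g ∈ (P : Subgroup G)) {H R : Subgroup G} (h : Rel P q H R) :
    Rel P q (cj g H) (cj g R) := by
  obtain ⟨h1, h2, h3, h4, h5, h6⟩ := h
  have hPg : cj g (P : Subgroup G) = P :=
    cj_eq_of_mem_normalizer (Subgroup.le_normalizer hg)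
  refine ⟨by rw [card_cj]; exact h1, ?_, cj_le h3, ?_, ?_, by rw [card_cj]; exact h6⟩
  · have : (P : Subgroup G) ⊓ cj g R = cj g ((P : Subgroup G) ⊓ R) := by
      rw [cj_inf, hPg]
    rw [this, card_cj]
    exact h2
  · rw [cj_normalizer]
    exact cj_le h4
  · intro hle
    apply h5
    rw [← hPg] at hle
    exact cj_le_iff.mp hle

theorem card_rel_le {g : G} (hg : g ∈ (P : Subgroup G)) (R : Subgroup G) :
    Nat.card {H // Rel P q H R} ≤ Nat.card {H // Rel P q H (cj g R)} := by
  refine Nat.card_le_card_of_injective (fun H => ⟨cj g H.1, rel_cj hg H.2⟩) ?_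
  rintro ⟨H₁, h₁⟩ ⟨H₂, h₂⟩ h
  have h3 : cj g H₁ = cj g H₂ := congrArg Subtype.val h
  apply Subtype.ext
  show H₁ = H₂
  have h4 := congrArg (cj g⁻¹) h3
  rwa [cj_inv_cj, cj_inv_cj] at h4

/-- Subgroups of `R` normal in `R`, of order `q`. -/
noncomputable def normalEquiv (R : Subgroup G) (q : ℕ) :
    {H : Subgroup R // H.Normal ∧ Nat.card H = q} ≃ {H : Subgroup G // H ≤ R ∧ R ≤ normalizer H ∧ Nat.card H = q} where
  toFun H := ⟨H.1.map R.subtype, map_subtype_le _, by
      intro x hx y
      obtain ⟨hN⟩ := H.2.1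
      have key : ∀ (u : R) (y : R), y ∈ H.1 → u * y * u⁻¹ ∈ H.1 := fun u y hy => hN y hy u
      show y ∈ H.1.map R.subtype ↔ x * y * x⁻¹ ∈ H.1.map R.subtype
      simp only [mem_map, subtype_apply]
      constructor
      · rintro ⟨z, hz, rfl⟩
        refine ⟨⟨x, hx⟩ * z * ⟨x, hx⟩⁻¹, key _ _ hz, rfl⟩
      · rintro ⟨z, hz, hzx⟩
        refine ⟨⟨x, hx⟩⁻¹ * z * ⟨x, hx⟩, ?_, ?_⟩
        · have := key ⟨x, hx⟩⁻¹ z hz
          simpa using this
        · simp only [Subgroup.coe_mul, Subgroup.coe_inv]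
          rw [show x⁻¹ * (z : G) * x = x⁻¹ * (x * y * x⁻¹) * x by rw [hzx]]
          group, by
    rw [Nat.card_congr (Subgroup.equivMapOfInjective _ _ R.subtype_injective).symm.toEquiv]; exact H.2.2⟩
  invFun H := ⟨H.1.subgroupOf R, ⟨by
      intro x hx g
      rw [mem_subgroupOf] at hx ⊢
      simp only [Subgroup.coe_mul, Subgroup.coe_inv]
      exact (mem_normalizer_iff.mp (H.2.2.1 g.2) _).mp hx⟩, by
    rw [Nat.card_congr (Subgroup.subgroupOfEquivOfLe H.2.1).toEquiv]; exact H.2.2.2⟩
  left_inv H := by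
    ext x
    simp only [mem_subgroupOf, mem_map, subtype_apply]
    constructor
    · rintro ⟨y, hy, hyx⟩
      have : y = x := Subtype.ext hyx
      exact this ▸ hy
    · intro hx
      exact ⟨x, hx, rfl⟩
  right_inv H := by
    ext x
    simp only [mem_map, mem_subgroupOf, subtype_apply]
    constructor
    · rintro ⟨y, hy, rfl⟩
      exact hy
    · intro hx
      exact ⟨⟨x, H.2.1 hx⟩, hx, rfl⟩

/-- For a neighbour `R` of `P`, the number of `H` in relation with `R` is divisible by `p`. -/
theorem dvd_card_rel [Fintype (Subgroup G)] {a b : ℕ} (hq : q = p ^ a) (hb : Nat.card P = p ^ b)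
    (hab : a + 1 ≤ b) {R : Subgroup G} (h1 : Nat.card R = Nat.card P)
    (h2 : Nat.card ((P : Subgroup G) ⊓ R : Subgroup G) * p = Nat.card P) :
    p ∣ Nat.card {H // Rel P q H R} := by
  classical
  have hpp := hp.out
  set Q : Subgroup G := (P : Subgroup G) ⊓ R with hQ
  have hRp : IsPGroup p R := IsPGroup.of_card (h1.trans hb)
  have hQp : Nat.card Q = p ^ (b - 1) := by
    have e : p ^ b = p ^ (b - 1) * p := by
      rw [← pow_succ]
      congr 1
      omega
    rw [hb, e] at h2
    exact Nat.eq_of_mul_eq_mul_right hpp.pos h2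
  have hQR : Q ≤ R := inf_le_right
  -- `R` normalizes `Q`
  have hQN : R ≤ normalizer Q := by
    have hidx : (Q.subgroupOf R).index = p := by
      have h3 := (Q.subgroupOf R).card_mul_index
      have h4 : Nat.card (Q.subgroupOf R) = Nat.card Q :=
        Nat.card_congr (Subgroup.subgroupOfEquivOfLe hQR).toEquiv
      rw [h4, hQp] at h3
      have e : Nat.card R = p ^ (b - 1) * p := by
        rw [h1, hb, ← pow_succ]
        congr 1
        omega
      rw [e] at h3
      exact Nat.eq_of_mul_eq_mul_left (pow_pos hpp.pos _) h3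
    have hn : (Q.subgroupOf R).Normal := by
      apply Subgroup.normal_of_index_eq_minFac_card
      rw [hidx, h1, hb, Nat.Prime.pow_minFac hpp (by omega)]
    intro g hg x
    constructor
    · intro hx
      have := hn.conj_mem ⟨x, hQR hx⟩ (by rw [mem_subgroupOf]; exact hx) ⟨g, hg⟩
      rw [mem_subgroupOf] at this
      simpa using this
    · intro hx
      have := hn.conj_mem ⟨g * x * g⁻¹, hQR hx⟩ (by rw [mem_subgroupOf]; exact hx) ⟨g, hg⟩⁻¹
      rw [mem_subgroupOf] at this
      simpa [mul_assoc] using this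
  -- the three counts
  set A₁ := Nat.card {H : Subgroup G // H ≤ R ∧ R ≤ normalizer H ∧ Nat.card H = q} with hA₁
  set A₂ := Nat.card {H : Subgroup G // H ≤ Q ∧ R ≤ normalizer H ∧ Nat.card H = q} with hA₂
  set B := Nat.card {H : Subgroup G // H ≤ Q ∧ Nat.card H = q} with hB
  set W := Nat.card {H : Subgroup G // (H ≤ Q ∧ Nat.card H = q) ∧ ¬ R ≤ normalizer H} with hW
  set F := Nat.card {H // Rel P q H R} with hF
  have hA₁1 : A₁ ≡ 1 [MOD p] := by
    rw [hA₁, ← Nat.card_congr (normalEquiv R q), hq]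
    exact Cfsg.Agent.S3976.result p b a hpp (h1.trans hb) (by omega)
  have hB1 : B ≡ 1 [MOD p] := by
    rw [hB, hq]
    apply card_sub_modEq Q p a hpp
    rw [hQp]
    exact pow_dvd_pow p (by omega)
  have hWdvd : p ∣ W := by
    rw [hW, card_subtype_eq_sum]
    apply dvd_sum_cj R p
    · intro g hg H
      by_cases hc : (H ≤ Q ∧ Nat.card H = q) ∧ ¬ R ≤ normalizer H
      · rw [if_pos hc, if_pos]
        obtain ⟨⟨h3, h4⟩, h5⟩ := hc
        have hgQ : cj g Q = Q := cj_eq_of_mem_normalizer (hQN hg)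
        have hgR : cj g R = R := cj_eq_of_mem_normalizer (Subgroup.le_normalizer hg)
        refine ⟨⟨?_, by rw [card_cj]; exact h4⟩, ?_⟩
        · rw [← hgQ]
          exact cj_le h3
        · intro h6
          apply h5
          rw [cj_normalizer, ← hgR] at h6
          rw [hgR] at h6
          rw [← hgR] at h6
          exact cj_le_iff.mp h6
      · rw [if_neg hc]
        exact Nat.zero_le _
    · intro H hH
      have hc : (H ≤ Q ∧ Nat.card H = q) ∧ ¬ R ≤ normalizer H := by
        by_contra hc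
        exact hH (if_neg hc)
      apply mul_card_dvd_of_lt hRp
      refine lt_of_le_of_ne inf_le_left ?_
      intro he
      exact hc.2 (inf_eq_left.mp he)
  have hBsum : B = A₂ + W := by
    rw [hB, hA₂, hW]
    rw [card_subtype_eq_sum, card_subtype_eq_sum, card_subtype_eq_sum, ← Finset.sum_add_distrib]
    refine Finset.sum_congr rfl (fun H _ => ?_)
    by_cases h3 : H ≤ Q <;> by_cases h4 : Nat.card H = q <;> by_cases h5 : R ≤ normalizer H <;>
      simp [h3, h4, h5]
  have hAsum : A₁ = F + A₂ := by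
    rw [hA₁, hF, hA₂]
    rw [card_subtype_eq_sum, card_subtype_eq_sum, card_subtype_eq_sum, ← Finset.sum_add_distrib]
    refine Finset.sum_congr rfl (fun H _ => ?_)
    have hiff : (H ≤ Q) ↔ (H ≤ (P : Subgroup G) ∧ H ≤ R) := by
      rw [hQ, le_inf_iff]
    have hRel : Rel P q H R ↔ (H ≤ R ∧ R ≤ normalizer H ∧ ¬ H ≤ (P : Subgroup G) ∧ Nat.card H = q) :=
      ⟨fun h => h.2.2, fun h => ⟨h1, h2, h⟩⟩
    rw [hiff]
    simp only [hRel]
    by_cases h3 : H ≤ (P : Subgroup G) <;> by_cases h4 : H ≤ R <;> by_cases h5 : R ≤ normalizer H <;>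
      by_cases h6 : Nat.card H = q <;>
      simp [h3, h4, h5, h6]
  -- conclude
  have hA₂1 : A₂ ≡ 1 [MOD p] := by
    have : B ≡ A₂ [MOD p] := by
      rw [hBsum]
      obtain ⟨k, hk⟩ := hWdvd
      rw [hk]
      simp [Nat.ModEq]
    exact this.symm.trans hB1
  have hfin : F + A₂ ≡ 0 + A₂ [MOD p] := by
    rw [← hAsum, zero_add]
    exact hA₁1.trans hA₂1.symm
  have := Nat.ModEq.add_right_cancel' A₂ hfin
  exact (Nat.modEq_zero_iff_dvd).mp this

/-- The sum over neighbours is divisible by `p²`. -/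
theorem sq_dvd_sum_rel [Fintype (Subgroup G)] {a b : ℕ} (hq : q = p ^ a) (hb : Nat.card P = p ^ b)
    (hab : a + 1 ≤ b) : p ^ 2 ∣ ∑ R : Subgroup G, Nat.card {H // Rel P q H R} := by
  classical
  have hpp := hp.out
  set F : Subgroup G → ℕ := fun R => Nat.card {H // Rel P q H R} with hF
  have hne : ∀ R, F R ≠ 0 → Nat.card R = Nat.card P ∧
      Nat.card ((P : Subgroup G) ⊓ R : Subgroup G) * p = Nat.card P := by
    intro R hR
    have : Nonempty {H // Rel P q H R} := by
      by_contra hn
      rw [not_nonempty_iff] at hn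
      exact hR Nat.card_of_isEmpty
    obtain ⟨H, hH⟩ := this
    exact ⟨hH.1, hH.2.1⟩
  have hdvd : ∀ R, p ∣ F R := by
    intro R
    by_cases hR : F R = 0
    · rw [hR]
      exact dvd_zero p
    · obtain ⟨h1, h2⟩ := hne R hR
      exact dvd_card_rel hq hb hab h1 h2
  have hsum : p ∣ ∑ R, F R / p := by
    apply dvd_sum_cj (P : Subgroup G) p
    · intro g hg R
      exact Nat.div_le_div_right (card_rel_le hg R)
    · intro R hR
      have hR0 : F R ≠ 0 := by
        intro h
        apply hR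
        rw [h, Nat.zero_div]
      obtain ⟨h1, h2⟩ := hne R hR0
      have hRp : IsPGroup p R := by
        have hPp : IsPGroup p (P : Subgroup G) := P.2
        obtain ⟨n, hn⟩ := hPp.exists_card_eq
        exact IsPGroup.of_card (h1.trans hn)
      have he : (P : Subgroup G) ⊓ normalizer R = (P : Subgroup G) ⊓ R := by
        apply le_antisymm
        · rintro x ⟨hx1, hx2⟩
          exact ⟨hx1, mem_of_normalizes P hRp h1 hx1 hx2⟩
        · exact inf_le_inf_left _ Subgroup.le_normalizer
      rw [he, mul_comm, h2]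
  have hexp : ∑ R, F R = p * ∑ R, F R / p := by
    rw [Finset.mul_sum]
    exact Finset.sum_congr rfl (fun R _ => (Nat.mul_div_cancel' (hdvd R)).symm)
  show p ^ 2 ∣ ∑ R, F R
  rw [hexp, pow_two]
  exact Nat.mul_dvd_mul_left p hsum

/-- Subgroups with more than `p` conjugates under `P`: their number is divisible by `p²`. -/
theorem sq_dvd_card_W2 [Fintype (Subgroup G)] {a b : ℕ} (hq : q = p ^ a) (hb : Nat.card P = p ^ b) :
    p ^ 2 ∣ Nat.card {H // W2 P q H} := by
  classical
  have hpp := hp.out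
  rw [card_subtype_eq_sum]
  apply dvd_sum_cj (P : Subgroup G) (p ^ 2)
  · intro g hg H
    by_cases hc : W2 P q H
    · rw [if_pos hc, if_pos]
      obtain ⟨h1, h2, h3⟩ := hc
      have hPg : cj g (P : Subgroup G) = P :=
        cj_eq_of_mem_normalizer (Subgroup.le_normalizer hg)
      refine ⟨by rw [card_cj]; exact h1, ?_, ?_⟩
      · intro hle
        apply h2
        rw [← hPg] at hle
        exact cj_le_iff.mp hle
      · have : (P : Subgroup G) ⊓ normalizer (cj g H) = cj g ((P : Subgroup G) ⊓ normalizer H) := by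
          rw [cj_inf, hPg, cj_normalizer]
        rw [this, card_cj]
        exact h3
    · rw [if_neg hc]
      exact Nat.zero_le _
  · intro H hH
    have hc : W2 P q H := by
      by_contra hc
      exact hH (if_neg hc)
    obtain ⟨h1, h2, h3⟩ := hc
    set S : Subgroup G := (P : Subgroup G) ⊓ normalizer H with hS
    have h4 : Nat.card S ∣ p ^ b := hb ▸ Subgroup.card_dvd_of_le inf_le_left
    obtain ⟨c, hc, hcS⟩ := (Nat.dvd_prime_pow hpp).mp h4
    have hcb : c ≠ b := by
      rintro rfl
      apply h2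
      apply le_of_normalizes P (isPGroup_of_card (a := a) (hq ▸ h1))
      have : S = P := Subgroup.eq_of_le_of_card_ge inf_le_left (by rw [hcS, hb])
      rw [← this]
      exact inf_le_right
    have hcb1 : c + 1 ≠ b := by
      intro he
      apply h3
      rw [hcS, hb, ← he, pow_succ]
    rw [hcS, hb, ← pow_add]
    exact pow_dvd_pow p (by omega)

/-- **Reduction to a Sylow subgroup.** -/
theorem card_modEq_sylow {a b : ℕ} (hq : q = p ^ a) (hb : Nat.card P = p ^ b) (hab : a + 1 ≤ b) :
    Nat.card {H : Subgroup G // Nat.card H = q} ≡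
      Nat.card {H : Subgroup G // H ≤ (P : Subgroup G) ∧ Nat.card H = q} [MOD p ^ 2] := by
  classical
  haveI : Fintype (Subgroup G) := Fintype.ofFinite _
  have hsum : Nat.card {H : Subgroup G // Nat.card H = q} =
      Nat.card {H : Subgroup G // H ≤ (P : Subgroup G) ∧ Nat.card H = q} +
        (Nat.card {H // W1 P q H} + Nat.card {H // W2 P q H}) := by
    rw [card_subtype_eq_sum, card_subtype_eq_sum, card_subtype_eq_sum, card_subtype_eq_sum,
      ← Finset.sum_add_distrib, ← Finset.sum_add_distrib]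
    refine Finset.sum_congr rfl (fun H _ => ?_)
    by_cases h1 : Nat.card H = q <;> by_cases h2 : H ≤ (P : Subgroup G) <;>
      by_cases h3 : Nat.card ((P : Subgroup G) ⊓ normalizer H : Subgroup G) * p = Nat.card P <;>
      simp only [W1, W2, h1, h2, h3, not_true_eq_false, not_false_eq_true, and_self, and_true, and_false,
        if_true, if_false, true_and, false_and, ne_eq] <;> norm_num
  rw [hsum, card_W1_eq hq]
  have h1 := sq_dvd_sum_rel (P := P) hq hb hab
  have h2 := sq_dvd_card_W2 (P := P) hq hb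
  have h3 := dvd_add h1 h2
  obtain ⟨k, hk⟩ := h3
  rw [hk]
  simp [Nat.ModEq]

end Rel

/-- The number of subgroups of order `p^a`, when `p^(a+1)` divides the order of `G`, is `1` or `1 + p` modulo
`p²`. -/
theorem main {G : Type*} [Group G] [Finite G] (p a : ℕ) (hp : p.Prime) (hdvd : p ^ (a + 1) ∣ Nat.card G) :
    Nat.card {H : Subgroup G // Nat.card H = p ^ a} ≡ 1 [MOD p ^ 2] ∨
      Nat.card {H : Subgroup G // Nat.card H = p ^ a} ≡ 1 + p [MOD p ^ 2] := by
  haveI : Fact p.Prime := ⟨hp⟩
  by_cases hp2 : p = 2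
  · subst hp2
    have h1 := Cfsg.Agent.S3975.result 2 a hp (dvd_trans (pow_dvd_pow 2 (Nat.le_succ a)) hdvd)
    set c := Nat.card {H : Subgroup G // Nat.card H = 2 ^ a}
    have h2 : c % 2 = 1 := h1
    have h3 : c % 4 = 1 ∨ c % 4 = 3 := by omega
    rcases h3 with h3 | h3
    · left
      show c % 2 ^ 2 = 1 % 2 ^ 2
      norm_num
      exact h3
    · right
      show c % 2 ^ 2 = (1 + 2) % 2 ^ 2
      norm_num
      exact h3
  obtain ⟨P⟩ : Nonempty (Sylow p G) := inferInstance
  obtain ⟨b, hb⟩ := (P.2 : IsPGroup p (P : Subgroup G)).exists_card_eq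
  have hab : a + 1 ≤ b := by
    have h1 := Sylow.pow_dvd_card_of_pow_dvd_card P hdvd
    rw [hb] at h1
    exact (Nat.pow_dvd_pow_iff_le_right hp.one_lt).mp h1
  have hred := card_modEq_sylow (P := P) (q := p ^ a) rfl hb hab
  rw [card_sub_eq] at hred
  by_cases ha : a = 0
  · subst ha
    left
    refine hred.trans ?_
    have : Nat.card {H : Subgroup (P : Subgroup G) // Nat.card H = p ^ 0} = 1 := by
      rw [Nat.card_eq_one_iff_unique]
      refine ⟨⟨?_⟩, ⟨⟨⊥, by simp⟩⟩⟩
      rintro ⟨H, hH⟩ ⟨K, hK⟩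
      apply Subtype.ext
      rw [pow_zero] at hH hK
      show H = K
      rw [Subgroup.eq_bot_of_card_eq H hH, Subgroup.eq_bot_of_card_eq K hK]
    rw [this]
  by_cases hc : IsCyclic (P : Subgroup G)
  · left
    refine hred.trans ?_
    rw [card_sub_cyclic hp (by rw [hb]; exact pow_dvd_pow p (by omega))]
  · right
    exact hred.trans (kulakoff hp2 b _ hb a (by omega) (by omega) hc)

end Cfsg.Agent.Lib.PGroup.KulakoffG
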