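import Mathlib
import Cfsg.Prelude.Def_Amalgam
import Cfsg.Prelude.Def_LocalStructure
import Cfsg.Agent.Lib.Basic.PCore

/-!
# The L-Lemma for `T`-minimal groups

`H` finite, `T` Sylow in `H`, `H` generated by the conjugates of `T`, and `T` lies in a unique maximal subgroup `M`.
Each Sylow subgroup then lies in exactly one conjugate of `M`.  For `A ≤ T`, `A ≰ O_p(H)`, take a `p`-subgroup `R₀ ≥ O_p(H)`,
generated by `O_p(H)` and conjugates of `A`, lying in at least two conjugates of `M`, of largest order.  The weak closure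
argument gives two conjugates `B₁, B₂` of `A` normalizing `R₀` with `R₀ B₁` and `R₀ B₂` in exactly one conjugate of `M`, and
these conjugates are different.  A minimal subgroup of `⟨R₀, B₁, B₂⟩` containing `B₁ O_p(⟨R₀, B₁, B₂⟩)` and outside the
conjugate over `R₀ B₁` is `L`.
-/

set_option autoImplicit false
set_option linter.unusedSectionVars false
set_option linter.unusedSimpArgs false

namespace Cfsg.Agent.Lib.PGroup.LLemma

open Cfsg

variable {H : Type*} [Group H]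

/-- The conjugate `g K g⁻¹`. -/
abbrev cj (g : H) (K : Subgroup H) : Subgroup H := K.map (MulAut.conj g).toMonoidHom

theorem mem_cj {g x : H} {K : Subgroup H} : x ∈ cj g K ↔ g⁻¹ * x * g ∈ K := by
  constructor
  · rintro ⟨y, hy, rfl⟩
    simpa [mul_assoc] using hy
  · intro h
    exact ⟨_, h, by simp [mul_assoc]⟩

theorem conj_mem_cj {g x : H} {K : Subgroup H} (hx : x ∈ K) : g * x * g⁻¹ ∈ cj g K := by
  rw [mem_cj]; simpa [mul_assoc] using hx

theorem cj_mono {g : H} {K K' : Subgroup H} (h : K ≤ K') : cj g K ≤ cj g K' := Subgroup.map_mono h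

theorem cj_le_cj {g : H} {K K' : Subgroup H} : cj g K ≤ cj g K' ↔ K ≤ K' :=
  Subgroup.map_le_map_iff_of_injective (MulAut.conj g).injective

theorem cj_mul (g h : H) (K : Subgroup H) : cj (g * h) K = cj g (cj h K) := by
  ext x; simp only [mem_cj]; simp [mul_assoc]

theorem cj_one (K : Subgroup H) : cj 1 K = K := by
  ext x; simp [mem_cj]

theorem cj_inv_cj (g : H) (K : Subgroup H) : cj g⁻¹ (cj g K) = K := by
  rw [← cj_mul, inv_mul_cancel, cj_one]

theorem cj_cj_inv (g : H) (K : Subgroup H) : cj g (cj g⁻¹ K) = K := by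
  rw [← cj_mul, mul_inv_cancel, cj_one]

theorem le_cj_iff {g : H} {K K' : Subgroup H} : K ≤ cj g K' ↔ cj g⁻¹ K ≤ K' := by
  rw [← cj_le_cj (g := g⁻¹), cj_inv_cj]

theorem cj_le_iff {g : H} {K K' : Subgroup H} : cj g K ≤ K' ↔ K ≤ cj g⁻¹ K' := by
  rw [← cj_le_cj (g := g⁻¹), cj_inv_cj]

theorem cj_sup (g : H) (K K' : Subgroup H) : cj g (K ⊔ K') = cj g K ⊔ cj g K' := Subgroup.map_sup _ _ _

theorem cj_inf (g : H) (K K' : Subgroup H) : cj g (K ⊓ K') = cj g K ⊓ cj g K' :=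
  Subgroup.map_inf _ _ _ (MulAut.conj g).injective

theorem card_cj (g : H) (K : Subgroup H) : Nat.card (cj g K) = Nat.card K :=
  Subgroup.card_map_of_injective (MulAut.conj g).injective

theorem cj_eq_self_of_mem {g : H} {K : Subgroup H} (hg : g ∈ K) : cj g K = K := by
  ext x
  rw [mem_cj]
  constructor
  · intro h
    have := K.mul_mem (K.mul_mem hg h) (K.inv_mem hg)
    simpa [mul_assoc] using this
  · intro h
    exact K.mul_mem (K.mul_mem (K.inv_mem hg) h) hg

theorem cj_normal (g : H) {K : Subgroup H} (hK : K.Normal) : cj g K = K := by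
  ext x
  rw [mem_cj]
  constructor
  · intro h
    have := hK.conj_mem _ h g
    simpa [mul_assoc] using this
  · intro h
    have := hK.conj_mem _ h g⁻¹
    simpa [mul_assoc] using this

theorem cj_eq_of_mem_normalizer {g : H} {K : Subgroup H} (hg : g ∈ Subgroup.normalizer (K : Set H)) : cj g K = K := by
  ext x
  rw [mem_cj]
  have := (Subgroup.mem_normalizer_iff.mp hg) (g⁻¹ * x * g)
  constructor
  · intro h
    have h2 := this.mp h
    simpa [mul_assoc] using h2
  · intro h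
    apply this.mpr
    simpa [mul_assoc] using h

theorem mem_normalizer_of_cj_eq {g : H} {K : Subgroup H} (hg : cj g K = K) : g ∈ Subgroup.normalizer (K : Set H) := by
  rw [Subgroup.mem_normalizer_iff]
  intro x
  constructor
  · intro hx
    have : g * x * g⁻¹ ∈ cj g K := conj_mem_cj hx
    rwa [hg] at this
  · intro hx
    have h2 : g * x * g⁻¹ ∈ cj g K := by rwa [hg]
    rw [mem_cj] at h2
    simpa [mul_assoc] using h2

theorem cj_top (g : H) : cj g ⊤ = ⊤ := cj_normal g inferInstance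

theorem isCoatom_cj (g : H) {K : Subgroup H} (hK : IsCoatom K) : IsCoatom (cj g K) := by
  refine ⟨?_, ?_⟩
  · intro h
    apply hK.1
    have : cj g⁻¹ (cj g K) = cj g⁻¹ ⊤ := by rw [h]
    rw [cj_inv_cj, cj_top] at this
    exact this
  · intro K' hK'
    have h1 : K < cj g⁻¹ K' := by
      refine lt_of_le_of_ne (cj_le_iff.mp hK'.le) ?_
      intro h
      have : cj g K = K' := by rw [h, cj_cj_inv]
      exact hK'.ne this
    have h2 := hK.2 _ h1
    have : K' = cj g ⊤ := by rw [← h2, cj_cj_inv]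
    rw [this, cj_top]

theorem cj_eq_iff {g h : H} {K : Subgroup H} : cj g K = cj h K ↔ h⁻¹ * g ∈ Subgroup.normalizer (K : Set H) := by
  constructor
  · intro e
    apply mem_normalizer_of_cj_eq
    rw [cj_mul, e, cj_inv_cj]
  · intro hm
    have := cj_eq_of_mem_normalizer hm
    rw [cj_mul] at this
    rw [← this, cj_cj_inv]
    rw [this]

section Core

variable [Finite H] {p : ℕ} [Fact p.Prime]

theorem pCoreOf_le {L : Subgroup H} : pCoreOf p L ≤ L := by
  rintro _ ⟨y, -, rfl⟩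
  exact y.2

theorem isPGroup_pCoreOf (L : Subgroup H) : IsPGroup p (pCoreOf p L) :=
  (Cfsg.Agent.Lib.Basic.PCore.pCore_isPGroup (G := L) p).map L.subtype

theorem conj_mem_pCoreOf {L : Subgroup H} {g z : H} (hg : g ∈ L) (hz : z ∈ pCoreOf p L) :
    g * z * g⁻¹ ∈ pCoreOf p L := by
  obtain ⟨y, hy, rfl⟩ := hz
  have : (⟨g, hg⟩ : L) * y * (⟨g, hg⟩ : L)⁻¹ ∈ pCore p L :=
    (Cfsg.Agent.Lib.Basic.PCore.pCore_normal p L).conj_mem y hy ⟨g, hg⟩
  exact ⟨_, this, rfl⟩

theorem le_normalizer_pCoreOf {L : Subgroup H} : L ≤ Subgroup.normalizer ((pCoreOf p L : Subgroup H) : Set H) := by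
  intro g hg
  rw [Subgroup.mem_normalizer_iff]
  intro z
  refine ⟨fun hz => conj_mem_pCoreOf hg hz, fun hz => ?_⟩
  have := conj_mem_pCoreOf (L.inv_mem hg) hz
  simpa [mul_assoc] using this

/-- A `p`-subgroup of `L` normalized by `L` lies in `O_p(L)`. -/
theorem le_pCoreOf {L X : Subgroup H} (hXL : X ≤ L) (hX : IsPGroup p X)
    (hN : L ≤ Subgroup.normalizer (X : Set H)) : X ≤ pCoreOf p L := by
  have hn : (X.subgroupOf L).Normal := by
    refine ⟨fun x hx g => ?_⟩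
    rw [Subgroup.mem_subgroupOf] at hx ⊢
    have := (Subgroup.mem_normalizer_iff.mp (hN g.2) x).mp hx
    simpa using this
  have hp : IsPGroup p (X.subgroupOf L) := hX.comap_of_injective L.subtype L.subtype_injective
  have h := Cfsg.Agent.Lib.Basic.PCore.le_pCore hn hp
  have h2 := Subgroup.map_mono (f := L.subtype) h
  rwa [Subgroup.map_subgroupOf_eq_of_le hXL] at h2

theorem pCoreOf_cj (g : H) (L : Subgroup H) : pCoreOf p (cj g L) = cj g (pCoreOf p L) := by
  have key : ∀ (g : H) (L : Subgroup H), cj g (pCoreOf p L) ≤ pCoreOf p (cj g L) := by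
    intro g L
    apply le_pCoreOf (cj_mono pCoreOf_le)
    · exact (isPGroup_pCoreOf L).map _
    · intro x hx
      apply mem_normalizer_of_cj_eq
      have hx' : g⁻¹ * x * g ∈ L := mem_cj.mp hx
      have h1 : cj (g⁻¹ * x * g) (pCoreOf p L) = pCoreOf p L :=
        cj_eq_of_mem_normalizer (le_normalizer_pCoreOf hx')
      calc cj x (cj g (pCoreOf p L)) = cj g (cj (g⁻¹ * x * g) (pCoreOf p L)) := by
            rw [← cj_mul, ← cj_mul]; congr 1; group
        _ = cj g (pCoreOf p L) := by rw [h1]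
  apply le_antisymm _ (key g L)
  have := key g⁻¹ (cj g L)
  rw [cj_inv_cj] at this
  have h2 := cj_mono (g := g) this
  rwa [cj_cj_inv] at h2

/-- `O_p(H)` is in every Sylow, so `p`-subgroups together with `O_p(H)`. -/
theorem isPGroup_sup_of_le_normalizer {X Y : Subgroup H} (hX : IsPGroup p X) (hY : IsPGroup p Y)
    (h : Y ≤ Subgroup.normalizer (X : Set H)) : IsPGroup p (X ⊔ Y : Subgroup H) :=
  hX.to_sup_of_normal_left' hY h

end Core

/-! ### The `T`-minimal setting -/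

section Main

variable [Finite H] {p : ℕ} [Fact p.Prime]

/-- `X` is a conjugate of `Y`. -/
def IsConj (Y X : Subgroup H) : Prop := ∃ g : H, X = cj g Y

/-- The join of `O_p(H)` and all conjugates of `A` in `S`. -/
def wc (p : ℕ) (A S : Subgroup H) : Subgroup H :=
  pCore p H ⊔ sSup {B | IsConj A B ∧ B ≤ S}

theorem core_le_wc {A S : Subgroup H} : pCore p H ≤ wc p A S := le_sup_left

theorem member_le_wc {A S B : Subgroup H} (hB : IsConj A B) (hBS : B ≤ S) : B ≤ wc p A S :=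
  le_sup_of_le_right (le_sSup ⟨hB, hBS⟩)

theorem wc_le {A S X : Subgroup H} (hQ : pCore p H ≤ X) (hm : ∀ B, IsConj A B → B ≤ S → B ≤ X) :
    wc p A S ≤ X :=
  sup_le hQ (sSup_le fun B hB => hm B hB.1 hB.2)

theorem wc_mono {A S S' : Subgroup H} (h : S ≤ S') : wc p A S ≤ wc p A S' :=
  wc_le core_le_wc fun B hB hBS => member_le_wc hB (hBS.trans h)

theorem wc_le_self {A S : Subgroup H} (hQ : pCore p H ≤ S) : wc p A S ≤ S :=
  wc_le hQ fun _ _ h => h

theorem isConj_cj {A B : Subgroup H} (hB : IsConj A B) (g : H) : IsConj A (cj g B) := by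
  obtain ⟨h, rfl⟩ := hB
  exact ⟨g * h, (cj_mul _ _ _).symm⟩

theorem pCore_normal' : (pCore p H).Normal := Cfsg.Agent.Lib.Basic.PCore.pCore_normal p H

theorem cj_wc_le (g : H) (A S : Subgroup H) : cj g (wc p A S) ≤ wc p A (cj g S) := by
  rw [cj_le_iff]
  apply wc_le
  · rw [← cj_normal g⁻¹ (pCore_normal' (p := p) (H := H))]
    exact cj_mono core_le_wc
  · intro B hB hBS
    rw [← cj_le_iff]
    exact member_le_wc (isConj_cj hB g) (cj_mono hBS)

theorem cj_wc (g : H) (A S : Subgroup H) : cj g (wc p A S) = wc p A (cj g S) := by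
  apply le_antisymm (cj_wc_le g A S)
  have := cj_wc_le (p := p) g⁻¹ A (cj g S)
  rw [cj_inv_cj] at this
  have h2 := cj_mono (g := g) this
  rwa [cj_cj_inv] at h2

theorem wc_wc {A S : Subgroup H} (hQ : pCore p H ≤ S) : wc p A (wc p A S) = wc p A S := by
  apply le_antisymm (wc_le_self core_le_wc)
  exact wc_le core_le_wc fun B hB hBS => member_le_wc hB (member_le_wc hB hBS)

/-- In a `p`-group a proper subgroup is properly inside its normalizer. -/
theorem exists_normalizing_of_ne {W U : Subgroup H} (hW : IsPGroup p W) (hU : U ≤ W) (hne : U ≠ W) :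
    ∃ u ∈ W, u ∉ U ∧ u ∈ Subgroup.normalizer (U : Set H) := by
  have hnil : Group.IsNilpotent W := hW.isNilpotent
  have hcond : NormalizerCondition W := Group.normalizerCondition_of_isNilpotent
  have hlt : U.subgroupOf W < ⊤ := by
    refine lt_top_iff_ne_top.2 fun h => hne ?_
    rw [Subgroup.subgroupOf_eq_top] at h
    exact le_antisymm hU h
  obtain ⟨hle, x, hx, hxn⟩ := SetLike.lt_iff_le_and_exists.1 (hcond _ hlt)
  refine ⟨x, x.2, fun hxU => hxn ((Subgroup.mem_subgroupOf).2 hxU), ?_⟩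
  rw [Subgroup.mem_normalizer_iff]
  intro y
  by_cases hy : y ∈ W
  · have := (Subgroup.mem_normalizer_iff.1 hx) ⟨y, hy⟩
    simpa [Subgroup.mem_subgroupOf] using this
  · have h1 : y ∉ U := fun h => hy (hU h)
    have h2 : (x : H) * y * (x : H)⁻¹ ∉ U := by
      intro h
      apply hy
      have := W.mul_mem (W.mul_mem (W.inv_mem x.2) (hU h)) x.2
      simpa [mul_assoc] using this
    exact ⟨fun h => absurd h h1, fun h => absurd h h2⟩

theorem eq_of_le_of_card_le {X Y : Subgroup H} (h : X ≤ Y) (hc : Nat.card Y ≤ Nat.card X) : X = Y :=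
  Subgroup.eq_of_le_of_card_ge h hc

theorem card_lt_of_lt {X Y : Subgroup H} (h : X < Y) : Nat.card X < Nat.card Y := by
  refine lt_of_le_of_ne (Subgroup.card_le_of_le h.le) fun hc => h.ne ?_
  exact eq_of_le_of_card_le h.le hc.ge

theorem cj_eq_of_le {g : H} {X : Subgroup H} (h : cj g X ≤ X) : cj g X = X :=
  eq_of_le_of_card_le h (by rw [card_cj])

/-- `H` is `T`-minimal with maximal subgroup `M`. -/
structure TMin (T : Sylow p H) (M : Subgroup H) : Prop where
  gen : Subgroup.normalClosure ((T : Subgroup H) : Set H) = ⊤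
  coat : IsCoatom M
  le : (T : Subgroup H) ≤ M
  uniq : ∀ N, IsCoatom N → (T : Subgroup H) ≤ N → N = M

variable {T : Sylow p H} {M : Subgroup H}

theorem exists_cj_sylow (S S' : Sylow p H) : ∃ h : H, (S' : Subgroup H) = cj h S := by
  obtain ⟨h, hh⟩ := MulAction.exists_smul_eq H S S'
  refine ⟨h, ?_⟩
  rw [← hh, Sylow.coe_subgroup_smul]
  rfl

theorem TMin.pt_coatom (h : TMin T M) {K : Subgroup H} (hK : IsConj M K) : IsCoatom K := by
  obtain ⟨g, rfl⟩ := hK
  exact isCoatom_cj g h.coat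

theorem TMin.sylow_le_pt (h : TMin T M) (S : Sylow p H) : ∃ K, IsConj M K ∧ (S : Subgroup H) ≤ K := by
  obtain ⟨g, hg⟩ := exists_cj_sylow T S
  exact ⟨cj g M, ⟨g, rfl⟩, by rw [hg]; exact cj_mono h.le⟩

theorem TMin.uniq_coatom (h : TMin T M) (S : Sylow p H) {N N' : Subgroup H} (hN : IsCoatom N) (hN' : IsCoatom N')
    (hS : (S : Subgroup H) ≤ N) (hS' : (S : Subgroup H) ≤ N') : N = N' := by
  obtain ⟨g, hg⟩ := exists_cj_sylow T S
  have key : ∀ {N : Subgroup H}, IsCoatom N → (S : Subgroup H) ≤ N → N = cj g M := by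
    intro N hN hS
    have h1 : cj g⁻¹ N = M := by
      apply h.uniq _ (isCoatom_cj _ hN)
      have := cj_mono (g := g⁻¹) hS
      rwa [hg, cj_inv_cj] at this
    rw [← h1, cj_cj_inv]
  rw [key hN hS, key hN' hS']

theorem TMin.pgroup_le_pt (h : TMin T M) {R : Subgroup H} (hR : IsPGroup p R) : ∃ K, IsConj M K ∧ R ≤ K := by
  obtain ⟨S, hS⟩ := hR.exists_le_sylow
  obtain ⟨K, hK, hSK⟩ := h.sylow_le_pt S
  exact ⟨K, hK, hS.trans hSK⟩

theorem TMin.sylow_between (h : TMin T M) {R K : Subgroup H} (hR : IsPGroup p R) (hK : IsConj M K) (hRK : R ≤ K) :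
    ∃ S : Sylow p H, R ≤ S ∧ (S : Subgroup H) ≤ K := by
  obtain ⟨g, rfl⟩ := hK
  have hT' : IsPGroup p (cj g (T : Subgroup H)) := T.2.map _
  obtain ⟨T', hT'le⟩ := hT'.exists_le_sylow
  have hT'eq : cj g (T : Subgroup H) = T' := by
    apply eq_of_le_of_card_le hT'le
    rw [card_cj, Sylow.card_eq_multiplicity, Sylow.card_eq_multiplicity]
  have hT'K : (T' : Subgroup H) ≤ cj g M := by rw [← hT'eq]; exact cj_mono h.le
  obtain ⟨S₀, hS₀⟩ := (hR.comap_of_injective (cj g M).subtype (cj g M).subtype_injective).exists_le_sylow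
  have hX : IsPGroup p ((S₀ : Subgroup (cj g M)).map (cj g M).subtype) := S₀.2.map _
  obtain ⟨P, hP⟩ := hX.exists_le_sylow
  have hcard : Nat.card P ≤ Nat.card ((S₀ : Subgroup (cj g M)).map (cj g M).subtype) := by
    rw [Subgroup.card_map_of_injective (cj g M).subtype_injective]
    have h1 : Nat.card (S₀ : Subgroup (cj g M)) = Nat.card (T'.subtype hT'K : Subgroup (cj g M)) := by
      rw [Sylow.card_eq_multiplicity, Sylow.card_eq_multiplicity]
    have h2 : Nat.card (T'.subtype hT'K : Subgroup (cj g M)) = Nat.card T' := by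
      rw [Sylow.coe_subtype]
      exact Nat.card_congr (Subgroup.subgroupOfEquivOfLe hT'K).toEquiv
    rw [h1, h2, Sylow.card_eq_multiplicity, Sylow.card_eq_multiplicity]
  have hPeq := eq_of_le_of_card_le hP hcard
  refine ⟨P, ?_, ?_⟩
  · intro x hx
    apply hP
    exact ⟨⟨x, hRK hx⟩, hS₀ (by simpa [Subgroup.mem_subgroupOf] using hx), rfl⟩
  · rw [← hPeq]
    rintro _ ⟨y, -, rfl⟩
    exact y.2

theorem TMin.not_normal (h : TMin T M) {K : Subgroup H} (hK : IsConj M K) : ¬ K.Normal := by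
  intro hn
  obtain ⟨g, rfl⟩ := hK
  have hM : M.Normal := by
    have : cj g⁻¹ (cj g M) = cj g M := cj_normal _ hn
    rw [cj_inv_cj] at this
    rw [this]; exact hn
  have h1 := Subgroup.normalClosure_le_normal (s := ((T : Subgroup H) : Set H)) (N := M) (fun x hx => h.le hx)
  rw [h.gen] at h1
  exact h.coat.1 (top_le_iff.mp h1)

theorem TMin.mem_of_cj_eq (h : TMin T M) {K : Subgroup H} {l : H} (hK : IsConj M K) (hl : cj l K = K) : l ∈ K := by
  by_contra hlK
  have hc := h.pt_coatom hK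
  have hlt : K < Subgroup.normalizer (K : Set H) := by
    refine lt_of_le_of_ne Subgroup.le_normalizer fun he => hlK ?_
    rw [he]
    exact mem_normalizer_of_cj_eq hl
  have := hc.2 _ hlt
  exact h.not_normal hK (Subgroup.normalizer_eq_top_iff.mp this)

theorem TMin.exists_ne_pt (h : TMin T M) : ∃ K₁ K₂, IsConj M K₁ ∧ IsConj M K₂ ∧ K₁ ≠ K₂ := by
  by_contra hc
  apply h.not_normal (K := M) ⟨1, (cj_one M).symm⟩
  refine ⟨fun x hx g => ?_⟩
  have : cj g M = M := by
    by_contra hne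
    exact hc ⟨_, _, ⟨g, rfl⟩, ⟨1, (cj_one M).symm⟩, hne⟩
  rw [← this]
  exact conj_mem_cj hx

/-- Weak-closure step. -/
theorem exists_member_of_lt {A W R₀ : Subgroup H} (hW : IsPGroup p W) (hWw : wc p A W = W)
    (hR₀ : wc p A R₀ = R₀) (hQ : pCore p H ≤ R₀) (hlt : R₀ < W) :
    ∃ B, IsConj A B ∧ B ≤ W ∧ ¬ B ≤ R₀ ∧ B ≤ Subgroup.normalizer (R₀ : Set H) := by
  by_contra hcon
  have hno : ∀ B, IsConj A B → B ≤ W → B ≤ Subgroup.normalizer (R₀ : Set H) → B ≤ R₀ := by
    intro B hB hBW hBN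
    by_contra hBR
    exact hcon ⟨B, hB, hBW, hBR, hBN⟩
  have hR₀N : R₀ ≤ W ⊓ Subgroup.normalizer (R₀ : Set H) := le_inf hlt.le Subgroup.le_normalizer
  have hN₁ : W ⊓ Subgroup.normalizer (R₀ : Set H) = W := by
    by_contra hne
    obtain ⟨u, huW, huN, hun⟩ := exists_normalizing_of_ne hW inf_le_left hne
    apply huN
    refine ⟨huW, ?_⟩
    have h1 : cj u R₀ ≤ W ⊓ Subgroup.normalizer (R₀ : Set H) := by
      have := cj_mono (g := u) hR₀N
      rwa [cj_eq_of_mem_normalizer hun] at this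
    have h2 : cj u R₀ ≤ R₀ := by
      have h3 : cj u R₀ = wc p A (cj u R₀) := by
        conv_lhs => rw [← hR₀]
        exact cj_wc u A R₀
      rw [h3]
      refine wc_le hQ fun B hB hBle => hno B hB (hBle.trans (h1.trans inf_le_left)) (hBle.trans (h1.trans inf_le_right))
    exact mem_normalizer_of_cj_eq (cj_eq_of_le h2)
  have hWN : W ≤ Subgroup.normalizer (R₀ : Set H) := by
    rw [← hN₁]; exact inf_le_right
  have : W ≤ R₀ := by
    rw [← hWw]
    exact wc_le hQ fun B hB hBle => hno B hB hBle (hBle.trans hWN)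
  exact absurd this (not_le_of_gt hlt)

theorem TMin.conj_le_sylow (h : TMin T M) {A : Subgroup H} (hAT : A ≤ (T : Subgroup H)) (S : Sylow p H) :
    ∃ B, IsConj A B ∧ B ≤ S := by
  obtain ⟨g, hg⟩ := exists_cj_sylow T S
  exact ⟨cj g A, ⟨g, rfl⟩, by rw [hg]; exact cj_mono hAT⟩

theorem isConj_not_le_core {A B : Subgroup H} (hB : IsConj A B) (hA : ¬ A ≤ pCore p H) : ¬ B ≤ pCore p H := by
  obtain ⟨g, rfl⟩ := hB
  intro h
  apply hA
  have := cj_mono (g := g⁻¹) h
  rwa [cj_inv_cj, cj_normal _ pCore_normal'] at this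

theorem sylow_le_normalizer_wc {A : Subgroup H} (S : Sylow p H) :
    (S : Subgroup H) ≤ Subgroup.normalizer ((wc p A S : Subgroup H) : Set H) := by
  intro s hs
  apply mem_normalizer_of_cj_eq
  rw [cj_wc, cj_eq_self_of_mem hs]

/-- Above a subgroup in at least two conjugates of `M`. -/
theorem TMin.exists_member_above (h : TMin T M) {A : Subgroup H} (hAT : A ≤ (T : Subgroup H)) (hA : ¬ A ≤ pCore p H)
    {R₀ K K' : Subgroup H} (hR₀p : IsPGroup p R₀) (hQ : pCore p H ≤ R₀) (hR₀ : wc p A R₀ = R₀)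
    (hK : IsConj M K) (hK' : IsConj M K') (hne : K ≠ K') (hRK : R₀ ≤ K) (hRK' : R₀ ≤ K') :
    ∃ B, IsConj A B ∧ B ≤ K ∧ ¬ B ≤ R₀ ∧ B ≤ Subgroup.normalizer (R₀ : Set H) := by
  obtain ⟨S, hRS, hSK⟩ := h.sylow_between hR₀p hK hRK
  have hQS : pCore p H ≤ (S : Subgroup H) := hQ.trans hRS
  have hWle : wc p A (S : Subgroup H) ≤ S := wc_le_self hQS
  have hWp : IsPGroup p (wc p A (S : Subgroup H)) := S.2.to_le hWle
  have hRW : R₀ ≤ wc p A (S : Subgroup H) := by
    conv_lhs => rw [← hR₀]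
    exact wc_mono hRS
  have hRne : R₀ ≠ wc p A (S : Subgroup H) := by
    intro he
    obtain ⟨S', hRS', hSK'⟩ := h.sylow_between hR₀p hK' hRK'
    obtain ⟨l, hl⟩ := exists_cj_sylow S S'
    have hw' : wc p A (S' : Subgroup H) = cj l (wc p A (S : Subgroup H)) := by
      rw [hl, cj_wc]
    have hR' : R₀ = wc p A (S' : Subgroup H) := by
      apply eq_of_le_of_card_le
      · conv_lhs => rw [← hR₀]
        exact wc_mono hRS'
      · rw [hw', card_cj, ← he]
    have hN1 : (S : Subgroup H) ≤ Subgroup.normalizer (R₀ : Set H) := by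
      have := sylow_le_normalizer_wc (A := A) S
      rwa [← he] at this
    have hN2 : (S' : Subgroup H) ≤ Subgroup.normalizer (R₀ : Set H) := by
      have := sylow_le_normalizer_wc (A := A) S'
      rwa [← hR'] at this
    have htop : Subgroup.normalizer (R₀ : Set H) ≠ ⊤ := by
      intro ht
      have hn : R₀.Normal := Subgroup.normalizer_eq_top_iff.mp ht
      have hle : R₀ ≤ pCore p H := Cfsg.Agent.Lib.Basic.PCore.le_pCore hn hR₀p
      obtain ⟨B, hB, hBS⟩ := h.conj_le_sylow hAT S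
      apply isConj_not_le_core hB hA
      refine le_trans ?_ hle
      rw [he]
      exact member_le_wc hB hBS
    obtain ⟨N, hNc, hNle⟩ := (eq_top_or_exists_le_coatom (Subgroup.normalizer (R₀ : Set H))).resolve_left htop
    have e1 : N = K := h.uniq_coatom S hNc (h.pt_coatom hK) (hN1.trans hNle) hSK
    have e2 : N = K' := h.uniq_coatom S' hNc (h.pt_coatom hK') (hN2.trans hNle) hSK'
    exact hne (e1.symm.trans e2)
  obtain ⟨B, hB, hBW, hBR, hBN⟩ := exists_member_of_lt hWp (wc_wc hQS) hR₀ hQ (lt_of_le_of_ne hRW hRne)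
  exact ⟨B, hB, hBW.trans (hWle.trans hSK), hBR, hBN⟩

/-- The conclusion of the L-Lemma for a subgroup `A`. -/
def LConcl (p : ℕ) (M A : Subgroup H) : Prop :=
  ∃ L : Subgroup H, A ⊔ pCore p H ≤ L ∧ ∃ L₀ : Subgroup H, A ⊔ (pCoreOf p L) ≤ L₀ ∧ L₀ < L ∧
    (∀ X : Subgroup H, A ⊔ (pCoreOf p L) ≤ X → X < L → X ≤ L₀) ∧
    (∃ g : H, L₀ = L ⊓ cj g M) ∧
    ∀ x ∈ L, x ∉ L₀ → (A ⊔ cj x A) ⊔ (pCoreOf p L) = L

theorem LConcl.of_cj {A : Subgroup H} {y : H} (h : LConcl p M (cj y A)) : LConcl p M A := by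
  obtain ⟨L, hL, L₀, h1, h2, h3, ⟨g, hg⟩, h5⟩ := h
  have hAe : A = cj y⁻¹ (cj y A) := (cj_inv_cj y A).symm
  have hQe : pCore p H = cj y⁻¹ (pCore p H) := (cj_normal _ pCore_normal').symm
  have hcore : pCoreOf p (cj y⁻¹ L) = cj y⁻¹ (pCoreOf p L) := pCoreOf_cj _ _
  have hsup : A ⊔ pCoreOf p (cj y⁻¹ L) = cj y⁻¹ (cj y A ⊔ pCoreOf p L) := by
    rw [hcore, cj_sup, cj_inv_cj]
  refine ⟨cj y⁻¹ L, ?_, cj y⁻¹ L₀, ?_, ?_, ?_, ⟨y⁻¹ * g, ?_⟩, ?_⟩
  · have := cj_mono (g := y⁻¹) hL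
    rwa [cj_sup, cj_inv_cj, ← hQe] at this
  · rw [hsup]; exact cj_mono h1
  · exact lt_of_le_not_ge (cj_mono h2.le) fun hle => absurd (cj_le_cj.mp hle) (not_le_of_gt h2)
  · intro X hX hXL
    rw [hsup] at hX
    have hX1 : cj y A ⊔ pCoreOf p L ≤ cj y X := by
      have := cj_mono (g := y) hX
      rwa [← cj_mul, mul_inv_cancel, cj_one] at this
    have hX2 : cj y X < L := by
      refine lt_of_le_not_ge ?_ ?_
      · have := cj_mono (g := y) hXL.le
        rwa [← cj_mul, mul_inv_cancel, cj_one] at this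
      · intro hle
        have := cj_mono (g := y⁻¹) hle
        rw [cj_inv_cj] at this
        exact absurd this (not_le_of_gt hXL)
    have := cj_mono (g := y⁻¹) (h3 _ hX1 hX2)
    rwa [cj_inv_cj] at this
  · rw [hg, cj_inf, cj_mul]
  · intro x hx hx0
    have hx1 : y * x * y⁻¹ ∈ L := by
      have := mem_cj.mp hx
      simpa using this
    have hx2 : y * x * y⁻¹ ∉ L₀ := by
      intro hm
      apply hx0
      rw [mem_cj]
      simpa using hm
    have := h5 _ hx1 hx2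
    have h6 := congrArg (cj y⁻¹) this
    rw [cj_sup, cj_sup, cj_inv_cj, ← hcore] at h6
    have h7 : cj y⁻¹ (cj (y * x * y⁻¹) (cj y A)) = cj x A := by
      rw [← cj_mul, ← cj_mul]; congr 1; group
    rwa [h7] at h6

/-- **The L-Lemma** -/
theorem TMin.l_lemma (h : TMin T M) {A : Subgroup H} (hAT : A ≤ (T : Subgroup H)) (hA : ¬ A ≤ pCore p H) :
    LConcl p M A := by
  classical
  -- the family
  let F : Set (Subgroup H) := {R | IsPGroup p R ∧ pCore p H ≤ R ∧ wc p A R = R ∧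
    ∃ K₁ K₂, IsConj M K₁ ∧ IsConj M K₂ ∧ K₁ ≠ K₂ ∧ R ≤ K₁ ∧ R ≤ K₂}
  have hcore_wc : wc p A (pCore p H) = pCore p H := by
    apply le_antisymm (wc_le_self le_rfl)
    exact core_le_wc
  have hFne : F.Nonempty := by
    obtain ⟨K₁, K₂, h1, h2, hne⟩ := h.exists_ne_pt
    have hle : ∀ {K : Subgroup H}, IsConj M K → pCore p H ≤ K := by
      rintro K ⟨g, rfl⟩
      have h3 : pCore p H ≤ M := (Cfsg.Agent.Lib.Basic.PCore.pCore_le_sylow T).trans h.le
      have := cj_mono (g := g) h3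
      rwa [cj_normal _ pCore_normal'] at this
    exact ⟨pCore p H, Cfsg.Agent.Lib.Basic.PCore.pCore_isPGroup p, le_rfl, hcore_wc, K₁, K₂, h1, h2, hne,
      hle h1, hle h2⟩
  obtain ⟨R₀, hR₀F, hR₀max⟩ := Set.exists_max_image F (fun R => Nat.card R) (Set.toFinite _) hFne
  obtain ⟨hR₀p, hQ, hR₀w, K₁, K₂, hK₁, hK₂, hne, hRK₁, hRK₂⟩ := hR₀F
  obtain ⟨B₁, hB₁, hB₁K, hB₁R, hB₁N⟩ := h.exists_member_above hAT hA hR₀p hQ hR₀w hK₁ hK₂ hne hRK₁ hRK₂
  obtain ⟨B₂, hB₂, hB₂K, hB₂R, hB₂N⟩ := h.exists_member_above hAT hA hR₀p hQ hR₀w hK₂ hK₁ hne.symm hRK₂ hRK₁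
  have hBp : ∀ {B : Subgroup H}, IsConj A B → IsPGroup p B := by
    rintro B ⟨g, rfl⟩
    exact (T.2.to_le hAT).map _
  -- the two bigger subgroups have a unique conjugate of `M` above
  have huniq : ∀ {B K : Subgroup H}, IsConj A B → B ≤ Subgroup.normalizer (R₀ : Set H) → ¬ B ≤ R₀ → IsConj M K →
      R₀ ⊔ B ≤ K → ∀ K', IsConj M K' → R₀ ⊔ B ≤ K' → K' = K := by
    intro B K hB hBN hBR hK hle K' hK' hle'
    by_contra hne'
    have hmem : R₀ ⊔ B ∈ F := by
      refine ⟨isPGroup_sup_of_le_normalizer hR₀p (hBp hB) hBN, hQ.trans le_sup_left, ?_, K', K, hK', hK, hne', hle', hle⟩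
      apply le_antisymm (wc_le_self (hQ.trans le_sup_left))
      refine sup_le ?_ (member_le_wc hB le_sup_right)
      conv_lhs => rw [← hR₀w]
      exact wc_mono le_sup_left
    have hc := hR₀max _ hmem
    have hlt : R₀ < R₀ ⊔ B := lt_of_le_of_ne le_sup_left fun he => hBR (by rw [he]; exact le_sup_right)
    exact absurd (card_lt_of_lt hlt) (not_lt_of_ge hc)
  have hu₁ := huniq hB₁ hB₁N hB₁R hK₁ (sup_le hRK₁ hB₁K)
  have hu₂ := huniq hB₂ hB₂N hB₂R hK₂ (sup_le hRK₂ hB₂K)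
  -- the group `Y`
  set Y : Subgroup H := R₀ ⊔ B₁ ⊔ B₂ with hY
  have hYN : Y ≤ Subgroup.normalizer (R₀ : Set H) := sup_le (sup_le Subgroup.le_normalizer hB₁N) hB₂N
  have hR₀Y : R₀ ≤ Y := le_sup_left.trans le_sup_left
  have hB₁Y : B₁ ≤ Y := le_sup_right.trans le_sup_left
  have hB₂Y : B₂ ≤ Y := le_sup_right
  have hRcore : R₀ ≤ pCoreOf p Y := le_pCoreOf hR₀Y hR₀p hYN
  -- minimal subgroup
  let X : Set (Subgroup H) := {Z | B₁ ⊔ pCoreOf p Y ≤ Z ∧ Z ≤ Y ∧ ¬ Z ≤ K₁}
  have hXne : X.Nonempty := by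
    refine ⟨Y, sup_le hB₁Y pCoreOf_le, le_rfl, fun hle => hne ?_⟩
    exact (hu₂ K₁ hK₁ (sup_le hRK₁ (hB₂Y.trans hle))).symm ▸ rfl
  obtain ⟨L, hLX, hLmin⟩ := Set.exists_min_image X (fun Z => Nat.card Z) (Set.toFinite _) hXne
  obtain ⟨hL1, hLY, hLK⟩ := hLX
  have hcoreYL : pCoreOf p Y ≤ pCoreOf p L :=
    le_pCoreOf (le_sup_right.trans hL1) (isPGroup_pCoreOf Y) (hLY.trans le_normalizer_pCoreOf)
  have hB₁L : B₁ ≤ L := le_sup_left.trans hL1
  have hpL : IsPGroup p (B₁ ⊔ pCoreOf p L : Subgroup H) :=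
    (sup_comm B₁ (pCoreOf p L)) ▸ isPGroup_sup_of_le_normalizer (isPGroup_pCoreOf L) (hBp hB₁) (hB₁L.trans le_normalizer_pCoreOf)
  have hRle : R₀ ⊔ B₁ ≤ B₁ ⊔ pCoreOf p L :=
    sup_le ((hRcore.trans hcoreYL).trans le_sup_right) le_sup_left
  have huL : ∀ K', IsConj M K' → B₁ ⊔ pCoreOf p L ≤ K' → K' = K₁ := fun K' hK' hle => hu₁ K' hK' (hRle.trans hle)
  have hleK₁ : B₁ ⊔ pCoreOf p L ≤ K₁ := by
    obtain ⟨K, hK, hle⟩ := h.pgroup_le_pt hpL
    rw [← huL K hK hle]
    exact hle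
  obtain ⟨y, rfl⟩ := hB₁
  apply LConcl.of_cj (y := y)
  refine ⟨L, ?_, L ⊓ K₁, le_inf (sup_le hB₁L pCoreOf_le) hleK₁, ?_, ?_, ?_, ?_⟩
  · exact sup_le hB₁L (hQ.trans ((hRcore.trans hcoreYL).trans pCoreOf_le))
  · exact lt_of_le_of_ne inf_le_left fun he => hLK (by rw [← he]; exact inf_le_right)
  · intro Z hZ hZL
    refine le_inf hZL.le ?_
    by_contra hZK
    have hmem : Z ∈ X := ⟨(sup_le_sup_left hcoreYL _).trans hZ, hZL.le.trans hLY, hZK⟩
    exact absurd (card_lt_of_lt hZL) (not_lt_of_ge (hLmin _ hmem))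
  · obtain ⟨g, rfl⟩ := hK₁
    exact ⟨g, rfl⟩
  · intro x hx hx0
    by_contra hne2
    have hle : cj y A ⊔ cj x (cj y A) ⊔ pCoreOf p L ≤ L :=
      sup_le (sup_le hB₁L (by
        intro z hz
        rw [mem_cj] at hz
        have := L.mul_mem (L.mul_mem hx (hB₁L hz)) (L.inv_mem hx)
        simpa [mul_assoc] using this)) pCoreOf_le
    have hlt := lt_of_le_of_ne hle hne2
    have hmem : cj y A ⊔ cj x (cj y A) ⊔ pCoreOf p L ≤ K₁ := by
      by_contra hnk
      have hmem : cj y A ⊔ cj x (cj y A) ⊔ pCoreOf p L ∈ X := by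
        refine ⟨?_, hle.trans hLY, hnk⟩
        exact sup_le (le_sup_left.trans le_sup_left) (hcoreYL.trans le_sup_right)
      exact absurd (card_lt_of_lt hlt) (not_lt_of_ge (hLmin _ hmem))
    have h1 : cj x (cj y A) ≤ K₁ := (le_sup_right.trans le_sup_left).trans hmem
    have h2 : pCoreOf p L ≤ K₁ := le_sup_right.trans hmem
    have h3 : cj y A ⊔ pCoreOf p L ≤ cj x⁻¹ K₁ := by
      refine sup_le ?_ ?_
      · have := cj_mono (g := x⁻¹) h1
        rwa [cj_inv_cj] at this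
      · have h4 := cj_mono (g := x⁻¹) h2
        rwa [cj_eq_of_mem_normalizer (le_normalizer_pCoreOf (L.inv_mem hx))] at h4
    have h5 : cj x⁻¹ K₁ = K₁ := huL _ (by
      obtain ⟨g, rfl⟩ := hK₁
      exact ⟨x⁻¹ * g, (cj_mul _ _ _).symm⟩) h3
    have h6 : x⁻¹ ∈ K₁ := h.mem_of_cj_eq hK₁ h5
    have h7 : x ∈ K₁ := by simpa using K₁.inv_mem h6
    exact hx0 ⟨hx, h7⟩

end Main

end Cfsg.Agent.Lib.PGroup.LLemma
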