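import Mathlib
import Cfsg.Prelude.Def_Transfer
import Cfsg.Prelude.Def_Solvable
import Cfsg.Agent.Lib.Basic.PCore
import Cfsg.Agent.Lib.PGroup.Basic
import Cfsg.Agent.Lib.PGroup.Extraspecial

/-!
# Large extraspecial `2`-subgroups

`o2c x` is the image in `G` of `O₂(C(x))`.  The setting: `z` is an involution, `o2c z` is
extraspecial and contains its centralizer in `G`.  We prove that orthogonality of conjugates of `z`
is symmetric, and record the elements which realize the action on `⟨a, z⟩`.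
-/

namespace Cfsg.Agent.Lib.PGroup.LargeExtraspecial

open Subgroup
open scoped commutatorElement

variable {G : Type*} [Group G]

/-- The image in `G` of `O₂(C(x))`. -/
def o2c (x : G) : Subgroup G :=
  (Cfsg.pCore 2 ↥(centralizer ({x} : Set G))).map (centralizer ({x} : Set G)).subtype

theorem o2c_le_centralizer (x : G) : o2c x ≤ centralizer ({x} : Set G) := map_subtype_le _

theorem comm_of_mem_o2c {x y : G} (hy : y ∈ o2c x) : y * x = x * y :=
  mem_centralizer_singleton_iff.mp (o2c_le_centralizer x hy)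

section Finite

variable [Finite G]

theorem o2c_isPGroup (x : G) : IsPGroup 2 (o2c x) := by
  haveI : Fact (Nat.Prime 2) := ⟨Nat.prime_two⟩
  exact (Cfsg.Agent.Lib.Basic.PCore.pCore_isPGroup 2).map _

theorem conj_mem_o2c_of_mem_centralizer {x y c : G} (hy : y ∈ o2c x)
    (hc : c ∈ centralizer ({x} : Set G)) : c * y * c⁻¹ ∈ o2c x := by
  obtain ⟨y', hy', rfl⟩ := hy
  refine ⟨⟨c, hc⟩ * y' * ⟨c, hc⟩⁻¹, ?_, by simp⟩
  exact (Cfsg.Agent.Lib.Basic.PCore.pCore_normal 2 _).conj_mem y' hy' ⟨c, hc⟩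

/-- A `2`-subgroup of `C(x)` normalized by `C(x)` lies in `o2c x`. -/
theorem le_o2c {x : G} {K : Subgroup G} (hK : K ≤ centralizer ({x} : Set G)) (hp : IsPGroup 2 K)
    (hn : ∀ c ∈ centralizer ({x} : Set G), ∀ y ∈ K, c * y * c⁻¹ ∈ K) : K ≤ o2c x := by
  intro y hy
  have hN : (K.subgroupOf (centralizer ({x} : Set G))).Normal := by
    refine ⟨fun n hn' c => ?_⟩
    rw [mem_subgroupOf] at hn' ⊢
    simpa using hn c c.2 n hn'
  have hP : IsPGroup 2 ↥(K.subgroupOf (centralizer ({x} : Set G))) :=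
    hp.comap_subtype
  have := Cfsg.Agent.Lib.Basic.PCore.le_pCore hN hP
  exact ⟨⟨y, hK hy⟩, this (by rw [mem_subgroupOf]; exact hy), rfl⟩

theorem conj_mem_centralizer {x c : G} (h : G) (hc : c ∈ centralizer ({x} : Set G)) :
    h * c * h⁻¹ ∈ centralizer ({h * x * h⁻¹} : Set G) := by
  rw [mem_centralizer_singleton_iff] at hc ⊢
  calc h * c * h⁻¹ * (h * x * h⁻¹) = h * (c * x) * h⁻¹ := by group
    _ = h * (x * c) * h⁻¹ := by rw [hc]
    _ = h * x * h⁻¹ * (h * c * h⁻¹) := by group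

/-- Conjugation transports `o2c`. -/
theorem conj_mem_o2c {x y : G} (hy : y ∈ o2c x) (h : G) : h * y * h⁻¹ ∈ o2c (h * x * h⁻¹) := by
  have key : (o2c x).map (MulAut.conj h).toMonoidHom ≤ o2c (h * x * h⁻¹) := by
    apply le_o2c
    · rintro _ ⟨y, hy, rfl⟩
      simpa using conj_mem_centralizer h (o2c_le_centralizer x hy)
    · exact (o2c_isPGroup x).map _
    · rintro c hc _ ⟨y, hy, rfl⟩
      have hc' : h⁻¹ * c * h ∈ centralizer ({x} : Set G) := by
        have := conj_mem_centralizer h⁻¹ hc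
        simpa [mul_assoc] using this
      refine ⟨(h⁻¹ * c * h) * y * (h⁻¹ * c * h)⁻¹, conj_mem_o2c_of_mem_centralizer hy hc', ?_⟩
      simp [mul_assoc]
  exact key ⟨y, hy, rfl⟩

/-! ## Maximal `p`-subgroups -/

theorem exists_maximal_pGroup {p : ℕ} {K H : Subgroup G} (hHK : H ≤ K) (hH : IsPGroup p H) :
    ∃ P : Subgroup G, H ≤ P ∧ P ≤ K ∧ IsPGroup p P ∧
      ∀ P' : Subgroup G, P ≤ P' → P' ≤ K → IsPGroup p P' → P' ≤ P := by
  obtain ⟨P, hHP, hP⟩ := (Set.toFinite {P : Subgroup G | P ≤ K ∧ IsPGroup p P}).exists_le_maximal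
    (show H ∈ {P : Subgroup G | P ≤ K ∧ IsPGroup p P} from ⟨hHK, hH⟩)
  exact ⟨P, hHP, hP.1.1, hP.1.2, fun P' hP' hK' hp' => hP.2 ⟨hK', hp'⟩ hP'⟩

theorem le_normalizer_of_forall {H N : Subgroup G} (h : ∀ c ∈ H, ∀ y ∈ N, c * y * c⁻¹ ∈ N) :
    H ≤ normalizer (N : Set G) := by
  intro c hc
  rw [mem_normalizer_iff]
  intro y
  refine ⟨h c hc y, fun hy => ?_⟩
  have := h c⁻¹ (inv_mem hc) _ hy
  simpa [mul_assoc] using this

theorem le_of_maximal_of_normalized {p : ℕ} [Fact p.Prime] {K P N : Subgroup G}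
    (hP : IsPGroup p P) (hPK : P ≤ K)
    (hmax : ∀ P' : Subgroup G, P ≤ P' → P' ≤ K → IsPGroup p P' → P' ≤ P)
    (hNK : N ≤ K) (hN : IsPGroup p N) (hn : ∀ c ∈ P, ∀ y ∈ N, c * y * c⁻¹ ∈ N) : N ≤ P := by
  have hs : IsPGroup p ↥(P ⊔ N) := hP.to_sup_of_normal_right' hN (le_normalizer_of_forall hn)
  exact le_sup_right.trans (hmax _ le_sup_left (sup_le hPK hNK) hs)

theorem exists_gt_of_card_lt {p : ℕ} [Fact p.Prime] {K T R : Subgroup G} (hTK : T ≤ K) (hRK : R ≤ K)
    (hT : IsPGroup p T) (hR : IsPGroup p R) (hcard : Nat.card T < Nat.card R) :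
    ∃ P : Subgroup G, T < P ∧ P ≤ K ∧ IsPGroup p P := by
  have hT' : IsPGroup p ↥(T.subgroupOf K) := hT.comap_subtype
  have hR' : IsPGroup p ↥(R.subgroupOf K) := hR.comap_subtype
  obtain ⟨P₀, hP₀⟩ := hT'.exists_le_sylow
  obtain ⟨P₁, hP₁⟩ := hR'.exists_le_sylow
  have hcT : Nat.card ↥(T.subgroupOf K) = Nat.card T :=
    Nat.card_congr (subgroupOfEquivOfLe hTK).toEquiv
  have hcR : Nat.card ↥(R.subgroupOf K) = Nat.card R :=
    Nat.card_congr (subgroupOfEquivOfLe hRK).toEquiv
  have hc01 : Nat.card ↥(P₀ : Subgroup K) = Nat.card ↥(P₁ : Subgroup K) :=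
    Nat.card_congr (P₀.equiv P₁).toEquiv
  have hc1 : Nat.card ↥(R.subgroupOf K) ≤ Nat.card ↥(P₁ : Subgroup K) :=
    Subgroup.card_le_of_le hP₁
  refine ⟨(P₀ : Subgroup K).map K.subtype, ?_, map_subtype_le _, P₀.isPGroup'.map _⟩
  have hle : T ≤ (P₀ : Subgroup K).map K.subtype := by
    intro t ht
    exact ⟨⟨t, hTK ht⟩, hP₀ (by rw [mem_subgroupOf]; exact ht), rfl⟩
  refine lt_of_le_of_ne hle ?_
  intro heq
  have hcm : Nat.card ↥((P₀ : Subgroup K).map K.subtype) = Nat.card ↥(P₀ : Subgroup K) :=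
    Nat.card_congr ((P₀ : Subgroup K).equivMapOfInjective K.subtype K.subtype_injective).symm.toEquiv
  rw [← heq] at hcm
  omega

end Finite

/-! ## The abstract facts -/

/-- The facts about a large extraspecial subgroup `Q` with centre `⟨z⟩` used below. -/
structure Large (Q : Subgroup G) (z : G) : Prop where
  z_mem : z ∈ Q
  z_sq : z * z = 1
  z_ne : z ≠ 1
  z_comm : ∀ x ∈ Q, x * z = z * x
  center : ∀ y ∈ Q, (∀ x ∈ Q, x * y = y * x) → y = 1 ∨ y = z
  comm : ∀ x ∈ Q, ∀ y ∈ Q, x * y = y * x ∨ x * y = z * (y * x)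
  sq : ∀ x ∈ Q, x * x = 1 ∨ x * x = z
  self : ∀ c : G, (∀ x ∈ Q, c * x = x * c) → c ∈ Q

theorem large_of [Finite G] {z : G} (hz : orderOf z = 2) (hE : Cfsg.IsExtraspecial 2 ↥(o2c z))
    (hC : centralizer ((o2c z : Subgroup G) : Set G) ≤ o2c z) : Large (o2c z) z := by
  have hp : Fact (Nat.Prime 2) := ⟨Nat.prime_two⟩
  have hzsq : z * z = 1 := by
    rw [← pow_two, ← hz, pow_orderOf_eq_one]
  have hzne : z ≠ 1 := by
    rintro rfl
    simp at hz
  have hzc : ∀ x ∈ o2c z, x * z = z * x := fun x hx => comm_of_mem_o2c hx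
  have hself : ∀ c : G, (∀ x ∈ o2c z, c * x = x * c) → c ∈ o2c z := by
    intro c hc
    apply hC
    rw [mem_centralizer_iff]
    intro x hx
    exact (hc x hx).symm
  have hzm : z ∈ o2c z := hself z (fun x hx => (hzc x hx).symm)
  have hcen : ∀ y ∈ o2c z, (∀ x ∈ o2c z, x * y = y * x) → y = 1 ∨ y = z := by
    intro y hy hyc
    by_contra hcon
    push Not at hcon
    have hZ := hE.2
    have hyz : (⟨y, hy⟩ : ↥(o2c z)) ∈ center ↥(o2c z) := by
      rw [mem_center_iff]
      rintro ⟨x, hx⟩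
      exact Subtype.ext (hyc x hx)
    have hzz : (⟨z, hzm⟩ : ↥(o2c z)) ∈ center ↥(o2c z) := by
      rw [mem_center_iff]
      rintro ⟨x, hx⟩
      exact Subtype.ext (hzc x hx)
    obtain ⟨t, -, ht⟩ := (Nat.card_eq_two_iff' (1 : center ↥(o2c z))).mp hZ
    have h1 := ht ⟨⟨y, hy⟩, hyz⟩ (by
      intro h
      exact hcon.1 (congrArg (fun v : center ↥(o2c z) => ((v : ↥(o2c z)) : G)) h))
    have h2 := ht ⟨⟨z, hzm⟩, hzz⟩ (by
      intro h
      exact hzne (congrArg (fun v : center ↥(o2c z) => ((v : ↥(o2c z)) : G)) h))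
    have := congrArg (fun v : center ↥(o2c z) => ((v : ↥(o2c z)) : G)) (h1.trans h2.symm)
    exact hcon.2 this
  have hcomm : ∀ x ∈ o2c z, ∀ y ∈ o2c z, x * y = y * x ∨ x * y = z * (y * x) := by
    intro x hx y hy
    have h1 := Extraspecial.IsExtraspecial.comm_mem_center hE ⟨x, hx⟩ ⟨y, hy⟩
    have h2 : ((⁅(⟨x, hx⟩ : ↥(o2c z)), (⟨y, hy⟩ : ↥(o2c z))⁆ : ↥(o2c z)) : G) = ⁅x, y⁆ := rfl
    have h3 : ⁅x, y⁆ ∈ o2c z := mul_mem (mul_mem (mul_mem hx hy) (inv_mem hx)) (inv_mem hy)
    have h4 := hcen ⁅x, y⁆ h3 (by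
      intro v hv
      have := mem_center_iff.mp h1 ⟨v, hv⟩
      exact congrArg (fun t : ↥(o2c z) => (t : G)) this)
    rcases h4 with h4 | h4
    · left
      exact commutatorElement_eq_one_iff_mul_comm.mp h4
    · right
      rw [← h4, commutatorElement_def]
      group
  have hsq : ∀ x ∈ o2c z, x * x = 1 ∨ x * x = z := by
    intro x hx
    have h1 := Extraspecial.IsExtraspecial.pow_mem_center hE ⟨x, hx⟩
    apply hcen (x * x) (mul_mem hx hx)
    intro v hv
    have := mem_center_iff.mp h1 ⟨v, hv⟩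
    have h2 := congrArg (fun t : ↥(o2c z) => (t : G)) this
    simpa [pow_two] using h2
  exact ⟨hzm, hzsq, hzne, hzc, hcen, hcomm, hsq, hself⟩

namespace Large

variable {Q : Subgroup G} {z a u : G}

theorem exists_noncomm (L : Large Q z) (ha : a ∈ Q) (h1 : a ≠ 1) (hz : a ≠ z) :
    ∃ u ∈ Q, u * a = z * (a * u) := by
  by_contra hcon
  push Not at hcon
  rcases L.center a ha (fun x hx => ((L.comm x hx a ha).resolve_right (hcon x hx))) with h | h
  · exact h1 h
  · exact hz h

theorem inv_mul_of_comm (L : Large Q z) (hu : u ∈ Q) (hua : u * a = z * (a * u)) :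
    u⁻¹ * a = z * (a * u⁻¹) := by
  have hz := L.z_comm u hu
  rw [inv_mul_eq_iff_eq_mul]
  calc a = (z * z) * a := by rw [L.z_sq, one_mul]
    _ = z * (z * (a * u)) * u⁻¹ := by group
    _ = z * (u * a) * u⁻¹ := by rw [hua]
    _ = (z * u) * (a * u⁻¹) := by group
    _ = u * (z * (a * u⁻¹)) := by rw [← hz]; group

/-- `F`: an element commuting with `u` and with `C_Q(a)` is central. -/
theorem eq_of_comm (L : Large Q z) (ha : a ∈ Q) (hu : u ∈ Q) (hua : u * a = z * (a * u)) {c : G}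
    (hcA : ∀ b ∈ Q, b * a = a * b → c * b = b * c) (hcu : c * u = u * c) : c = 1 ∨ c = z := by
  have hall : ∀ y ∈ Q, c * y = y * c := by
    intro y hy
    rcases L.comm y hy a ha with h | h
    · exact hcA y hy h
    · have hb : y * u⁻¹ ∈ Q := mul_mem hy (inv_mem hu)
      have hba : (y * u⁻¹) * a = a * (y * u⁻¹) := by
        have h1 := inv_mul_of_comm L hu hua
        have hzy := L.z_comm y hy
        calc (y * u⁻¹) * a = y * (u⁻¹ * a) := by group
          _ = y * (z * (a * u⁻¹)) := by rw [h1]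
          _ = (y * z) * (a * u⁻¹) := by group
          _ = z * (y * a) * u⁻¹ := by rw [hzy]; group
          _ = z * (z * (a * y)) * u⁻¹ := by rw [h]
          _ = (z * z) * (a * y) * u⁻¹ := by group
          _ = a * (y * u⁻¹) := by rw [L.z_sq]; group
      have h3 := hcA _ hb hba
      calc c * y = c * (y * u⁻¹) * u := by group
        _ = (y * u⁻¹) * c * u := by rw [h3]
        _ = (y * u⁻¹) * (c * u) := by group
        _ = (y * u⁻¹) * (u * c) := by rw [hcu]
        _ = y * c := by group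
  have hc : c ∈ Q := L.self c hall
  exact L.center c hc (fun x hx => (hall x hx).symm)

/-- `G`: the centralizer in `Q` of `C_Q(a)` is `⟨a, z⟩`. -/
theorem eq_of_comm_of_mem (L : Large Q z) (ha : a ∈ Q) (ha2 : a * a = 1) (hu : u ∈ Q)
    (hua : u * a = z * (a * u)) {m : G} (hm : m ∈ Q)
    (hmA : ∀ b ∈ Q, b * a = a * b → m * b = b * m) :
    m = 1 ∨ m = z ∨ m = a ∨ m = a * z := by
  rcases L.comm m hm u hu with h | h
  · rcases eq_of_comm L ha hu hua hmA h with h1 | h1
    · exact Or.inl h1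
    · exact Or.inr (Or.inl h1)
  · have hzu := L.z_comm u hu
    have hzm := L.z_comm m hm
    have hza := L.z_comm a ha
    have hau : a * u = z * (u * a) := by
      rw [hua, ← mul_assoc z z, L.z_sq, one_mul]
    have hma : (m * a) * u = u * (m * a) := by
      calc (m * a) * u = m * (a * u) := by group
        _ = m * (z * (u * a)) := by rw [hau]
        _ = (m * z) * (u * a) := by group
        _ = z * (m * u) * a := by rw [hzm]; group
        _ = z * (z * (u * m)) * a := by rw [h]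
        _ = (z * z) * (u * m) * a := by group
        _ = u * (m * a) := by rw [L.z_sq]; group
    have hmaA : ∀ b ∈ Q, b * a = a * b → (m * a) * b = b * (m * a) := by
      intro b hb hba
      calc (m * a) * b = m * (a * b) := by group
        _ = m * (b * a) := by rw [hba]
        _ = (m * b) * a := by group
        _ = (b * m) * a := by rw [hmA b hb hba]
        _ = b * (m * a) := by group
    rcases eq_of_comm L ha hu hua hmaA hma with h1 | h1
    · right; right; left
      calc m = m * (a * a) := by rw [ha2, mul_one]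
        _ = (m * a) * a := by group
        _ = a := by rw [h1, one_mul]
    · right; right; right
      calc m = m * (a * a) := by rw [ha2, mul_one]
        _ = (m * a) * a := by group
        _ = z * a := by rw [h1]
        _ = a * z := hza.symm

/-- `H`: an element of `C(z)`, normalizing `Q` and centralizing `C_Q(a)`, lies in `⟨a, z⟩`. -/
theorem eq_of_comm_of_normalizes (L : Large Q z) (ha : a ∈ Q) (ha2 : a * a = 1) (hu : u ∈ Q)
    (hua : u * a = z * (a * u)) {c : G} (hcz : c * z = z * c)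
    (hcQ : ∀ y ∈ Q, c * y * c⁻¹ ∈ Q) (hcA : ∀ b ∈ Q, b * a = a * b → c * b = b * c) :
    c = 1 ∨ c = z ∨ c = a ∨ c = a * z := by
  have hzu := L.z_comm u hu
  have hza := L.z_comm a ha
  have hcu : c * u * c⁻¹ ∈ Q := hcQ u hu
  have hzcu := L.z_comm _ hcu
  have hm : c * u * c⁻¹ * u⁻¹ ∈ Q := mul_mem hcu (inv_mem hu)
  have hmA : ∀ b ∈ Q, b * a = a * b →
      (c * u * c⁻¹ * u⁻¹) * b = b * (c * u * c⁻¹ * u⁻¹) := by
    intro b hb hba
    have hcb := hcA b hb hba
    have hcb' : c⁻¹ * b = b * c⁻¹ := (show Commute c b from hcb).inv_left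
    have hzb := L.z_comm b hb
    rcases L.comm u hu b hb with h | h
    · have hinv : u⁻¹ * b = b * u⁻¹ := (show Commute u b from h).inv_left
      calc (c * u * c⁻¹ * u⁻¹) * b = c * u * c⁻¹ * (u⁻¹ * b) := by group
        _ = c * u * c⁻¹ * (b * u⁻¹) := by rw [hinv]
        _ = c * u * (c⁻¹ * b) * u⁻¹ := by group
        _ = c * u * (b * c⁻¹) * u⁻¹ := by rw [hcb']
        _ = c * (u * b) * c⁻¹ * u⁻¹ := by group
        _ = c * (b * u) * c⁻¹ * u⁻¹ := by rw [h]
        _ = (c * b) * u * c⁻¹ * u⁻¹ := by group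
        _ = (b * c) * u * c⁻¹ * u⁻¹ := by rw [hcb]
        _ = b * (c * u * c⁻¹ * u⁻¹) := by group
    · have hinv : u⁻¹ * b = z * (b * u⁻¹) := inv_mul_of_comm L hu h
      calc (c * u * c⁻¹ * u⁻¹) * b = c * u * c⁻¹ * (u⁻¹ * b) := by group
        _ = c * u * c⁻¹ * (z * (b * u⁻¹)) := by rw [hinv]
        _ = (c * u * c⁻¹ * z) * (b * u⁻¹) := by group
        _ = z * (c * u * c⁻¹) * (b * u⁻¹) := by rw [hzcu]
        _ = z * c * u * (c⁻¹ * b) * u⁻¹ := by group
        _ = z * c * u * (b * c⁻¹) * u⁻¹ := by rw [hcb']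
        _ = z * c * (u * b) * c⁻¹ * u⁻¹ := by group
        _ = z * c * (z * (b * u)) * c⁻¹ * u⁻¹ := by rw [h]
        _ = (z * (c * z)) * b * u * c⁻¹ * u⁻¹ := by group
        _ = (z * (z * c)) * b * u * c⁻¹ * u⁻¹ := by rw [hcz]
        _ = (z * z) * (c * b) * u * c⁻¹ * u⁻¹ := by group
        _ = (c * b) * u * c⁻¹ * u⁻¹ := by rw [L.z_sq, one_mul]
        _ = (b * c) * u * c⁻¹ * u⁻¹ := by rw [hcb]
        _ = b * (c * u * c⁻¹ * u⁻¹) := by group
  have hsq : (c * u * c⁻¹) * (c * u * c⁻¹) = u * u := by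
    have h1 : (c * u * c⁻¹) * (c * u * c⁻¹) = c * (u * u) * c⁻¹ := by group
    rw [h1]
    rcases L.sq u hu with h | h
    · rw [h]; group
    · rw [h, hcz]; group
  have hmeq : ∀ m : G, c * u * c⁻¹ * u⁻¹ = m → c * u * c⁻¹ = m * u := by
    intro m hm
    rw [← hm]; group
  have haua : (a * u) * (a * u) = z * (u * u) := by
    calc (a * u) * (a * u) = a * (u * a) * u := by group
      _ = a * (z * (a * u)) * u := by rw [hua]
      _ = (a * z) * (a * u) * u := by group
      _ = (z * a) * (a * u) * u := by rw [hza]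
      _ = z * (a * a) * (u * u) := by group
      _ = z * (u * u) := by rw [ha2]; group
  have hne : z * (u * u) ≠ u * u := by
    intro h
    exact L.z_ne (by simpa using h)
  rcases eq_of_comm_of_mem L ha ha2 hu hua hm hmA with h | h | h | h
  · -- `m = 1`
    have h1 : c * u = u * c := by
      have := hmeq 1 h
      rw [one_mul] at this
      calc c * u = c * u * c⁻¹ * c := by group
        _ = u * c := by rw [this]
    rcases eq_of_comm L ha hu hua hcA h1 with h2 | h2
    · exact Or.inl h2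
    · exact Or.inr (Or.inl h2)
  · -- `m = z`
    have h1 : c * u = z * (u * c) := by
      have := hmeq z h
      calc c * u = c * u * c⁻¹ * c := by group
        _ = z * (u * c) := by rw [this]; group
    have hau : a * u = z * (u * a) := by
      rw [hua, ← mul_assoc z z, L.z_sq, one_mul]
    have hca : (c * a) * u = u * (c * a) := by
      calc (c * a) * u = c * (a * u) := by group
        _ = c * (z * (u * a)) := by rw [hau]
        _ = (c * z) * (u * a) := by group
        _ = z * (c * u) * a := by rw [hcz]; group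
        _ = z * (z * (u * c)) * a := by rw [h1]
        _ = (z * z) * (u * c) * a := by group
        _ = u * (c * a) := by rw [L.z_sq]; group
    have hcaA : ∀ b ∈ Q, b * a = a * b → (c * a) * b = b * (c * a) := by
      intro b hb hba
      calc (c * a) * b = c * (a * b) := by group
        _ = c * (b * a) := by rw [hba]
        _ = (c * b) * a := by group
        _ = (b * c) * a := by rw [hcA b hb hba]
        _ = b * (c * a) := by group
    rcases eq_of_comm L ha hu hua hcaA hca with h2 | h2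
    · right; right; left
      calc c = c * (a * a) := by rw [ha2, mul_one]
        _ = (c * a) * a := by group
        _ = a := by rw [h2, one_mul]
    · right; right; right
      calc c = c * (a * a) := by rw [ha2, mul_one]
        _ = (c * a) * a := by group
        _ = z * a := by rw [h2]
        _ = a * z := hza.symm
  · -- `m = a`
    exfalso
    apply hne
    rw [← haua, ← hsq, hmeq a h]
  · -- `m = a z`
    exfalso
    apply hne
    rw [← haua, ← hsq, hmeq (a * z) h]
    symm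
    calc (a * z * u) * (a * z * u) = (a * (z * u)) * (a * (z * u)) := by group
      _ = (a * (u * z)) * (a * (u * z)) := by rw [hzu]
      _ = (a * u) * (z * a) * u * z := by group
      _ = (a * u) * (a * z) * u * z := by rw [hza]
      _ = (a * u) * a * (z * u) * z := by group
      _ = (a * u) * a * (u * z) * z := by rw [hzu]
      _ = (a * u) * (a * u) * (z * z) := by group
      _ = (a * u) * (a * u) := by rw [L.z_sq, mul_one]

end Large

/-! ## The main argument -/

section Main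

variable [Finite G]

/-- Let `a` be a conjugate of `z` in `Q_z`, not equal to `z`.  Then there are `u ∈ Q_z` with
`u a u⁻¹ = z a` and `w ∈ C(a)` with `w z w⁻¹ = a z`. -/
theorem exists_u_w {z a g : G} (L : Large (o2c z) z) (hg : g * z * g⁻¹ = a) (ha : a ∈ o2c z)
    (haz : a ≠ z) :
    ∃ u ∈ o2c z, ∃ w : G, u * a = z * (a * u) ∧ w * a = a * w ∧ w * z * w⁻¹ = a * z := by
  have hp : Fact (Nat.Prime 2) := ⟨Nat.prime_two⟩
  have ha1 : a ≠ 1 := by
    rintro rfl
    apply L.z_ne
    have : g * z * g⁻¹ * g = g := by rw [hg, one_mul]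
    simpa using this
  have ha2 : a * a = 1 := by
    rw [← hg]
    calc g * z * g⁻¹ * (g * z * g⁻¹) = g * (z * z) * g⁻¹ := by group
      _ = 1 := by rw [L.z_sq]; group
  obtain ⟨u, hu, hua⟩ := L.exists_noncomm ha ha1 haz
  -- the subgroups
  set Cz := centralizer ({z} : Set G) with hCz
  set Ca := centralizer ({a} : Set G) with hCa
  set A := o2c z ⊓ Ca with hA
  have hACzCa : A ≤ Ca ⊓ Cz := by
    refine le_inf inf_le_right (inf_le_left.trans (o2c_le_centralizer z))
  have hAp : IsPGroup 2 A := (o2c_isPGroup z).to_le inf_le_left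
  obtain ⟨T₀, hAT₀, hT₀K, hT₀p, hT₀max⟩ := exists_maximal_pGroup hACzCa hAp
  obtain ⟨T, hT₀T, hTK, hTp, hTmax⟩ :=
    exists_maximal_pGroup (hT₀K.trans (inf_le_right : Ca ⊓ Cz ≤ Cz)) hT₀p
  have hQT : o2c z ≤ T := le_of_maximal_of_normalized hTp hTK hTmax (o2c_le_centralizer z)
    (o2c_isPGroup z) (fun c hc y hy => conj_mem_o2c_of_mem_centralizer hy (hTK hc))
  have hAT₀' : ∀ b ∈ o2c z, b * a = a * b → b ∈ T₀ := by
    intro b hb hba
    exact hAT₀ ⟨hb, mem_centralizer_singleton_iff.mpr hba⟩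
  have huT₀ : u ∉ T₀ := by
    intro h
    have h1 : u * a = a * u := mem_centralizer_singleton_iff.mp (mem_inf.mp (hT₀K h)).1
    rw [h1] at hua
    exact L.z_ne (by simpa using hua.symm)
  have hltT : T₀ < T := lt_of_le_of_ne hT₀T (fun h => huT₀ (h ▸ hQT hu))
  have hcardT : Nat.card T₀ < Nat.card T :=
    lt_of_le_of_ne (Subgroup.card_le_of_le hT₀T)
      (fun h => hltT.ne (Subgroup.eq_of_le_of_card_ge hT₀T h.ge))
  -- the conjugate of `T` in `C(a)`
  have hRK : T.map (MulAut.conj g).toMonoidHom ≤ Ca := by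
    rintro _ ⟨t, ht, rfl⟩
    have := conj_mem_centralizer g (hTK ht)
    rw [hg] at this
    simpa using this
  have hRp : IsPGroup 2 ↥(T.map (MulAut.conj g).toMonoidHom) := hTp.map _
  have hRc : Nat.card ↥(T.map (MulAut.conj g).toMonoidHom) = Nat.card T :=
    Nat.card_congr (T.equivMapOfInjective _ (MulAut.conj g).injective).symm.toEquiv
  obtain ⟨P, hT₀P, hPK, hPp⟩ := exists_gt_of_card_lt (hT₀K.trans (inf_le_left : Ca ⊓ Cz ≤ Ca)) hRK
    hT₀p hRp (by rw [hRc]; exact hcardT)
  obtain ⟨w, hwP, hwT₀, hwN⟩ := Basic.exists_mem_normalizer_of_lt hPp hT₀P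
  have hwa : w * a = a * w := mem_centralizer_singleton_iff.mp (hPK hwP)
  refine ⟨u, hu, w, hua, hwa, ?_⟩
  have hzT₀ : z ∈ T₀ := hAT₀' z L.z_mem (L.z_comm a ha).symm
  have hcT₀ : w * z * w⁻¹ ∈ T₀ := (mem_normalizer_iff.mp hwN z).mp hzT₀
  have hT₀z : ∀ t ∈ T₀, t * z = z * t := fun t ht =>
    mem_centralizer_singleton_iff.mp (mem_inf.mp (hT₀K ht)).2
  have hcz : (w * z * w⁻¹) * z = z * (w * z * w⁻¹) := hT₀z _ hcT₀
  have hcQ : ∀ y ∈ o2c z, (w * z * w⁻¹) * y * (w * z * w⁻¹)⁻¹ ∈ o2c z := fun y hy =>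
    conj_mem_o2c_of_mem_centralizer hy (mem_inf.mp (hT₀K hcT₀)).2
  have hcA : ∀ b ∈ o2c z, b * a = a * b → (w * z * w⁻¹) * b = b * (w * z * w⁻¹) := by
    intro b hb hba
    have hbT := hAT₀' b hb hba
    have h1 : w⁻¹ * b * w ∈ T₀ := by
      have := (mem_normalizer_iff.mp hwN (w⁻¹ * b * w)).mpr (by simpa [mul_assoc] using hbT)
      exact this
    have h2 := hT₀z _ h1
    calc (w * z * w⁻¹) * b = w * (z * (w⁻¹ * b * w)) * w⁻¹ := by group
      _ = w * ((w⁻¹ * b * w) * z) * w⁻¹ := by rw [h2]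
      _ = b * (w * z * w⁻¹) := by group
  rcases L.eq_of_comm_of_normalizes ha ha2 hu hua hcz hcQ hcA with h | h | h | h
  · exfalso
    apply L.z_ne
    have : z = w⁻¹ * (w * z * w⁻¹) * w := by group
    rw [this, h]; group
  · exfalso
    -- `w` centralizes `z`: contradiction with the maximality of `T₀`
    have hwz : w * z = z * w := by
      calc w * z = w * z * w⁻¹ * w := by group
        _ = z * w := by rw [h]
    have hs : T₀ ⊔ zpowers w ≤ P := sup_le hT₀P.le (by
      rw [zpowers_le]; exact hwP)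
    have hwK : zpowers w ≤ Ca ⊓ Cz := by
      rw [zpowers_le]
      exact ⟨hPK hwP, mem_centralizer_singleton_iff.mpr hwz⟩
    have := hT₀max _ le_sup_left (sup_le hT₀K hwK) (hPp.to_le hs)
    exact hwT₀ (this (mem_sup_right (mem_zpowers w)))
  · exfalso
    apply haz
    have : w * z = w * a := by
      calc w * z = w * z * w⁻¹ * w := by group
        _ = a * w := by rw [h]
        _ = w * a := hwa.symm
    exact (mul_left_cancel this).symm
  · exact h

/-- **Orthogonality of singular involutions is symmetric.** -/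
theorem mem_o2c_conj {z g : G} (L : Large (o2c z) z) (hx : g * z * g⁻¹ ∈ o2c z) :
    z ∈ o2c (g * z * g⁻¹) := by
  by_cases haz : g * z * g⁻¹ = z
  · rw [haz]
    exact L.z_mem
  obtain ⟨u, hu, w, hua, hwa, hwz⟩ := exists_u_w L rfl hx haz
  set a := g * z * g⁻¹ with ha
  have hzu := L.z_comm u hu
  have ha2 : a * a = 1 := by
    rw [ha]
    calc g * z * g⁻¹ * (g * z * g⁻¹) = g * (z * z) * g⁻¹ := by group
      _ = 1 := by rw [L.z_sq]; group
  have hza := L.z_comm a hx
  have h1 : u * a * u⁻¹ = z * a := by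
    rw [hua]; group
  have h2 : u * z * u⁻¹ = z := by
    rw [hzu]; group
  have h3 : w * a * w⁻¹ = a := by
    rw [hwa]; group
  have h4 : (u * w * u) * z * (u * w * u)⁻¹ = a := by
    calc (u * w * u) * z * (u * w * u)⁻¹ = u * (w * (u * z * u⁻¹) * w⁻¹) * u⁻¹ := by group
      _ = u * (a * z) * u⁻¹ := by rw [h2, hwz]
      _ = (u * a * u⁻¹) * (u * z * u⁻¹) := by group
      _ = z * a * z := by rw [h1, h2]
      _ = (a * z) * z := by rw [hza]
      _ = a := by rw [mul_assoc, L.z_sq, mul_one]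
  have h5 : (u * w * u) * a * (u * w * u)⁻¹ = z := by
    calc (u * w * u) * a * (u * w * u)⁻¹ = u * (w * (u * a * u⁻¹) * w⁻¹) * u⁻¹ := by group
      _ = u * (w * (z * a) * w⁻¹) * u⁻¹ := by rw [h1]
      _ = u * ((w * z * w⁻¹) * (w * a * w⁻¹)) * u⁻¹ := by group
      _ = u * ((a * z) * a) * u⁻¹ := by rw [hwz, h3]
      _ = u * ((z * a) * a) * u⁻¹ := by rw [hza]
      _ = u * z * u⁻¹ := by rw [mul_assoc z, ha2, mul_one]
      _ = z := h2
  have := conj_mem_o2c hx (u * w * u)
  rwa [h5, h4] at this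

end Main

end Cfsg.Agent.Lib.PGroup.LargeExtraspecial
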