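import Cfsg.Agent.Lib.Basic.SylowUtil
import Mathlib

/-!
# Offenders generating a `p`-minimal group: the module side

A finite group `P` acts faithfully on an `𝔽_p`-module `W`; a Sylow `p`-subgroup `T` lies in a unique maximal
subgroup `M`, and `A ≤ T` is a quadratic offender with `|A₀| |C_W(A₀)| < |A| |C_W(A)|` for all proper nontrivial `A₀ ≤ A`,
`C_W(T) ≰ C_W(P)`, and `⟨A, A^x⟩ = P` for all `x ∉ M`. We prove:
`A` acts regularly, `W = C_W(A) + C_W(A^x)`, `C_W(A) ∩ C_W(A^x) = C_W(P)`, `M` stabilizes `C_W(A)`, and `P` is faithful on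
`W / C_W(P)`. This is the first half of the recognition of `SL₂(q)`.
-/

set_option autoImplicit false
set_option linter.unusedSectionVars false

namespace Cfsg.Agent.Lib.PGroup.OffPair

variable {P : Type*} [Group P] {p : ℕ} [hp : Fact p.Prime] {W : Type*} [AddCommGroup W] [Module (ZMod p) W]

/-- Pointwise fixed points of a subgroup. -/
def fx (ρ : Representation (ZMod p) P W) (D : Subgroup P) : Submodule (ZMod p) W where
  carrier := {w | ∀ d ∈ D, ρ d w = w}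
  add_mem' := fun ha hb d hd => by rw [map_add, ha d hd, hb d hd]
  zero_mem' := fun d _ => map_zero _
  smul_mem' := fun c w hw d hd => by rw [map_smul, hw d hd]

theorem mem_fx {ρ : Representation (ZMod p) P W} {D : Subgroup P} {w : W} :
    w ∈ fx ρ D ↔ ∀ d ∈ D, ρ d w = w := Iff.rfl

theorem fx_anti {ρ : Representation (ZMod p) P W} {D E : Subgroup P} (h : D ≤ E) : fx ρ E ≤ fx ρ D :=
  fun _ hw d hd => hw d (h hd)

/-- The conjugate `x D x⁻¹`. -/
abbrev cj (x : P) (D : Subgroup P) : Subgroup P := D.map (MulAut.conj x).toMonoidHom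

theorem mem_cj {x g : P} {D : Subgroup P} : g ∈ cj x D ↔ x⁻¹ * g * x ∈ D := by
  constructor
  · rintro ⟨d, hd, rfl⟩
    have : x⁻¹ * ((MulAut.conj x).toMonoidHom d) * x = d := by
      simp [MulAut.conj_apply]; group
    rwa [this]
  · intro h
    refine ⟨_, h, ?_⟩
    simp [MulAut.conj_apply]; group

theorem conj_mem_cj {x d : P} {D : Subgroup P} (hd : d ∈ D) : x * d * x⁻¹ ∈ cj x D := by
  rw [mem_cj]
  have : x⁻¹ * (x * d * x⁻¹) * x = d := by group
  rwa [this]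

theorem cj_le {x : P} {D L : Subgroup P} (hD : D ≤ L) (hx : x ∈ L) : cj x D ≤ L := by
  rintro _ ⟨d, hd, rfl⟩
  exact L.mul_mem (L.mul_mem hx (hD hd)) (L.inv_mem hx)

theorem rho_inv_rho (ρ : Representation (ZMod p) P W) (g : P) (w : W) : ρ g⁻¹ (ρ g w) = w := by
  rw [← Module.End.mul_apply, ← map_mul]; simp

theorem rho_rho_inv (ρ : Representation (ZMod p) P W) (g : P) (w : W) : ρ g (ρ g⁻¹ w) = w := by
  rw [← Module.End.mul_apply, ← map_mul]; simp

theorem rho_mul (ρ : Representation (ZMod p) P W) (g h : P) (w : W) : ρ (g * h) w = ρ g (ρ h w) := by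
  rw [map_mul, Module.End.mul_apply]

theorem act_mem_fx_cj {ρ : Representation (ZMod p) P W} {D : Subgroup P} {w : W} (x : P)
    (hw : w ∈ fx ρ D) : ρ x w ∈ fx ρ (cj x D) := by
  intro b hb
  have h1 : x⁻¹ * b * x ∈ D := mem_cj.1 hb
  have h2 := hw _ h1
  rw [rho_mul, rho_mul] at h2
  calc ρ b (ρ x w) = ρ x (ρ x⁻¹ (ρ b (ρ x w))) := (rho_rho_inv ρ x _).symm
    _ = ρ x w := by rw [h2]

theorem inv_act_mem_fx {ρ : Representation (ZMod p) P W} {D : Subgroup P} {w : W} {x : P}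
    (hw : w ∈ fx ρ (cj x D)) : ρ x⁻¹ w ∈ fx ρ D := by
  intro d hd
  have h1 := hw _ (conj_mem_cj (x := x) hd)
  rw [rho_mul, rho_mul] at h1
  calc ρ d (ρ x⁻¹ w) = ρ x⁻¹ (ρ x (ρ d (ρ x⁻¹ w))) := (rho_inv_rho ρ x _).symm
    _ = ρ x⁻¹ w := by rw [h1]

/-- Elements of `C_W(P)` are fixed. -/
theorem act_C {ρ : Representation (ZMod p) P W} {w : W} (hw : w ∈ fx ρ (⊤ : Subgroup P)) (g : P) :
    ρ g w = w := hw g trivial

/-- The stabilizer of a vector. -/
def stabF (ρ : Representation (ZMod p) P W) (w : W) : Subgroup P where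
  carrier := {g | ρ g w = w}
  mul_mem' := fun {a b} ha hb => by
    show ρ (a * b) w = w
    rw [rho_mul, hb, ha]
  one_mem' := by
    show ρ 1 w = w
    simp
  inv_mem' := fun {a} ha => by
    show ρ a⁻¹ w = w
    conv_lhs => rw [← ha]
    exact rho_inv_rho ρ a w

theorem mem_stabF {ρ : Representation (ZMod p) P W} {w : W} {g : P} : g ∈ stabF ρ w ↔ ρ g w = w := Iff.rfl

/-- The stabilizer of a vector modulo `C_W(P)`. -/
def stabC (ρ : Representation (ZMod p) P W) (w : W) : Subgroup P where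
  carrier := {g | ρ g w - w ∈ fx ρ (⊤ : Subgroup P)}
  mul_mem' := fun {a b} ha hb => by
    have ha' : ρ a w - w ∈ fx ρ (⊤ : Subgroup P) := ha
    have hb' : ρ b w - w ∈ fx ρ (⊤ : Subgroup P) := hb
    show ρ (a * b) w - w ∈ fx ρ (⊤ : Subgroup P)
    have h1 : ρ (a * b) w - w = (ρ b w - w) + (ρ a w - w) := by
      have h2 := act_C hb' a
      rw [map_sub, sub_eq_iff_eq_add] at h2
      rw [rho_mul, h2]
      abel
    rw [h1]
    exact Submodule.add_mem _ hb' ha'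
  one_mem' := by
    show ρ 1 w - w ∈ fx ρ (⊤ : Subgroup P)
    simp
  inv_mem' := fun {a} ha => by
    have ha' : ρ a w - w ∈ fx ρ (⊤ : Subgroup P) := ha
    show ρ a⁻¹ w - w ∈ fx ρ (⊤ : Subgroup P)
    have h2 := act_C ha' a⁻¹
    rw [map_sub, rho_inv_rho] at h2
    have h3 : ρ a⁻¹ w - w = - (ρ a w - w) := by
      rw [← h2]; abel
    rw [h3]
    exact Submodule.neg_mem _ ha'

theorem mem_stabC {ρ : Representation (ZMod p) P W} {w : W} {g : P} :
    g ∈ stabC ρ w ↔ ρ g w - w ∈ fx ρ (⊤ : Subgroup P) := Iff.rfl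

theorem stabF_le_stabC (ρ : Representation (ZMod p) P W) (w : W) : stabF ρ w ≤ stabC ρ w := by
  intro g hg
  rw [mem_stabC, mem_stabF.1 hg, sub_self]
  exact Submodule.zero_mem _

/-- Hypotheses on the offender. -/
structure Off (ρ : Representation (ZMod p) P W) (A M : Subgroup P) (T : Sylow p P) : Prop where
  inj : Function.Injective ρ
  ne_top : M ≠ ⊤
  hTM : (T : Subgroup P) ≤ M
  huniq : ∀ L : Subgroup P, (T : Subgroup P) ≤ L → L ≠ ⊤ → L ≤ M
  hAT : A ≤ T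
  hquad : ∀ a ∈ A, ∀ w, ρ a w - w ∈ fx ρ A
  H1 : Nat.card W ≤ Nat.card A * Nat.card (fx ρ A)
  H2 : ∀ A₀ : Subgroup P, A₀ ≤ A → A₀ ≠ ⊥ → A₀ ≠ A →
    Nat.card A₀ * Nat.card (fx ρ A₀) < Nat.card A * Nat.card (fx ρ A)
  H3 : ∃ u ∈ fx ρ (T : Subgroup P), u ∉ fx ρ (⊤ : Subgroup P)
  H4 : ∀ x, x ∉ M → A ⊔ cj x A = ⊤

namespace Off

variable {ρ : Representation (ZMod p) P W} {A M : Subgroup P} {T : Sylow p P}

theorem A_le_M (S : Off ρ A M T) : A ≤ M := S.hAT.trans S.hTM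

theorem exists_not_mem (S : Off ρ A M T) : ∃ x, x ∉ M := by
  by_contra h
  push Not at h
  exact S.ne_top (eq_top_iff.2 fun x _ => h x)

theorem le_M (S : Off ρ A M T) {L : Subgroup P} (hAL : A ≤ L) (hL : L ≠ ⊤) : L ≤ M := by
  intro z hz
  by_contra hzM
  apply hL
  rw [eq_top_iff, ← S.H4 z hzM]
  exact sup_le hAL (cj_le hAL hz)

/-- `C_W(A) ∩ C_W(A^x) = C_W(P)`. -/
theorem inter (S : Off ρ A M T) {x : P} (hx : x ∉ M) {w : W} (h1 : w ∈ fx ρ A) (h2 : w ∈ fx ρ (cj x A)) :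
    w ∈ fx ρ (⊤ : Subgroup P) := by
  have hle : A ⊔ cj x A ≤ stabF ρ w := sup_le (fun a ha => h1 a ha) (fun a ha => h2 a ha)
  rw [S.H4 x hx] at hle
  exact fun g _ => hle (Subgroup.mem_top g)

/-- No nonzero element of `C_W(A) / C_W(P)` is `P`-fixed. -/
theorem mem_C_of (S : Off ρ A M T) {y : W} (hy : y ∈ fx ρ A) (h : ∀ g, ρ g y - y ∈ fx ρ (⊤ : Subgroup P)) :
    y ∈ fx ρ (⊤ : Subgroup P) := by
  obtain ⟨x, hx⟩ := S.exists_not_mem
  have hcj : cj x A ≤ stabF ρ y := by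
    rintro _ ⟨a, ha, rfl⟩
    show ρ (x * a * x⁻¹) y = y
    have hc := h x⁻¹
    have h1 : ρ x⁻¹ y = y + (ρ x⁻¹ y - y) := by abel
    have h2 : ρ a (ρ x⁻¹ y) = ρ x⁻¹ y := by
      rw [h1, map_add, hy a ha, act_C hc a]
    rw [rho_mul, rho_mul, h2, rho_rho_inv]
  have hle : A ⊔ cj x A ≤ stabF ρ y := sup_le (fun a ha => hy a ha) hcj
  rw [S.H4 x hx] at hle
  exact fun g _ => hle (Subgroup.mem_top g)

/-- **Lemma S**: the stabilizer in `P` of a nonzero element of `C_W(A) / C_W(P)` lies in `M`. -/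
theorem stab_le (S : Off ρ A M T) {y : W} (hy : y ∈ fx ρ A) (hyC : y ∉ fx ρ (⊤ : Subgroup P)) :
    stabC ρ y ≤ M := by
  apply S.le_M (fun a ha => stabF_le_stabC ρ y (hy a ha))
  intro htop
  exact hyC (S.mem_C_of hy (fun g => by
    have : g ∈ stabC ρ y := by rw [htop]; trivial
    exact this))

/-- Conjugate version of Lemma S. -/
theorem stab_le_cj (S : Off ρ A M T) {x : P} {y : W} (hy : y ∈ fx ρ (cj x A))
    (hyC : y ∉ fx ρ (⊤ : Subgroup P)) {c : P} (hc : ρ c y - y ∈ fx ρ (⊤ : Subgroup P)) :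
    x⁻¹ * c * x ∈ M := by
  have h1 : ρ x⁻¹ y ∈ fx ρ A := inv_act_mem_fx hy
  have h2 : ρ x⁻¹ y ∉ fx ρ (⊤ : Subgroup P) := by
    intro h
    apply hyC
    intro g _
    have h3 := h (x⁻¹ * g * x) trivial
    rw [rho_mul, rho_mul, rho_rho_inv] at h3
    have h4 := congrArg (ρ x) h3
    rwa [rho_rho_inv, rho_rho_inv] at h4
  apply S.stab_le h1 h2
  rw [mem_stabC]
  have h3 : ρ (x⁻¹ * c * x) (ρ x⁻¹ y) - ρ x⁻¹ y = ρ x⁻¹ (ρ c y - y) := by
    rw [rho_mul, rho_mul, rho_rho_inv, map_sub]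
  rw [h3, act_C hc]
  exact hc

/-- The quadratic property for conjugates. -/
theorem quad_cj (S : Off ρ A M T) {x b : P} (hb : b ∈ cj x A) (w : W) : ρ b w - w ∈ fx ρ (cj x A) := by
  have h1 : x⁻¹ * b * x ∈ A := mem_cj.1 hb
  have h2 := act_mem_fx_cj x (S.hquad _ h1 (ρ x⁻¹ w))
  have h3 : ρ x (ρ (x⁻¹ * b * x) (ρ x⁻¹ w) - ρ x⁻¹ w) = ρ b w - w := by
    rw [map_sub, rho_rho_inv, rho_mul, rho_mul, rho_rho_inv, rho_rho_inv]
  rwa [h3] at h2

/-- `C_W(A) + C_W(A^x)` is `P`-invariant. -/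
theorem sup_inv (S : Off ρ A M T) {x : P} (hx : x ∉ M) (g : P) {w : W}
    (hw : w ∈ fx ρ A ⊔ fx ρ (cj x A)) : ρ g w ∈ fx ρ A ⊔ fx ρ (cj x A) := by
  let St : Subgroup P :=
    { carrier := {g | ∀ w ∈ fx ρ A ⊔ fx ρ (cj x A), ρ g w ∈ fx ρ A ⊔ fx ρ (cj x A) ∧
        ρ g⁻¹ w ∈ fx ρ A ⊔ fx ρ (cj x A)}
      mul_mem' := fun {a b} ha hb w hw => by
        refine ⟨?_, ?_⟩
        · rw [rho_mul]
          exact (ha _ (hb w hw).1).1
        · rw [mul_inv_rev, rho_mul]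
          exact (hb _ (ha w hw).2).2
      one_mem' := fun w hw => by simpa using hw
      inv_mem' := fun {a} ha w hw => by
        refine ⟨(ha w hw).2, ?_⟩
        rw [inv_inv]
        exact (ha w hw).1 }
  have key1 : ∀ a ∈ A, ∀ w ∈ fx ρ A ⊔ fx ρ (cj x A), ρ a w ∈ fx ρ A ⊔ fx ρ (cj x A) := by
    intro a ha w hw
    have h1 := Submodule.mem_sup_left (S := fx ρ A) (T := fx ρ (cj x A)) (S.hquad a ha w)
    have h2 := Submodule.add_mem _ h1 hw
    simpa using h2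
  have key2 : ∀ b ∈ cj x A, ∀ w ∈ fx ρ A ⊔ fx ρ (cj x A), ρ b w ∈ fx ρ A ⊔ fx ρ (cj x A) := by
    intro a ha w hw
    have h1 := Submodule.mem_sup_right (S := fx ρ A) (T := fx ρ (cj x A)) (S.quad_cj ha w)
    have h2 := Submodule.add_mem _ h1 hw
    simpa using h2
  have hle : A ⊔ cj x A ≤ St := sup_le
    (fun a ha w hw => ⟨key1 a ha w hw, key1 a⁻¹ (A.inv_mem ha) w hw⟩)
    (fun a ha w hw => ⟨key2 a ha w hw, key2 a⁻¹ ((cj x A).inv_mem ha) w hw⟩)
  rw [S.H4 x hx] at hle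
  exact (hle (Subgroup.mem_top g) w hw).1

/-- A `p`-element of `M` is conjugate in `M` into `T`. -/
theorem exists_conj_T [Finite P] (S : Off ρ A M T) {c : P} (hcM : c ∈ M) {k : ℕ} (hc : c ^ p ^ k = 1) :
    ∃ m ∈ M, m⁻¹ * c * m ∈ (T : Subgroup P) := by
  obtain ⟨Q, hQ⟩ := Cfsg.Agent.Lib.Basic.SylowUtil.exists_sylow_subtype T S.hTM
  have hp' : IsPGroup p (Subgroup.zpowers (⟨c, hcM⟩ : M)) := by
    rintro ⟨_, n, rfl⟩
    refine ⟨k, ?_⟩
    apply Subtype.ext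
    apply Subtype.ext
    simp only [Subgroup.coe_pow, Subgroup.coe_zpow, Subgroup.coe_one]
    rw [← zpow_natCast, ← zpow_mul, mul_comm, zpow_mul, zpow_natCast, hc, one_zpow]
  obtain ⟨Q₂, hQ₂⟩ := hp'.exists_le_sylow
  obtain ⟨m, hm⟩ := MulAction.exists_smul_eq M Q Q₂
  have h1 : (⟨c, hcM⟩ : M) ∈ ((m • Q : Sylow p M) : Subgroup M) := by
    rw [hm]
    exact hQ₂ (Subgroup.mem_zpowers _)
  rw [Sylow.coe_subgroup_smul, Subgroup.mem_pointwise_smul_iff_inv_smul_mem, hQ,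
    Subgroup.mem_subgroupOf] at h1
  refine ⟨m, m.2, ?_⟩
  simpa [MulAut.smul_def] using h1

theorem pow_eq_one_of_mem_A [Finite P] (S : Off ρ A M T) {c : P} (hc : c ∈ A) : ∃ k, c ^ p ^ k = 1 := by
  obtain ⟨k, hk⟩ := T.2 ⟨c, S.hAT hc⟩
  exact ⟨k, by simpa [Subtype.ext_iff] using hk⟩

/-- **Dichotomy**: if `c ∈ A` lies in one conjugate of `M` by an element off `M`, it lies in all conjugates. -/
theorem dich [Finite P] (S : Off ρ A M T) {c : P} (hc : c ∈ A) {x₂ : P} (hx₂ : x₂ ∉ M)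
    (hc₂ : x₂⁻¹ * c * x₂ ∈ M) {x : P} (hx : x ∉ M) : x⁻¹ * c * x ∈ M := by
  by_contra hcx
  obtain ⟨k, hk⟩ := S.pow_eq_one_of_mem_A hc
  have hk' : (x₂⁻¹ * c * x₂) ^ p ^ k = 1 := by
    have : x₂⁻¹ * c * x₂ = (MulAut.conj x₂⁻¹) c := by simp [MulAut.conj_apply]
    rw [this, ← map_pow, hk, map_one]
  obtain ⟨m, hm, hmT⟩ := S.exists_conj_T hc₂ hk'
  set x₃ := x₂ * m with hx₃
  have hx₃M : x₃ ∉ M := fun h => hx₂ (by
    have := M.mul_mem h (M.inv_mem hm)
    simpa [hx₃] using this)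
  have hT : x₃⁻¹ * c * x₃ ∈ (T : Subgroup P) := by
    have : x₃⁻¹ * c * x₃ = m⁻¹ * (x₂⁻¹ * c * x₂) * m := by
      rw [hx₃]; group
    rwa [this]
  obtain ⟨u, huT, huC⟩ := S.H3
  have huA : u ∈ fx ρ A := fx_anti S.hAT huT
  set u₃ := ρ x₃ u with hu₃
  have hfix : ρ c u₃ = u₃ := by
    have h1 := huT _ hT
    rw [rho_mul, rho_mul] at h1
    have h2 := congrArg (ρ x₃) h1
    rwa [rho_rho_inv] at h2
  have hu₃mem : u₃ ∈ fx ρ A ⊔ fx ρ (cj x A) :=
    S.sup_inv hx x₃ (Submodule.mem_sup_left huA)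
  obtain ⟨k₁, hk₁, k₂, hk₂, hsum⟩ := Submodule.mem_sup.1 hu₃mem
  by_cases hk₂C : k₂ ∈ fx ρ (⊤ : Subgroup P)
  · -- then `u₃ ∈ C_W(A)`, which forces `u ∈ C_W(P)`
    have h1 : u₃ ∈ fx ρ A := by
      rw [← hsum]
      exact Submodule.add_mem _ hk₁ (fx_anti le_top hk₂C)
    have h2 : u₃ ∈ fx ρ (cj x₃ A) := act_mem_fx_cj x₃ huA
    have h3 := S.inter hx₃M h1 h2
    apply huC
    have h4 : ρ x₃⁻¹ u₃ ∈ fx ρ (⊤ : Subgroup P) := by
      rw [act_C h3]
      exact h3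
    rwa [hu₃, rho_inv_rho] at h4
  · apply hcx
    apply S.stab_le_cj hk₂ hk₂C
    have h1 : ρ c k₁ = k₁ := hk₁ c hc
    have h2 : ρ c k₂ = k₂ := by
      have h3 : ρ c (k₁ + k₂) = k₁ + k₂ := by rw [hsum]; exact hfix
      rw [map_add, h1] at h3
      exact add_left_cancel h3
    rw [h2, sub_self]
    exact Submodule.zero_mem _

/-- `T ∩ core(M)` is normal. -/
theorem normal_inf [Finite P] (S : Off ρ A M T) : ((T : Subgroup P) ⊓ M.normalCore).Normal := by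
  classical
  set N := M.normalCore with hN
  obtain ⟨Q, hQ⟩ := Cfsg.Agent.Lib.Basic.SylowUtil.exists_sylow_inf_normal T N
  have hT : (T : Subgroup P) ≤ Subgroup.normalizer (((T : Subgroup P) ⊓ N : Subgroup P) : Set P) := by
    intro t ht
    rw [Subgroup.mem_normalizer_iff]
    intro n
    constructor
    · rintro ⟨h1, h2⟩
      exact ⟨T.1.mul_mem (T.1.mul_mem ht h1) (T.1.inv_mem ht),
        (inferInstance : N.Normal).conj_mem _ h2 t⟩
    · rintro ⟨h1, h2⟩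
      have h3 : t⁻¹ * (t * n * t⁻¹) * t = n := by group
      constructor
      · rw [← h3]
        exact T.1.mul_mem (T.1.mul_mem (T.1.inv_mem ht) h1) ht
      · rw [← h3]
        have := (inferInstance : N.Normal).conj_mem _ h2 t⁻¹
        simpa using this
  by_cases htop : Subgroup.normalizer (((T : Subgroup P) ⊓ N : Subgroup P) : Set P) = ⊤
  · exact Subgroup.normalizer_eq_top_iff.1 htop
  · exfalso
    have hle := S.huniq _ hT htop
    apply S.ne_top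
    rw [eq_top_iff]
    intro g _
    obtain ⟨n, hn, h, hh, rfl⟩ := Cfsg.Agent.Lib.Basic.SylowUtil.frattini_argument' Q g
    rw [hQ] at hh
    exact M.mul_mem (Subgroup.normalCore_le M hn) (hle hh)

/-- Additivity for a quadratic subgroup. -/
theorem add_of_quad {D : Subgroup P} (hD : ∀ d ∈ D, ∀ w, ρ d w - w ∈ fx ρ D) {d₁ d₂ : P}
    (h₁ : d₁ ∈ D) (h₂ : d₂ ∈ D) (w : W) :
    ρ (d₁ * d₂) w - w = (ρ d₁ w - w) + (ρ d₂ w - w) := by
  have h1 := hD d₂ h₂ w d₁ h₁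
  rw [map_sub, sub_eq_iff_eq_add] at h1
  rw [rho_mul, h1]
  abel

theorem mem_core [Finite P] (S : Off ρ A M T) {c : P} (hc : c ∈ A) {x₂ : P} (hx₂ : x₂ ∉ M)
    (hc₂ : x₂⁻¹ * c * x₂ ∈ M) : c ∈ M.normalCore := by
  show ∀ h, h * c * h⁻¹ ∈ M
  intro h
  by_cases hh : h⁻¹ ∈ M
  · have h1 : h = (h⁻¹)⁻¹ := by simp
    rw [h1]
    exact M.mul_mem (M.mul_mem (M.inv_mem hh) (S.A_le_M hc)) (by simpa using hh)
  · have := S.dich hc hx₂ hc₂ hh
    simpa using this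

theorem card_eq_mul_map [Finite W] (K L : Submodule (ZMod p) W) (h : K ≤ L) :
    Nat.card L = Nat.card K * Nat.card (L.map K.mkQ) := by
  let φ : L →ₗ[ZMod p] (L.map K.mkQ) := K.mkQ.submoduleMap L
  have hsurj : Function.Surjective φ := by
    rintro ⟨_, l, hl, rfl⟩
    exact ⟨⟨l, hl⟩, rfl⟩
  have h1 := AddSubgroup.card_mul_index φ.toAddMonoidHom.ker
  rw [AddSubgroup.index_ker] at h1
  have h2 : Nat.card φ.toAddMonoidHom.range = Nat.card (L.map K.mkQ) := by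
    rw [AddMonoidHom.range_eq_top.2 hsurj]
    exact Nat.card_congr AddSubgroup.topEquiv.toEquiv
  have h3 : Nat.card φ.toAddMonoidHom.ker = Nat.card K := by
    refine Nat.card_congr ⟨fun l => ⟨l.1.1, ?_⟩, fun k => ⟨⟨k.1, h k.2⟩, ?_⟩, fun l => rfl, fun k => rfl⟩
    · have h4 : φ l.1 = 0 := l.2
      have h5 : K.mkQ l.1.1 = 0 := congrArg Subtype.val h4
      simpa using h5
    · show φ ⟨k.1, h k.2⟩ = 0
      apply Subtype.ext
      show K.mkQ k.1 = 0
      simpa using k.2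
  rw [← h1, h2, h3]

/-- **`A ∩ core(M) = 1`**: uses the strict inequality `H2`. -/
theorem A_inf_core [Finite P] [Finite W] (S : Off ρ A M T) : A ⊓ M.normalCore = ⊥ := by
  classical
  by_contra hne
  set N := M.normalCore with hN
  obtain ⟨x, hx⟩ := S.exists_not_mem
  have hA₁ne : A ⊓ N ≠ A := by
    intro h
    have h1 : A ≤ N := inf_eq_left.1 h
    have h2 : A ⊔ cj x A ≤ N := sup_le h1 (by
      rintro _ ⟨a, ha, rfl⟩
      exact (inferInstance : N.Normal).conj_mem _ (h1 ha) x)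
    rw [S.H4 x hx] at h2
    exact S.ne_top (eq_top_iff.2 (h2.trans (Subgroup.normalCore_le M)))
  have hlt := S.H2 (A ⊓ N) inf_le_left hne hA₁ne
  obtain ⟨u, huT, huC⟩ := S.H3
  have huA : u ∈ fx ρ A := fx_anti S.hAT huT
  have hQnormal := S.normal_inf
  set Q₀ := (T : Subgroup P) ⊓ N with hQ₀
  have hA₁Q : A ⊓ N ≤ Q₀ := inf_le_inf_right _ S.hAT
  have hXinv : ∀ g, ∀ w ∈ fx ρ Q₀, ρ g w ∈ fx ρ Q₀ := by
    intro g w hw d hd
    have h1 := hw _ (hQnormal.conj_mem d hd g⁻¹)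
    simp only [inv_inv] at h1
    rw [rho_mul, rho_mul] at h1
    have h2 := congrArg (ρ g) h1
    rwa [rho_rho_inv] at h2
  have huX : u ∈ fx ρ Q₀ := fx_anti inf_le_left huT
  -- the homomorphism
  set K := fx ρ A with hK
  have hquad' : ∀ a ∈ A, ∀ w, ρ (x * a * x⁻¹) w - w ∈ fx ρ (cj x A) := fun a ha w =>
    S.quad_cj (conj_mem_cj ha) w
  let f₀ : A → Multiplicative (W ⧸ K) := fun a =>
    Multiplicative.ofAdd (K.mkQ (ρ (x * a * x⁻¹) u - u))
  have hf₀ : ∀ a b : A, f₀ (a * b) = f₀ a * f₀ b := by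
    intro a b
    show Multiplicative.ofAdd (K.mkQ (ρ (x * (a.1 * b.1) * x⁻¹) u - u)) = _
    have h1 : x * (a.1 * b.1) * x⁻¹ = (x * a.1 * x⁻¹) * (x * b.1 * x⁻¹) := by group
    rw [h1, add_of_quad (fun d hd w => S.quad_cj hd w) (conj_mem_cj a.2) (conj_mem_cj b.2) u, map_add]
    rfl
  let f : A →* Multiplicative (W ⧸ K) := MonoidHom.mk' f₀ hf₀
  have hker : ∀ a : A, f a = 1 → (a : P) ∈ A ⊓ N := by
    intro a ha
    have h1 : K.mkQ (ρ (x * a.1 * x⁻¹) u - u) = 0 := ha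
    have h2 : ρ (x * a.1 * x⁻¹) u - u ∈ K := (Submodule.Quotient.mk_eq_zero K).1 h1
    have h3 := S.inter hx h2 (hquad' a.1 a.2 u)
    have h4 : x * a.1 * x⁻¹ ∈ M := S.stab_le huA huC h3
    refine ⟨a.2, S.mem_core a.2 (x₂ := x⁻¹) (fun h => hx (by simpa using M.inv_mem h)) (by simpa using h4)⟩
  have hrange : ∀ a : A, (f a).toAdd ∈ (fx ρ (A ⊓ N)).map K.mkQ := by
    intro a
    refine ⟨ρ (x * a.1 * x⁻¹) u - u, ?_, rfl⟩
    have h1 : ρ (x * a.1 * x⁻¹) u - u ∈ fx ρ Q₀ := Submodule.sub_mem _ (hXinv _ _ huX) huX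
    exact fx_anti hA₁Q h1
  have hcard₁ : Nat.card f.ker ≤ Nat.card ↥(A ⊓ N) :=
    Nat.card_le_card_of_injective (fun a : f.ker => (⟨a.1.1, hker a.1 a.2⟩ : ↥(A ⊓ N)))
      (fun a b h => by
        have h' : a.1.1 = b.1.1 := by simpa using h
        exact Subtype.ext (Subtype.ext h'))
  have : Finite (W ⧸ K) := Finite.of_surjective K.mkQ K.mkQ_surjective
  have hcard₂ : Nat.card f.range ≤ Nat.card ((fx ρ (A ⊓ N)).map K.mkQ) := by
    refine Nat.card_le_card_of_injective (fun z : f.range => (⟨(z.1).toAdd, ?_⟩ : ((fx ρ (A ⊓ N)).map K.mkQ))) ?_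
    · obtain ⟨a, ha⟩ := z.2
      rw [← ha]
      exact hrange a
    · intro a b h
      have h' : (a.1).toAdd = (b.1).toAdd := by simpa using h
      exact Subtype.ext (Multiplicative.toAdd.injective h')
  have hcardA : Nat.card f.ker * Nat.card f.range = Nat.card A := by
    rw [← Subgroup.index_ker, Subgroup.card_mul_index]
  have hKle : K ≤ fx ρ (A ⊓ N) := fx_anti inf_le_left
  have hcardL := card_eq_mul_map K (fx ρ (A ⊓ N)) hKle
  have hfin : Nat.card ↥(A ⊓ N) * Nat.card (fx ρ (A ⊓ N)) ≥ Nat.card A * Nat.card K := by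
    rw [hcardL, ← hcardA]
    calc Nat.card f.ker * Nat.card f.range * Nat.card K
        ≤ Nat.card ↥(A ⊓ N) * Nat.card ((fx ρ (A ⊓ N)).map K.mkQ) * Nat.card K :=
          Nat.mul_le_mul_right _ (Nat.mul_le_mul hcard₁ hcard₂)
      _ = _ := by ring
  exact absurd hlt (not_lt.2 hfin)

/-- `c ∈ A` in a conjugate of `M` by an element off `M` is trivial. -/
theorem eq_one_of_conj_mem [Finite P] [Finite W] (S : Off ρ A M T) {c : P} (hc : c ∈ A) {x : P} (hx : x ∉ M)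
    (hcx : x⁻¹ * c * x ∈ M) : c = 1 := by
  have h1 : c ∈ A ⊓ M.normalCore := ⟨hc, S.mem_core hc hx hcx⟩
  rw [S.A_inf_core] at h1
  exact h1

/-- Injectivity of `a ↦ [y', a]`. -/
theorem reg_inj [Finite P] [Finite W] (S : Off ρ A M T) {x : P} (hx : x ∉ M) {y : W} (hy : y ∈ fx ρ (cj x A))
    (hyC : y ∉ fx ρ (⊤ : Subgroup P)) {a : P} (ha : a ∈ A) (h : ρ a y - y ∈ fx ρ (⊤ : Subgroup P)) :
    a = 1 :=
  S.eq_one_of_conj_mem ha hx (S.stab_le_cj hy hyC h)

theorem card_C_conj (x : P) :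
    Nat.card (fx ρ (cj x A)) = Nat.card (fx ρ A) := by
  refine Nat.card_congr ⟨fun w => ⟨ρ x⁻¹ w.1, inv_act_mem_fx w.2⟩, fun w => ⟨ρ x w.1, act_mem_fx_cj x w.2⟩,
    fun w => Subtype.ext (rho_rho_inv ρ x w.1), fun w => Subtype.ext (rho_inv_rho ρ x w.1)⟩

theorem card_sup_mul_inf [Finite W] (K K' : Submodule (ZMod p) W) :
    Nat.card ↥(K ⊔ K') * Nat.card ↥(K ⊓ K') = Nat.card K * Nat.card K' := by
  have : Module.Finite (ZMod p) W := Module.Finite.of_finite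
  have h := Submodule.finrank_sup_add_finrank_inf_eq K K'
  have hc : ∀ S : Submodule (ZMod p) W, Nat.card S = p ^ Module.finrank (ZMod p) S := by
    intro S
    rw [Module.natCard_eq_pow_finrank (K := ZMod p), Nat.card_zmod]
  rw [hc, hc, hc, hc, ← pow_add, ← pow_add, h]

theorem card_rel_and_top [Finite P] [Finite W] (S : Off ρ A M T) {x : P} (hx : x ∉ M) :
    Nat.card A * Nat.card (fx ρ (⊤ : Subgroup P)) = Nat.card (fx ρ A) ∧
      fx ρ A ⊔ fx ρ (cj x A) = ⊤ := by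
  classical
  set K := fx ρ A with hK
  set C := fx ρ (⊤ : Subgroup P) with hC
  set K' := fx ρ (cj x A) with hK'
  have hinf : K ⊓ K' = C := le_antisymm (fun w hw => S.inter hx hw.1 hw.2)
    (le_inf (fx_anti le_top) (fx_anti le_top))
  obtain ⟨u, huT, huC⟩ := S.H3
  have huA : u ∈ K := fx_anti S.hAT huT
  have hy₀ : ρ x u ∈ K' := act_mem_fx_cj x huA
  have hy₀C : ρ x u ∉ C := by
    intro h
    apply huC
    have := act_C h x⁻¹
    rw [rho_inv_rho] at this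
    rw [this]
    exact h
  set y₀ := ρ x u with hy₀def
  have hq : ∀ a ∈ A, ρ a y₀ - y₀ ∈ K := fun a ha => S.hquad a ha y₀
  have hCK : C ≤ K := fx_anti le_top
  let g₀ : A → K.map C.mkQ := fun a => ⟨C.mkQ (ρ a.1 y₀ - y₀), _, hq a.1 a.2, rfl⟩
  have hg₀ : Function.Injective g₀ := by
    intro a b hab
    have h1 : C.mkQ (ρ a.1 y₀ - y₀) = C.mkQ (ρ b.1 y₀ - y₀) := congrArg Subtype.val hab
    have h2 : (ρ a.1 y₀ - y₀) - (ρ b.1 y₀ - y₀) ∈ C := (Submodule.Quotient.eq C).1 h1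
    have h3 : ρ (b.1⁻¹ * a.1) y₀ - y₀ ∈ C := by
      have h4 := add_of_quad S.hquad (A.inv_mem b.2) a.2 y₀
      have h5 := add_of_quad S.hquad (A.inv_mem b.2) b.2 y₀
      simp only [inv_mul_cancel, map_one, Module.End.one_apply, sub_self] at h5
      rw [h4]
      have h6 : ρ b.1⁻¹ y₀ - y₀ = - (ρ b.1 y₀ - y₀) := by
        rw [eq_neg_iff_add_eq_zero]
        exact h5.symm
      rw [h6]
      convert h2 using 1
      abel
    have h7 := S.reg_inj hx hy₀ hy₀C (A.mul_mem (A.inv_mem b.2) a.2) h3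
    exact Subtype.ext (inv_mul_eq_one.1 h7).symm
  have : Finite (W ⧸ C) := Finite.of_surjective C.mkQ C.mkQ_surjective
  have hc1 : Nat.card A ≤ Nat.card (K.map C.mkQ) := Nat.card_le_card_of_injective g₀ hg₀
  have hc2 : Nat.card K = Nat.card C * Nat.card (K.map C.mkQ) := card_eq_mul_map C K hCK
  have hcK' : Nat.card K' = Nat.card K := card_C_conj x
  have hsup := card_sup_mul_inf K K'
  rw [hinf, hcK'] at hsup
  have hC0 : 0 < Nat.card C := Nat.card_pos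
  have hK0 : 0 < Nat.card K := Nat.card_pos
  have hsuple : Nat.card ↥(K ⊔ K') ≤ Nat.card W := Nat.card_le_card_of_injective
    (fun w : ↥(K ⊔ K') => w.1) Subtype.val_injective
  have h1 : Nat.card A * Nat.card C ≤ Nat.card K := by
    rw [hc2, mul_comm]
    exact Nat.mul_le_mul_left _ hc1
  have hH1 := S.H1
  -- chain
  have h2 : Nat.card K * Nat.card K ≤ Nat.card W * Nat.card C := by
    rw [← hsup]
    exact Nat.mul_le_mul_right _ hsuple
  have h3 : Nat.card W * Nat.card C ≤ Nat.card A * Nat.card K * Nat.card C :=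
    Nat.mul_le_mul_right _ hH1
  have h4 : Nat.card A * Nat.card K * Nat.card C = Nat.card A * Nat.card C * Nat.card K := by ring
  have h5 : Nat.card A * Nat.card C * Nat.card K ≤ Nat.card K * Nat.card K := Nat.mul_le_mul_right _ h1
  have h6 : Nat.card A * Nat.card C = Nat.card K := by
    by_contra hne
    have hlt : Nat.card A * Nat.card C < Nat.card K := lt_of_le_of_ne h1 hne
    have := Nat.mul_lt_mul_of_pos_right hlt hK0
    omega
  refine ⟨h6, ?_⟩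
  have h7 : Nat.card ↥(K ⊔ K') = Nat.card W := by
    by_contra hne
    have hlt : Nat.card ↥(K ⊔ K') < Nat.card W := lt_of_le_of_ne hsuple hne
    have := Nat.mul_lt_mul_of_pos_right hlt hC0
    rw [hsup] at this
    omega
  rw [eq_top_iff]
  intro w _
  have hbij : Function.Bijective (fun w : ↥(K ⊔ K') => w.1) :=
    (Function.Injective.bijective_of_nat_card_le Subtype.val_injective h7.ge)
  obtain ⟨w', rfl⟩ := hbij.2 w
  exact w'.2

/-- Surjectivity of `a ↦ [y', a]` modulo `C_W(P)`. -/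
theorem reg_surj [Finite P] [Finite W] (S : Off ρ A M T) {x : P} (hx : x ∉ M) {y : W}
    (hy : y ∈ fx ρ (cj x A)) (hyC : y ∉ fx ρ (⊤ : Subgroup P)) {k : W} (hk : k ∈ fx ρ A) :
    ∃ a ∈ A, ρ a y - y - k ∈ fx ρ (⊤ : Subgroup P) := by
  classical
  set K := fx ρ A with hK
  set C := fx ρ (⊤ : Subgroup P) with hC
  have hCK : C ≤ K := fx_anti le_top
  let g₀ : A → K.map C.mkQ := fun a => ⟨C.mkQ (ρ a.1 y - y), _, S.hquad a.1 a.2 y, rfl⟩
  have hg₀ : Function.Injective g₀ := by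
    intro a b hab
    have h1 : C.mkQ (ρ a.1 y - y) = C.mkQ (ρ b.1 y - y) := congrArg Subtype.val hab
    have h2 : (ρ a.1 y - y) - (ρ b.1 y - y) ∈ C := (Submodule.Quotient.eq C).1 h1
    have h3 : ρ (b.1⁻¹ * a.1) y - y ∈ C := by
      have h4 := add_of_quad S.hquad (A.inv_mem b.2) a.2 y
      have h5 := add_of_quad S.hquad (A.inv_mem b.2) b.2 y
      simp only [inv_mul_cancel, map_one, Module.End.one_apply, sub_self] at h5
      rw [h4]
      have h6 : ρ b.1⁻¹ y - y = - (ρ b.1 y - y) := by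
        rw [eq_neg_iff_add_eq_zero]
        exact h5.symm
      rw [h6]
      convert h2 using 1
      abel
    have h7 := S.reg_inj hx hy hyC (A.mul_mem (A.inv_mem b.2) a.2) h3
    exact Subtype.ext (inv_mul_eq_one.1 h7).symm
  have : Finite (W ⧸ C) := Finite.of_surjective C.mkQ C.mkQ_surjective
  have hc2 : Nat.card K = Nat.card C * Nat.card (K.map C.mkQ) := card_eq_mul_map C K hCK
  have hc3 := (S.card_rel_and_top hx).1
  have hC0 : 0 < Nat.card C := Nat.card_pos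
  have hc4 : Nat.card (K.map C.mkQ) = Nat.card A := by
    have : Nat.card C * Nat.card (K.map C.mkQ) = Nat.card C * Nat.card A := by
      rw [← hc2, ← hc3, mul_comm]
    exact Nat.eq_of_mul_eq_mul_left hC0 this
  have hbij := Function.Injective.bijective_of_nat_card_le hg₀ hc4.le
  obtain ⟨a, ha⟩ := hbij.2 ⟨C.mkQ k, k, hk, rfl⟩
  refine ⟨a.1, a.2, ?_⟩
  exact (Submodule.Quotient.eq C).1 (congrArg Subtype.val ha)

/-- Translation of `C_W(A^x)`. -/
theorem act_mem_fx_cj' {x : P} (g : P) {w : W} (hw : w ∈ fx ρ (cj x A)) : ρ g w ∈ fx ρ (cj (g * x) A) := by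
  intro d hd
  have h1 : (g * x)⁻¹ * d * (g * x) ∈ A := mem_cj.1 hd
  have h2 : g⁻¹ * d * g ∈ cj x A := by
    rw [mem_cj]
    have : x⁻¹ * (g⁻¹ * d * g) * x = (g * x)⁻¹ * d * (g * x) := by group
    rwa [this]
  have h3 := hw _ h2
  rw [rho_mul, rho_mul] at h3
  have h4 := congrArg (ρ g) h3
  rwa [rho_rho_inv] at h4

/-- `M` stabilizes `C_W(A)`. -/
theorem norm_K [Finite P] [Finite W] (S : Off ρ A M T) {m : P} (hm : m ∈ M) {k : W} (hk : k ∈ fx ρ A) :
    ρ m k ∈ fx ρ A := by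
  obtain ⟨x, hx⟩ := S.exists_not_mem
  have htop := (S.card_rel_and_top hx).2
  have hw : ρ m k ∈ fx ρ A ⊔ fx ρ (cj x A) := by rw [htop]; trivial
  obtain ⟨k₁, hk₁, k', hk', hsum⟩ := Submodule.mem_sup.1 hw
  by_cases hk'C : k' ∈ fx ρ (⊤ : Subgroup P)
  · rw [← hsum]
    exact Submodule.add_mem _ hk₁ (fx_anti le_top hk'C)
  obtain ⟨a, ha, hac⟩ := S.reg_surj hx hk' hk'C (Submodule.neg_mem _ hk₁)
  -- `ρ a (ρ m k) = k' + c`
  have h1 : ρ a (ρ m k) - k' ∈ fx ρ (⊤ : Subgroup P) := by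
    have h2 : ρ a (ρ m k) - k' = ρ a k' - k' - (-k₁) := by
      rw [← hsum, map_add, hk₁ a ha]
      abel
    rw [h2]
    exact hac
  have h3 : ρ a (ρ m k) ∈ fx ρ (cj x A) := by
    have h4 : ρ a (ρ m k) = (ρ a (ρ m k) - k') + k' := by abel
    rw [h4]
    exact Submodule.add_mem _ (fx_anti le_top h1) hk'
  set g := a * m with hg
  have hgM : g ∈ M := M.mul_mem (S.A_le_M ha) hm
  have h5 : ρ g⁻¹ (ρ a (ρ m k)) = k := by
    rw [hg, ← rho_mul, ← rho_mul]
    simp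
  have h6 : k ∈ fx ρ (cj (g⁻¹ * x) A) := by
    rw [← h5]
    exact act_mem_fx_cj' g⁻¹ h3
  have hgx : g⁻¹ * x ∉ M := fun h => hx (by
    have := M.mul_mem hgM h
    simpa using this)
  have h7 := S.inter hgx hk h6
  rw [act_C h7]
  exact hk

/-- The normal subgroup acting trivially on `W / C_W(P)`. -/
theorem faithful_mod [Finite P] [Finite W] (S : Off ρ A M T) {r : P}
    (hr : ∀ w, ρ r w - w ∈ fx ρ (⊤ : Subgroup P)) : r = 1 := by
  classical
  let R₀ : Subgroup P := ⨅ w : W, stabC ρ w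
  have hmemR : ∀ r, r ∈ R₀ ↔ ∀ w, ρ r w - w ∈ fx ρ (⊤ : Subgroup P) := by
    intro r
    simp only [R₀, Subgroup.mem_iInf, mem_stabC]
  have hR₀n : R₀.Normal := by
    constructor
    intro n hn g
    rw [hmemR] at hn ⊢
    intro w
    have h1 := hn (ρ g⁻¹ w)
    have h2 : ρ (g * n * g⁻¹) w - w = ρ g (ρ n (ρ g⁻¹ w) - ρ g⁻¹ w) := by
      rw [map_sub, rho_rho_inv, rho_mul, rho_mul]
    rw [h2, act_C h1]
    exact h1
  -- exponent `p`
  have hpow : ∀ n ∈ R₀, n ^ p = 1 := by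
    intro n hn
    rw [hmemR] at hn
    apply S.inj
    rw [map_pow, map_one]
    apply LinearMap.ext
    intro w
    have h1 : ∀ k : ℕ, ((ρ n) ^ k) w = w + k • (ρ n w - w) := by
      intro k
      induction k with
      | zero => simp
      | succ k ih =>
        rw [pow_succ', Module.End.mul_apply, ih, map_add, map_nsmul, act_C (hn w) n, succ_nsmul]
        abel
    rw [h1]
    have h2 : p • (ρ n w - w) = 0 := by
      rw [← Nat.cast_smul_eq_nsmul (ZMod p), ZMod.natCast_self, zero_smul]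
    rw [h2, add_zero]
    rfl
  have hRp : IsPGroup p R₀ := fun n => ⟨1, by
    apply Subtype.ext
    simpa using hpow n.1 n.2⟩
  have hRT : R₀ ≤ T := by
    have h1 : IsPGroup p (R₀ ⊔ (T : Subgroup P) : Subgroup P) := hRp.to_sup_of_normal_left T.2
    have h2 := T.is_maximal' h1 le_sup_right
    exact le_sup_left.trans h2.le
  obtain ⟨u, huT, huC⟩ := S.H3
  have hfix : ∀ n ∈ R₀, ∀ g, ρ n (ρ g u) = ρ g u := by
    intro n hn g
    have h1 : g⁻¹ * n * g ∈ R₀ := by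
      have := hR₀n.conj_mem n hn g⁻¹
      simpa using this
    have h2 := huT _ (hRT h1)
    rw [rho_mul, rho_mul] at h2
    have h3 := congrArg (ρ g) h2
    rwa [rho_rho_inv] at h3
  obtain ⟨x, hx⟩ := S.exists_not_mem
  have huA : u ∈ fx ρ A := fx_anti S.hAT huT
  have hy₀ : ρ x u ∈ fx ρ (cj x A) := act_mem_fx_cj x huA
  have hy₀C : ρ x u ∉ fx ρ (⊤ : Subgroup P) := by
    intro h
    apply huC
    have := act_C h x⁻¹
    rw [rho_inv_rho] at this
    rw [this]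
    exact h
  have hK : ∀ n ∈ R₀, ∀ k ∈ fx ρ A, ρ n k = k := by
    intro n hn k hk
    obtain ⟨a, ha, hac⟩ := S.reg_surj hx hy₀ hy₀C hk
    have h1 : k = ρ (a * x) u - ρ x u - (ρ a (ρ x u) - ρ x u - k) := by
      rw [rho_mul]
      abel
    rw [h1, map_sub, map_sub, hfix n hn, hfix n hn, act_C hac]
  have hK' : ∀ n ∈ R₀, ∀ k ∈ fx ρ (cj x A), ρ n k = k := by
    intro n hn k hk
    have h1 : x⁻¹ * n * x ∈ R₀ := by
      have := hR₀n.conj_mem n hn x⁻¹
      simpa using this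
    have h2 := hK _ h1 _ (inv_act_mem_fx hk)
    rw [rho_mul, rho_mul] at h2
    have h3 := congrArg (ρ x) h2
    rwa [rho_rho_inv, rho_rho_inv] at h3
  apply S.inj
  rw [map_one]
  apply LinearMap.ext
  intro w
  have hw : w ∈ fx ρ A ⊔ fx ρ (cj x A) := by
    rw [(S.card_rel_and_top hx).2]; trivial
  obtain ⟨k₁, hk₁, k₂, hk₂, rfl⟩ := Submodule.mem_sup.1 hw
  have hrR : r ∈ R₀ := (hmemR r).2 hr
  rw [map_add, hK r hrR k₁ hk₁, hK' r hrR k₂ hk₂]
  rfl

end Off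

end Cfsg.Agent.Lib.PGroup.OffPair
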