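import Cfsg.Agent.S0227
import Cfsg.Prelude.Def_KGroupFacts

/-!
Solvability of `Out(G)` for a simple group via the Frattini argument on a Sylow 2-subgroup
and Glauberman's theorem on automorphisms centralizing a Sylow 2-subgroup.
-/

set_option autoImplicit false

namespace Cfsg.Agent.Lib.PGroup.OutSolv

open Cfsg

variable {G : Type*} [Group G]

/-- The automorphisms of `G` that stabilize the subgroup `S`. -/
def stab (S : Subgroup G) : Subgroup (MulAut G) where
  carrier := {φ | ∀ x, φ x ∈ S ↔ x ∈ S}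
  mul_mem' := by
    intro a b ha hb x
    rw [MulAut.mul_apply]
    rw [ha (b x), hb x]
  one_mem' := by
    intro x; simp
  inv_mem' := by
    intro a ha x
    have := ha (a⁻¹ x)
    rw [← this]
    simp

theorem mem_stab {S : Subgroup G} {φ : MulAut G} : φ ∈ stab S ↔ ∀ x, φ x ∈ S ↔ x ∈ S := Iff.rfl

/-- The automorphisms of `G` fixing `S` pointwise. -/
def cent (S : Subgroup G) : Subgroup (MulAut G) where
  carrier := {φ | ∀ s : G, s ∈ S → φ s = s}
  mul_mem' := by
    intro a b ha hb s hs
    rw [MulAut.mul_apply, hb s hs, ha s hs]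
  one_mem' := by
    intro s _; simp
  inv_mem' := by
    intro a ha s hs
    have := ha s hs
    conv_lhs => rw [← this]
    simp

theorem cent_le_stab (S : Subgroup G) : cent S ≤ stab S := by
  intro φ hφ x
  constructor
  · intro hx
    have h1 : φ⁻¹ ∈ cent S := (cent S).inv_mem hφ
    have h2 := h1 (φ x) hx
    have h3 : φ⁻¹ (φ x) = x := by simp
    rw [h3] at h2
    rw [h2]; exact hx
  · intro hx
    rw [hφ x hx]; exact hx

/-- Restriction of a stabilizing automorphism to `S`. -/
def res (S : Subgroup G) : ↥(stab S) →* MulAut ↥S where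
  toFun φ :=
    { toFun := fun x => ⟨(φ : MulAut G) (x : G), ((φ.2 (x : G))).mpr x.2⟩
      invFun := fun x => ⟨(φ : MulAut G)⁻¹ (x : G), ((φ⁻¹).2 (x : G)).mpr x.2⟩
      left_inv := by
        intro x; ext; simp
      right_inv := by
        intro x; ext; simp
      map_mul' := by
        intro x y; ext; simp }
  map_one' := by
    ext x; simp
  map_mul' := by
    intro a b; ext x; simp

theorem res_apply (S : Subgroup G) (φ : ↥(stab S)) (x : ↥S) :
    ((res S φ x : ↥S) : G) = (φ : MulAut G) (x : G) := rfl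

theorem ker_res_le (S : Subgroup G) :
    (res S).ker ≤ (Subgroup.inclusion (cent_le_stab S)).range := by
  intro φ hφ
  refine ⟨⟨(φ : MulAut G), ?_⟩, ?_⟩
  · intro s hs
    have h1 : res S φ = 1 := hφ
    have h2 := res_apply S φ ⟨s, hs⟩
    rw [h1] at h2
    simpa using h2.symm
  · ext x; rfl

/-- `stab S` is solvable if the image of the restriction map is. -/
theorem stab_solvable (S : Subgroup G) (hC : Group.IsSolvable ↥(cent S))
    (hI : Group.IsSolvable ↥(res S).range) : Group.IsSolvable ↥(stab S) := by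
  haveI := hC
  haveI := hI
  exact Group.isSolvable_of_ker_le_range (Subgroup.inclusion (cent_le_stab S)) (res S).rangeRestrict
    (by
      rw [MonoidHom.ker_rangeRestrict]
      exact ker_res_le S)

variable [Finite G]

/-- Frattini: `stab S` surjects onto `Out(G)` when `S` is Sylow. -/
theorem out_solvable_of_stab (S : Sylow 2 G) (h : Group.IsSolvable ↥(stab (S : Subgroup G))) :
    Group.IsSolvable (Out G) := by
  classical
  haveI := h
  let f : ↥(stab (S : Subgroup G)) →* Out G :=
    (QuotientGroup.mk' (Inn G)).comp (stab (S : Subgroup G)).subtype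
  refine solvable_of_surjective (f := f) ?_
  intro q
  obtain ⟨φ, rfl⟩ := QuotientGroup.mk_surjective q
  open scoped Pointwise in
  have key : ∃ g : G, ∀ x : G, φ x ∈ (S : Subgroup G) ↔ g * x * g⁻¹ ∈ (S : Subgroup G) := by
    let T : Sylow 2 G := φ⁻¹ • S
    obtain ⟨g, hg⟩ := MulAction.exists_smul_eq G S T
    refine ⟨g⁻¹, fun x => ?_⟩
    have h1 : (x ∈ (T : Subgroup G)) ↔ φ x ∈ (S : Subgroup G) := by
      change x ∈ (φ⁻¹ • (S : Subgroup G)) ↔ _
      rw [Subgroup.mem_pointwise_smul_iff_inv_smul_mem]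
      simp [MulAut.smul_def]
    have h2 : (x ∈ (T : Subgroup G)) ↔ g⁻¹ * x * g⁻¹⁻¹ ∈ (S : Subgroup G) := by
      rw [← hg, Sylow.smul_def]
      change x ∈ (MulAut.conj g • (S : Subgroup G)) ↔ _
      rw [Subgroup.mem_pointwise_smul_iff_inv_smul_mem]
      simp [MulAut.smul_def, MulAut.conj_inv_apply]
    exact h1.symm.trans h2
  obtain ⟨g, hg⟩ := key
  -- `ψ = φ ∘ conj(g)⁻¹`
  have hψ : φ * (MulAut.conj g)⁻¹ ∈ stab (S : Subgroup G) := by
    intro y
    rw [MulAut.mul_apply]
    have h3 := hg ((MulAut.conj g)⁻¹ y)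
    rw [h3]
    have h4 : g * (MulAut.conj g)⁻¹ y * g⁻¹ = y := by
      rw [MulAut.conj_inv_apply]; group
    rw [h4]
  refine ⟨⟨φ * (MulAut.conj g)⁻¹, hψ⟩, ?_⟩
  change (QuotientGroup.mk (φ * (MulAut.conj g)⁻¹) : Out G) = QuotientGroup.mk φ
  rw [eq_comm, QuotientGroup.eq]
  refine ⟨g⁻¹, ?_⟩
  simp

/-- Main reduction: if `G` is simple of even order and the image of `stab S` in `Aut(S)` is
solvable, then `Out(G)` is solvable. -/
theorem out_solvable_of_range {S : Sylow 2 G} [IsSimpleGroup G] (hS1 : (S : Subgroup G) ≠ ⊥)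
    (hI : Group.IsSolvable ↥(res (S : Subgroup G)).range) : Group.IsSolvable (Out G) := by
  classical
  apply out_solvable_of_stab S
  apply stab_solvable _ _ hI
  have hO : ∀ N : Subgroup G, N.Normal → Odd (Nat.card N) → N = ⊥ := by
    intro N hN hodd
    rcases hN.eq_bot_or_eq_top with h | h
    · exact h
    · exfalso
      subst h
      have h2 : Nat.card (S : Subgroup G) ∣ Nat.card (⊤ : Subgroup G) :=
        Subgroup.card_dvd_of_le le_top
      have h3 : Odd (Nat.card (S : Subgroup G)) := Odd.of_dvd_nat hodd h2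
      apply hS1
      obtain ⟨n, hn⟩ := IsPGroup.iff_card.mp S.isPGroup'
      rw [hn] at h3
      have h4 : n = 0 := by
        by_contra h0
        have : Even (2 ^ n) := (Nat.even_pow.mpr ⟨even_two, h0⟩)
        exact (Nat.not_even_iff_odd.mpr h3) this
      rw [h4, pow_zero] at hn
      exact Subgroup.card_eq_one.mp hn
  exact (Cfsg.Agent.S0227.result hO S (cent (S : Subgroup G)) (fun φ => Iff.rfl)).2

end Cfsg.Agent.Lib.PGroup.OutSolv
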