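import Mathlib
import Cfsg.Agent.Lib.PGroup.QdControl

/-!
# Glauberman's control theorem for strongly closed subgroups and the elementary version
-/

namespace Cfsg.Agent.Lib.PGroup.QdControlD

open Subgroup Cfsg.Agent.Lib.PGroup.ZJ Cfsg.Agent.Lib.PGroup.ZJCore Cfsg.Agent.Lib.PGroup.ZJControl
open Cfsg.Agent.Lib.PGroup.QdControl
open Cfsg.Agent.Lib.PGroup.Replacement (mem_normalizer_of_conj_mem card_lt_of_lt)
open Cfsg.Agent.Lib.Components.PConstrained Cfsg.Agent.Lib.Basic.PCore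
open scoped commutatorElement Pointwise

universe u

variable {p : ℕ} [Fact p.Prime]

/-- The control property. -/
def QCD (p k : ℕ) [Fact p.Prime] (G : Type u) [Group G] : Prop :=
  ∀ (S : Sylow p G) (D : Subgroup G), Cfsg.IsStronglyClosed D (S : Subgroup G) →
    ∀ (B : Subgroup G) (g : G), B ≤ (S : Subgroup G) →
    (∀ b ∈ B, g * b * g⁻¹ ∈ (S : Subgroup G)) → Good (normalizer (ZZ k D : Set G)) g B

section Fin

variable {G : Type u} [Group G] [Finite G] {k : ℕ}

/-- Elements of `S` normalize `ZZ k D`. -/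
theorem sylow_le_normalizerD {S : Sylow p G} {D : Subgroup G}
    (hD : Cfsg.IsStronglyClosed D (S : Subgroup G)) :
    (S : Subgroup G) ≤ normalizer (ZZ k D : Set G) := fun s hs =>
  mem_normalizer_of_conj_mem fun _ hx => conj_mem_ZZ (fun x hxD =>
    hD.2 x hxD s (mul_mem (mul_mem hs (hD.1 hxD)) (inv_mem hs))) hx

/-- An element normalizing `S` normalizes `ZZ k D`. -/
theorem normalizer_le_normalizerD {S : Sylow p G} {D : Subgroup G}
    (hD : Cfsg.IsStronglyClosed D (S : Subgroup G)) {g : G}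
    (hg : ∀ s ∈ (S : Subgroup G), g * s * g⁻¹ ∈ (S : Subgroup G)) :
    g ∈ normalizer (ZZ k D : Set G) :=
  mem_normalizer_of_conj_mem fun _ hx => conj_mem_ZZ (fun x hxD =>
    hD.2 x hxD g (hg x (hD.1 hxD))) hx

/-- Transfer from a subgroup. -/
theorem good_of_subgroupD {S : Sylow p G} {D : Subgroup G}
    (hD : Cfsg.IsStronglyClosed D (S : Subgroup G)) (L : Subgroup G) (hL : QCD p k ↥L)
    (T : Sylow p ↥L) (hT : (T : Subgroup L).map L.subtype = (S : Subgroup G) ⊓ L) {y : G} (hy : y ∈ L)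
    {B : Subgroup G} (hB : B ≤ (S : Subgroup G) ⊓ L)
    (hyB : ∀ b ∈ B, y * b * y⁻¹ ∈ (S : Subgroup G) ⊓ L) :
    ∃ x ∈ L, x ∈ normalizer (ZZ k (D ⊓ ((S : Subgroup G) ⊓ L)) : Set G) ∧
      ∀ b ∈ B, y * b * y⁻¹ = x * b * x⁻¹ := by
  have hBL : B ≤ L := hB.trans inf_le_right
  have hmemT : ∀ x : L, x ∈ (T : Subgroup L) ↔ (x : G) ∈ (S : Subgroup G) ⊓ L := by
    intro x
    rw [← hT]
    constructor
    · intro h
      exact ⟨x, h, rfl⟩
    · rintro ⟨x', hx', hxe⟩
      have : x' = x := Subtype.ext hxe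
      rwa [← this]
  set R := D ⊓ ((S : Subgroup G) ⊓ L) with hR
  have hRL : R ≤ L := inf_le_right.trans inf_le_right
  have hDL : Cfsg.IsStronglyClosed (R.subgroupOf L) (T : Subgroup L) := by
    constructor
    · intro x hx
      rw [Subgroup.mem_subgroupOf] at hx
      exact (hmemT x).mpr hx.2
    · intro x hx l hl
      rw [Subgroup.mem_subgroupOf] at hx ⊢
      have h1 := (hmemT _).mp hl
      refine Subgroup.mem_inf.mpr ⟨?_, h1⟩
      exact hD.2 _ hx.1 (l : G) h1.1
  obtain ⟨x, hx, e⟩ := hL T (R.subgroupOf L) hDL (B.subgroupOf L) ⟨y, hy⟩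
    (fun b hb => (hmemT b).mpr (hB hb))
    (fun b hb => (hmemT _).mpr (hyB b hb))
  have hZ : (ZZ k (R.subgroupOf L)).map L.subtype = ZZ k R := by
    have h1 := ZZ_map_hom L.subtype (R := R.subgroupOf L) (fun x _ h => Subtype.ext h) k
    rwa [Cfsg.Agent.Lib.PGroup.Replacement.map_subgroupOf_of_le hRL] at h1
  refine ⟨x, x.2, ?_, ?_⟩
  · rw [← hZ]
    apply mem_normalizer_of_conj_mem
    rintro _ ⟨z, hz, rfl⟩
    exact ⟨x * z * x⁻¹, (mem_normalizer_iff.mp hx z).mp hz, rfl⟩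
  · intro b hb
    exact congrArg Subtype.val (e ⟨b, hBL hb⟩ hb)

/-- Transfer from a subgroup containing the Sylow subgroup. -/
theorem good_of_leD (S : Sylow p G) {D : Subgroup G}
    (hD : Cfsg.IsStronglyClosed D (S : Subgroup G)) {L : Subgroup G} (h : (S : Subgroup G) ≤ L)
    (hL : QCD p k ↥L)
    {y : G} (hy : y ∈ L) {B : Subgroup G} (hB : B ≤ (S : Subgroup G))
    (hyB : ∀ b ∈ B, y * b * y⁻¹ ∈ (S : Subgroup G)) :
    Good (normalizer (ZZ k D : Set G)) y B := by
  have hm := map_sylow_subtype S h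
  have he : (S : Subgroup G) ⊓ L = S := inf_eq_left.mpr h
  have hDS : D ⊓ (S : Subgroup G) = D := inf_eq_left.mpr hD.1
  obtain ⟨x, -, hx, e⟩ := good_of_subgroupD hD L hL (S.subtype h) (by rw [hm, he]) hy (B := B)
    (by rw [he]; exact hB) (by rw [he]; exact hyB)
  rw [he, hDS] at hx
  exact ⟨x, hx, e⟩

/-- The induction step modulo `O_{p'}(G)`. -/
theorem good_of_coreD (hQ : QCD p k (G ⧸ Cfsg.pPrimeCore p G)) (S : Sylow p G) {D : Subgroup G}
    (hD : Cfsg.IsStronglyClosed D (S : Subgroup G)) (B : Subgroup G) (g : G)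
    (hB : B ≤ (S : Subgroup G)) (hgB : ∀ b ∈ B, g * b * g⁻¹ ∈ (S : Subgroup G)) :
    Good (normalizer (ZZ k D : Set G)) g B := by
  set O := Cfsg.pPrimeCore p G with hO
  set φ := QuotientGroup.mk' O with hφ
  have hφs : Function.Surjective φ := QuotientGroup.mk'_surjective _
  have hSp : IsPGroup p (S : Subgroup G) := S.isPGroup'
  let S' : Sylow p (G ⧸ O) := S.mapSurjective hφs
  have hS' : (S' : Subgroup _) = (S : Subgroup G).map φ := rfl
  have hinj := hinj_core hSp
  have hD' : Cfsg.IsStronglyClosed (D.map φ) (S' : Subgroup _) := stronglyClosed_map S hD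
  set Z := ZZ k D with hZ
  have hZS : Z ≤ (S : Subgroup G) := (ZZ_le_self k D).trans hD.1
  have hZp : IsPGroup p Z := hSp.to_le hZS
  have hZm : Z.map φ = ZZ k (D.map φ) :=
    ZZ_map_hom φ (fun x hx => hinj x (hD.1 hx)) k
  obtain ⟨x', hx', e'⟩ := hQ S' (D.map φ) hD' (B.map φ) (φ g) (Subgroup.map_mono hB) (by
    rintro _ ⟨b, hb, rfl⟩
    rw [hS']
    exact ⟨g * b * g⁻¹, hgB b hb, by simp only [map_mul, map_inv]⟩)
  obtain ⟨x, rfl⟩ := hφs x'
  -- correct `x` into `N(Z)`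
  have hZN : Z ≤ normalizer (O : Set G) := by
    rw [Subgroup.normalizer_eq_top_iff.mpr inferInstance]; exact le_top
  have hleZ : Z.map (MulAut.conj x).toMonoidHom ≤ O ⊔ Z := by
    rintro _ ⟨z, hz, rfl⟩
    have h1 : φ x * φ z * (φ x)⁻¹ ∈ Z.map φ := by
      rw [hZm]
      refine (mem_normalizer_iff.mp hx' _).mp ?_
      rw [← hZm]
      exact ⟨z, hz, rfl⟩
    obtain ⟨w, hw, hwe⟩ := h1
    have h2 : (MulAut.conj x).toMonoidHom z = (x * z * x⁻¹ * w⁻¹) * w := by
      simp only [MulEquiv.coe_toMonoidHom, MulAut.conj_apply]; group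
    rw [h2]
    refine Subgroup.mul_mem_sup ?_ hw
    rw [← QuotientGroup.ker_mk' O, MonoidHom.mem_ker, map_mul, map_mul, map_mul, map_inv, map_inv, ← hφ,
      hwe]
    group
  have hcardZ : Nat.card (Z.map (MulAut.conj x).toMonoidHom) = Nat.card Z := card_map_conj x Z
  obtain ⟨n, hn, hnZ⟩ := Cfsg.Agent.Lib.Coprime.Coset.exists_conj_eq_of_card_eq hZN
    (coprime_card_pgroup_core hZp) (Or.inl (isPGroup_isSolvable hZp)) hleZ hcardZ
  set x₁ := n⁻¹ * x with hx₁
  have hφn : φ n = 1 := by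
    rw [← MonoidHom.mem_ker, QuotientGroup.ker_mk']; exact hn
  have hφx₁ : φ x₁ = φ x := by
    rw [hx₁, map_mul, map_inv, hφn]; simp
  have hx₁N : x₁ ∈ normalizer (Z : Set G) := by
    apply mem_normalizer_of_conj_mem
    intro z hz
    have h1 : x * z * x⁻¹ ∈ Z.map (MulAut.conj n).toMonoidHom := by
      rw [hnZ]
      exact ⟨z, hz, rfl⟩
    obtain ⟨w, hw, hwe⟩ := h1
    have h2 : n * w * n⁻¹ = x * z * x⁻¹ := hwe
    have h3 : x₁ * z * x₁⁻¹ = w := by
      rw [hx₁]
      calc n⁻¹ * x * z * (n⁻¹ * x)⁻¹ = n⁻¹ * (x * z * x⁻¹) * n := by group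
        _ = w := by rw [← h2]; group
    rw [h3]
    exact hw
  obtain ⟨x₂, hx₂, e₂⟩ := core_descent S (sylow_le_normalizerD hD) hx₁N hB hgB (by
    intro b hb
    change _ ∈ O
    rw [← QuotientGroup.ker_mk' O, MonoidHom.mem_ker, map_mul, map_mul, map_mul, map_inv, map_inv,
      map_mul, map_mul, map_inv]
    have h1 := e' (φ b) ⟨b, hb, rfl⟩
    rw [← hφ, hφx₁, h1]
    group)
  exact ⟨x₂, hx₂, e₂⟩

/-- The case `O_p(G) = 1`. -/
theorem good_of_pCore_botD (hk : k = 0 ∨ k = p) (hcore : Cfsg.pCore p G = ⊥)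
    (hsub : ∀ L : Subgroup G, L ≠ ⊤ → QCD p k ↥L)
    (S : Sylow p G) {D : Subgroup G} (hD : Cfsg.IsStronglyClosed D (S : Subgroup G))
    (B : Subgroup G) (g : G) (hB : B ≤ (S : Subgroup G))
    (hgB : ∀ b ∈ B, g * b * g⁻¹ ∈ (S : Subgroup G)) :
    Good (normalizer (ZZ k D : Set G)) g B := by
  by_cases hD1 : D = ⊥
  · refine ⟨g, ?_, fun _ _ => rfl⟩
    have : ZZ k D = ⊥ := le_bot_iff.mp (hD1 ▸ ZZ_le_self k D)
    rw [this, Subgroup.normalizer_eq_top_iff.mpr inferInstance]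
    trivial
  refine control_main S hD ?_ ?_ _ B g rfl hB hgB
  · intro Q hQS hQ1 hFN y hy B₀ hB₀ hyB₀
    have hL : normalizer (Q : Set G) ≠ ⊤ := by
      intro h
      have hn : Q.Normal := Subgroup.normalizer_eq_top_iff.mp h
      exact hQ1 (le_bot_iff.mp (hcore ▸ le_pCore hn ((S.isPGroup').to_le hQS)))
    obtain ⟨T, hT⟩ := exists_sylow_of_FN hFN
    obtain ⟨x, -, hx, e⟩ := good_of_subgroupD hD _ (hsub _ hL) T hT hy hB₀ hyB₀
    exact ⟨x, hx, e⟩
  · intro Q hQS
    exact ZZ_ne_bot hk ((S.isPGroup').to_le (inf_le_right.trans inf_le_left))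
      (inf_ne_bot S hD hD1 hQS)

/-- The case of a proper `N(S ∩ M)` and `MS`. -/
theorem good_of_frattiniD {M : Subgroup G} [hM : M.Normal] (S : Sylow p G) {D : Subgroup G}
    (hD : Cfsg.IsStronglyClosed D (S : Subgroup G))
    (h1 : QCD p k ↥(normalizer (((S : Subgroup G) ⊓ M : Subgroup G) : Set G)))
    (h2 : QCD p k ↥(M ⊔ (S : Subgroup G)))
    (B : Subgroup G) (g : G) (hB : B ≤ (S : Subgroup G))
    (hgB : ∀ b ∈ B, g * b * g⁻¹ ∈ (S : Subgroup G)) :
    Good (normalizer (ZZ k D : Set G)) g B := by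
  obtain ⟨g₁, hg₁, g₂, hg₂, rfl, hg₁B⟩ := frattini_fusion (M := M) S hB hgB
  have hSN : (S : Subgroup G) ≤ normalizer (((S : Subgroup G) ⊓ M : Subgroup G) : Set G) := by
    intro s hs
    apply mem_normalizer_of_conj_mem
    rintro x ⟨hx1, hx2⟩
    exact Subgroup.mem_inf.mpr ⟨mul_mem (mul_mem hs hx1) (inv_mem hs), hM.conj_mem x hx2 s⟩
  have hG1 := good_of_leD S hD hSN h1 hg₁ hB hg₁B
  set B' := B.map (MulAut.conj g₁).toMonoidHom with hB'
  have hB'S : B' ≤ (S : Subgroup G) := by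
    rintro _ ⟨b, hb, rfl⟩
    exact hg₁B b hb
  have hG2 : Good (normalizer (ZZ k D : Set G)) g₂ B' := by
    refine good_of_leD S hD le_sup_right h2 ((le_sup_left : M ≤ M ⊔ (S : Subgroup G)) hg₂) hB'S ?_
    rintro _ ⟨b, hb, rfl⟩
    have := hgB b hb
    have h3 : g₂ * (MulAut.conj g₁).toMonoidHom b * g₂⁻¹ = g₂ * g₁ * b * (g₂ * g₁)⁻¹ := by
      simp only [MulEquiv.coe_toMonoidHom, MulAut.conj_apply]; group
    rw [h3]
    exact this
  exact Good.comp hG1 hG2 (fun b hb => ⟨b, hb, rfl⟩)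

/-- The step for a fully normalized `B ≥ V`. -/
theorem good_of_FN_stepD {V B : Subgroup G} [hV : V.Normal] (hVp : IsPGroup p V)
    (hq : IsPGroup p (G ⧸ centralizer (V : Set G))) (hquo : QCD p k (G ⧸ V)) (S : Sylow p G)
    {D : Subgroup G} (hD : Cfsg.IsStronglyClosed D (S : Subgroup G))
    (hX : QCD p k ↥(normalizer (((ZZ k ((S : Subgroup G).map (QuotientGroup.mk' V))).comap
      (QuotientGroup.mk' V) : Subgroup G) : Set G)))
    (hVB : V ≤ B) (hB : B ≤ (S : Subgroup G)) (hFN : FN S B) {g : G}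
    (hgB : ∀ b ∈ B, g * b * g⁻¹ ∈ (S : Subgroup G)) :
    Good (normalizer (ZZ k D : Set G)) g B := by
  set φ := QuotientGroup.mk' V with hφ
  have hφs : Function.Surjective φ := QuotientGroup.mk'_surjective _
  let S' : Sylow p (G ⧸ V) := S.mapSurjective hφs
  have hS' : (S' : Subgroup _) = (S : Subgroup G).map φ := rfl
  have hS'closed : Cfsg.IsStronglyClosed ((S : Subgroup G).map φ) (S' : Subgroup _) :=
    strongly_closed_self _
  set X := (ZZ k ((S : Subgroup G).map φ)).comap φ with hXdef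
  obtain ⟨x', hx', e'⟩ := hquo S' _ hS'closed (B.map φ) (φ g) (Subgroup.map_mono hB) (by
    rintro _ ⟨b, hb, rfl⟩
    rw [hS']
    exact ⟨g * b * g⁻¹, hgB b hb, by simp only [map_mul, map_inv]⟩)
  obtain ⟨x, rfl⟩ := hφs x'
  have hxN : x ∈ normalizer (X : Set G) := by
    apply mem_normalizer_of_conj_mem
    intro z hz
    change φ (x * z * x⁻¹) ∈ ZZ k ((S : Subgroup G).map φ)
    rw [map_mul, map_mul, map_inv]
    exact (mem_normalizer_iff.mp hx' _).mp hz
  have hSN : (S : Subgroup G) ≤ normalizer (X : Set G) := by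
    intro s hs
    apply mem_normalizer_of_conj_mem
    intro z hz
    change φ (s * z * s⁻¹) ∈ ZZ k ((S : Subgroup G).map φ)
    rw [map_mul, map_mul, map_inv]
    exact (mem_normalizer_iff.mp (sylow_le_normalizerD hS'closed (show φ s ∈ (S' : Subgroup _) from
      ⟨s, hs, rfl⟩)) _).mp hz
  -- `x b x⁻¹ ≡ g b g⁻¹ mod V`
  have hmod : ∀ b ∈ B, (x * b * x⁻¹) * (g * b * g⁻¹)⁻¹ ∈ V := by
    intro b hb
    have h1 := e' (φ b) ⟨b, hb, rfl⟩
    rw [← QuotientGroup.ker_mk' V, MonoidHom.mem_ker, ← hφ]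
    simp only [map_mul, map_inv]
    rw [mul_inv_eq_one]
    exact h1.symm
  have hxB : ∀ b ∈ B, x * b * x⁻¹ ∈ (S : Subgroup G) := by
    intro b hb
    have h1 : x * b * x⁻¹ = ((x * b * x⁻¹) * (g * b * g⁻¹)⁻¹) * (g * b * g⁻¹) := by group
    rw [h1]
    exact mul_mem (hB (hVB (hmod b hb))) (hgB b hb)
  obtain ⟨x₁, hx₁, e₁⟩ := good_of_leD S hD hSN hX hxN hB hxB
  set c := x⁻¹ * g with hc
  have hcmod : ∀ b ∈ B, c * b * c⁻¹ * b⁻¹ ∈ V := by
    intro b hb
    have h1 : c * b * c⁻¹ * b⁻¹ = x⁻¹ * ((x * b * x⁻¹) * (g * b * g⁻¹)⁻¹)⁻¹ * x⁻¹⁻¹ := by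
      rw [hc]; group
    rw [h1]
    exact hV.conj_mem _ (inv_mem (hmod b hb)) _
  have hcN : c ∈ normalizer (B : Set G) := by
    apply mem_normalizer_of_conj_mem
    intro b hb
    have h1 : c * b * c⁻¹ = (c * b * c⁻¹ * b⁻¹) * b := by group
    rw [h1]
    exact mul_mem (hVB (hcmod b hb)) hb
  obtain ⟨d, hd, hde⟩ := exists_sylow_factor hVp hq hFN hcN hcmod
  refine ⟨x₁ * d, mul_mem hx₁ (sylow_le_normalizerD hD hd.1), fun b hb => ?_⟩
  have h1 : d * b * d⁻¹ ∈ B := (mem_normalizer_iff.mp hd.2 b).mp hb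
  have h2 := e₁ _ h1
  calc g * b * g⁻¹ = x * (c * b * c⁻¹) * x⁻¹ := by rw [hc]; group
    _ = x * (d * b * d⁻¹) * x⁻¹ := by rw [hde b hb]
    _ = x₁ * (d * b * d⁻¹) * x₁⁻¹ := h2
    _ = _ := by group

/-- Descending induction on `|B|`, when `G / C(V)` is a `p`-group. -/
theorem good_of_pGroupQuotD {V : Subgroup G} [hV : V.Normal] (hVp : IsPGroup p V)
    (hq : IsPGroup p (G ⧸ centralizer (V : Set G))) (hquo : QCD p k (G ⧸ V)) (S : Sylow p G)
    {D : Subgroup G} (hD : Cfsg.IsStronglyClosed D (S : Subgroup G))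
    (hVS : V ≤ (S : Subgroup G))
    (hX : QCD p k ↥(normalizer (((ZZ k ((S : Subgroup G).map (QuotientGroup.mk' V))).comap
      (QuotientGroup.mk' V) : Subgroup G) : Set G))) :
    ∀ (n : ℕ) (B : Subgroup G) (g : G), Nat.card (S : Subgroup G) - Nat.card B = n →
      B ≤ (S : Subgroup G) → (∀ b ∈ B, g * b * g⁻¹ ∈ (S : Subgroup G)) →
      Good (normalizer (ZZ k D : Set G)) g B := by
  intro n
  induction n using Nat.strong_induction_on with
  | _ n IHn =>
    intro B g hn hB hgB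
    have IH : ∀ B' : Subgroup G, B' ≤ (S : Subgroup G) → Nat.card B < Nat.card B' → ∀ g' : G,
        (∀ b ∈ B', g' * b * g'⁻¹ ∈ (S : Subgroup G)) →
        Good (normalizer (ZZ k D : Set G)) g' B' := by
      intro B' hB' hc g' hg'
      have h2 : Nat.card B' ≤ Nat.card (S : Subgroup G) := Subgroup.card_le_of_le hB'
      exact IHn _ (by omega) B' g' rfl hB' hg'
    by_cases hVB : V ≤ B
    swap
    · have hlt : B < B ⊔ V := lt_of_le_of_ne le_sup_left (fun h => hVB (h ▸ le_sup_right))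
      have hle : B ⊔ V ≤ (S : Subgroup G) := sup_le hB hVS
      refine Good.mono (IH _ hle (card_lt_of_lt hlt) g ?_) le_sup_left
      intro x hx
      rw [← SetLike.mem_coe, Subgroup.mul_normal] at hx
      obtain ⟨b, hb, v, hv, rfl⟩ := Set.mem_mul.mp hx
      have h1 : g * (b * v) * g⁻¹ = (g * b * g⁻¹) * (g * v * g⁻¹) := by group
      rw [h1]
      exact mul_mem (hgB b hb) (hVS (hV.conj_mem v hv g))
    by_cases hBS : B = (S : Subgroup G)
    · refine Good.of_mem B (normalizer_le_normalizerD hD ?_)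
      intro s hs
      rw [← hBS] at hs ⊢
      rw [hBS] at hs ⊢
      exact hgB s (hBS ▸ hs)
    have hlt : B < (S : Subgroup G) := lt_of_le_of_ne hB hBS
    have hM₀ : B < (S : Subgroup G) ⊓ normalizer (B : Set G) := by
      obtain ⟨x, hxS, hxC, hxN⟩ := Cfsg.Agent.Lib.PGroup.Basic.exists_mem_normalizer_of_lt
        (S.isPGroup') hlt
      refine lt_of_le_of_ne (le_inf hB Subgroup.le_normalizer) ?_
      intro h
      exact hxC (h ▸ (Subgroup.mem_inf.mpr ⟨hxS, hxN⟩))
    obtain ⟨u, hu, hFN⟩ := exists_FN_conj (Q := B) S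
    have hGu := IH _ inf_le_left (card_lt_of_lt hM₀) u hu
    set B₂ := B.map (MulAut.conj u).toMonoidHom with hB₂
    have hB₂S : B₂ ≤ (S : Subgroup G) := by
      rintro _ ⟨b, hb, rfl⟩
      exact hu b (hM₀.le hb)
    have hVB₂ : V ≤ B₂ := by
      intro v hv
      refine ⟨u⁻¹ * v * u⁻¹⁻¹, hVB (hV.conj_mem v hv _), ?_⟩
      simp only [MulEquiv.coe_toMonoidHom, MulAut.conj_apply]; group
    have hg₂ : ∀ c ∈ B₂, (g * u⁻¹) * c * (g * u⁻¹)⁻¹ ∈ (S : Subgroup G) := by
      rintro _ ⟨b, hb, rfl⟩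
      have h1 : (g * u⁻¹) * (MulAut.conj u).toMonoidHom b * (g * u⁻¹)⁻¹ = g * b * g⁻¹ := by
        simp only [MulEquiv.coe_toMonoidHom, MulAut.conj_apply]; group
      rw [h1]
      exact hgB b hb
    have hG2 := good_of_FN_stepD hVp hq hquo S hD hX hVB₂ hB₂S hFN hg₂
    have := Good.comp (Good.mono hGu hM₀.le) hG2 (fun b hb => ⟨b, hb, rfl⟩)
    simpa using this

theorem qcd_step (hp : p ≠ 2) (hk : k = 0 ∨ k = p)
    (hst : ∀ (P : Subgroup G) [P.Normal], IsPGroup p P → Cfsg.IsPStableOn p P)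
    (hsub : ∀ L : Subgroup G, L ≠ ⊤ → QCD p k ↥L)
    (hquo : ∀ (N : Subgroup G) [N.Normal], N ≠ ⊥ → QCD p k (G ⧸ N)) : QCD p k G := by
  intro S D hD B g hB hgB
  by_cases hO : Cfsg.pPrimeCore p G = ⊥
  swap
  · exact good_of_coreD (hquo _ hO) S hD B g hB hgB
  set V := Cfsg.pCore p G with hVdef
  by_cases hV : V = ⊥
  · exact good_of_pCore_botD hk hV hsub S hD B g hB hgB
  have hVp : IsPGroup p V := pCore_isPGroup p
  have hVS : V ≤ (S : Subgroup G) := pCore_le_sylow S
  haveI hVn : V.Normal := inferInstance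
  set M := centralizer (V : Set G) with hM
  haveI hMn : M.Normal := inferInstance
  by_cases hMS : M ⊔ (S : Subgroup G) = ⊤
  · by_cases hSV : (S : Subgroup G) ≤ V
    · have hSeq : (S : Subgroup G) = V := le_antisymm hSV hVS
      refine Good.of_mem B (normalizer_le_normalizerD hD ?_)
      intro s hs
      rw [hSeq] at hs ⊢
      exact hVn.conj_mem s hs g
    · have hq : IsPGroup p (G ⧸ M) := isPGroup_quotient_of_sup S hMS
      have hX : QCD p k ↥(normalizer (((ZZ k ((S : Subgroup G).map (QuotientGroup.mk' V))).comap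
          (QuotientGroup.mk' V) : Subgroup G) : Set G)) := by
        apply hsub
        intro htop
        set φ := QuotientGroup.mk' V with hφ
        set X := (ZZ k ((S : Subgroup G).map φ)).comap φ with hXdef
        have hXn : X.Normal := Subgroup.normalizer_eq_top_iff.mp htop
        have hXS : X ≤ (S : Subgroup G) := by
          intro z hz
          obtain ⟨s, hs, hse⟩ := ZZ_le_self k _ hz
          have h1 : z = s * (s⁻¹ * z) := by group
          rw [h1]
          refine mul_mem hs (hVS ?_)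
          rw [← QuotientGroup.ker_mk' V, MonoidHom.mem_ker, map_mul, map_inv, ← hφ, hse]
          simp
        have hXV : X ≤ V := le_pCore hXn ((S.isPGroup').to_le hXS)
        have hZ : ZZ k ((S : Subgroup G).map φ) = ⊥ := by
          rw [eq_bot_iff]
          intro y hy
          obtain ⟨z, rfl⟩ := QuotientGroup.mk'_surjective V y
          have h1 : z ∈ V := hXV hy
          rw [Subgroup.mem_bot]
          exact (QuotientGroup.eq_one_iff z).mpr h1
        have hSbot : (S : Subgroup G).map φ = ⊥ := by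
          by_contra hne
          exact ZZ_ne_bot (k := k) hk ((S.isPGroup').map φ) hne hZ
        apply hSV
        intro s hs
        have h1 : φ s ∈ (S : Subgroup G).map φ := ⟨s, hs, rfl⟩
        rw [hSbot, Subgroup.mem_bot] at h1
        exact (QuotientGroup.eq_one_iff s).mp h1
      exact good_of_pGroupQuotD hVp hq (hquo V hV) S hD hVS hX _ B g rfl hB hgB
  · by_cases h2 : (S : Subgroup G) ⊓ M ≤ V
    · have hc : centralizer (V : Set G) ≤ V := centralizer_le_of_inf_le hO S h2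
      have hk' : k = 0 ∨ Odd k := by
        rcases hk with rfl | rfl
        · exact Or.inl rfl
        · exact Or.inr (Nat.Prime.odd_of_ne_two Fact.out hp)
      have hn : (ZZ k D).Normal := zz_normal hp hk' S hD hc (fun P _ hP a _ hq => hst P hP a hq)
      refine Good.of_mem B ?_
      rw [Subgroup.normalizer_eq_top_iff.mpr hn]
      trivial
    · have hN : normalizer (((S : Subgroup G) ⊓ M : Subgroup G) : Set G) ≠ ⊤ := by
        intro htop
        have hn := Subgroup.normalizer_eq_top_iff.mp htop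
        exact h2 (le_pCore hn ((S.isPGroup').to_le inf_le_left))
      exact good_of_frattiniD S hD (hsub _ hN) (hsub _ hMS) B g hB hgB

open Cfsg.Agent.Lib.PGroup.QdSplit Cfsg.Agent.Lib.PGroup.QuadSections Cfsg.Agent.Lib.PGroup.QuadG

theorem qcd_of_free (hD : HasDickson.{u} p) (hp : p ≠ 2) (hk : k = 0 ∨ k = p) :
    ∀ (n : ℕ) (G : Type u) [Group G] [Finite G], Nat.card G = n → ¬ Sec (Cfsg.qd p) G → QCD p k G := by
  intro n
  induction n using Nat.strong_induction_on with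
  | _ n IH =>
    intro G _ _ hn hfree
    refine qcd_step hp hk ?_ ?_ ?_
    · intro P _ hP
      by_contra hns
      exact hfree (sec_qd_of_not_stable hD hp P hP hns)
    · intro L hL
      have hlt : Nat.card L < n := by
        rw [← hn]
        exact card_lt_of_lt (lt_top_iff_ne_top.mpr hL) |>.trans_eq (by simp)
      exact IH _ hlt L rfl (fun h => hfree h.subgroup)
    · intro N _ hN
      have hlt : Nat.card (G ⧸ N) < n := by
        rw [← hn]
        have h1 : Nat.card G = Nat.card N * Nat.card (G ⧸ N) := by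
          rw [Subgroup.card_eq_card_quotient_mul_card_subgroup N, mul_comm]
        have h2 : 1 < Nat.card N := by
          obtain ⟨⟨x, hx⟩, hx1⟩ := Subgroup.ne_bot_iff_exists_ne_one.mp hN
          exact Finite.one_lt_card_iff_nontrivial.mpr ⟨⟨⟨x, hx⟩, 1, hx1⟩⟩
        have h3 : 0 < Nat.card (G ⧸ N) := Nat.card_pos
        rw [h1]
        nlinarith
      exact IH _ hlt (G ⧸ N) rfl (fun h => hfree (Sec.of_surj (QuotientGroup.mk'_surjective N) h))

/-- **Glauberman's control theorem**, for strongly closed subgroups. -/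
theorem good_of_freeD (hp : p ≠ 2) (hk : k = 0 ∨ k = p) (hfree : ¬ Sec (Cfsg.qd p) G) : QCD p k G :=
  qcd_of_free (fun F _ _ _ H hH => Cfsg.Agent.S0274.result p hp H hH) hp hk _ G rfl hfree

/-- **Glauberman's control theorem**, for subsets. -/
theorem controls_of_freeD (hp : p ≠ 2) (hk : k = 0 ∨ k = p) (hfree : ¬ Sec (Cfsg.qd p) G)
    (S : Sylow p G) {D : Subgroup G} (hD : Cfsg.IsStronglyClosed D (S : Subgroup G))
    (A : Set G) (hA : A ⊆ (S : Subgroup G)) :
    Cfsg.ControlsStrongFusionOf (normalizer (ZZ k D : Set G)) (S : Subgroup G) A := by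
  refine ⟨hA, fun g hg => ?_⟩
  have hB : closure A ≤ (S : Subgroup G) := (closure_le _).mpr hA
  have hgB : ∀ b ∈ closure A, g * b * g⁻¹ ∈ (S : Subgroup G) := by
    have : closure A ≤ ((S : Subgroup G)).comap (MulAut.conj g).toMonoidHom := by
      rw [closure_le]
      intro a ha
      exact hg ⟨a, ha, rfl⟩
    exact fun b hb => this hb
  obtain ⟨x, hx, hxe⟩ := good_of_freeD hp hk hfree S D hD (closure A) g hB hgB
  exact ⟨x, hx, fun a ha => hxe a (subset_closure ha)⟩

end Fin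

end Cfsg.Agent.Lib.PGroup.QdControlD
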