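import Mathlib
import Cfsg.Agent.Lib.PGroup.QdControlD
import Cfsg.Agent.Lib.PGroup.ZJLocal
import Cfsg.Agent.Lib.PGroup.QdKInf

/-!
# The largest "normal" `p`-subgroup of the fusion of a `Qd(p)`-free group
-/

namespace Cfsg.Agent.Lib.PGroup.QdRadical

open Subgroup Cfsg.Agent.Lib.PGroup.ZJ Cfsg.Agent.Lib.PGroup.ZJCore Cfsg.Agent.Lib.PGroup.ZJControl
open Cfsg.Agent.Lib.PGroup.QdControl Cfsg.Agent.Lib.PGroup.QdControlD
open Cfsg.Agent.Lib.PGroup.Replacement (mem_normalizer_of_conj_mem card_lt_of_lt)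
open Cfsg.Agent.Lib.Components.PConstrained Cfsg.Agent.Lib.Basic.PCore
open Cfsg.Agent.Lib.PGroup.QdSplit
open scoped commutatorElement Pointwise

universe u

variable {p : ℕ} [Fact p.Prime]

section Lift

variable {Γ : Type u} [Group Γ] [Finite Γ]

/-- Lifting of fusion through a normal `p`-subgroup `V` with `Γ / C(V)` a `p`-group. -/
theorem good_lift {V : Subgroup Γ} [hV : V.Normal] (hVp : IsPGroup p V)
    (hq : IsPGroup p (Γ ⧸ centralizer (V : Set Γ))) (S : Sylow p Γ) (hVS : V ≤ (S : Subgroup Γ))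
    {T : Subgroup Γ} (hST : (S : Subgroup Γ) ≤ T)
    (hmod : ∀ (B : Subgroup Γ) (g : Γ), V ≤ B → B ≤ (S : Subgroup Γ) →
      (∀ b ∈ B, g * b * g⁻¹ ∈ (S : Subgroup Γ)) →
      ∃ x ∈ T, ∀ b ∈ B, (x * b * x⁻¹) * (g * b * g⁻¹)⁻¹ ∈ V) :
    ∀ (n : ℕ) (B : Subgroup Γ) (g : Γ), Nat.card (S : Subgroup Γ) - Nat.card B = n →
      B ≤ (S : Subgroup Γ) → (∀ b ∈ B, g * b * g⁻¹ ∈ (S : Subgroup Γ)) → Good T g B := by
  -- the fully normalized case
  have hFNc : ∀ (B : Subgroup Γ) (g : Γ), V ≤ B → B ≤ (S : Subgroup Γ) → FN S B →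
      (∀ b ∈ B, g * b * g⁻¹ ∈ (S : Subgroup Γ)) → Good T g B := by
    intro B g hVB hB hFN hgB
    obtain ⟨x, hx, hmodB⟩ := hmod B g hVB hB hgB
    set c := x⁻¹ * g with hc
    have hcmod : ∀ b ∈ B, c * b * c⁻¹ * b⁻¹ ∈ V := by
      intro b hb
      have h1 : c * b * c⁻¹ * b⁻¹ = x⁻¹ * ((x * b * x⁻¹) * (g * b * g⁻¹)⁻¹)⁻¹ * x⁻¹⁻¹ := by
        rw [hc]; group
      rw [h1]
      exact hV.conj_mem _ (inv_mem (hmodB b hb)) _
    have hcN : c ∈ normalizer (B : Set Γ) := by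
      apply mem_normalizer_of_conj_mem
      intro b hb
      have h1 : c * b * c⁻¹ = (c * b * c⁻¹ * b⁻¹) * b := by group
      rw [h1]
      exact mul_mem (hVB (hcmod b hb)) hb
    obtain ⟨d, hd, hde⟩ := exists_sylow_factor hVp hq hFN hcN hcmod
    refine ⟨x * d, mul_mem hx (hST hd.1), fun b hb => ?_⟩
    calc g * b * g⁻¹ = x * (c * b * c⁻¹) * x⁻¹ := by rw [hc]; group
      _ = x * (d * b * d⁻¹) * x⁻¹ := by rw [hde b hb]
      _ = _ := by group
  intro n
  induction n using Nat.strong_induction_on with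
  | _ n IHn =>
    intro B g hn hB hgB
    have IH : ∀ B' : Subgroup Γ, B' ≤ (S : Subgroup Γ) → Nat.card B < Nat.card B' → ∀ g' : Γ,
        (∀ b ∈ B', g' * b * g'⁻¹ ∈ (S : Subgroup Γ)) → Good T g' B' := by
      intro B' hB' hc g' hg'
      have h2 : Nat.card B' ≤ Nat.card (S : Subgroup Γ) := Subgroup.card_le_of_le hB'
      exact IHn _ (by omega) B' g' rfl hB' hg'
    by_cases hVB : V ≤ B
    swap
    · have hlt : B < B ⊔ V := lt_of_le_of_ne le_sup_left (fun h => hVB (h ▸ le_sup_right))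
      have hle : B ⊔ V ≤ (S : Subgroup Γ) := sup_le hB hVS
      refine Good.mono (IH _ hle (card_lt_of_lt hlt) g ?_) le_sup_left
      intro x hx
      rw [← SetLike.mem_coe, Subgroup.mul_normal] at hx
      obtain ⟨b, hb, v, hv, rfl⟩ := Set.mem_mul.mp hx
      have h1 : g * (b * v) * g⁻¹ = (g * b * g⁻¹) * (g * v * g⁻¹) := by group
      rw [h1]
      exact mul_mem (hgB b hb) (hVS (hV.conj_mem v hv g))
    by_cases hBS : B = (S : Subgroup Γ)
    · refine hFNc B g hVB hB ?_ hgB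
      intro U _ hUp
      have h1 : Nat.card U ≤ Nat.card (S : Subgroup Γ) :=
        Cfsg.Agent.Lib.PGroup.ZJLocal.card_le_sylow hUp S
      have h2 : (S : Subgroup Γ) ⊓ normalizer (B : Set Γ) = S := by
        rw [hBS]
        exact inf_eq_left.mpr Subgroup.le_normalizer
      rwa [h2]
    have hlt : B < (S : Subgroup Γ) := lt_of_le_of_ne hB hBS
    have hM₀ : B < (S : Subgroup Γ) ⊓ normalizer (B : Set Γ) := by
      obtain ⟨x, hxS, hxC, hxN⟩ := Cfsg.Agent.Lib.PGroup.Basic.exists_mem_normalizer_of_lt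
        (S.isPGroup') hlt
      refine lt_of_le_of_ne (le_inf hB Subgroup.le_normalizer) ?_
      intro h
      exact hxC (h ▸ (Subgroup.mem_inf.mpr ⟨hxS, hxN⟩))
    obtain ⟨u, hu, hFN⟩ := exists_FN_conj (Q := B) S
    have hGu := IH _ inf_le_left (card_lt_of_lt hM₀) u hu
    set B₂ := B.map (MulAut.conj u).toMonoidHom with hB₂
    have hB₂S : B₂ ≤ (S : Subgroup Γ) := by
      rintro _ ⟨b, hb, rfl⟩
      exact hu b (hM₀.le hb)
    have hVB₂ : V ≤ B₂ := by
      intro v hv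
      refine ⟨u⁻¹ * v * u⁻¹⁻¹, hVB (hV.conj_mem v hv _), ?_⟩
      simp only [MulEquiv.coe_toMonoidHom, MulAut.conj_apply]; group
    have hg₂ : ∀ c ∈ B₂, (g * u⁻¹) * c * (g * u⁻¹)⁻¹ ∈ (S : Subgroup Γ) := by
      rintro _ ⟨b, hb, rfl⟩
      have h1 : (g * u⁻¹) * (MulAut.conj u).toMonoidHom b * (g * u⁻¹)⁻¹ = g * b * g⁻¹ := by
        simp only [MulEquiv.coe_toMonoidHom, MulAut.conj_apply]; group
      rw [h1]
      exact hgB b hb
    have hG2 := hFNc B₂ _ hVB₂ hB₂S hFN hg₂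
    have := Good.comp (Good.mono hGu hM₀.le) hG2 (fun b hb => ⟨b, hb, rfl⟩)
    simpa using this

end Lift

section Sup

variable {G : Type*} [Group G] [Finite G]

theorem mem_normalizer_sup {A B : Subgroup G} {x : G} (hA : x ∈ normalizer (A : Set G))
    (hB : x ∈ normalizer (B : Set G)) : x ∈ normalizer ((A ⊔ B : Subgroup G) : Set G) := by
  apply mem_normalizer_of_conj_mem
  have h : A ⊔ B ≤ (A ⊔ B).comap (MulAut.conj x).toMonoidHom := by
    refine sup_le ?_ ?_
    · intro a ha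
      exact (le_sup_left : A ≤ A ⊔ B) ((mem_normalizer_iff.mp hA a).mp ha)
    · intro a ha
      exact (le_sup_right : B ≤ A ⊔ B) ((mem_normalizer_iff.mp hB a).mp ha)
  exact fun y hy => h hy

end Sup

section L1

variable {N : Type u} [Group N] [Finite N]

/-- The conclusion: a larger subgroup with the control property. -/
def Larger (S : Sylow p N) (Q : Subgroup N) : Prop :=
  ∃ Q' : Subgroup N, Q < Q' ∧ Q' ≤ (S : Subgroup N) ∧ (S : Subgroup N) ≤ normalizer (Q' : Set N) ∧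
    ∀ (B : Subgroup N) (g : N), B ≤ (S : Subgroup N) → (∀ b ∈ B, g * b * g⁻¹ ∈ (S : Subgroup N)) →
      Good (normalizer (Q' : Set N)) g B

/-- If `C_S(Q) ≰ Q`, a larger normal subgroup of the fusion exists. -/
theorem larger_of_not_centric (hp : p ≠ 2) (hfree : ¬ Sec (Cfsg.qd p) N) {Q : Subgroup N} [hQn : Q.Normal]
    (hQp : IsPGroup p Q) (S : Sylow p N)
    (h : ¬ ((S : Subgroup N) ⊓ centralizer (Q : Set N) ≤ Q)) : Larger S Q := by
  set C := centralizer (Q : Set N) with hC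
  haveI hCn : C.Normal := inferInstance
  set Z := Q ⊓ C with hZ
  haveI hZn : Z.Normal := inferInstance
  have hQS : Q ≤ (S : Subgroup N) := (le_pCore hQn hQp).trans (pCore_le_sylow S)
  set U := (S : Subgroup N) ⊓ C with hU
  have hZU : Z ≤ U := le_inf (inf_le_left.trans hQS) inf_le_right
  have hZS : Z ≤ (S : Subgroup N) := hZU.trans inf_le_left
  set π := QuotientGroup.mk' Z with hπ
  have hπs : Function.Surjective π := QuotientGroup.mk'_surjective _
  have hπker : ∀ x, π x = 1 ↔ x ∈ Z := fun x => by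
    rw [← MonoidHom.mem_ker, hπ, QuotientGroup.ker_mk']
  have hπeq : ∀ x y, π x = π y → x * y⁻¹ ∈ Z := fun x y hxy => by
    rw [← hπker, map_mul, map_inv, hxy, mul_inv_cancel]
  let S' : Sylow p (N ⧸ Z) := S.mapSurjective hπs
  have hS' : (S' : Subgroup _) = (S : Subgroup N).map π := rfl
  set U' := U.map π with hU'
  have hU'closed : Cfsg.IsStronglyClosed U' (S' : Subgroup _) := by
    refine ⟨Subgroup.map_mono inf_le_left, ?_⟩
    rintro _ ⟨x, hx, rfl⟩ g' ⟨s, hs, hse⟩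
    obtain ⟨g, rfl⟩ := hπs g'
    have h1 : π s = π (g * x * g⁻¹) := by
      rw [show (π : N →* N ⧸ Z) s = _ from hse]
      simp only [map_mul, map_inv]
    have h2 := hπeq _ _ h1.symm
    have h3 : g * x * g⁻¹ ∈ (S : Subgroup N) := by
      have : g * x * g⁻¹ = (g * x * g⁻¹ * s⁻¹) * s := by group
      rw [this]
      exact mul_mem (hZS h2) hs
    refine ⟨g * x * g⁻¹, Subgroup.mem_inf.mpr ⟨h3, hCn.conj_mem x hx.2 g⟩, ?_⟩
    simp only [map_mul, map_inv]
  set Y := (ZZ 0 U').comap π with hY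
  have hZY : Z ≤ Y := by
    intro z hz
    change π z ∈ ZZ 0 U'
    rw [(hπker z).mpr hz]
    exact one_mem _
  have hYU : Y ≤ U := by
    intro y hy
    obtain ⟨u, hu, hue⟩ := ZZ_le_self 0 U' hy
    have h1 := hπeq _ _ hue.symm
    have : y = (y * u⁻¹) * u := by group
    rw [this]
    exact mul_mem (hZU h1) hu
  have hNY : ∀ g, g ∈ normalizer (U : Set N) → g ∈ normalizer (Y : Set N) := by
    intro g hg
    apply mem_normalizer_of_conj_mem
    intro y hy
    change π (g * y * g⁻¹) ∈ ZZ 0 U'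
    rw [map_mul, map_mul, map_inv]
    refine conj_mem_ZZ ?_ hy
    rintro _ ⟨u, hu, rfl⟩
    exact ⟨g * u * g⁻¹, (mem_normalizer_iff.mp hg u).mp hu, by simp only [map_mul, map_inv]⟩
  have hSU : (S : Subgroup N) ≤ normalizer (U : Set N) := by
    intro s hs
    apply mem_normalizer_of_conj_mem
    rintro x ⟨hx1, hx2⟩
    exact Subgroup.mem_inf.mpr ⟨mul_mem (mul_mem hs hx1) (inv_mem hs), hCn.conj_mem x hx2 s⟩
  have hQN : ∀ g, g ∈ normalizer (Q : Set N) := fun g => by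
    rw [Subgroup.normalizer_eq_top_iff.mpr hQn]; trivial
  set Q' := Q ⊔ Y with hQ'
  have hU'ne : U' ≠ ⊥ := by
    intro hbot
    apply h
    intro x hx
    have h1 : π x ∈ U' := ⟨x, hx, rfl⟩
    rw [hbot, Subgroup.mem_bot] at h1
    exact ((hπker x).mp h1).1
  have hU'p : IsPGroup p U' := (S'.isPGroup').to_le hU'closed.1
  have hZne : ZZ 0 U' ≠ ⊥ := ZZ_ne_bot (Or.inl rfl) hU'p hU'ne
  have hlt : Q < Q' := by
    refine lt_of_le_of_ne le_sup_left ?_
    intro heq
    apply hZne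
    rw [eq_bot_iff]
    intro y' hy'
    obtain ⟨y, rfl⟩ := hπs y'
    have h1 : y ∈ Y := hy'
    have h2 : y ∈ Q := by
      rw [heq]
      exact (le_sup_right : Y ≤ Q') h1
    have h3 : y ∈ Z := Subgroup.mem_inf.mpr ⟨h2, (hYU h1).2⟩
    rw [Subgroup.mem_bot]
    exact (hπker y).mpr h3
  have hQ'S : Q' ≤ (S : Subgroup N) := sup_le hQS (hYU.trans inf_le_left)
  refine ⟨Q', hlt, hQ'S, fun s hs => mem_normalizer_sup (hQN s) (hNY s (hSU hs)), ?_⟩
  intro B g hB hgB
  -- enlarge `B` by `Q`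
  set B' := B ⊔ Q with hB'
  have hB'S : B' ≤ (S : Subgroup N) := sup_le hB hQS
  have hgB' : ∀ b ∈ B', g * b * g⁻¹ ∈ (S : Subgroup N) := by
    intro x hx
    rw [← SetLike.mem_coe, Subgroup.mul_normal] at hx
    obtain ⟨b, hb, v, hv, rfl⟩ := Set.mem_mul.mp hx
    have h1 : g * (b * v) * g⁻¹ = (g * b * g⁻¹) * (g * v * g⁻¹) := by group
    rw [h1]
    exact mul_mem (hgB b hb) (hQS (hQn.conj_mem v hv g))
  refine Good.mono ?_ (le_sup_left : B ≤ B')
  obtain ⟨g₁, hg₁, g₂, hg₂, rfl, hg₁B⟩ := frattini_fusion (M := C) S hB'S hgB'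
  have hg₁N : g₁ ∈ normalizer (Q' : Set N) := mem_normalizer_sup (hQN _) (hNY _ hg₁)
  set B₁ := B'.map (MulAut.conj g₁).toMonoidHom with hB₁
  have hB₁S : B₁ ≤ (S : Subgroup N) := by
    rintro _ ⟨b, hb, rfl⟩
    exact hg₁B b hb
  have hQB₁ : Q ≤ B₁ := by
    intro q hq
    refine ⟨g₁⁻¹ * q * g₁⁻¹⁻¹, (le_sup_right : Q ≤ B') (hQn.conj_mem q hq _), ?_⟩
    simp only [MulEquiv.coe_toMonoidHom, MulAut.conj_apply]; group
  have hg₂B₁ : ∀ b ∈ B₁, g₂ * b * g₂⁻¹ ∈ (S : Subgroup N) := by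
    rintro _ ⟨b, hb, rfl⟩
    have h3 : g₂ * (MulAut.conj g₁).toMonoidHom b * g₂⁻¹ = g₂ * g₁ * b * (g₂ * g₁)⁻¹ := by
      simp only [MulEquiv.coe_toMonoidHom, MulAut.conj_apply]; group
    rw [h3]
    exact hgB' b hb
  -- the fusion inside `C S`
  set G₂ := C ⊔ (S : Subgroup N) with hG₂
  have hSG₂ : (S : Subgroup N) ≤ G₂ := le_sup_right
  have hCG₂ : C ≤ G₂ := le_sup_left
  let S₂ : Sylow p ↥G₂ := S.subtype hSG₂
  have hS₂ : (S₂ : Subgroup ↥G₂) = (S : Subgroup N).subgroupOf G₂ := S.coe_subtype hSG₂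
  let V₂ : Subgroup ↥G₂ := Z.subgroupOf G₂
  haveI hV₂n : V₂.Normal := inferInstance
  have hV₂p : IsPGroup p V₂ := isPGroup_subgroupOf ((S.isPGroup').to_le hZS)
  have hV₂S : V₂ ≤ (S₂ : Subgroup ↥G₂) := by
    rw [hS₂]
    intro x hx
    exact hZS hx
  have hq₂ : IsPGroup p (↥G₂ ⧸ centralizer (V₂ : Set ↥G₂)) := by
    intro q
    obtain ⟨x, rfl⟩ := QuotientGroup.mk_surjective q
    have hx : (x : N) ∈ C ⊔ (S : Subgroup N) := x.2
    rw [← SetLike.mem_coe, Subgroup.normal_mul] at hx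
    obtain ⟨c, hc, s, hs, hcs⟩ := Set.mem_mul.mp hx
    obtain ⟨k, hk⟩ := (S.isPGroup') ⟨s, hs⟩
    refine ⟨k, ?_⟩
    have h1 : s ^ p ^ k = 1 := congrArg Subtype.val hk
    have hsG : s ∈ G₂ := hSG₂ hs
    have hcG : c ∈ G₂ := hCG₂ hc
    have hxe : x = ⟨c, hcG⟩ * ⟨s, hsG⟩ := Subtype.ext hcs.symm
    have hcC : (⟨c, hcG⟩ : ↥G₂) ∈ centralizer (V₂ : Set ↥G₂) := by
      rw [Subgroup.mem_centralizer_iff]
      intro v hv
      apply Subtype.ext
      have hv' : (v : N) ∈ Q := (show (v : N) ∈ Z from hv).1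
      exact (Subgroup.mem_centralizer_iff.mp hc _ hv')
    have h2 : (QuotientGroup.mk x : ↥G₂ ⧸ centralizer (V₂ : Set ↥G₂)) = QuotientGroup.mk ⟨s, hsG⟩ := by
      rw [hxe, QuotientGroup.mk_mul, (QuotientGroup.eq_one_iff _).mpr hcC, one_mul]
    rw [h2, ← QuotientGroup.mk_pow]
    have h3 : (⟨s, hsG⟩ : ↥G₂) ^ p ^ k = 1 := Subtype.ext h1
    rw [h3]
    rfl
  let T₂ : Subgroup ↥G₂ := (normalizer (Q' : Set N)).subgroupOf G₂
  have hST₂ : (S₂ : Subgroup ↥G₂) ≤ T₂ := by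
    rw [hS₂]
    intro x hx
    exact mem_normalizer_sup (hQN _) (hNY _ (hSU hx))
  -- the image of `G₂`
  set L' := G₂.map π with hL'
  have hS'L' : (S' : Subgroup _) ≤ L' := Subgroup.map_mono hSG₂
  have hL'free : ¬ Sec (Cfsg.qd p) ↥L' := fun hs => hfree (Sec.of_surj hπs hs.subgroup)
  have hL'QC : QCD p 0 ↥L' := good_of_freeD hp (Or.inl rfl) hL'free
  have hU'S' : U' ⊓ ((S' : Subgroup _) ⊓ L') = U' := by
    rw [inf_eq_left.mpr hS'L']
    exact inf_eq_left.mpr hU'closed.1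
  have hS'inf : (S' : Subgroup _) ⊓ L' = S' := inf_eq_left.mpr hS'L'
  have hmod₂ : ∀ (B₃ : Subgroup ↥G₂) (g₃ : ↥G₂), V₂ ≤ B₃ → B₃ ≤ (S₂ : Subgroup ↥G₂) →
      (∀ b ∈ B₃, g₃ * b * g₃⁻¹ ∈ (S₂ : Subgroup ↥G₂)) →
      ∃ x ∈ T₂, ∀ b ∈ B₃, (x * b * x⁻¹) * (g₃ * b * g₃⁻¹)⁻¹ ∈ V₂ := by
    intro B₃ g₃ _ hB₃ hg₃
    set B₄ := (B₃.map G₂.subtype).map π with hB₄
    have hmemS : ∀ x : ↥G₂, x ∈ (S₂ : Subgroup ↥G₂) → (x : N) ∈ (S : Subgroup N) := by
      intro x hx
      rw [hS₂] at hx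
      exact hx
    have hB₄S : B₄ ≤ (S' : Subgroup _) ⊓ L' := by
      rw [hS'inf]
      rintro _ ⟨_, ⟨b, hb, rfl⟩, rfl⟩
      exact ⟨b, hmemS b (hB₃ hb), rfl⟩
    have hg₃B₄ : ∀ b ∈ B₄, π g₃ * b * (π g₃)⁻¹ ∈ (S' : Subgroup _) ⊓ L' := by
      rw [hS'inf]
      rintro _ ⟨_, ⟨b, hb, rfl⟩, rfl⟩
      refine ⟨_, hmemS _ (hg₃ b hb), ?_⟩
      simp only [Subgroup.coe_subtype, Subgroup.coe_mul, Subgroup.coe_inv, map_mul, map_inv]
    obtain ⟨x', hx'L, hx'N, hx'e⟩ := good_of_subgroupD hU'closed L' hL'QC (S'.subtype hS'L')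
      (by rw [map_sylow_subtype, hS'inf]) (show π g₃ ∈ L' from ⟨g₃, g₃.2, rfl⟩) hB₄S hg₃B₄
    rw [hU'S'] at hx'N
    obtain ⟨x, hxG, rfl⟩ := hx'L
    have hxNY : x ∈ normalizer (Y : Set N) := by
      apply mem_normalizer_of_conj_mem
      intro y hy
      change π (x * y * x⁻¹) ∈ ZZ 0 U'
      rw [map_mul, map_mul, map_inv]
      exact (mem_normalizer_iff.mp hx'N _).mp hy
    refine ⟨⟨x, hxG⟩, mem_normalizer_sup (hQN _) hxNY, fun b hb => ?_⟩
    have h1 := hx'e (π b) ⟨b, ⟨b, hb, rfl⟩, rfl⟩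
    have h2 : π (x * b * x⁻¹) = π (g₃ * b * g₃⁻¹) := by
      simp only [map_mul, map_inv]
      exact h1.symm
    exact hπeq _ _ h2
  have hg₂G : g₂ ∈ G₂ := hCG₂ hg₂
  have hB₁G : B₁ ≤ G₂ := hB₁S.trans hSG₂
  have hG₂good := good_lift hV₂p hq₂ S₂ hV₂S hST₂ hmod₂ _ (B₁.subgroupOf G₂) ⟨g₂, hg₂G⟩ rfl
    (by
      rw [hS₂]
      intro x hx
      exact hB₁S hx)
    (by
      intro b hb
      rw [hS₂]
      exact hg₂B₁ b hb)
  obtain ⟨x, hx, hxe⟩ := hG₂good
  have hGood₂ : Good (normalizer (Q' : Set N)) g₂ B₁ := by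
    refine ⟨x, hx, fun b hb => ?_⟩
    exact congrArg Subtype.val (hxe ⟨b, hB₁G hb⟩ hb)
  exact Good.comp (Good.of_mem B' hg₁N) hGood₂ (fun b hb => ⟨b, hb, rfl⟩)

end L1

section L2

variable {N : Type u} [Group N] [Finite N]

/-- Burnside's factorization for a normal subgroup with central Sylow subgroup. -/
theorem exists_core_factor {M : Subgroup N} [hM : M.Normal] (S : Sylow p N)
    (hcent : ∀ x ∈ (S : Subgroup N) ⊓ M, ∀ y ∈ M, x * y = y * x) :
    ∀ m ∈ M, ∃ o ∈ (Cfsg.pPrimeCore p ↥M).map M.subtype, ∃ s ∈ (S : Subgroup N) ⊓ M, m = o * s := by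
  obtain ⟨Q, hQ⟩ := Cfsg.Agent.Lib.Basic.SylowUtil.exists_sylow_inf_normal S M
  have hmemQ : ∀ x ∈ (Q : Subgroup M), (x : N) ∈ (S : Subgroup N) ⊓ M := by
    intro x hx
    rw [← hQ]
    exact ⟨x, hx, rfl⟩
  have hP : normalizer (Q : Set M) ≤ centralizer (Q : Set M) := by
    intro y _
    rw [Subgroup.mem_centralizer_iff]
    intro x hx
    exact Subtype.ext (hcent _ (hmemQ x hx) _ y.2)
  have hcompl := MonoidHom.ker_transferSylow_isComplement' Q hP
  set K := (MonoidHom.transferSylow Q hP).ker with hK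
  have hKc : (Nat.card K).Coprime p :=
    Cfsg.Agent.Lib.Transfer.Basic.coprime_card_of_isComplement' hcompl
  have hKle : K ≤ Cfsg.pPrimeCore p M := le_pPrimeCore inferInstance hKc
  intro m hm
  have h1 : (⟨m, hm⟩ : M) ∈ K ⊔ (Q : Subgroup M) := by
    rw [hcompl.sup_eq_top]; trivial
  rw [← SetLike.mem_coe, Subgroup.normal_mul] at h1
  obtain ⟨k, hk, q, hq, hkq⟩ := Set.mem_mul.mp h1
  exact ⟨k, ⟨k, hKle hk, rfl⟩, q, hmemQ q hq, congrArg Subtype.val hkq.symm⟩

/-- If `Q C(Q)` has a normal overgroup of `p`-power index, a larger normal subgroup of the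
fusion exists. -/
theorem larger_of_not_radical {Q : Subgroup N} [hQn : Q.Normal]
    (hQp : IsPGroup p Q) (S : Sylow p N)
    (hc : (S : Subgroup N) ⊓ centralizer (Q : Set N) ≤ Q) {X : Subgroup N} [hX : X.Normal]
    (hQX : Q ⊔ centralizer (Q : Set N) ≤ X)
    (hidx : ∃ k : ℕ, (Q ⊔ centralizer (Q : Set N)).relIndex X = p ^ k)
    (hne : X ≠ Q ⊔ centralizer (Q : Set N)) : Larger S Q := by
  set C := centralizer (Q : Set N) with hC
  haveI hCn : C.Normal := inferInstance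
  have hQS : Q ≤ (S : Subgroup N) := (le_pCore hQn hQp).trans (pCore_le_sylow S)
  have hQXle : Q ≤ X := le_sup_left.trans hQX
  have hCX : C ≤ X := le_sup_right.trans hQX
  set T := (S : Subgroup N) ⊓ X with hT
  have hQT : Q ≤ T := le_inf hQS hQXle
  obtain ⟨k, hk⟩ := hidx
  obtain ⟨Q₁, hQ₁⟩ := Cfsg.Agent.Lib.Basic.SylowUtil.exists_sylow_inf_normal S X
  have hp := (Fact.out : p.Prime)
  -- a subgroup containing `T` has index prime to `p` in `X`
  have hcop : ∀ W : Subgroup N, T ≤ W → ¬ p ∣ W.relIndex X := by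
    intro W hW hdvd
    apply Q₁.not_dvd_index
    have h1 : (Q₁ : Subgroup X) ≤ W.subgroupOf X := by
      intro x hx
      rw [Subgroup.mem_subgroupOf]
      apply hW
      rw [hT, ← hQ₁]
      exact ⟨x, hx, rfl⟩
    exact hdvd.trans (Subgroup.index_dvd_of_le h1)
  have heq1 : ∀ W : Subgroup N, T ≤ W → Q ⊔ C ≤ W → X ≤ W := by
    intro W hW hQW
    have h1 : W.relIndex X ∣ p ^ k := hk ▸ Subgroup.relIndex_dvd_of_le_left X hQW
    obtain ⟨j, -, hj⟩ := (Nat.dvd_prime_pow hp).mp h1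
    have hj0 : j = 0 := by
      by_contra hj0
      apply hcop W hW
      rw [hj]
      exact dvd_pow_self p hj0
    rw [hj0, pow_zero] at hj
    exact Subgroup.relIndex_eq_one.mp hj
  have hTne : Q ≠ T := by
    intro h
    exact hne (le_antisymm (heq1 _ (by rw [← h]; exact le_sup_left) le_rfl) hQX)
  -- the normal `p'`-subgroup
  set O := (Cfsg.pPrimeCore p ↥C).map C.subtype with hO
  haveI hchar : (Cfsg.pPrimeCore p ↥C).Characteristic :=
    Cfsg.Agent.Lib.Components.Transport.characteristic_of_map_le _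
      (fun e => Cfsg.Agent.Lib.Components.Transport.pPrimeCore_map_le p e)
  haveI hOn : O.Normal := map_subtype_normal_of_characteristic _
  have hOcop : (Nat.card O).Coprime p := by
    rw [hO, Cfsg.Agent.Lib.PGroup.Replacement.card_map_subtype]
    exact Cfsg.Agent.Lib.Components.Transport.coprime_card_pPrimeCore p
  have hOcore : O ≤ Cfsg.pPrimeCore p N := le_pPrimeCore hOn hOcop
  have hOC : O ≤ C := Subgroup.map_subtype_le _
  have hcent : ∀ x ∈ (S : Subgroup N) ⊓ C, ∀ y ∈ C, x * y = y * x := by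
    intro x hx y hy
    exact (Subgroup.mem_centralizer_iff.mp hy x (hc hx))
  have hfac := exists_core_factor (M := C) S hcent
  have hXle : X ≤ O ⊔ T := by
    apply heq1 _ le_sup_right
    refine sup_le (hQT.trans le_sup_right) ?_
    intro c hcC
    obtain ⟨o, ho, s, hs, rfl⟩ := hfac c hcC
    exact mul_mem ((le_sup_left : O ≤ O ⊔ T) ho)
      ((le_sup_right : T ≤ O ⊔ T) (hQT (hc hs)))
  refine ⟨T, lt_of_le_of_ne hQT hTne, inf_le_left, ?_, ?_⟩
  · intro s hs
    apply mem_normalizer_of_conj_mem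
    rintro x ⟨hx1, hx2⟩
    exact Subgroup.mem_inf.mpr ⟨mul_mem (mul_mem hs hx1) (inv_mem hs), hX.conj_mem x hx2 s⟩
  intro B g hB hgB
  obtain ⟨g₁, hg₁, g₂, hg₂, rfl, hg₁B⟩ := frattini_fusion (M := X) S hB hgB
  set B₁ := B.map (MulAut.conj g₁).toMonoidHom with hB₁
  have hB₁S : B₁ ≤ (S : Subgroup N) := by
    rintro _ ⟨b, hb, rfl⟩
    exact hg₁B b hb
  have hg₂B₁ : ∀ b ∈ B₁, g₂ * b * g₂⁻¹ ∈ (S : Subgroup N) := by
    rintro _ ⟨b, hb, rfl⟩
    have h3 : g₂ * (MulAut.conj g₁).toMonoidHom b * g₂⁻¹ = g₂ * g₁ * b * (g₂ * g₁)⁻¹ := by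
      simp only [MulEquiv.coe_toMonoidHom, MulAut.conj_apply]; group
    rw [h3]
    exact hgB b hb
  have hg₂' := hXle hg₂
  rw [← SetLike.mem_coe, Subgroup.normal_mul] at hg₂'
  obtain ⟨o, ho, t, ht, rfl⟩ := Set.mem_mul.mp hg₂'
  have hGood : Good (normalizer (T : Set N)) (o * t) B₁ := by
    refine ⟨t, ?_, fun b hb => ?_⟩
    · apply mem_normalizer_of_conj_mem
      rintro x ⟨hx1, hx2⟩
      exact Subgroup.mem_inf.mpr ⟨mul_mem (mul_mem ht.1 hx1) (inv_mem ht.1), hX.conj_mem x hx2 t⟩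
    · set a := t * b * t⁻¹ with ha
      have haS : a ∈ (S : Subgroup N) := mul_mem (mul_mem ht.1 (hB₁S hb)) (inv_mem ht.1)
      have h1 : (o * t) * b * (o * t)⁻¹ = o * a * o⁻¹ := by rw [ha]; group
      have h2 : o * a * o⁻¹ ∈ (S : Subgroup N) := by
        rw [← h1]
        exact hg₂B₁ b hb
      have h3 : o * a * o⁻¹ * a⁻¹ ∈ O := by
        have : o * a * o⁻¹ * a⁻¹ = o * (a * o⁻¹ * a⁻¹) := by group
        rw [this]
        exact mul_mem ho (hOn.conj_mem _ (inv_mem ho) a)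
      have h4 := eq_one_of_mem_pgroup_of_mem_core (S.isPGroup') (mul_mem h2 (inv_mem haS)) (hOcore h3)
      rw [h1]
      exact mul_inv_eq_one.mp h4
  exact Good.comp (Good.of_mem B hg₁) hGood (fun b hb => ⟨b, hb, rfl⟩)

end L2

section Ctl

variable {G : Type u} [Group G] [Finite G]

/-- `R` is normal in the fusion system on `P`. -/
def Ctl (P : Sylow p G) (R : Subgroup G) : Prop :=
  R ≤ (P : Subgroup G) ∧ (P : Subgroup G) ≤ normalizer (R : Set G) ∧
    ∀ (B : Subgroup G) (g : G), B ≤ (P : Subgroup G) → (∀ b ∈ B, g * b * g⁻¹ ∈ (P : Subgroup G)) →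
      Good (normalizer (R : Set G)) g B

theorem ctl_bot (P : Sylow p G) : Ctl P ⊥ := by
  refine ⟨bot_le, ?_, fun B g _ _ => ⟨g, ?_, fun _ _ => rfl⟩⟩
  · rw [Subgroup.normalizer_eq_top_iff.mpr inferInstance]
    exact le_top
  · rw [Subgroup.normalizer_eq_top_iff.mpr inferInstance]
    trivial

theorem exists_max_ctl (P : Sylow p G) : ∃ Q, Ctl P Q ∧ ∀ Q', Ctl P Q' → ¬ (Q < Q') := by
  obtain ⟨Q, hQ, hmax⟩ := Set.exists_max_image {R : Subgroup G | Ctl P R} (fun R => Nat.card R)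
    (Set.toFinite _) ⟨⊥, ctl_bot P⟩
  refine ⟨Q, hQ, fun Q' hQ' hlt => ?_⟩
  have h1 := hmax Q' hQ'
  have h2 := card_lt_of_lt hlt
  omega

/-- The normality of `Q` in its normalizer. -/
theorem normal_subgroupOf_normalizer (Q : Subgroup G) :
    (Q.subgroupOf (normalizer (Q : Set G))).Normal :=
  Subgroup.normal_subgroupOf_of_le_normalizer le_rfl

/-- From `Larger` in the normalizer to a larger member. -/
theorem ctl_of_larger {P : Sylow p G} {Q : Subgroup G} (hQ : Ctl P Q)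
    (h : Larger (P.subtype hQ.2.1) (Q.subgroupOf (normalizer (Q : Set G)))) :
    ∃ Q', Ctl P Q' ∧ Q < Q' := by
  set L := normalizer (Q : Set G) with hL
  obtain ⟨Q'L, hlt, hle, hnorm, hgood⟩ := h
  have hS : ((P.subtype hQ.2.1 : Sylow p ↥L) : Subgroup ↥L) = (P : Subgroup G).subgroupOf L :=
    P.coe_subtype hQ.2.1
  have hmemS : ∀ x : L, x ∈ ((P.subtype hQ.2.1 : Sylow p ↥L) : Subgroup ↥L) ↔ (x : G) ∈ (P : Subgroup G) := by
    intro x
    rw [hS]
    exact Iff.rfl
  have hNL : ∀ x : L, x ∈ normalizer (Q'L : Set ↥L) →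
      (x : G) ∈ normalizer ((Q'L.map L.subtype : Subgroup G) : Set G) := by
    intro x hx
    apply mem_normalizer_of_conj_mem
    rintro _ ⟨r, hr, rfl⟩
    exact ⟨x * r * x⁻¹, (mem_normalizer_iff.mp hx r).mp hr, rfl⟩
  refine ⟨Q'L.map L.subtype, ⟨?_, ?_, ?_⟩, ?_⟩
  · rintro _ ⟨r, hr, rfl⟩
    exact (hmemS r).mp (hle hr)
  · intro s hs
    exact hNL ⟨s, hQ.2.1 hs⟩ (hnorm ((hmemS _).mpr hs))
  · intro B g hB hgB
    obtain ⟨x, hx, hxe⟩ := hQ.2.2 B g hB hgB
    have hBL : B ≤ L := hB.trans hQ.2.1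
    obtain ⟨y, hy, hye⟩ := hgood (B.subgroupOf L) ⟨x, hx⟩
      (fun b hb => (hmemS b).mpr (hB hb))
      (fun b hb => by
        rw [hmemS]
        have h0 := hgB _ hb
        rw [hxe _ hb] at h0
        exact h0)
    refine ⟨y, hNL y hy, fun b hb => ?_⟩
    rw [hxe b hb]
    exact congrArg Subtype.val (hye ⟨b, hBL hb⟩ hb)
  · refine lt_of_le_of_ne ?_ ?_
    · intro q hq
      exact ⟨⟨q, Subgroup.le_normalizer hq⟩, hlt.le hq, rfl⟩
    · intro heq
      apply hlt.ne
      ext x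
      constructor
      · exact fun hx => hlt.le hx
      · intro hx
        have h2 : (x : G) ∈ Q'L.map L.subtype := ⟨x, hx, rfl⟩
        rw [← heq] at h2
        exact h2

theorem mem_centralizer_subgroupOf {L Q : Subgroup G} (hQ : Q ≤ L) (x : L) :
    x ∈ centralizer ((Q.subgroupOf L : Subgroup L) : Set L) ↔ (x : G) ∈ centralizer (Q : Set G) := by
  rw [Subgroup.mem_centralizer_iff, Subgroup.mem_centralizer_iff]
  constructor
  · intro h q hq
    exact congrArg Subtype.val (h ⟨q, hQ hq⟩ hq)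
  · intro h q hq
    exact Subtype.ext (h _ hq)

/-- `P ∩ C(Q) ≤ Q` for a maximal member. -/
theorem inf_centralizer_le (hp : p ≠ 2) (hfree : ¬ Sec (Cfsg.qd p) G) {P : Sylow p G} {Q : Subgroup G}
    (hQ : Ctl P Q) (hmax : ∀ Q', Ctl P Q' → ¬ (Q < Q')) :
    (P : Subgroup G) ⊓ centralizer (Q : Set G) ≤ Q := by
  by_contra hcon
  set L := normalizer (Q : Set G) with hL
  haveI hn : (Q.subgroupOf L).Normal := normal_subgroupOf_normalizer Q
  have hLfree : ¬ Sec (Cfsg.qd p) ↥L := fun h => hfree h.subgroup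
  have hQp : IsPGroup p (Q.subgroupOf L) := isPGroup_subgroupOf ((P.isPGroup').to_le hQ.1)
  have hlarger := larger_of_not_centric hp hLfree hQp (P.subtype hQ.2.1) (by
    intro hle
    apply hcon
    rintro x ⟨hx1, hx2⟩
    have hxL : x ∈ L := hQ.2.1 hx1
    have h1 : (⟨x, hxL⟩ : L) ∈ ((P.subtype hQ.2.1 : Sylow p ↥L) : Subgroup ↥L) ⊓
        centralizer ((Q.subgroupOf L : Subgroup L) : Set L) := by
      refine Subgroup.mem_inf.mpr ⟨?_, (mem_centralizer_subgroupOf Subgroup.le_normalizer _).mpr hx2⟩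
      rw [P.coe_subtype hQ.2.1]
      exact hx1
    exact hle h1)
  obtain ⟨Q', hQ', hlt⟩ := ctl_of_larger hQ hlarger
  exact hmax Q' hQ' hlt

/-- The radical property of a maximal member. -/
theorem radical_of_max {P : Sylow p G} {Q : Subgroup G} (hQ : Ctl P Q)
    (hmax : ∀ Q', Ctl P Q' → ¬ (Q < Q'))
    (hc : (P : Subgroup G) ⊓ centralizer (Q : Set G) ≤ Q) (X : Subgroup G)
    (hXN : X ≤ normalizer (Q : Set G))
    (hXn : ∀ n ∈ normalizer (Q : Set G), X.map (MulAut.conj n).toMonoidHom = X)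
    (hQX : Q ⊔ centralizer (Q : Set G) ≤ X)
    (hidx : ∃ k : ℕ, (Q ⊔ centralizer (Q : Set G)).relIndex X = p ^ k) :
    X = Q ⊔ centralizer (Q : Set G) := by
  by_contra hne
  set L := normalizer (Q : Set G) with hL
  haveI hn : (Q.subgroupOf L).Normal := normal_subgroupOf_normalizer Q
  have hQp : IsPGroup p (Q.subgroupOf L) := isPGroup_subgroupOf ((P.isPGroup').to_le hQ.1)
  haveI hXnL : (X.subgroupOf L).Normal := by
    constructor
    intro x hx n
    rw [Subgroup.mem_subgroupOf] at hx ⊢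
    have h1 := hXn n n.2
    rw [← h1]
    exact ⟨x, hx, rfl⟩
  have hCL : centralizer (Q : Set G) ≤ L := Subgroup.centralizer_le_normalizer _
  have hsup : (Q.subgroupOf L) ⊔ centralizer ((Q.subgroupOf L : Subgroup L) : Set L) =
      (Q ⊔ centralizer (Q : Set G)).subgroupOf L := by
    have h1 : centralizer ((Q.subgroupOf L : Subgroup L) : Set L) = (centralizer (Q : Set G)).subgroupOf L := by
      ext x
      rw [mem_centralizer_subgroupOf Subgroup.le_normalizer, Subgroup.mem_subgroupOf]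
    rw [h1, Subgroup.subgroupOf_sup Subgroup.le_normalizer hCL]
  have hlarger := larger_of_not_radical hQp (P.subtype hQ.2.1) (X := X.subgroupOf L) (by
      rintro x ⟨hx1, hx2⟩
      have h1 : (x : G) ∈ (P : Subgroup G) ⊓ centralizer (Q : Set G) := by
        refine Subgroup.mem_inf.mpr ⟨?_, (mem_centralizer_subgroupOf Subgroup.le_normalizer _).mp hx2⟩
        rw [P.coe_subtype hQ.2.1] at hx1
        exact hx1
      exact hc h1)
    (by
      rw [hsup]
      exact fun x hx => hQX hx)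
    (by
      rw [hsup, Subgroup.relIndex_subgroupOf hXN]
      exact hidx)
    (by
      rw [hsup]
      intro h
      apply hne
      refine le_antisymm (fun x hx => ?_) hQX
      have h1 : (⟨x, hXN hx⟩ : L) ∈ X.subgroupOf L := hx
      rw [h] at h1
      exact h1)
  obtain ⟨Q', hQ', hlt⟩ := ctl_of_larger hQ hlarger
  exact hmax Q' hQ' hlt

end Ctl

section Least

variable {G : Type*} [Group G]

/-- Products of subgroups with `A ≤ N(B)`. -/
theorem exists_mul_of_mem_sup {A B : Subgroup G} (hA : A ≤ normalizer (B : Set G)) {x : G}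
    (hx : x ∈ B ⊔ A) : ∃ b ∈ B, ∃ a ∈ A, x = b * a := by
  set L := normalizer (B : Set G) with hL
  have hBL : B ≤ L := Subgroup.le_normalizer
  have hsup : B ⊔ A ≤ L := sup_le hBL hA
  haveI hn : (B.subgroupOf L).Normal := Subgroup.normal_subgroupOf_of_le_normalizer le_rfl
  have h1 : (⟨x, hsup hx⟩ : L) ∈ B.subgroupOf L ⊔ A.subgroupOf L := by
    rw [← Subgroup.subgroupOf_sup hBL hA]
    exact hx
  rw [← SetLike.mem_coe, Subgroup.normal_mul] at h1
  obtain ⟨b, hb, a, ha, hab⟩ := Set.mem_mul.mp h1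
  exact ⟨b, hb, a, ha, (congrArg Subtype.val hab).symm⟩

theorem normalizer_le_normalizer_centralizer (Q : Subgroup G) :
    normalizer (Q : Set G) ≤ normalizer (centralizer (Q : Set G) : Set G) := by
  intro x hx
  rw [mem_normalizer_iff]
  intro c
  rw [Subgroup.mem_centralizer_iff, Subgroup.mem_centralizer_iff]
  constructor
  · intro h q hq
    have h1 := h (x⁻¹ * q * x⁻¹⁻¹) ((mem_normalizer_iff.mp (inv_mem hx) q).mp hq)
    have h2 : q * (x * c * x⁻¹) = x * ((x⁻¹ * q * x⁻¹⁻¹) * c) * x⁻¹ := by group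
    rw [h2, h1]
    group
  · intro h q hq
    have h1 := h (x * q * x⁻¹) ((mem_normalizer_iff.mp hx q).mp hq)
    have h2 : q * c = x⁻¹ * ((x * q * x⁻¹) * (x * c * x⁻¹)) * x := by group
    rw [h2, h1]
    group

end Least

section Least2

variable {G : Type u} [Group G] [Finite G]

/-- The largest member lies in every centric radical subgroup. -/
theorem le_of_radical {P : Sylow p G} {Q R : Subgroup G} (hQ : Ctl P Q) (hRP : R ≤ (P : Subgroup G))
    (hRc : (P : Subgroup G) ⊓ centralizer (R : Set G) ≤ R)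
    (hRr : ∀ X : Subgroup G, X ≤ normalizer (R : Set G) →
      (∀ n ∈ normalizer (R : Set G), X.map (MulAut.conj n).toMonoidHom = X) →
      R ⊔ centralizer (R : Set G) ≤ X →
      (∃ k : ℕ, (R ⊔ centralizer (R : Set G)).relIndex X = p ^ k) →
      X = R ⊔ centralizer (R : Set G)) : Q ≤ R := by
  by_contra hnot
  have hRQ : R ≤ normalizer (Q : Set G) := hRP.trans hQ.2.1
  have hWP : Q ⊔ R ≤ (P : Subgroup G) := sup_le hQ.1 hRP
  have hlt : R < Q ⊔ R := lt_of_le_of_ne le_sup_right (fun h => hnot (h ▸ le_sup_left))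
  obtain ⟨x, hxW, hxR, hxN⟩ := Cfsg.Agent.Lib.PGroup.Basic.exists_mem_normalizer_of_lt
    ((P.isPGroup').to_le hWP) hlt
  obtain ⟨q, hq, r, hr, rfl⟩ := exists_mul_of_mem_sup hRQ hxW
  have hqN : q ∈ normalizer (R : Set G) := by
    have h1 : q = (q * r) * r⁻¹ := by group
    rw [h1]
    exact mul_mem hxN (inv_mem (Subgroup.le_normalizer hr))
  have hqR : q ∉ R := fun h => hxR (mul_mem h hr)
  set L := normalizer (R : Set G) with hL
  set Y := Q ⊓ L with hY
  set C := centralizer (R : Set G) with hC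
  set W := R ⊔ C with hW
  have hRL : R ≤ L := Subgroup.le_normalizer
  have hCL : C ≤ L := Subgroup.centralizer_le_normalizer _
  have hWL : W ≤ L := sup_le hRL hCL
  set X := Y ⊔ W with hX
  have hXL : X ≤ L := sup_le inf_le_right hWL
  have hXn : ∀ n ∈ L, n ∈ normalizer (X : Set G) := by
    intro n hn
    obtain ⟨x, hx, hxe⟩ := hQ.2.2 R n hRP (fun b hb => hRP ((mem_normalizer_iff.mp hn b).mp hb))
    have hxL : x ∈ L := by
      apply mem_normalizer_of_conj_mem
      intro b hb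
      rw [← hxe b hb]
      exact (mem_normalizer_iff.mp hn b).mp hb
    have hcC : x⁻¹ * n ∈ C := by
      rw [hC, Subgroup.mem_centralizer_iff]
      intro b hb
      have h1 := hxe b hb
      have h2 : b * (x⁻¹ * n) = x⁻¹ * (x * b * x⁻¹) * n := by group
      rw [h2, ← h1]
      group
    have h1 : n = x * (x⁻¹ * n) := by group
    rw [h1]
    refine mul_mem ?_ (Subgroup.le_normalizer ((le_sup_right : W ≤ X) ((le_sup_right : C ≤ W) hcC)))
    refine mem_normalizer_sup ?_ (mem_normalizer_sup hxL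
      (normalizer_le_normalizer_centralizer R hxL))
    apply mem_normalizer_of_conj_mem
    rintro y ⟨hy1, hy2⟩
    exact Subgroup.mem_inf.mpr ⟨(mem_normalizer_iff.mp hx y).mp hy1, mul_mem (mul_mem hxL hy2) (inv_mem hxL)⟩
  have hmap : ∀ n ∈ L, X.map (MulAut.conj n).toMonoidHom = X := by
    intro n hn
    ext y
    constructor
    · rintro ⟨z, hz, rfl⟩
      exact (mem_normalizer_iff.mp (hXn n hn) z).mp hz
    · intro hy
      refine ⟨n⁻¹ * y * n⁻¹⁻¹, (mem_normalizer_iff.mp (hXn _ (inv_mem hn)) y).mp hy, ?_⟩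
      simp only [MulEquiv.coe_toMonoidHom, MulAut.conj_apply]; group
  have hidx : ∃ k : ℕ, W.relIndex X = p ^ k := by
    haveI hWn : (W.subgroupOf L).Normal := by
      constructor
      intro z hz n
      rw [Subgroup.mem_subgroupOf] at hz ⊢
      have h0 : (n : G) ∈ normalizer (W : Set G) :=
        mem_normalizer_sup n.2 (normalizer_le_normalizer_centralizer R n.2)
      exact (mem_normalizer_iff.mp h0 _).mp hz
    have h1 : W.relIndex X = (W.subgroupOf L).relIndex (X.subgroupOf L) :=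
      (Subgroup.relIndex_subgroupOf hXL).symm
    have h2 : X.subgroupOf L = Y.subgroupOf L ⊔ W.subgroupOf L :=
      Subgroup.subgroupOf_sup inf_le_right hWL
    rw [h1, h2, Subgroup.relIndex_sup_right]
    have hYp : IsPGroup p (Y.subgroupOf L) :=
      isPGroup_subgroupOf ((P.isPGroup').to_le (inf_le_left.trans hQ.1))
    have h3 : (W.subgroupOf L).relIndex (Y.subgroupOf L) ∣ Nat.card (Y.subgroupOf L) :=
      Subgroup.relIndex_dvd_card _ _
    obtain ⟨m, hm⟩ := IsPGroup.iff_card.mp hYp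
    rw [hm] at h3
    obtain ⟨j, -, hj⟩ := (Nat.dvd_prime_pow Fact.out).mp h3
    exact ⟨j, hj⟩
  have hXW := hRr X hXL hmap le_sup_right hidx
  have hqW : q ∈ C ⊔ R := by
    rw [sup_comm, ← hW, ← hXW]
    exact (le_sup_left : Y ≤ X) (Subgroup.mem_inf.mpr ⟨hq, hqN⟩)
  have hRNC : R ≤ normalizer (C : Set G) := hRL.trans (normalizer_le_normalizer_centralizer R)
  obtain ⟨c, hc, r', hr', hqe⟩ := exists_mul_of_mem_sup hRNC hqW
  have hcP : c ∈ (P : Subgroup G) := by
    have h1 : c = q * r'⁻¹ := by rw [hqe]; group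
    rw [h1]
    exact mul_mem (hQ.1 hq) (inv_mem (hRP hr'))
  exact hqR (by
    rw [hqe]
    exact mul_mem (hRc (Subgroup.mem_inf.mpr ⟨hcP, hc⟩)) hr')

/-- The Sylow subgroup of the centralizer. -/
theorem exists_sylow_centralizer (P : Sylow p G) {Q : Subgroup G}
    (hPQ : (P : Subgroup G) ≤ normalizer (Q : Set G)) :
    ∃ R₀ : Sylow p ↥(centralizer (Q : Set G)),
      (R₀ : Subgroup ↥(centralizer (Q : Set G))).map (centralizer (Q : Set G)).subtype =
        (P : Subgroup G) ⊓ centralizer (Q : Set G) := by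
  set C := centralizer (Q : Set G) with hC
  set L := normalizer (Q : Set G) with hL
  have hCL : C ≤ L := Subgroup.centralizer_le_normalizer _
  haveI hCn : (C.subgroupOf L).Normal := by
    constructor
    intro z hz n
    rw [Subgroup.mem_subgroupOf] at hz ⊢
    exact (mem_normalizer_iff.mp (normalizer_le_normalizer_centralizer Q n.2) _).mp hz
  let P₁ : Subgroup ↥C := ((P : Subgroup G) ⊓ C).subgroupOf C
  have hP₁p : IsPGroup p P₁ := isPGroup_subgroupOf ((P.isPGroup').to_le inf_le_left)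
  let R₀ : Sylow p ↥C :=
    { toSubgroup := P₁
      isPGroup' := hP₁p
      is_maximal' := by
        intro U hU hle
        refine le_antisymm ?_ hle
        intro x hx
        have hxm : (x : G) ∈ U.map C.subtype := ⟨x, hx, rfl⟩
        have hUm : IsPGroup p (U.map C.subtype) := hU.map _
        have hUL : U.map C.subtype ≤ L := (Subgroup.map_subtype_le U).trans hCL
        have h1 : (⟨(x : G), hCL x.2⟩ : L) ∈ ((P.subtype hPQ : Sylow p ↥L) : Subgroup ↥L) ⊓
            C.subgroupOf L := by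
          apply mem_of_pgroup_of_inf (M := C.subgroupOf L) (P.subtype hPQ)
            (P := (U.map C.subtype).subgroupOf L) (isPGroup_subgroupOf hUm)
          · intro y hy
            have hy' := Subgroup.mem_inf.mp hy
            have hy1 := hy'.1
            have hy2 := hy'.2
            rw [P.coe_subtype hPQ, Subgroup.mem_subgroupOf] at hy1
            rw [Subgroup.mem_subgroupOf] at hy2 ⊢
            exact ⟨⟨y, hy2⟩, hle (show (⟨y, hy2⟩ : C) ∈ P₁ from
              Subgroup.mem_subgroupOf.mpr (Subgroup.mem_inf.mpr ⟨hy1, hy2⟩)), rfl⟩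
          · exact hxm
          · rw [Subgroup.mem_subgroupOf]
            exact x.2
        have h2 := (Subgroup.mem_inf.mp h1).1
        rw [P.coe_subtype hPQ, Subgroup.mem_subgroupOf] at h2
        exact Subgroup.mem_subgroupOf.mpr (Subgroup.mem_inf.mpr ⟨h2, x.2⟩) }
  refine ⟨R₀, ?_⟩
  exact Cfsg.Agent.Lib.PGroup.Replacement.map_subgroupOf_of_le inf_le_right

end Least2

section Sections

open Matrix
open scoped MatrixGroups

/-- From a homomorphism on `A ≤ N(Q)`, trivial on `C_A(Q)`, to a section of the required form. -/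
theorem exists_section_over {G X : Type*} [Group G] [Group X] {Q A : Subgroup G}
    (hA : A ≤ normalizer (Q : Set G)) (f : A →* X) (hf : Function.Surjective f)
    (hfC : ∀ a : A, (a : G) ∈ centralizer (Q : Set G) → f a = 1) :
    ∃ (H K : Subgroup G) (_ : (K.subgroupOf H).Normal), centralizer (Q : Set G) ≤ K ∧ K ≤ H ∧
      H ≤ normalizer (Q : Set G) ∧ Nonempty ((H ⧸ K.subgroupOf H) ≃* X) := by
  classical
  set C := centralizer (Q : Set G) with hC
  have hAC : A ≤ normalizer (C : Set G) := hA.trans (normalizer_le_normalizer_centralizer Q)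
  set H := C ⊔ A with hH
  have hfac : ∀ h : H, ∃ c ∈ C, ∃ a : A, (h : G) = c * a := by
    intro h
    obtain ⟨c, hc, a, ha, hca⟩ := exists_mul_of_mem_sup hAC h.2
    exact ⟨c, hc, ⟨a, ha⟩, hca⟩
  choose c hc a hca using hfac
  have huniq : ∀ (h : H) (c' : G) (a' : A), c' ∈ C → (h : G) = c' * a' → f a' = f (a h) := by
    intro h c' a' hc' he
    have h1 : ((a' * (a h)⁻¹ : A) : G) ∈ C := by
      have h2 : ((a' * (a h)⁻¹ : A) : G) = c'⁻¹ * c h := by
        have h3 := hca h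
        rw [he] at h3
        have : (a' : G) = c'⁻¹ * (c h * (a h : G)) := by rw [← h3]; group
        simp only [Subgroup.coe_mul, Subgroup.coe_inv]
        rw [this]; group
      rw [h2]
      exact mul_mem (inv_mem hc') (hc h)
    have h4 := hfC _ h1
    rw [map_mul, map_inv, mul_inv_eq_one] at h4
    exact h4
  let F : H →* X := MonoidHom.mk' (fun h => f (a h)) (by
    intro h₁ h₂
    have hh := hca h₁
    have hh2 := hca h₂
    have hconj : (a h₁ : G) * c h₂ * (a h₁ : G)⁻¹ ∈ C :=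
      (mem_normalizer_iff.mp (hAC (a h₁).2) _).mp (hc h₂)
    have := huniq (h₁ * h₂) (c h₁ * ((a h₁ : G) * c h₂ * (a h₁ : G)⁻¹)) (a h₁ * a h₂)
      (mul_mem (hc h₁) hconj) (by
        simp only [Subgroup.coe_mul]
        rw [hh, hh2]
        group)
    rw [← this, map_mul])
  have hFc : ∀ (x : G) (hx : x ∈ C), F ⟨x, (le_sup_left : C ≤ H) hx⟩ = 1 := by
    intro x hx
    have := huniq ⟨x, (le_sup_left : C ≤ H) hx⟩ x 1 hx (by simp)
    rw [map_one] at this
    exact this.symm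
  have hFa : ∀ y : A, F ⟨y, (le_sup_right : A ≤ H) y.2⟩ = f y := by
    intro y
    have := huniq ⟨y, (le_sup_right : A ≤ H) y.2⟩ 1 y (one_mem _) (by simp)
    exact this.symm
  have hFs : Function.Surjective F := by
    intro y
    obtain ⟨b, rfl⟩ := hf y
    exact ⟨_, hFa b⟩
  have e : (F.ker.map H.subtype).subgroupOf H = F.ker :=
    Subgroup.comap_map_eq_self_of_injective H.subtype_injective _
  have hn : ((F.ker.map H.subtype).subgroupOf H).Normal := by
    rw [e]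
    infer_instance
  refine ⟨H, F.ker.map H.subtype, hn, ?_, Subgroup.map_subtype_le _, ?_, ⟨?_⟩⟩
  · intro x hx
    exact ⟨⟨x, (le_sup_left : C ≤ H) hx⟩, hFc x hx, rfl⟩
  · exact sup_le (Subgroup.centralizer_le_normalizer _) hA
  · exact (QuotientGroup.quotientMulEquivOfEq e).trans (QuotientGroup.quotientKerEquivOfSurjective F hFs)

theorem aff_inj {A A' : SL(2, ZMod p)} {v v' : Fin 2 → ZMod p} (h : aff A v = aff A' v') :
    A = A' ∧ v = v' := by
  have e : ∀ i j : Fin 2, (A.1 i j) = A'.1 i j := by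
    intro i j
    have := congrArg (fun M : SL(3, ZMod p) => M.1 (Fin.castLE (by norm_num) i) (Fin.castLE (by norm_num) j)) h
    fin_cases i <;> fin_cases j <;> simpa [aff] using this
  have e' : ∀ i, v i = v' i := by
    intro i
    have := congrArg (fun M : SL(3, ZMod p) => M.1 (Fin.castLE (by norm_num) i) 2) h
    fin_cases i <;> simpa [aff] using this
  exact ⟨Subtype.ext (Matrix.ext e), funext e'⟩

/-- The linear part. -/
noncomputable def qdLin (p : ℕ) [Fact p.Prime] : Cfsg.qd p →* SL(2, ZMod p) :=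
  MonoidHom.mk' (fun m => (exists_aff_of_mem_qd m.2).choose) (by
    intro m n
    obtain ⟨v, hv⟩ := (exists_aff_of_mem_qd m.2).choose_spec
    obtain ⟨w, hw⟩ := (exists_aff_of_mem_qd n.2).choose_spec
    obtain ⟨u, hu⟩ := (exists_aff_of_mem_qd (m * n).2).choose_spec
    have h1 : aff ((exists_aff_of_mem_qd (m * n).2).choose) u =
        aff ((exists_aff_of_mem_qd m.2).choose) v * aff ((exists_aff_of_mem_qd n.2).choose) w := by
      rw [← hu, ← hv, ← hw]; rfl
    rw [aff_mul] at h1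
    exact (aff_inj h1).1)

theorem qdLin_aff (A : SL(2, ZMod p)) (v : Fin 2 → ZMod p) :
    qdLin p ⟨aff A v, aff_mem_qd _ _⟩ = A := by
  obtain ⟨w, hw⟩ := (exists_aff_of_mem_qd (aff_mem_qd A v)).choose_spec
  exact (aff_inj hw).1.symm

theorem qd_eq_aff (m : Cfsg.qd p) : ∃ v, (m : SL(3, ZMod p)) = aff (qdLin p m) v :=
  (exists_aff_of_mem_qd m.2).choose_spec

theorem qdLin_surjective : Function.Surjective (qdLin p) := fun A =>
  ⟨⟨aff A 0, aff_mem_qd _ _⟩, qdLin_aff A 0⟩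

theorem aff_one_pow (v : Fin 2 → ZMod p) (n : ℕ) : aff (1 : SL(2, ZMod p)) v ^ n = aff 1 (n • v) := by
  induction n with
  | zero =>
    rw [pow_zero]
    apply Subtype.ext
    ext i j
    fin_cases i <;> fin_cases j <;> simp [aff]
  | succ n ih =>
    rw [pow_succ, ih, aff_mul, mul_one, succ_nsmul]
    have h1 : (1 : SL(2, ZMod p)).1 = 1 := rfl
    rw [h1, Matrix.one_mulVec]

theorem isPGroup_ker_qdLin : IsPGroup p (qdLin p).ker := by
  rintro ⟨m, hm⟩
  refine ⟨1, Subtype.ext (Subtype.ext ?_)⟩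
  obtain ⟨v, hv⟩ := qd_eq_aff m
  rw [MonoidHom.mem_ker] at hm
  rw [hm] at hv
  have h2 : ((m : SL(3, ZMod p)) ^ p) = 1 := by
    rw [hv, aff_one_pow]
    have h1 : p • v = 0 := by
      ext i
      simp
    rw [h1]
    apply Subtype.ext
    ext i j
    fin_cases i <;> fin_cases j <;> simp [aff]
  simpa using h2

/-- The linear part of an element centralizing the translations is trivial. -/
theorem qdLin_eq_one_of_centralizes (a : Cfsg.qd p)
    (h : ∀ m ∈ (qdLin p).ker, a * m = m * a) : qdLin p a = 1 := by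
  obtain ⟨w, hw⟩ := qd_eq_aff a
  set A := qdLin p a with hA
  have hfix : ∀ v : Fin 2 → ZMod p, A.1 *ᵥ v = v := by
    intro v
    have hm : (⟨aff 1 v, aff_mem_qd _ _⟩ : Cfsg.qd p) ∈ (qdLin p).ker := by
      rw [MonoidHom.mem_ker]
      exact qdLin_aff 1 v
    have h1 := congrArg Subtype.val (h _ hm)
    have h2 : (a : SL(3, ZMod p)) * aff 1 v = aff 1 v * a := h1
    rw [hw, aff_mul, aff_mul, mul_one, one_mul] at h2
    have h3 := (aff_inj h2).2
    have h4 : (1 : SL(2, ZMod p)).1 = 1 := rfl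
    rw [h4, Matrix.one_mulVec, add_comm] at h3
    exact add_right_cancel h3
  apply Subtype.ext
  have h1 : ∀ j, A.1 *ᵥ (Pi.single j 1) = Pi.single j 1 := fun j => hfix _
  ext i j
  have h2 := congrFun (h1 j) i
  rw [Matrix.mulVec_single_one] at h2
  simpa [Matrix.one_apply, Pi.single_apply, eq_comm] using h2

/-- A section `Qd(p)` gives a local section `SL₂(p)`. -/
theorem exists_local_section {G : Type*} [Group G] [Finite G] (hs : Sec (Cfsg.qd p) G) :
    ∃ Q : Subgroup G, IsPGroup p Q ∧ ∃ (H K : Subgroup G) (_ : (K.subgroupOf H).Normal),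
      centralizer (Q : Set G) ≤ K ∧ K ≤ H ∧ H ≤ normalizer (Q : Set G) ∧
        Nonempty ((H ⧸ K.subgroupOf H) ≃* SL(2, ZMod p)) := by
  obtain ⟨K₀, Φ, hΦ⟩ := hs
  let lin : K₀ →* SL(2, ZMod p) := (qdLin p).comp Φ
  have hlin : Function.Surjective lin := qdLin_surjective.comp hΦ
  set A := lin.ker with hA
  obtain ⟨Q₀⟩ : Nonempty (Sylow p ↥A) := inferInstance
  set Q₁ := (Q₀ : Subgroup ↥A).map A.subtype with hQ₁
  have hQ₁p : IsPGroup p Q₁ := Q₀.isPGroup'.map _
  -- `Φ` maps `Q₁` onto the translations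
  let r : ↥A →* (qdLin p).ker := (Φ.comp A.subtype).codRestrict (qdLin p).ker (fun x => x.2)
  have hr : Function.Surjective r := by
    rintro ⟨v, hv⟩
    obtain ⟨g, rfl⟩ := hΦ v
    exact ⟨⟨g, hv⟩, rfl⟩
  have hQtop : ∀ v : (qdLin p).ker, ∃ q ∈ (Q₀ : Subgroup ↥A), r q = v := by
    intro v
    have h1 : (⊤ : Subgroup (qdLin p).ker) = ((Q₀.mapSurjective hr : Sylow p _) : Subgroup _) :=
      ((Q₀.mapSurjective hr).is_maximal' (isPGroup_ker_qdLin.to_subgroup ⊤) le_top)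
    have h2 : v ∈ (⊤ : Subgroup (qdLin p).ker) := trivial
    rw [h1] at h2
    exact h2
  -- Frattini
  have hFr : ∀ x : K₀, ∃ y : K₀, y ∈ normalizer (Q₁ : Set K₀) ∧ lin y = lin x := by
    intro x
    obtain ⟨n, hn, h, hh, rfl⟩ := Cfsg.Agent.Lib.Basic.SylowUtil.frattini_argument' Q₀ x
    refine ⟨h, hh, ?_⟩
    rw [map_mul, MonoidHom.mem_ker.mp hn, one_mul]
  set B₂ := normalizer (Q₁ : Set K₀) with hB₂
  let Q : Subgroup G := Q₁.map K₀.subtype
  have hQp : IsPGroup p Q := hQ₁p.map _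
  let f₂ : B₂ →* SL(2, ZMod p) := lin.comp B₂.subtype
  have hf₂ : Function.Surjective f₂ := by
    intro y
    obtain ⟨x, rfl⟩ := hlin y
    obtain ⟨z, hz, hze⟩ := hFr x
    exact ⟨⟨z, hz⟩, hze⟩
  let A_G : Subgroup G := B₂.map K₀.subtype
  have hA_G : A_G ≤ normalizer (Q : Set G) := by
    rintro _ ⟨b, hb, rfl⟩
    apply mem_normalizer_of_conj_mem
    rintro _ ⟨q, hq, rfl⟩
    exact ⟨b * q * b⁻¹, (mem_normalizer_iff.mp hb q).mp hq, rfl⟩
  let e : B₂ ≃* A_G := B₂.equivMapOfInjective K₀.subtype K₀.subtype_injective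
  let f : A_G →* SL(2, ZMod p) := f₂.comp e.symm.toMonoidHom
  have hf : Function.Surjective f := hf₂.comp e.symm.surjective
  have hfC : ∀ a : A_G, (a : G) ∈ centralizer (Q : Set G) → f a = 1 := by
    intro a ha
    obtain ⟨b, hb, hab⟩ := a.2
    have hea : e.symm a = ⟨b, hb⟩ := by
      rw [MulEquiv.symm_apply_eq]
      apply Subtype.ext
      exact hab.symm
    show qdLin p (Φ ((e.symm a : B₂) : K₀)) = 1
    rw [hea]
    apply qdLin_eq_one_of_centralizes
    intro m hm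
    obtain ⟨q, hq, hqm⟩ := hQtop ⟨m, hm⟩
    have hqm' : Φ ((q : ↥A) : K₀) = m := congrArg Subtype.val hqm
    rw [← hqm', ← map_mul, ← map_mul]
    congr 1
    apply Subtype.ext
    have h1 : (((q : ↥A) : K₀) : G) ∈ Q := ⟨(q : ↥A), ⟨q, hq, rfl⟩, rfl⟩
    rw [Subgroup.mem_centralizer_iff] at ha
    have h2 := ha _ h1
    rw [← hab] at h2
    exact h2.symm
  exact ⟨Q, hQp, exists_section_over hA_G f hf hfC⟩

end Sections

end Cfsg.Agent.Lib.PGroup.QdRadical
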