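import Mathlib
import Cfsg.Prelude.Def_LocalEven
import Cfsg.Agent.Lib.PGroup.Timmesfeld

/-!
# Recognising a section isomorphic to `S₄`

An odd prime order element `y` acting fixed point freely on a four-group `W`, inverted by a
`2`-element `t` normalising `W` and acting nontrivially on it, yield a section `S₄`.
-/

set_option autoImplicit false

namespace Cfsg.Agent.Lib.PGroup.SFourSection

open Cfsg Subgroup

section transport

universe u v w

variable {G : Type u} [Group G] {G' : Type v} [Group G'] {H : Type w} [Group H]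

/-- Sections of a quotient are sections of the group. -/
theorem involves_of_surjective (f : G →* G') (hf : Function.Surjective f) (h : Involves H G') :
    Involves H G := by
  obtain ⟨K', R', hn, ⟨e⟩⟩ := h
  let φ : K'.comap f →* K' ⧸ R'.subgroupOf K' :=
    (QuotientGroup.mk' (R'.subgroupOf K')).comp (f.subgroupComap K')
  have hφs : Function.Surjective φ :=
    (QuotientGroup.mk'_surjective _).comp (f.subgroupComap_surjective_of_surjective K' hf)
  have hker : (R'.comap f).subgroupOf (K'.comap f) = φ.ker := by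
    ext x
    simp only [Subgroup.mem_subgroupOf, Subgroup.mem_comap, MonoidHom.mem_ker, φ,
      MonoidHom.comp_apply, QuotientGroup.mk'_apply, QuotientGroup.eq_one_iff]
    rfl
  have hnor : ((R'.comap f).subgroupOf (K'.comap f)).Normal := by
    rw [hker]; infer_instance
  refine ⟨K'.comap f, R'.comap f, hnor, ?_⟩
  exact ⟨(QuotientGroup.quotientMulEquivOfEq hker).trans
    ((QuotientGroup.quotientKerEquivOfSurjective φ hφs).trans e)⟩

/-- Sections of a subgroup are sections of the group. -/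
theorem involves_of_injective (f : G' →* G) (hf : Function.Injective f) (h : Involves H G') :
    Involves H G := by
  obtain ⟨K', R', hn, ⟨e⟩⟩ := h
  -- `K'` is isomorphic to its image
  let e0 : K' ≃* K'.map f := K'.equivMapOfInjective f hf
  have hker : (R'.map f).subgroupOf (K'.map f) = (R'.subgroupOf K').map e0.toMonoidHom := by
    ext ⟨x, hx⟩
    simp only [Subgroup.mem_subgroupOf, Subgroup.mem_map]
    constructor
    · rintro ⟨r, hr, hrx⟩
      obtain ⟨k, hk, hkx⟩ := hx
      have hrk : r = k := hf (hrx.trans hkx.symm)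
      subst hrk
      refine ⟨⟨r, hk⟩, hr, ?_⟩
      apply Subtype.ext
      simpa [e0] using hrx
    · rintro ⟨⟨r, hrK⟩, hr, hrx⟩
      refine ⟨r, hr, ?_⟩
      have := congrArg Subtype.val hrx
      simpa [e0] using this
  haveI hn' : (R'.subgroupOf K').Normal := hn
  haveI hnor0 : ((R'.subgroupOf K').map e0.toMonoidHom).Normal :=
    Subgroup.Normal.map hn' _ e0.surjective
  have hnor : ((R'.map f).subgroupOf (K'.map f)).Normal := by
    rw [hker]; exact hnor0
  refine ⟨K'.map f, R'.map f, hnor, ?_⟩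
  exact ⟨(QuotientGroup.quotientMulEquivOfEq hker).trans
    ((QuotientGroup.congr (R'.subgroupOf K') ((R'.subgroupOf K').map e0.toMonoidHom) e0 rfl).symm.trans e)⟩

/-- A quotient of the whole group is a section. -/
theorem involves_of_equiv_quotient (M : Subgroup G) [M.Normal] (e : (G ⧸ M) ≃* H) : Involves H G := by
  refine ⟨⊤, M, ?_, ?_⟩
  · infer_instance
  · let φ : (⊤ : Subgroup G) →* H := (e.toMonoidHom.comp (QuotientGroup.mk' M)).comp (⊤ : Subgroup G).subtype
    have hφs : Function.Surjective φ := by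
      intro h
      obtain ⟨x, rfl⟩ := e.surjective h
      obtain ⟨g, rfl⟩ := QuotientGroup.mk_surjective x
      exact ⟨⟨g, trivial⟩, rfl⟩
    have hker : M.subgroupOf ⊤ = φ.ker := by
      ext x
      simp [φ, Subgroup.mem_subgroupOf]
    exact ⟨(QuotientGroup.quotientMulEquivOfEq hker).trans (QuotientGroup.quotientKerEquivOfSurjective φ hφs)⟩

end transport

section abstract

variable {P : Type*} [Group P] [Finite P]

/-- Core lemma: `K` of index `4`, complementing the four-group `W`, with `K` acting as `S₃` on `W`. -/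
theorem exists_S4_quotient {K W : Subgroup P} (hKi : K.index = 4) (hWK : W ⊓ K = ⊥)
    (hKW : K ≤ normalizer (W : Set P)) {y t : P} {r : ℕ} (hr : r.Prime) (hr2 : r ≠ 2)
    (hyK : y ∈ K) (htK : t ∈ K) (hyr : y ^ r = 1) (hyW : y ∉ centralizer (W : Set P))
    {k : ℕ} (htk : t ^ (2 ^ k) = 1) (htW : t ∉ centralizer (W : Set P)) :
    ∃ (M : Subgroup P) (_ : M.Normal), Nonempty ((P ⧸ M) ≃* Equiv.Perm (Fin 4)) := by
  classical
  haveI : Finite (P ⧸ K) := inferInstance
  let X := P ⧸ K
  have hXcard : Nat.card X = 4 := hKi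
  let φ : P →* Equiv.Perm X := MulAction.toPermHom P X
  let M : Subgroup P := φ.ker
  haveI hMn : M.Normal := MonoidHom.normal_ker φ
  have hMK : M ≤ K := by
    intro m hm
    have h1 : φ m (QuotientGroup.mk 1) = QuotientGroup.mk 1 := by
      rw [hm]; rfl
    have h2 : ((m • (QuotientGroup.mk 1 : P ⧸ K)) : P ⧸ K) = QuotientGroup.mk 1 := h1
    have h3 : ((m * 1 : P) : P ⧸ K) = ((1 : P) : P ⧸ K) := h2
    have := QuotientGroup.eq.mp h3.symm
    simpa using this
  have hMW : M ≤ centralizer (W : Set P) := by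
    intro m hm
    rw [Subgroup.mem_centralizer_iff]
    intro w hw
    have h1 : m * w * m⁻¹ ∈ W := (Subgroup.mem_normalizer_iff.mp (hKW (hMK hm)) w).mp hw
    have h2 : m * w * m⁻¹ * w⁻¹ ∈ W := W.mul_mem h1 (W.inv_mem hw)
    have h3 : m * w * m⁻¹ * w⁻¹ ∈ M := by
      have h4 : w * m⁻¹ * w⁻¹ ∈ M := hMn.conj_mem _ (M.inv_mem hm) w
      have : m * w * m⁻¹ * w⁻¹ = m * (w * m⁻¹ * w⁻¹) := by group
      rw [this]
      exact M.mul_mem hm h4
    have h5 : m * w * m⁻¹ * w⁻¹ ∈ W ⊓ K := ⟨h2, hMK h3⟩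
    rw [hWK, Subgroup.mem_bot] at h5
    have h6 : m * w * m⁻¹ = w := by
      calc m * w * m⁻¹ = m * w * m⁻¹ * w⁻¹ * w := by group
        _ = w := by rw [h5, one_mul]
    calc w * m = (m * w * m⁻¹) * m := by rw [h6]
      _ = m * w := by group
  -- order considerations in `K / M`
  have hMK' : (M.subgroupOf K).Normal := by
    exact Subgroup.Normal.subgroupOf hMn K
  have hymem : (⟨y, hyK⟩ : K) ∉ M.subgroupOf K := fun h => hyW (hMW h)
  have htmem : (⟨t, htK⟩ : K) ∉ M.subgroupOf K := fun h => htW (hMW h)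
  have hd1 : r ∣ Nat.card (K ⧸ M.subgroupOf K) := by
    have h1 : ((⟨y, hyK⟩ : K) : K ⧸ M.subgroupOf K) ^ r = 1 := by
      rw [← QuotientGroup.mk_pow]
      have : (⟨y, hyK⟩ : K) ^ r = 1 := Subtype.ext hyr
      rw [this]; rfl
    have h2 : ((⟨y, hyK⟩ : K) : K ⧸ M.subgroupOf K) ≠ 1 := by
      rw [Ne, QuotientGroup.eq_one_iff]; exact hymem
    have h3 := orderOf_eq_prime h1 h2 (hp := ⟨hr⟩)
    rw [← h3]
    exact orderOf_dvd_natCard _
  have hd2 : 2 ∣ Nat.card (K ⧸ M.subgroupOf K) := by
    have h1 : ((⟨t, htK⟩ : K) : K ⧸ M.subgroupOf K) ^ (2 ^ k) = 1 := by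
      rw [← QuotientGroup.mk_pow]
      have : (⟨t, htK⟩ : K) ^ (2 ^ k) = 1 := Subtype.ext htk
      rw [this]; rfl
    have h2 : ((⟨t, htK⟩ : K) : K ⧸ M.subgroupOf K) ≠ 1 := by
      rw [Ne, QuotientGroup.eq_one_iff]; exact htmem
    obtain ⟨j, -, hj⟩ := (Nat.dvd_prime_pow Nat.prime_two).mp (orderOf_dvd_of_pow_eq_one h1)
    have hj0 : j ≠ 0 := by
      rintro rfl
      apply h2
      simpa using hj
    have h3 : 2 ∣ orderOf (((⟨t, htK⟩ : K) : K ⧸ M.subgroupOf K)) := by
      rw [hj]; exact dvd_pow_self 2 hj0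
    exact h3.trans (orderOf_dvd_natCard _)
  have hidx : M.index = M.relIndex K * 4 := by
    have := Subgroup.relIndex_mul_index hMK
    rw [hKi] at this
    exact this.symm
  have hrel : M.relIndex K = Nat.card (K ⧸ M.subgroupOf K) := rfl
  have hcop : Nat.Coprime r 2 := (Nat.coprime_primes hr Nat.prime_two).mpr hr2
  have hd3 : r * 2 ∣ M.relIndex K := by
    rw [hrel]
    exact hcop.mul_dvd_of_dvd_of_dvd hd1 hd2
  -- the image embeds into `Sym(X)`
  have hMidx : M.index = Nat.card φ.range := by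
    have h1 : Nat.card (P ⧸ M) = Nat.card φ.range :=
      Nat.card_congr (QuotientGroup.quotientKerEquivRange φ).toEquiv
    exact h1
  have hPerm : Nat.card (Equiv.Perm X) = 24 := by
    haveI : Fintype X := Fintype.ofFinite X
    rw [Nat.card_eq_fintype_card, Fintype.card_perm, ← Nat.card_eq_fintype_card, hXcard]
    rfl
  have hdvd : M.index ∣ 24 := by
    rw [hMidx, ← hPerm]
    exact Subgroup.card_subgroup_dvd_card _
  have h8r : r * 2 * 4 ∣ 24 := by
    refine Dvd.dvd.trans ?_ hdvd
    rw [hidx]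
    exact Nat.mul_dvd_mul_right hd3 4
  have hr3 : r = 3 := by
    have h1 : r ∣ 3 := by
      have : r * 8 ∣ 3 * 8 := by
        have h2 : r * 2 * 4 = r * 8 := by ring
        rw [h2] at h8r
        simpa using h8r
      exact Nat.dvd_of_mul_dvd_mul_right (by norm_num) this
    exact (Nat.prime_dvd_prime_iff_eq hr Nat.prime_three).mp h1
  have hM24 : M.index = 24 := by
    apply Nat.dvd_antisymm hdvd
    rw [hr3] at h8r
    refine Dvd.dvd.trans h8r ?_
    rw [hidx]
    rw [hr3] at hd3
    exact Nat.mul_dvd_mul_right hd3 4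
  refine ⟨M, hMn, ?_⟩
  -- surjectivity
  have hsurj : Function.Surjective φ := by
    have h1 : φ.range = ⊤ := by
      apply Subgroup.eq_top_of_card_eq
      rw [← hMidx, hM24, hPerm]
    exact MonoidHom.range_eq_top.mp h1
  have eX : X ≃ Fin 4 := Finite.equivFinOfCardEq hXcard
  exact ⟨(QuotientGroup.quotientKerEquivOfSurjective φ hsurj).trans (Equiv.permCongrHom eX)⟩

end abstract

section data

variable {G : Type*} [Group G] [Finite G]

theorem mem_normalizer_of_forall_conj {W : Subgroup G} {n : G} (h : ∀ w ∈ W, n * w * n⁻¹ ∈ W) :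
    n ∈ normalizer (W : Set G) := by
  have hpow : ∀ m : ℕ, ∀ w ∈ W, n ^ m * w * (n ^ m)⁻¹ ∈ W := by
    intro m
    induction m with
    | zero => intro w hw; simpa using hw
    | succ m ih =>
      intro w hw
      have h1 := h _ (ih w hw)
      have : n ^ (m + 1) * w * (n ^ (m + 1))⁻¹ = n * (n ^ m * w * (n ^ m)⁻¹) * n⁻¹ := by
        rw [pow_succ']; group
      rw [this]; exact h1
  rw [Subgroup.mem_normalizer_iff]
  intro w
  refine ⟨h w, fun hw => ?_⟩
  have hinv : n⁻¹ = n ^ (orderOf n - 1) := by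
    have h0 : 0 < orderOf n := orderOf_pos n
    rw [inv_eq_iff_mul_eq_one, ← pow_succ', Nat.sub_add_cancel h0]
    exact pow_orderOf_eq_one n
  have h1 := hpow (orderOf n - 1) _ hw
  rw [← hinv] at h1
  simpa [mul_assoc] using h1

/-- The section `S₄` from explicit data. -/
theorem involves_of_data {W : Subgroup G} {y t : G} {r : ℕ} (hr : r.Prime) (hr2 : r ≠ 2)
    (hW : Nat.card W = 4) (hyr : y ^ r = 1) (hyW : ∀ w ∈ W, y * w * y⁻¹ ∈ W)
    (hyfix : ∀ w ∈ W, y * w * y⁻¹ = w → w = 1) (htW : ∀ w ∈ W, t * w * t⁻¹ ∈ W)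
    (hty : t * y * t⁻¹ = y⁻¹) {k : ℕ} (htk : t ^ (2 ^ k) = 1)
    (htne : ∃ w ∈ W, t * w * t⁻¹ ≠ w) : Involves (Equiv.Perm (Fin 4)) G := by
  classical
  set K : Subgroup G := closure {y, t} with hK
  have hyK : y ∈ K := subset_closure (by simp)
  have htK : t ∈ K := subset_closure (by simp)
  have hyN : y ∈ normalizer (W : Set G) := mem_normalizer_of_forall_conj hyW
  have htN : t ∈ normalizer (W : Set G) := mem_normalizer_of_forall_conj htW
  have hKW : K ≤ normalizer (W : Set G) := by
    rw [hK, closure_le]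
    rintro x (rfl | rfl)
    · exact hyN
    · exact htN
  have hKy : K ≤ normalizer ((zpowers y : Subgroup G) : Set G) := by
    rw [hK, closure_le]
    rintro x (rfl | rfl)
    · exact Subgroup.le_normalizer (mem_zpowers x)
    · apply mem_normalizer_of_forall_conj
      rintro _ ⟨j, rfl⟩
      refine ⟨-j, ?_⟩
      show y ^ (-j) = x * y ^ j * x⁻¹
      rw [← MulAut.conj_apply, map_zpow, MulAut.conj_apply, hty]
      simp
  have hWK : W ⊓ K = ⊥ := by
    rw [eq_bot_iff]
    rintro w ⟨hwW, hwK⟩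
    rw [Subgroup.mem_bot]
    apply hyfix w hwW
    -- `c = w y w⁻¹ y⁻¹` lies in `⟨y⟩ ∩ W`
    set c := w * y * w⁻¹ * y⁻¹ with hc
    have h1 : w * y * w⁻¹ ∈ zpowers y :=
      (Subgroup.mem_normalizer_iff.mp (hKy hwK) y).mp (mem_zpowers y)
    have h2 : c ∈ zpowers y := (zpowers y).mul_mem h1 ((zpowers y).inv_mem (mem_zpowers y))
    have h3 : y * w⁻¹ * y⁻¹ ∈ W := hyW _ (W.inv_mem hwW)
    have h4 : c ∈ W := by
      have : c = w * (y * w⁻¹ * y⁻¹) := by rw [hc]; group
      rw [this]; exact W.mul_mem hwW h3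
    have h5 : c ^ r = 1 := by
      obtain ⟨j, hj⟩ := h2
      rw [← hj, ← zpow_natCast, ← zpow_mul, mul_comm, zpow_mul, zpow_natCast, hyr, one_zpow]
    have h6 : c ^ 4 = 1 := by
      have := pow_card_eq_one' (G := W) (x := ⟨c, h4⟩)
      rw [hW] at this
      simpa using congrArg Subtype.val this
    have h7 : Nat.Coprime r 4 := by
      have : Nat.Coprime r (2 ^ 2) := Nat.Coprime.pow_right 2 ((Nat.coprime_primes hr Nat.prime_two).mpr hr2)
      simpa using this
    have h8 : c = 1 := by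
      have := Nat.dvd_gcd (orderOf_dvd_of_pow_eq_one h5) (orderOf_dvd_of_pow_eq_one h6)
      rw [h7.gcd_eq_one, Nat.dvd_one, orderOf_eq_one_iff] at this
      exact this
    have h9 : w * y = y * w := by
      calc w * y = c * (y * w) := by rw [hc]; group
        _ = y * w := by rw [h8, one_mul]
    rw [← h9]; group
  have hcard : Nat.card ↥(K ⊔ W) * Nat.card ↥(K ⊓ W) = Nat.card K * Nat.card W :=
    Cfsg.Agent.Lib.PGroup.Timmesfeld.card_sup_mul_card_inf_of_le_normalizer K W hKW
  rw [inf_comm, hWK, Subgroup.card_bot, mul_one, hW] at hcard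
  set P : Subgroup G := K ⊔ W with hP
  have hKP : K ≤ P := le_sup_left
  have hWP : W ≤ P := le_sup_right
  -- work inside `P`
  let K' : Subgroup P := K.subgroupOf P
  let W' : Subgroup P := W.subgroupOf P
  have hcK' : Nat.card K' = Nat.card K :=
    Nat.card_congr (Subgroup.subgroupOfEquivOfLe hKP).toEquiv
  have hKi : K'.index = 4 := by
    have h1 := K'.card_mul_index
    rw [hcK', hcard] at h1
    have hKpos : 0 < Nat.card K := Nat.card_pos
    exact Nat.eq_of_mul_eq_mul_left hKpos h1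
  have hWK' : W' ⊓ K' = ⊥ := by
    rw [eq_bot_iff]
    rintro x ⟨hx1, hx2⟩
    have : (x : G) ∈ W ⊓ K := ⟨hx1, hx2⟩
    rw [hWK, Subgroup.mem_bot] at this
    exact (Subgroup.mem_bot).mpr (Subtype.ext this)
  have hKW' : K' ≤ normalizer (W' : Set P) := by
    intro x hx
    apply mem_normalizer_of_forall_conj
    intro w hw
    have hx' : (x : G) ∈ normalizer (W : Set G) := hKW hx
    exact (Subgroup.mem_normalizer_iff.mp hx' w).mp hw
  -- a nontrivial element of `W`
  have hex : ∃ w ∈ W, w ≠ 1 := by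
    by_contra hno
    push Not at hno
    have : W = ⊥ := (Subgroup.eq_bot_iff_forall W).mpr hno
    rw [this, Subgroup.card_bot] at hW
    omega
  obtain ⟨w0, hw0, hw01⟩ := hex
  have hy' : (⟨y, hKP hyK⟩ : P) ∉ centralizer (W' : Set P) := by
    intro h
    apply hw01
    apply hyfix w0 hw0
    have h1 := Subgroup.mem_centralizer_iff.mp h ⟨w0, hWP hw0⟩ hw0
    have h2 : w0 * y = y * w0 := congrArg Subtype.val h1
    rw [← h2]; group
  have ht' : (⟨t, hKP htK⟩ : P) ∉ centralizer (W' : Set P) := by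
    intro h
    obtain ⟨w, hw, hne⟩ := htne
    apply hne
    have h1 := Subgroup.mem_centralizer_iff.mp h ⟨w, hWP hw⟩ hw
    have h2 : w * t = t * w := congrArg Subtype.val h1
    rw [← h2]; group
  obtain ⟨M, hMn, ⟨e⟩⟩ := exists_S4_quotient (P := P) (K := K') (W := W') hKi hWK' hKW'
    (y := ⟨y, hKP hyK⟩) (t := ⟨t, hKP htK⟩) hr hr2 hyK htK (Subtype.ext (by simpa using hyr)) hy'
    (k := k) (Subtype.ext (by simpa using htk)) ht'
  exact involves_of_injective P.subtype P.subtype_injective (involves_of_equiv_quotient M e)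

end data

end Cfsg.Agent.Lib.PGroup.SFourSection
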