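import Mathlib
import Cfsg.Prelude.Def_LocalEven
import Cfsg.Agent.Lib.PGroup.SFourSection
import Cfsg.Agent.Lib.PGroup.ThompsonG
import Cfsg.Agent.Lib.PGroup.Timmesfeld
import Cfsg.Agent.Lib.Solvable.Stability
import Cfsg.Agent.Lib.Solvable.PSeries
import Cfsg.Agent.Lib.Coprime.GenerationE
import Cfsg.Agent.Lib.Basic.PCore
import Cfsg.Agent.Lib.Components.CharP

/-!
# Factorization for solvable `S₄`-free groups with Sylow `2`-subgroups of class at most two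

If `G` is solvable, `S₄`-free, with Sylow `2`-subgroup `S` of class at most `2`, then
`G = N_G(J_e(S)) O_{2'}(G)`.
-/

set_option autoImplicit false
set_option linter.unusedSectionVars false
set_option linter.style.haveILetI false

namespace Cfsg.Agent.Lib.PGroup.SFourFree

open Cfsg Subgroup
open Cfsg.Agent.Lib.Basic.PCore
open Cfsg.Agent.Lib.Solvable.PSeries

section inverted

variable {Γ : Type*} [Group Γ] [Finite Γ]

/-- The Hall-Higman style element: `y` of odd prime order inverted by `a ∈ A`, centralized by a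
hyperplane of the elementary abelian group `A`. -/
theorem exists_inverted (hsol : IsPSolvable 2 Γ) (h0 : pCore 2 Γ = ⊥) (A : Subgroup Γ)
    (hA : IsElementaryAbelian 2 A) (hA1 : A ≠ ⊥) :
    ∃ B : Subgroup Γ, B ≤ A ∧ B.relIndex A ≤ 2 ∧ ∃ a ∈ A, a ∉ B ∧ ∃ (y : Γ) (r : ℕ), r.Prime ∧ r ≠ 2 ∧
      orderOf y = r ∧ (∀ b ∈ B, b * y = y * b) ∧ a * y * a⁻¹ = y⁻¹ := by
  classical
  haveI : Fact (Nat.Prime 2) := ⟨Nat.prime_two⟩
  set X := pPrimeCore 2 Γ with hX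
  haveI hXn : X.Normal := pPrimeCore_normal 2 Γ
  have hXcop : (Nat.card X).Coprime 2 := pPrimeCore_coprime 2
  have hXnd : ¬ 2 ∣ Nat.card X := by
    intro hd
    have := Nat.dvd_gcd hd (dvd_refl 2)
    rw [Nat.Coprime.gcd_eq_one hXcop] at this
    omega
  have hAN : A ≤ normalizer (X : Set Γ) := by
    intro g _
    exact Subgroup.mem_normalizer_iff.mpr (fun x => ⟨fun h => hXn.conj_mem x h g,
      fun h => by simpa [mul_assoc] using hXn.conj_mem _ h g⁻¹⟩)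
  have hgen := Cfsg.Agent.Lib.Coprime.GenerationE.le_iSup_relIndex_le A X hA hXnd hAN
  have hex : ∃ B : Subgroup Γ, B ≤ A ∧ B.relIndex A ≤ 2 ∧
      ¬ (X ⊓ centralizer (B : Set Γ) ≤ centralizer (A : Set Γ)) := by
    by_contra hno
    push Not at hno
    apply hA1
    have hXA : X ≤ centralizer (A : Set Γ) := by
      refine hgen.trans (iSup_le ?_)
      rintro ⟨B, hB1, hB2⟩
      exact hno B hB1 hB2
    have hAC : A ≤ centralizer (X : Set Γ) := by
      rw [Subgroup.le_centralizer_iff]; exact hXA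
    have hAX : A ≤ X := hAC.trans (Cfsg.Agent.Lib.Solvable.Stability.centralizer_pPrimeCore_le hsol h0)
    rw [eq_bot_iff]
    intro a ha
    have h1 : a ^ 2 = 1 := hA.2 a ha
    have h2 : a ^ Nat.card X = 1 := by
      exact congrArg Subtype.val (pow_card_eq_one' (G := X) (x := ⟨a, hAX ha⟩))
    have h3 := Nat.dvd_gcd (orderOf_dvd_of_pow_eq_one h1) (orderOf_dvd_of_pow_eq_one h2)
    rw [Nat.gcd_comm, Nat.Coprime.gcd_eq_one hXcop, Nat.dvd_one, orderOf_eq_one_iff] at h3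
    exact h3
  obtain ⟨B, hBA, hBi, hB⟩ := hex
  have hcomm : ∀ a ∈ A, ∀ b ∈ A, a * b = b * a := fun a ha b hb =>
    congrArg Subtype.val (hA.1.is_comm.comm (⟨a, ha⟩ : A) ⟨b, hb⟩)
  -- an element of `C_X(B)` moved by `A`
  obtain ⟨x, ⟨hxX, hxB⟩, a, ha, hne⟩ : ∃ x ∈ X ⊓ centralizer (B : Set Γ), ∃ a ∈ A, a * x ≠ x * a := by
    by_contra hno
    push Not at hno
    exact hB fun x hx => Subgroup.mem_centralizer_iff.mpr fun a ha => hno x hx a ha
  have ha2 : a * a = 1 := by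
    have := hA.2 a ha
    rwa [pow_two] at this
  have hainv : a⁻¹ = a := inv_eq_of_mul_eq_one_left ha2
  set c : Γ := x⁻¹ * (a * x * a⁻¹) with hc
  have hc1 : c ≠ 1 := by
    intro h
    apply hne
    have h1 : a * x * a⁻¹ = x := by
      rw [hc, inv_mul_eq_one] at h
      exact h.symm
    calc a * x = a * x * a⁻¹ * a := by group
      _ = x * a := by rw [h1]
  have hcX : c ∈ X := X.mul_mem (X.inv_mem hxX) (hXn.conj_mem x hxX a)
  have hcinv : a * c * a⁻¹ = c⁻¹ := by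
    have h1 : a * c * a⁻¹ = a * x⁻¹ * a * x * (a⁻¹ * a⁻¹) := by rw [hc]; group
    have h2 : c⁻¹ = a * x⁻¹ * a⁻¹ * x := by rw [hc]; group
    have h3 : a⁻¹ * a⁻¹ = 1 := by rw [hainv, ha2]
    rw [h1, h2, h3, mul_one, hainv]
  have hcB : ∀ b ∈ B, b * c = c * b := by
    intro b hb
    have hbx : b * x = x * b := (Subgroup.mem_centralizer_iff.mp hxB b hb)
    have hbx' : b * x⁻¹ = x⁻¹ * b := by
      rw [eq_inv_mul_iff_mul_eq, ← mul_assoc, ← hbx, mul_assoc, mul_inv_cancel, mul_one]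
    have hba : b * a = a * b := hcomm b (hBA hb) a ha
    have hba' : b * a⁻¹ = a⁻¹ * b := by rw [hainv, hba]
    rw [hc]
    calc b * (x⁻¹ * (a * x * a⁻¹)) = (b * x⁻¹) * a * x * a⁻¹ := by group
      _ = x⁻¹ * (b * a) * x * a⁻¹ := by rw [hbx']; group
      _ = x⁻¹ * a * (b * x) * a⁻¹ := by rw [hba]; group
      _ = x⁻¹ * a * x * (b * a⁻¹) := by rw [hbx]; group
      _ = x⁻¹ * a * x * a⁻¹ * b := by rw [hba']; group
      _ = _ := by group
  -- take a power of prime order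
  set n := orderOf c with hn
  have hn1 : n ≠ 1 := by
    rw [hn, Ne, orderOf_eq_one_iff]; exact hc1
  have hn0 : 0 < n := orderOf_pos c
  set r := n.minFac with hr
  have hrp : r.Prime := Nat.minFac_prime hn1
  have hrn : r ∣ n := Nat.minFac_dvd n
  have hr2 : r ≠ 2 := by
    intro h2
    apply hXnd
    have h3 : 2 ∣ n := h2 ▸ hrn
    have h4 : n ∣ Nat.card X := by
      have := orderOf_dvd_natCard (⟨c, hcX⟩ : X)
      rwa [Subgroup.orderOf_mk] at this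
    exact h3.trans h4
  refine ⟨B, hBA, hBi, a, ha, ?_, c ^ (n / r), r, hrp, hr2, ?_, ?_, ?_⟩
  · intro haB
    apply hne
    exact (Subgroup.mem_centralizer_iff.mp hxB a haB)
  · rw [hn]
    exact orderOf_pow_orderOf_div (orderOf_pos c).ne' hrn
  · intro b hb
    exact (Commute.pow_right (hcB b hb) _)
  · rw [← MulAut.conj_apply, map_pow, MulAut.conj_apply, hcinv, inv_pow]

end inverted

section lift

variable {G : Type*} [Group G] [Finite G]

theorem exists_odd_lift {Q : Subgroup G} (hQ : IsPGroup 2 Q) {y₀ : G} {r : ℕ} (hrp : r.Prime)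
    (hr2 : r ≠ 2) (h : y₀ ^ r ∈ Q) : ∃ m : ℕ, (y₀ ^ m) ^ r = 1 ∧ y₀ ^ m * y₀⁻¹ ∈ Q := by
  obtain ⟨k, hk⟩ := hQ ⟨y₀ ^ r, h⟩
  have hk' : (y₀ ^ r) ^ (2 ^ k) = 1 := congrArg Subtype.val hk
  have hcop : Nat.Coprime (2 ^ k) r :=
    Nat.Coprime.pow_left k ((Nat.coprime_primes Nat.prime_two hrp).mpr (Ne.symm hr2))
  obtain ⟨c, -, hc⟩ := Nat.exists_mul_mod_eq_one_of_coprime hcop hrp.one_lt
  refine ⟨2 ^ k * c, ?_, ?_⟩
  · rw [← pow_mul, mul_comm (2 ^ k * c) r, pow_mul, pow_mul, hk', one_pow]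
  · have h1 : 2 ^ k * c = r * (2 ^ k * c / r) + 1 := by
      have := Nat.div_add_mod (2 ^ k * c) r
      rw [hc] at this
      exact this.symm
    have h2 : y₀ ^ (2 ^ k * c) * y₀⁻¹ = (y₀ ^ r) ^ (2 ^ k * c / r) := by
      conv_lhs => rw [h1, pow_succ, pow_mul]
      group
    rw [h2]
    exact Q.pow_mem h _

theorem exists_inverted_mod (hsol : IsPSolvable 2 G) (T : Subgroup G) [hTn : T.Normal] (A : Subgroup G)
    (hAT : A ≤ T) (hA : IsElementaryAbelian 2 A) (hAQ : ¬ A ≤ pCore 2 G) :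
    ∃ B : Subgroup G, B ≤ A ∧ ∃ a ∈ A, a ∉ B ∧ (∀ x ∈ A, x ∈ B ∨ x * a ∈ B) ∧ ∃ (y : G) (r : ℕ),
      y ∈ T ∧ r.Prime ∧ r ≠ 2 ∧ y ∉ pCore 2 G ∧ y ^ r = 1 ∧
      (∀ b ∈ B, b * y * b⁻¹ * y⁻¹ ∈ pCore 2 G) ∧ a * y * a⁻¹ * y ∈ pCore 2 G := by
  classical
  haveI : Fact (Nat.Prime 2) := ⟨Nat.prime_two⟩
  set Q := pCore 2 G with hQ
  haveI hQn : Q.Normal := pCore_normal 2 G
  have hQp : IsPGroup 2 Q := pCore_isPGroup 2
  let π : G →* G ⧸ Q := QuotientGroup.mk' Q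
  have hπ : Function.Surjective π := QuotientGroup.mk'_surjective Q
  have hπk : ∀ x, π x = 1 ↔ x ∈ Q := fun x => QuotientGroup.eq_one_iff x
  set Γ : Subgroup (G ⧸ Q) := T.map π with hΓ
  haveI hΓn : Γ.Normal := Subgroup.Normal.map hTn π hπ
  have h0 : pCore 2 ↥Γ = ⊥ := by
    have h1 : (pCore 2 ↥Γ).map Γ.subtype ≤ pCore 2 (G ⧸ Q) := map_pCore_of_normal_le
    rw [pCore_quotient_eq_bot, le_bot_iff, Subgroup.map_eq_bot_iff_of_injective _ Γ.subtype_injective] at h1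
    exact h1
  have hsolΓ : IsPSolvable 2 ↥Γ := isPSolvable_subgroup (isPSolvable_quotient hsol Q) Γ
  have hmemΓ : ∀ x ∈ T, π x ∈ Γ := fun x hx => ⟨x, hx, rfl⟩
  set A' : Subgroup ↥Γ := (A.map π).subgroupOf Γ with hA'
  have hAc : ∀ a ∈ A, ∀ b ∈ A, a * b = b * a := fun a ha b hb =>
    congrArg Subtype.val (hA.1.is_comm.comm (⟨a, ha⟩ : A) ⟨b, hb⟩)
  have hA'e : IsElementaryAbelian 2 A' := by
    refine ⟨⟨⟨?_⟩⟩, ?_⟩
    · intro x y
      obtain ⟨a, ha, hax⟩ := x.2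
      obtain ⟨b, hb, hby⟩ := y.2
      have hax' : π a = x.1.1 := hax
      have hby' : π b = y.1.1 := hby
      apply Subtype.ext
      apply Subtype.ext
      show x.1.1 * y.1.1 = y.1.1 * x.1.1
      rw [← hax', ← hby', ← map_mul, hAc a ha b hb, map_mul]
    · rintro ⟨_, hx⟩ ⟨a, ha, rfl⟩
      apply Subtype.ext
      show π a ^ 2 = 1
      rw [← map_pow, hA.2 a ha, map_one]
  have hA'1 : A' ≠ ⊥ := by
    intro hbot
    apply hAQ
    intro a ha
    have h1 : (⟨π a, hmemΓ a (hAT ha)⟩ : Γ) ∈ A' := ⟨a, ha, rfl⟩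
    rw [hbot, Subgroup.mem_bot] at h1
    exact (hπk a).mp (congrArg Subtype.val h1)
  obtain ⟨B', hB'A', hB'i, a', ha', ha'B', y', r, hrp, hr2, hy'o, hy'B, hy'a⟩ :=
    exists_inverted hsolΓ h0 A' hA'e hA'1
  set B : Subgroup G := A ⊓ (B'.map Γ.subtype).comap π with hB
  obtain ⟨a₀, ha₀, ha₀e⟩ := ha'
  have ha₀e' : (⟨π a₀, hmemΓ a₀ (hAT ha₀)⟩ : Γ) = a' := Subtype.ext ha₀e
  obtain ⟨y₀, hy₀, hy₀e⟩ := y'.2
  have hy₀e' : (⟨π y₀, hmemΓ y₀ hy₀⟩ : Γ) = y' := Subtype.ext hy₀e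
  -- the index of `B'` in `A'` is `2`
  have hrel : B'.relIndex A' = 2 := by
    have h1 : B'.relIndex A' ≠ 0 := Subgroup.index_ne_zero_of_finite
    have h2 : B'.relIndex A' ≠ 1 := by
      intro h
      exact ha'B' (Subgroup.relIndex_eq_one.mp h ⟨a₀, ha₀, ha₀e⟩)
    omega
  have hindex : (B'.subgroupOf A').index = 2 := hrel
  have hmemB : ∀ x (hx : x ∈ A), (⟨π x, hmemΓ x (hAT hx)⟩ : Γ) ∈ B' → x ∈ B := by
    intro x hx h
    exact ⟨hx, ⟨_, h, rfl⟩⟩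
  have hmemB' : ∀ x (hx : x ∈ B), (⟨π x, hmemΓ x (hAT hx.1)⟩ : Γ) ∈ B' := by
    rintro x ⟨hxA, ⟨z, hz, hzx⟩⟩
    have : (⟨π x, hmemΓ x (hAT hxA)⟩ : Γ) = z := Subtype.ext hzx.symm
    rw [this]
    exact hz
  have ha₀B : a₀ ∉ B := by
    intro h
    apply ha'B'
    rw [← ha₀e']
    exact hmemB' a₀ h
  have hmemA' : ∀ x (hx : x ∈ A), (⟨π x, hmemΓ x (hAT hx)⟩ : Γ) ∈ A' := fun x hx => ⟨x, hx, rfl⟩
  have hdich : ∀ x ∈ A, x ∈ B ∨ x * a₀ ∈ B := by
    intro x hx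
    by_cases hxB : x ∈ B
    · exact Or.inl hxB
    right
    have h1 := Subgroup.mul_mem_iff_of_index_two hindex
      (a := ⟨⟨π x, hmemΓ x (hAT hx)⟩, hmemA' x hx⟩) (b := ⟨⟨π a₀, hmemΓ a₀ (hAT ha₀)⟩, hmemA' a₀ ha₀⟩)
    have h2 : (⟨⟨π x, hmemΓ x (hAT hx)⟩, hmemA' x hx⟩ : A') ∉ B'.subgroupOf A' := by
      intro h
      exact hxB (hmemB x hx h)
    have h3 : (⟨⟨π a₀, hmemΓ a₀ (hAT ha₀)⟩, hmemA' a₀ ha₀⟩ : A') ∉ B'.subgroupOf A' := by
      intro h
      exact ha₀B (hmemB a₀ ha₀ h)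
    have h4 := h1.mpr (by simp [h2, h3])
    have h5 : (⟨π (x * a₀), hmemΓ _ (hAT (A.mul_mem hx ha₀))⟩ : Γ) ∈ B' := by
      have h6 : (⟨π (x * a₀), hmemΓ _ (hAT (A.mul_mem hx ha₀))⟩ : Γ) =
        ((⟨⟨π x, hmemΓ x (hAT hx)⟩, hmemA' x hx⟩ * ⟨⟨π a₀, hmemΓ a₀ (hAT ha₀)⟩, hmemA' a₀ ha₀⟩ : A') : Γ) := by
        apply Subtype.ext
        simp
      rw [h6]
      exact h4
    exact hmemB _ (A.mul_mem hx ha₀) h5
  -- the element `y`
  have hπy₀ : π y₀ = (y' : G ⧸ Q) := hy₀e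
  have hy'r : y' ^ r = 1 := by rw [← hy'o]; exact pow_orderOf_eq_one y'
  have hy₀r : y₀ ^ r ∈ Q := by
    rw [← hπk, map_pow, hπy₀]
    exact congrArg Subtype.val hy'r
  obtain ⟨m, hm1, hm2⟩ := exists_odd_lift hQp hrp hr2 hy₀r
  have hπy : π (y₀ ^ m) = (y' : G ⧸ Q) := by
    have h1 := (hπk _).mpr hm2
    rw [map_mul, map_inv, mul_inv_eq_one] at h1
    rw [h1, hπy₀]
  refine ⟨B, inf_le_left, a₀, ha₀, ha₀B, hdich, y₀ ^ m, r, T.pow_mem hy₀ m, hrp, hr2, ?_, hm1, ?_, ?_⟩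
  · intro hmem
    have h1 : (y' : G ⧸ Q) = 1 := by
      rw [← hπy]; exact (hπk _).mpr hmem
    have h2 : y' = 1 := Subtype.ext h1
    rw [h2, orderOf_one] at hy'o
    exact hrp.one_lt.ne hy'o
  · intro b hb
    rw [← hπk]
    have h1 := hy'B _ (hmemB' b hb)
    have h2 : π b * (y' : G ⧸ Q) = (y' : G ⧸ Q) * π b := congrArg Subtype.val h1
    rw [map_mul, map_mul, map_mul, map_inv, map_inv, hπy, h2]
    group
  · rw [← hπk]
    have h1 : (a' : G ⧸ Q) * (y' : G ⧸ Q) * (a' : G ⧸ Q)⁻¹ = (y' : G ⧸ Q)⁻¹ := congrArg Subtype.val hy'a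
    have h2 : π a₀ = (a' : G ⧸ Q) := ha₀e
    rw [map_mul, map_mul, map_mul, map_inv, hπy, h2, h1]
    group

end lift

section centralT

variable {G : Type*} [Group G]

/-- The centre of the subgroup `Q`, inside `G`. -/
abbrev zQ (Q : Subgroup G) : Subgroup G := Q ⊓ centralizer (Q : Set G)

theorem mem_zQ_comm {Q : Subgroup G} {a b : G} (ha : a ∈ zQ Q) (hb : b ∈ Q) : a * b = b * a :=
  (Subgroup.mem_centralizer_iff.mp ha.2 b hb).symm

theorem zQ_conj {Q : Subgroup G} [hQ : Q.Normal] {z : G} (hz : z ∈ zQ Q) (g : G) :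
    g * z * g⁻¹ ∈ zQ Q := by
  refine ⟨hQ.conj_mem z hz.1 g, Subgroup.mem_centralizer_iff.mpr fun q hq => ?_⟩
  have h1 : g⁻¹ * q * g⁻¹⁻¹ ∈ Q := hQ.conj_mem q hq g⁻¹
  have h2 : z * (g⁻¹ * q * g⁻¹⁻¹) = (g⁻¹ * q * g⁻¹⁻¹) * z := mem_zQ_comm hz h1
  simp only [inv_inv] at h2
  calc q * (g * z * g⁻¹) = g * ((g⁻¹ * q * g) * z) * g⁻¹ := by group
    _ = g * (z * (g⁻¹ * q * g)) * g⁻¹ := by rw [h2]
    _ = _ := by group

instance zQ_normal (Q : Subgroup G) [Q.Normal] : (zQ Q).Normal := ⟨fun _ hz g => zQ_conj hz g⟩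

/-- The centralizer of `Q / Z(Q)`. -/
def tQ (Q : Subgroup G) [hQ : Q.Normal] : Subgroup G where
  carrier := {g | ∀ q ∈ Q, q⁻¹ * (g * q * g⁻¹) ∈ zQ Q}
  one_mem' := by
    intro q _
    simp
  mul_mem' := by
    intro g h hg hh q hq
    have h1 := hh q hq
    have h2 := hg q hq
    have h3 := zQ_conj h1 g
    have : q⁻¹ * (g * h * q * (g * h)⁻¹) = (q⁻¹ * (g * q * g⁻¹)) * (g * (q⁻¹ * (h * q * h⁻¹)) * g⁻¹) := by
      group
    rw [this]
    exact (zQ Q).mul_mem h2 h3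
  inv_mem' := by
    intro g hg q hq
    have h1 : g⁻¹ * q * g ∈ Q := by
      have := hQ.conj_mem q hq g⁻¹
      simpa using this
    have h2 := hg _ h1
    have h3 : (g⁻¹ * q * g)⁻¹ * (g * (g⁻¹ * q * g) * g⁻¹) = g⁻¹ * q⁻¹ * g * q := by group
    rw [h3] at h2
    have h4 := (zQ Q).inv_mem h2
    have h5 : (g⁻¹ * q⁻¹ * g * q)⁻¹ = q⁻¹ * (g⁻¹ * q * g) := by group
    rw [h5] at h4
    have h6 : q⁻¹ * (g⁻¹ * q * g⁻¹⁻¹) = q⁻¹ * (g⁻¹ * q * g) := by simp
    rw [h6]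
    exact h4

theorem mem_tQ {Q : Subgroup G} [Q.Normal] {g : G} :
    g ∈ tQ Q ↔ ∀ q ∈ Q, q⁻¹ * (g * q * g⁻¹) ∈ zQ Q := Iff.rfl

instance tQ_normal (Q : Subgroup G) [hQ : Q.Normal] : (tQ Q).Normal := by
  refine ⟨fun g hg h q hq => ?_⟩
  have h1 : h⁻¹ * q * h⁻¹⁻¹ ∈ Q := hQ.conj_mem q hq h⁻¹
  have h2 := hg _ h1
  have h3 := zQ_conj h2 h
  have : q⁻¹ * (h * g * h⁻¹ * q * (h * g * h⁻¹)⁻¹) =
      h * ((h⁻¹ * q * h⁻¹⁻¹)⁻¹ * (g * (h⁻¹ * q * h⁻¹⁻¹) * g⁻¹)) * h⁻¹ := by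
    group
  rw [this]
  exact h3

/-- `Ω₁(Z(Q))`. -/
def vQ (Q : Subgroup G) : Subgroup G where
  carrier := {z | z ∈ zQ Q ∧ z ^ 2 = 1}
  one_mem' := ⟨one_mem _, one_pow 2⟩
  mul_mem' := by
    rintro a b ⟨ha, ha2⟩ ⟨hb, hb2⟩
    refine ⟨(zQ Q).mul_mem ha hb, ?_⟩
    have hab : a * b = b * a := mem_zQ_comm ha hb.1
    rw [(Commute.mul_pow hab 2 : _), ha2, hb2, one_mul]
  inv_mem' := by
    rintro a ⟨ha, ha2⟩
    exact ⟨(zQ Q).inv_mem ha, by rw [inv_pow, ha2, inv_one]⟩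

theorem mem_vQ {Q : Subgroup G} {z : G} : z ∈ vQ Q ↔ z ∈ zQ Q ∧ z ^ 2 = 1 := Iff.rfl

instance vQ_normal (Q : Subgroup G) [Q.Normal] : (vQ Q).Normal := by
  refine ⟨fun z hz g => ⟨zQ_conj hz.1 g, ?_⟩⟩
  rw [← MulAut.conj_apply, ← map_pow, hz.2, map_one]

theorem vQ_le (Q : Subgroup G) : vQ Q ≤ Q := fun _ hz => hz.1.1

theorem le_centralizer_vQ (Q : Subgroup G) : Q ≤ centralizer (vQ Q : Set G) := by
  intro q hq
  rw [Subgroup.mem_centralizer_iff]
  intro z hz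
  exact mem_zQ_comm hz.1 hq

theorem vQ_ea (Q : Subgroup G) : IsElementaryAbelian 2 (vQ Q) := by
  refine ⟨⟨⟨?_⟩⟩, fun a ha => ha.2⟩
  rintro ⟨a, ha⟩ ⟨b, hb⟩
  exact Subtype.ext (mem_zQ_comm ha.1 hb.1.1)

/-- Basic computation with a coprime element. -/
theorem pow_eq_one_of_fixed {x y w : G} {r : ℕ} (hyr : y ^ r = 1) (h1 : y * x * y⁻¹ = x * w)
    (h2 : y * w * y⁻¹ = w) : w ^ r = 1 := by
  have key : ∀ n : ℕ, y ^ n * x * (y ^ n)⁻¹ = x * w ^ n := by
    intro n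
    induction n with
    | zero => simp
    | succ n ih =>
      have h3 : y ^ (n + 1) * x * (y ^ (n + 1))⁻¹ = y * (y ^ n * x * (y ^ n)⁻¹) * y⁻¹ := by
        rw [pow_succ']; group
      have h4 : y * w ^ n * y⁻¹ = w ^ n := by
        rw [← MulAut.conj_apply, map_pow, MulAut.conj_apply, h2]
      calc y ^ (n + 1) * x * (y ^ (n + 1))⁻¹ = y * (x * w ^ n) * y⁻¹ := by rw [h3, ih]
        _ = (y * x * y⁻¹) * (y * w ^ n * y⁻¹) := by group
        _ = x * w * w ^ n := by rw [h1, h4]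
        _ = x * w ^ (n + 1) := by rw [pow_succ']; group
  have := key r
  rw [hyr] at this
  simpa using this

theorem eq_one_of_pow_of_two {w : G} {r : ℕ} (hr : Nat.Coprime r 2) (h1 : w ^ r = 1)
    (h2 : w ^ 2 = 1) : w = 1 := by
  have := Nat.dvd_gcd (orderOf_dvd_of_pow_eq_one h1) (orderOf_dvd_of_pow_eq_one h2)
  rw [hr.gcd_eq_one, Nat.dvd_one, orderOf_eq_one_iff] at this
  exact this

/-- An element of odd order in `tQ Q` centralizing `Ω₁(Z(Q))` centralizes `Q`. -/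
theorem mem_centralizer_of_tQ [Finite G] {Q : Subgroup G} [hQ : Q.Normal] (hQp : IsPGroup 2 Q) {y : G}
    (hyT : y ∈ tQ Q) {r : ℕ} (hr : Nat.Coprime r 2) (hyr : y ^ r = 1)
    (hyV : y ∈ centralizer (vQ Q : Set G)) : y ∈ centralizer (Q : Set G) := by
  have hyVc : ∀ w ∈ vQ Q, y * w * y⁻¹ = w := by
    intro w hw
    have h := Subgroup.mem_centralizer_iff.mp hyV w hw
    rw [← h]; group
  have hZ : ∀ k : ℕ, ∀ z ∈ zQ Q, z ^ (2 ^ k) = 1 → y * z * y⁻¹ = z := by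
    intro k
    induction k with
    | zero =>
      intro z _ hz
      have : z = 1 := by simpa using hz
      rw [this]; group
    | succ k ih =>
      intro z hz hzk
      have h1 : (z ^ 2) ^ (2 ^ k) = 1 := by
        rw [← pow_mul, ← pow_succ']; exact hzk
      have h2 := ih (z ^ 2) ((zQ Q).pow_mem hz 2) h1
      have h3 : y * z * y⁻¹ ∈ zQ Q := zQ_conj hz y
      set w := z⁻¹ * (y * z * y⁻¹) with hw
      have hwz : w ∈ zQ Q := (zQ Q).mul_mem ((zQ Q).inv_mem hz) h3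
      have hcomm : z * (y * z * y⁻¹) = (y * z * y⁻¹) * z := mem_zQ_comm hz h3.1
      have hw2 : w ^ 2 = 1 := by
        have h4 : y * z ^ 2 * y⁻¹ = (y * z * y⁻¹) ^ 2 := by
          rw [← MulAut.conj_apply, map_pow, MulAut.conj_apply]
        rw [h4] at h2
        have hcomm' : Commute z⁻¹ (y * z * y⁻¹) := (Commute.inv_left hcomm)
        rw [hw, hcomm'.mul_pow, h2, inv_pow]
        group
      have hwV : w ∈ vQ Q := ⟨hwz, hw2⟩
      have h5 : y * z * y⁻¹ = z * w := by rw [hw]; group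
      have h6 := pow_eq_one_of_fixed hyr h5 (hyVc w hwV)
      have h7 : w = 1 := eq_one_of_pow_of_two hr h6 hw2
      rw [h5, h7, mul_one]
  rw [Subgroup.mem_centralizer_iff]
  intro q hq
  have h1 := hyT q hq
  set z := q⁻¹ * (y * q * y⁻¹) with hz
  obtain ⟨k, hk⟩ := hQp ⟨z, h1.1⟩
  have hk' : z ^ (2 ^ k) = 1 := congrArg Subtype.val hk
  have h2 := hZ k z h1 hk'
  have h3 : y * q * y⁻¹ = q * z := by rw [hz]; group
  have h4 := pow_eq_one_of_fixed hyr h3 h2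
  have h5 : z = 1 := by
    have := Nat.dvd_gcd (orderOf_dvd_of_pow_eq_one h4) (orderOf_dvd_of_pow_eq_one hk')
    have h6 : Nat.Coprime r (2 ^ k) := Nat.Coprime.pow_right k hr
    rw [h6.gcd_eq_one, Nat.dvd_one, orderOf_eq_one_iff] at this
    exact this
  rw [h5, mul_one] at h3
  calc q * y = (y * q * y⁻¹) * y := by rw [h3]
    _ = y * q := by group

end centralT

section offender

variable {G : Type*} [Group G] [Finite G]

open Cfsg.Agent.Lib.PGroup.ThompsonG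

theorem ea_sup_of_commute {D F : Subgroup G} (hD : IsElementaryAbelian 2 D)
    (hF : IsElementaryAbelian 2 F) (hc : D ≤ centralizer (F : Set G)) :
    IsElementaryAbelian 2 (D ⊔ F) := by
  have hDc : D ≤ centralizer (D : Set G) := by
    intro a ha
    exact Subgroup.mem_centralizer_iff.mpr fun b hb => ea_comm hD hb ha
  have hFc : F ≤ centralizer (F : Set G) := by
    intro a ha
    exact Subgroup.mem_centralizer_iff.mpr fun b hb => ea_comm hF hb ha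
  have hFD : F ≤ centralizer (D : Set G) := by
    rw [Subgroup.le_centralizer_iff]; exact hc
  have hDE : D ≤ centralizer ((D ⊔ F : Subgroup G) : Set G) := by
    rw [Subgroup.le_centralizer_iff]
    exact sup_le hDc hFD
  have hFE : F ≤ centralizer ((D ⊔ F : Subgroup G) : Set G) := by
    rw [Subgroup.le_centralizer_iff]
    exact sup_le hc hFc
  have h : D ⊔ F ≤ vQ (D ⊔ F) :=
    sup_le (fun a ha => ⟨⟨le_sup_left (a := D) ha, hDE ha⟩, hD.2 a ha⟩)
      (fun a ha => ⟨⟨le_sup_right (b := F) ha, hFE ha⟩, hF.2 a ha⟩)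
  exact ea_mono (vQ_ea _) h

theorem offender_ineq {S A V B : Subgroup G} (hA : A ∈ gMaxEA 2 S) (hVS : V ≤ S)
    (hV : IsElementaryAbelian 2 V) (hBA : B ≤ A) :
    Nat.card ↥(V ⊓ centralizer (B : Set G)) * Nat.card B ≤
      Nat.card A * Nat.card ↥(V ⊓ centralizer (A : Set G)) := by
  set D := V ⊓ centralizer (B : Set G) with hD
  set F := A ⊓ centralizer (D : Set G) with hF
  have hDe : IsElementaryAbelian 2 D := ea_mono hV inf_le_left
  have hFe : IsElementaryAbelian 2 F := ea_mono hA.2.1 inf_le_left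
  have hc : D ≤ centralizer (F : Set G) := by
    rw [Subgroup.le_centralizer_iff]
    exact inf_le_right
  have hsup := ea_sup_of_commute hDe hFe hc
  have hle : D ⊔ F ≤ S := sup_le (inf_le_left.trans hVS) (inf_le_left.trans hA.1)
  have hcard := hA.2.2 _ hle hsup
  have hN : D ≤ normalizer (F : Set G) := by
    intro d hd
    apply Cfsg.Agent.Lib.PGroup.SFourSection.mem_normalizer_of_forall_conj
    intro x hx
    have h2 := Subgroup.mem_centralizer_iff.mp (hc hd) x hx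
    have h3 : d * x * d⁻¹ = x := by rw [← h2]; group
    rw [h3]; exact hx
  have he := Cfsg.Agent.Lib.PGroup.Timmesfeld.card_sup_mul_card_inf_of_le_normalizer D F hN
  have hinf : D ⊓ F ≤ V ⊓ centralizer (A : Set G) := by
    rintro x ⟨hxD, hxF⟩
    refine ⟨hxD.1, Subgroup.mem_centralizer_iff.mpr fun a ha => ea_comm hA.2.1 ha hxF.1⟩
  have hBF : B ≤ F := by
    refine le_inf hBA ?_
    rw [Subgroup.le_centralizer_iff]
    exact inf_le_right
  have h1 : Nat.card B ≤ Nat.card F := Subgroup.card_le_of_le hBF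
  have h2 : Nat.card ↥(D ⊓ F) ≤ Nat.card ↥(V ⊓ centralizer (A : Set G)) := Subgroup.card_le_of_le hinf
  calc Nat.card D * Nat.card B ≤ Nat.card D * Nat.card F := Nat.mul_le_mul_left _ h1
    _ = Nat.card ↥(D ⊔ F) * Nat.card ↥(D ⊓ F) := he.symm
    _ ≤ _ := Nat.mul_le_mul hcard h2

end offender

section four

variable {G : Type*} [Group G] [Finite G]

/-- `[V, y]` for abelian normal `V`. -/
def brk (V : Subgroup G) [hn : V.Normal] (hc : ∀ x ∈ V, ∀ z ∈ V, x * z = z * x) (y : G) : Subgroup G where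
  carrier := {w | ∃ v ∈ V, w = v⁻¹ * (y * v * y⁻¹)}
  one_mem' := ⟨1, V.one_mem, by simp⟩
  mul_mem' := by
    rintro _ _ ⟨v₁, h₁, rfl⟩ ⟨v₂, h₂, rfl⟩
    refine ⟨v₁ * v₂, V.mul_mem h₁ h₂, ?_⟩
    have h3 : v₁⁻¹ * (y * v₁ * y⁻¹) ∈ V := V.mul_mem (V.inv_mem h₁) (hn.conj_mem v₁ h₁ y)
    have h4 := hc _ h3 _ (V.inv_mem h₂)
    calc v₁⁻¹ * (y * v₁ * y⁻¹) * (v₂⁻¹ * (y * v₂ * y⁻¹))
        = (v₁⁻¹ * (y * v₁ * y⁻¹) * v₂⁻¹) * (y * v₂ * y⁻¹) := by group
      _ = (v₂⁻¹ * (v₁⁻¹ * (y * v₁ * y⁻¹))) * (y * v₂ * y⁻¹) := by rw [h4]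
      _ = _ := by group
  inv_mem' := by
    rintro _ ⟨v, h, rfl⟩
    refine ⟨v⁻¹, V.inv_mem h, ?_⟩
    have h3 : y * v * y⁻¹ ∈ V := hn.conj_mem v h y
    have h4 := hc _ (V.inv_mem h3) _ h
    calc (v⁻¹ * (y * v * y⁻¹))⁻¹ = (y * v * y⁻¹)⁻¹ * v := by group
      _ = v * (y * v * y⁻¹)⁻¹ := h4
      _ = _ := by group

theorem conj_of_mem_centralizer {V : Subgroup G} {c v : G} (hc : c ∈ centralizer (V : Set G)) (hv : v ∈ V) :
    c * v * c⁻¹ = v := by
  have := Subgroup.mem_centralizer_iff.mp hc v hv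
  rw [← this]; group

theorem exists_four {V : Subgroup G} [hVn : V.Normal] (hV : IsElementaryAbelian 2 V)
    {A B : Subgroup G} {a y : G} {r : ℕ} (hB2 : IsPGroup 2 B) (hBA : B ≤ A)
    (hAc : ∀ x ∈ A, ∀ z ∈ A, x * z = z * x) (ha : a ∈ A) (ha2 : a * a = 1)
    (hdich : ∀ x ∈ A, x ∈ B ∨ x * a ∈ B)
    (hoff : Nat.card ↥(V ⊓ centralizer (B : Set G)) ≤ 2 * Nat.card ↥(V ⊓ centralizer (A : Set G)))
    (hr : Nat.Coprime r 2) (hyr : y ^ r = 1) (hyV : y ∉ centralizer (V : Set G))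
    (hyb : ∀ b ∈ B, b * y * b⁻¹ * y⁻¹ ∈ centralizer (V : Set G))
    (hay : a * y * a⁻¹ * y ∈ centralizer (V : Set G)) :
    ∃ W : Subgroup G, W ≤ V ∧ Nat.card W = 4 ∧ (∀ w ∈ W, y * w * y⁻¹ ∈ W) ∧
      (∀ w ∈ W, y * w * y⁻¹ = w → w = 1) ∧ (∀ w ∈ W, a * w * a⁻¹ ∈ W) ∧ ∃ w ∈ W, a * w * a⁻¹ ≠ w := by
  classical
  haveI : Fact (Nat.Prime 2) := ⟨Nat.prime_two⟩
  have hc : ∀ x ∈ V, ∀ z ∈ V, x * z = z * x := fun x hx z hz =>
    Cfsg.Agent.Lib.PGroup.ThompsonG.ea_comm hV hx hz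
  have hV2 : ∀ v ∈ V, v ^ 2 = 1 := hV.2
  set N := brk V hc y with hN
  have hNV : N ≤ V := by
    rintro _ ⟨v, hv, rfl⟩
    exact V.mul_mem (V.inv_mem hv) (hVn.conj_mem v hv y)
  -- fixed point freeness
  have hfpf : ∀ w ∈ N, y * w * y⁻¹ = w → w = 1 := by
    rintro w ⟨v, hv, rfl⟩ hfix
    set w := v⁻¹ * (y * v * y⁻¹) with hw
    have h1 : y * v * y⁻¹ = v * w := by rw [hw]; group
    have h2 := pow_eq_one_of_fixed hyr h1 hfix
    exact eq_one_of_pow_of_two hr h2 (hV2 w (V.mul_mem (V.inv_mem hv) (hVn.conj_mem v hv y)))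
  have hNne : N ≠ ⊥ := by
    intro hbot
    apply hyV
    rw [Subgroup.mem_centralizer_iff]
    intro v hv
    have h1 : v⁻¹ * (y * v * y⁻¹) ∈ N := ⟨v, hv, rfl⟩
    rw [hbot, Subgroup.mem_bot, inv_mul_eq_one] at h1
    calc v * y = (y * v * y⁻¹) * y := by rw [← h1]
      _ = y * v := by group
  -- elements commuting with `y` modulo `C(V)` normalise `N`
  have hconjN : ∀ g : G, g * y * g⁻¹ * y⁻¹ ∈ centralizer (V : Set G) → ∀ w ∈ N, g * w * g⁻¹ ∈ N := by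
    rintro g hg _ ⟨v, hv, rfl⟩
    set v' := g * v * g⁻¹ with hv'
    have hv'V : v' ∈ V := hVn.conj_mem v hv g
    refine ⟨v', hv'V, ?_⟩
    have h1 := conj_of_mem_centralizer hg (hVn.conj_mem v' hv'V y)
    calc g * (v⁻¹ * (y * v * y⁻¹)) * g⁻¹
        = v'⁻¹ * ((g * y * g⁻¹ * y⁻¹) * (y * v' * y⁻¹) * (g * y * g⁻¹ * y⁻¹)⁻¹) := by
          rw [hv']; group
      _ = _ := by rw [h1]
  have hBN : B ≤ normalizer (N : Set G) := fun b hb =>
    Cfsg.Agent.Lib.PGroup.SFourSection.mem_normalizer_of_forall_conj (hconjN b (hyb b hb))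
  have hNp : IsPGroup 2 N := by
    intro x
    exact ⟨1, Subtype.ext (by simpa using hV2 _ (hNV x.2))⟩
  have hTp : IsPGroup 2 ↥(N ⊔ B) := IsPGroup.to_sup_of_normal_left' hNp hB2 hBN
  have hTN : N ⊔ B ≤ normalizer (N : Set G) := sup_le Subgroup.le_normalizer hBN
  obtain ⟨z, hzN, hzo, hzc⟩ := Cfsg.Agent.Lib.Components.CharP.exists_normal_central_orderOf 2 hTp
    le_sup_left hTN hNne
  set W := N ⊓ centralizer (B : Set G) with hW
  have hzW : z ∈ W := ⟨hzN, Subgroup.mem_centralizer_iff.mpr fun b hb => hzc b (le_sup_right (a := N) hb)⟩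
  have hz1 : z ≠ 1 := by
    intro h
    rw [h, orderOf_one] at hzo
    omega
  have hWV : W ≤ V := inf_le_left.trans hNV
  -- invariance under `y`
  have hyW : ∀ w ∈ W, y * w * y⁻¹ ∈ W := by
    rintro w ⟨hwN, hwB⟩
    refine ⟨hconjN y (by simp) w hwN, Subgroup.mem_centralizer_iff.mpr fun b hb => ?_⟩
    have h1 : b * w * b⁻¹ = w := by
      have := Subgroup.mem_centralizer_iff.mp hwB b hb
      rw [this]; group
    have hv : y * w * y⁻¹ ∈ V := hVn.conj_mem w (hNV hwN) y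
    have h2 := conj_of_mem_centralizer (hyb b hb) hv
    have h3 : b * (y * w * y⁻¹) * b⁻¹ = y * w * y⁻¹ := by
      calc b * (y * w * y⁻¹) * b⁻¹
          = (b * y * b⁻¹ * y⁻¹) * (y * (b * w * b⁻¹) * y⁻¹) * (b * y * b⁻¹ * y⁻¹)⁻¹ := by group
        _ = _ := by rw [h1, h2]
    calc b * (y * w * y⁻¹) = (b * (y * w * y⁻¹) * b⁻¹) * b := by group
      _ = _ := by rw [h3]
  -- invariance under `a`
  set c := a * y * a⁻¹ * y with hcdef
  have hayc : a * y * a⁻¹ = c * y⁻¹ := by rw [hcdef]; group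
  have hainv : a⁻¹ = a := inv_eq_of_mul_eq_one_left ha2
  have haN : ∀ w ∈ N, a * w * a⁻¹ ∈ N := by
    rintro _ ⟨v, hv, rfl⟩
    set v' := a * v * a⁻¹ with hv'
    have hv'V : v' ∈ V := hVn.conj_mem v hv a
    set v'' := y⁻¹ * v' * y with hv''
    have hv''V : v'' ∈ V := by
      have := hVn.conj_mem v' hv'V y⁻¹
      simpa using this
    have hvv : y * v'' * y⁻¹ = v' := by rw [hv'']; group
    have h1 : c * v'' * c⁻¹ = v'' := conj_of_mem_centralizer hay hv''V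
    have h2 : a * (y * v * y⁻¹) * a⁻¹ = v'' := by
      calc a * (y * v * y⁻¹) * a⁻¹ = (a * y * a⁻¹) * v' * (a * y * a⁻¹)⁻¹ := by rw [hv']; group
        _ = c * v'' * c⁻¹ := by rw [hayc, hv'']; group
        _ = v'' := h1
    refine ⟨v''⁻¹, V.inv_mem hv''V, ?_⟩
    have h3 : y * v''⁻¹ * y⁻¹ = v'⁻¹ := by rw [← hvv]; group
    have h4 : a * (v⁻¹ * (y * v * y⁻¹)) * a⁻¹ = v'⁻¹ * (a * (y * v * y⁻¹) * a⁻¹) := by
      rw [hv']; group
    rw [h4, h2, h3, inv_inv]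
    exact hc _ (V.inv_mem hv'V) _ hv''V
  have haW : ∀ w ∈ W, a * w * a⁻¹ ∈ W := by
    rintro w ⟨hwN, hwB⟩
    refine ⟨haN w hwN, Subgroup.mem_centralizer_iff.mpr fun b hb => ?_⟩
    have h1 : b * w = w * b := Subgroup.mem_centralizer_iff.mp hwB b hb
    have h2 : b * a = a * b := hAc b (hBA hb) a ha
    have h3 : b * a⁻¹ = a⁻¹ * b := by rw [hainv, h2]
    calc b * (a * w * a⁻¹) = (b * a) * w * a⁻¹ := by group
      _ = a * (b * w) * a⁻¹ := by rw [h2]; group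
      _ = a * w * (b * a⁻¹) := by rw [h1]; group
      _ = _ := by rw [h3]; group
  -- numerics
  set D := V ⊓ centralizer (B : Set G) with hD
  set E := V ⊓ centralizer (A : Set G) with hE
  have hED : E ≤ D := inf_le_inf_left _ (Subgroup.centralizer_le hBA)
  have hWD : W ≤ D := le_inf hWV inf_le_right
  have hrel : E.relIndex D ≤ 2 := by
    have h1 := Cfsg.Agent.Lib.PGroup.Timmesfeld.card_mul_relIndex' hED
    have h2 : 0 < Nat.card E := Nat.card_pos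
    rw [← h1, mul_comm 2] at hoff
    exact Nat.le_of_mul_le_mul_left hoff h2
  set W1 := W ⊓ E with hW1
  have hW1W : W1 ≤ W := inf_le_left
  have hr1 : W1.relIndex W ≤ 2 := by
    rw [hW1, Subgroup.inf_relIndex_left]
    exact (Subgroup.relIndex_le_of_le_right hWD Subgroup.index_ne_zero_of_finite).trans hrel
  have hW1mem : ∀ x ∈ W, a * x * a⁻¹ = x → x ∈ W1 := by
    intro x hx hfix
    refine ⟨hx, hWV hx, Subgroup.mem_centralizer_iff.mpr fun a0 ha0 => ?_⟩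
    have hax : a * x = x * a := by
      calc a * x = (a * x * a⁻¹) * a := by group
        _ = x * a := by rw [hfix]
    rcases hdich a0 ha0 with h | h
    · exact Subgroup.mem_centralizer_iff.mp hx.2 a0 h
    · have h1 : (a0 * a) * x = x * (a0 * a) := Subgroup.mem_centralizer_iff.mp hx.2 _ h
      have h2 : a0 = (a0 * a) * a⁻¹ := by group
      rw [h2]
      calc a0 * a * a⁻¹ * x = (a0 * a) * (a⁻¹ * x) := by group
        _ = (a0 * a) * (x * a⁻¹) := by rw [hainv, hax]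
        _ = ((a0 * a) * x) * a⁻¹ := by group
        _ = _ := by rw [h1]; group
  have hW1fix : ∀ x ∈ W1, a * x * a⁻¹ = x := by
    rintro x ⟨-, -, hx⟩
    have := Subgroup.mem_centralizer_iff.mp hx a ha
    rw [this]; group
  set W2 := W1.map (MulAut.conj y).toMonoidHom with hW2
  have hW2W : W2 ≤ W := by
    rintro _ ⟨u, hu, rfl⟩
    exact hyW u (hW1W hu)
  have hcW2 : Nat.card W2 = Nat.card W1 := Cfsg.Agent.Lib.PGroup.ThompsonG.card_map_conj y W1
  have hr2 : W2.relIndex W = W1.relIndex W := by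
    have h1 := Cfsg.Agent.Lib.PGroup.Timmesfeld.card_mul_relIndex' hW1W
    have h2 := Cfsg.Agent.Lib.PGroup.Timmesfeld.card_mul_relIndex' hW2W
    rw [hcW2] at h2
    exact Nat.eq_of_mul_eq_mul_left Nat.card_pos (h2.trans h1.symm)
  -- the key computation
  have hkey : ∀ u ∈ W1, y * u * y⁻¹ ∈ W1 → u = 1 := by
    intro u hu hyu
    have h1 := hW1fix u hu
    have h2 := hW1fix _ hyu
    have huV : u ∈ V := hWV (hW1W hu)
    have h3 : y⁻¹ * u * y ∈ V := by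
      have := hVn.conj_mem u huV y⁻¹
      simpa using this
    have h4 : c * (y⁻¹ * u * y) * c⁻¹ = y⁻¹ * u * y := conj_of_mem_centralizer hay h3
    have h5 : a * (y * u * y⁻¹) * a⁻¹ = y⁻¹ * u * y := by
      calc a * (y * u * y⁻¹) * a⁻¹ = (a * y * a⁻¹) * (a * u * a⁻¹) * (a * y * a⁻¹)⁻¹ := by group
        _ = c * (y⁻¹ * u * y) * c⁻¹ := by rw [hayc, h1]; group
        _ = _ := h4
    rw [h5] at h2
    -- `y²` fixes `u`
    have h6 : Commute (y ^ 2) u := by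
      have h7 : y ^ 2 * u = u * y ^ 2 := by
        have h9 : y * (y⁻¹ * u * y) * y = u * y ^ 2 := by
          rw [pow_two]; group
        calc y ^ 2 * u = y * (y * u * y⁻¹) * y := by rw [pow_two]; group
          _ = y * (y⁻¹ * u * y) * y := by rw [h2]
          _ = _ := h9
      exact h7
    obtain ⟨m, hm⟩ : ∃ m, r = 2 * m + 1 := by
      have : Odd r := Nat.Coprime.odd_of_right hr
      exact this
    have h7 : y * (y ^ 2) ^ m = 1 := by
      rw [← pow_mul, ← pow_succ', ← hm, hyr]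
    have h8 : y = ((y ^ 2) ^ m)⁻¹ := eq_inv_of_mul_eq_one_left h7
    have h9 : Commute y u := by
      rw [h8]
      exact ((h6.pow_left m).inv_left)
    apply hfpf u (hW1W hu).1
    rw [h9.eq]
    group
  have hbot : W1 ⊓ W2 = ⊥ := by
    rw [eq_bot_iff]
    rintro x ⟨hx1, ⟨u, hu, rfl⟩⟩
    have h1 : y * u * y⁻¹ ∈ W1 := hx1
    have h2 := hkey u hu h1
    rw [Subgroup.mem_bot]
    show y * u * y⁻¹ = 1
    rw [h2]; group
  have hle4 : Nat.card W ≤ 4 := by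
    have h1 := Subgroup.relIndex_inf_le (H := W1) (K := W2) (L := W)
    rw [hbot, Subgroup.relIndex_bot_left, hr2] at h1
    calc Nat.card W ≤ W1.relIndex W * W1.relIndex W := h1
      _ ≤ 2 * 2 := Nat.mul_le_mul hr1 hr1
      _ = 4 := rfl
  -- at least three elements
  have hz' : y * z * y⁻¹ ∈ W := hyW z hzW
  have hzne : y * z * y⁻¹ ≠ z := fun h => hz1 (hfpf z hzN h)
  have hz'1 : y * z * y⁻¹ ≠ 1 := by
    intro h
    apply hz1
    have : z = y⁻¹ * (y * z * y⁻¹) * y := by group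
    rw [this, h]; group
  have hge3 : 3 ≤ Nat.card W := by
    let f : Fin 3 → W := ![⟨1, W.one_mem⟩, ⟨z, hzW⟩, ⟨y * z * y⁻¹, hz'⟩]
    have hf : Function.Injective f := by
      intro i j hij
      have hij' := congrArg Subtype.val hij
      fin_cases i <;> fin_cases j <;> first | rfl | (exfalso; simp [f] at hij'; first | exact hz1 hij' | exact hz1 hij'.symm | exact hz'1 hij' | exact hz'1 hij'.symm | exact hzne hij' | exact hzne hij'.symm)
    have := Nat.card_le_card_of_injective f hf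
    simpa using this
  have hWp : IsPGroup 2 W := by
    intro x
    exact ⟨1, Subtype.ext (by simpa using hV2 _ (hWV x.2))⟩
  have hcard4 : Nat.card W = 4 := by
    obtain ⟨k, hk⟩ := IsPGroup.iff_card.mp hWp
    rw [hk] at hle4 hge3 ⊢
    have hk2 : k ≤ 2 := by
      by_contra h
      push Not at h
      have : 2 ^ 3 ≤ 2 ^ k := Nat.pow_le_pow_right (by norm_num) h
      omega
    interval_cases k <;> omega
  refine ⟨W, hWV, hcard4, hyW, fun w hw => hfpf w hw.1, haW, ?_⟩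
  by_contra hno
  push Not at hno
  apply hz1
  exact hkey z (hW1mem z hzW (hno z hzW)) (hW1mem _ hz' (hno _ hz'))

end four

section exact

variable {G : Type*} [Group G] [Finite G]

theorem exists_exact_inverter {Q : Subgroup G} [hQ : Q.Normal] (hQp : IsPGroup 2 Q) {y a : G} {r : ℕ}
    (hrp : r.Prime) (hr2 : r ≠ 2) (hy : y ^ r = 1) (hy1 : y ≠ 1) (hay : a * y * a⁻¹ * y ∈ Q) :
    ∃ q ∈ Q, (q * a) * y * (q * a)⁻¹ = y⁻¹ := by
  classical
  haveI : Fact r.Prime := ⟨hrp⟩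
  have hyo : orderOf y = r := orderOf_eq_prime hy hy1
  set Y : Subgroup G := zpowers y with hY
  have hYc : Nat.card Y = r := by rw [hY, Nat.card_zpowers, hyo]
  have hQY : Q ⊓ Y = ⊥ := by
    apply Subgroup.inf_eq_bot_of_coprime
    obtain ⟨n, hn⟩ := IsPGroup.iff_card.mp hQp
    rw [hn, hYc]
    exact Nat.Coprime.pow_left n ((Nat.coprime_primes Nat.prime_two hrp).mpr (Ne.symm hr2))
  have hQnd : ¬ r ∣ Nat.card Q := by
    intro h
    obtain ⟨n, hn⟩ := IsPGroup.iff_card.mp hQp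
    rw [hn] at h
    have := (Nat.prime_dvd_prime_iff_eq hrp Nat.prime_two).mp (hrp.dvd_of_dvd_pow h)
    exact hr2 this
  set N : Subgroup G := Q ⊔ Y with hN
  have hQN : Q ≤ N := le_sup_left
  have hYN : Y ≤ N := le_sup_right
  have hyN : y ∈ N := hYN (mem_zpowers y)
  have hcardN : Nat.card N = Nat.card Q * r := by
    have h1 := Cfsg.Agent.Lib.PGroup.Timmesfeld.card_sup_mul_card_inf_of_le_normalizer Y Q (by
      intro g _
      exact Subgroup.mem_normalizer_iff.mpr (fun x => ⟨fun h => hQ.conj_mem x h g,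
        fun h => by simpa [mul_assoc] using hQ.conj_mem _ h g⁻¹⟩))
    rw [sup_comm, inf_comm, hQY, Subgroup.card_bot, mul_one, hYc] at h1
    rw [hN, h1, mul_comm]
  set y₁ := a * y * a⁻¹ with hy₁
  have hy₁N : y₁ ∈ N := by
    have h1 : y₁ = (y₁ * y) * y⁻¹ := by group
    rw [h1]
    exact N.mul_mem (hQN hay) (N.inv_mem hyN)
  have hy₁r : y₁ ^ r = 1 := by
    rw [hy₁, ← MulAut.conj_apply, ← map_pow, hy, map_one]
  -- Sylow subgroups of `N`
  let y' : N := ⟨y, hyN⟩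
  let y₁' : N := ⟨y₁, hy₁N⟩
  have hy'r : y' ^ r = 1 := Subtype.ext hy
  have hy₁'r : y₁' ^ r = 1 := Subtype.ext hy₁r
  have hpg : ∀ x : N, x ^ r = 1 → IsPGroup r (zpowers x) := by
    rintro x hx ⟨_, ⟨j, rfl⟩⟩
    refine ⟨1, Subtype.ext ?_⟩
    show (x ^ j : N) ^ (r ^ 1) = 1
    rw [pow_one, ← zpow_natCast, ← zpow_mul, mul_comm, zpow_mul, zpow_natCast, hx, one_zpow]
  obtain ⟨P, hP⟩ := (hpg y' hy'r).exists_le_sylow
  obtain ⟨P₁, hP₁⟩ := (hpg y₁' hy₁'r).exists_le_sylow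
  have hy'o : orderOf y' = r := by
    rw [← hyo]
    exact Subgroup.orderOf_mk y hyN
  have hcz : Nat.card (zpowers y') = r := by rw [Nat.card_zpowers, hy'o]
  have hPc : Nat.card P ≤ r := by
    obtain ⟨k, hk⟩ := IsPGroup.iff_card.mp P.isPGroup'
    have h1 : Nat.card P ∣ Nat.card N := Subgroup.card_subgroup_dvd_card _
    rw [hk, hcardN] at h1
    rw [hk]
    by_cases hk1 : k ≤ 1
    · calc r ^ k ≤ r ^ 1 := Nat.pow_le_pow_right hrp.pos hk1
        _ = r := pow_one r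
    · exfalso
      push Not at hk1
      have h2 : r ^ 2 ∣ Nat.card Q * r := (pow_dvd_pow r hk1).trans h1
      rw [pow_two] at h2
      exact hQnd (Nat.dvd_of_mul_dvd_mul_right hrp.pos h2)
  have hPeq : zpowers y' = (P : Subgroup N) :=
    Subgroup.eq_of_le_of_card_ge hP (by rw [hcz]; exact hPc)
  obtain ⟨g, hg⟩ := Cfsg.Agent.Lib.Components.CharP.exists_conj_mem_sylow P P₁
  have h1 : g⁻¹ * y₁' * g ∈ (P : Subgroup N) := (hg y₁').mp (hP₁ (mem_zpowers y₁'))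
  rw [← hPeq] at h1
  obtain ⟨j, hj⟩ := h1
  have hj' : y ^ j = (g⁻¹ : N).1 * y₁ * (g⁻¹ : N).1⁻¹ := by
    have := congrArg Subtype.val hj
    simpa using this
  have hnmem : (g⁻¹ : N).1 ∈ ((Q ⊔ Y : Subgroup G) : Set G) := (g⁻¹ : N).2
  rw [Subgroup.normal_mul] at hnmem
  obtain ⟨q₀, hq₀, h, hh, hn⟩ := hnmem
  simp only at hn
  obtain ⟨k, rfl⟩ := hh
  refine ⟨(y ^ k)⁻¹ * q₀ * (y ^ k), ?_, ?_⟩
  · have := hQ.conj_mem q₀ hq₀ (y ^ k)⁻¹
    simpa using this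
  -- the conjugate of `y₁`
  have h2 : ((y ^ k)⁻¹ * q₀ * y ^ k) * y₁ * ((y ^ k)⁻¹ * q₀ * y ^ k)⁻¹ = y ^ j := by
    have h3 : y ^ j = q₀ * y ^ k * y₁ * (q₀ * y ^ k)⁻¹ := by rw [hj', hn]
    have h4 : (y ^ k)⁻¹ * y ^ j * y ^ k = y ^ j := by
      rw [← zpow_neg, ← zpow_add, ← zpow_add]
      congr 1; ring
    calc ((y ^ k)⁻¹ * q₀ * y ^ k) * y₁ * ((y ^ k)⁻¹ * q₀ * y ^ k)⁻¹
        = (y ^ k)⁻¹ * (q₀ * y ^ k * y₁ * (q₀ * y ^ k)⁻¹) * y ^ k := by group
      _ = (y ^ k)⁻¹ * y ^ j * y ^ k := by rw [← h3]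
      _ = _ := h4
  set q' := (y ^ k)⁻¹ * q₀ * y ^ k with hq'
  have hq'Q : q' ∈ Q := by
    have := hQ.conj_mem q₀ hq₀ (y ^ k)⁻¹
    simpa [hq'] using this
  -- `y ^ j * y` is in `Q ⊓ Y`
  have h5 : y ^ j * y ∈ Q := by
    rw [← h2]
    have h6 : q' * y₁ * q'⁻¹ * y = q' * (y₁ * q'⁻¹ * y₁⁻¹) * (y₁ * y) := by group
    rw [h6]
    exact Q.mul_mem (Q.mul_mem hq'Q (hQ.conj_mem _ (Q.inv_mem hq'Q) y₁)) hay
  have h7 : y ^ j * y ∈ Y := Y.mul_mem ⟨j, rfl⟩ (mem_zpowers y)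
  have h8 : y ^ j * y ∈ Q ⊓ Y := ⟨h5, h7⟩
  rw [hQY, Subgroup.mem_bot] at h8
  have h9 : y ^ j = y⁻¹ := eq_inv_of_mul_eq_one_left h8
  calc (q' * a) * y * (q' * a)⁻¹ = q' * y₁ * q'⁻¹ := by rw [hy₁]; group
    _ = y⁻¹ := by rw [h2, h9]

end exact

section main

variable {G : Type*} [Group G] [Finite G]

open Cfsg.Agent.Lib.PGroup.ThompsonG
open scoped commutatorElement

/-- Main local result: with trivial `O_{2'}`, an elementary abelian subgroup of largest order of the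
Sylow `2`-subgroup `S` of class at most two lies in `O_2(G)`. -/
theorem le_pCore_of_mem_gMaxEA (hsol : IsPSolvable 2 G) (h0 : pPrimeCore 2 G = ⊥)
    (hS4 : ¬ Involves (Equiv.Perm (Fin 4)) G) (S : Sylow 2 G)
    (hcl : ∀ x ∈ (S : Subgroup G), ∀ y ∈ (S : Subgroup G), ∀ z ∈ (S : Subgroup G), ⁅⁅x, y⁆, z⁆ = 1)
    {A : Subgroup G} (hA : A ∈ gMaxEA 2 (S : Subgroup G)) : A ≤ pCore 2 G := by
  classical
  haveI : Fact (Nat.Prime 2) := ⟨Nat.prime_two⟩
  by_contra hAQ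
  set Q := pCore 2 G with hQdef
  haveI hQn : Q.Normal := pCore_normal 2 G
  have hQp : IsPGroup 2 Q := pCore_isPGroup 2
  have hQS : Q ≤ S := pCore_le_sylow S
  -- `S` lies in the centralizer of `Q / Z(Q)`
  have hST : (S : Subgroup G) ≤ tQ Q := by
    intro s hs q hq
    refine ⟨Q.mul_mem (Q.inv_mem hq) (hQn.conj_mem q hq s), Subgroup.mem_centralizer_iff.mpr fun q₂ hq₂ => ?_⟩
    have h1 := hcl q⁻¹ (hQS (Q.inv_mem hq)) s hs q₂ (hQS hq₂)
    have h2 : ⁅q⁻¹, s⁆ = q⁻¹ * (s * q * s⁻¹) := by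
      rw [commutatorElement_def]; group
    rw [h2, commutatorElement_eq_one_iff_mul_comm] at h1
    exact h1.symm
  have hAS : A ≤ S := hA.1
  have hAe : IsElementaryAbelian 2 A := hA.2.1
  obtain ⟨B, hBA, a, ha, haB, hdich, y, r, hyT, hrp, hr2, hyQ, hyr, hyb, hay⟩ :=
    exists_inverted_mod hsol (tQ Q) A (hAS.trans hST) hAe hAQ
  have hy1 : y ≠ 1 := fun h => hyQ (h ▸ Q.one_mem)
  have hrc : Nat.Coprime r 2 := (Nat.coprime_primes hrp Nat.prime_two).mpr hr2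
  set V := vQ Q with hVdef
  have hV : IsElementaryAbelian 2 V := vQ_ea Q
  have hQV : Q ≤ centralizer (V : Set G) := le_centralizer_vQ Q
  have hCQ : centralizer (Q : Set G) ≤ Q := centralizer_pCore_le hsol h0
  have hyV : y ∉ centralizer (V : Set G) := fun h =>
    hyQ (hCQ (mem_centralizer_of_tQ hQp hyT hrc hyr h))
  have hAc : ∀ x ∈ A, ∀ z ∈ A, x * z = z * x := fun x hx z hz => ea_comm hAe hx hz
  have ha2 : a * a = 1 := by
    have := hAe.2 a ha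
    rwa [pow_two] at this
  -- the index of `B` in `A`
  have hrelB : B.relIndex A = 2 := by
    have h : (B.subgroupOf A).index = 2 := by
      rw [Subgroup.index_eq_two_iff]
      refine ⟨⟨a, ha⟩, fun x => ?_⟩
      by_cases hx : (x : G) ∈ B
      · refine Or.inr ⟨hx, fun hmul => haB ?_⟩
        have h1 : a = (x : G)⁻¹ * ((x : G) * a) := by group
        rw [h1]
        exact B.mul_mem (B.inv_mem hx) hmul
      · rcases hdich x x.2 with h | h
        · exact absurd h hx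
        · exact Or.inl ⟨h, hx⟩
    exact h
  have hcardA : Nat.card B * 2 = Nat.card A := by
    have := Cfsg.Agent.Lib.PGroup.Timmesfeld.card_mul_relIndex' hBA
    rwa [hrelB] at this
  have hoff : Nat.card ↥(V ⊓ centralizer (B : Set G)) ≤ 2 * Nat.card ↥(V ⊓ centralizer (A : Set G)) := by
    have h1 := offender_ineq hA ((vQ_le Q).trans hQS) hV hBA
    rw [← hcardA] at h1
    have hBpos : 0 < Nat.card B := Nat.card_pos
    have h2 : Nat.card ↥(V ⊓ centralizer (B : Set G)) * Nat.card B ≤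
        (2 * Nat.card ↥(V ⊓ centralizer (A : Set G))) * Nat.card B := by
      calc _ ≤ Nat.card B * 2 * Nat.card ↥(V ⊓ centralizer (A : Set G)) := h1
        _ = _ := by ring
    exact Nat.le_of_mul_le_mul_right h2 hBpos
  have hB2 : IsPGroup 2 B := by
    intro x
    exact ⟨1, Subtype.ext (by simpa using hAe.2 _ (hBA x.2))⟩
  obtain ⟨W, hWV, hW4, hyW, hyfix, haW, w₀, hw₀, hw₀ne⟩ := exists_four hV hB2 hBA hAc ha ha2 hdich hoff hrc hyr hyV
    (fun b hb => hQV (hyb b hb)) (hQV hay)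
  obtain ⟨q, hq, hty⟩ := exists_exact_inverter hQp hrp hr2 hyr hy1 hay
  have hconjt : ∀ w ∈ W, (q * a) * w * (q * a)⁻¹ = a * w * a⁻¹ := by
    intro w hw
    have h1 := Cfsg.Agent.Lib.PGroup.SFourFree.conj_of_mem_centralizer (hQV hq) (hWV (haW w hw))
    calc (q * a) * w * (q * a)⁻¹ = q * (a * w * a⁻¹) * q⁻¹ := by group
      _ = _ := h1
  -- `q a` is a `2`-element
  have ht2 : (q * a) ^ 2 ∈ Q := by
    have h1 : (q * a) ^ 2 = q * (a * q * a⁻¹) * (a * a) := by rw [pow_two]; group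
    rw [h1, ha2, mul_one]
    exact Q.mul_mem hq (hQn.conj_mem q hq a)
  obtain ⟨k, hk⟩ := hQp ⟨_, ht2⟩
  have htk : (q * a) ^ (2 ^ (k + 1)) = 1 := by
    rw [pow_succ', pow_mul]
    exact congrArg Subtype.val hk
  apply hS4
  refine Cfsg.Agent.Lib.PGroup.SFourSection.involves_of_data (W := W) (y := y) (t := q * a) hrp hr2 hW4 hyr hyW hyfix ?_ hty htk ?_
  · intro w hw
    rw [hconjt w hw]
    exact haW w hw
  · exact ⟨w₀, hw₀, by rw [hconjt w₀ hw₀]; exact hw₀ne⟩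

theorem card_map_eq_of_inf_ker {G' : Type*} [Group G'] {H : Subgroup G} {f : G →* G'}
    (h : H ⊓ f.ker = ⊥) : Nat.card (H.map f) = Nat.card H := by
  have hinj : Function.Injective (f.comp H.subtype) := by
    rw [injective_iff_map_eq_one]
    rintro ⟨x, hx⟩ hfx
    have h1 : x ∈ H ⊓ f.ker := ⟨hx, hfx⟩
    rw [h, Subgroup.mem_bot] at h1
    exact Subtype.ext h1
  have hrange : (f.comp H.subtype).range = H.map f := by
    rw [MonoidHom.range_comp, Subgroup.range_subtype]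
  rw [← hrange]
  exact (Nat.card_congr (MonoidHom.ofInjective hinj).toEquiv).symm

theorem comm_comm_of_lower {S : Subgroup G} (hcl : S.lowerCentralSeries 2 = ⊥) :
    ∀ x ∈ S, ∀ y ∈ S, ∀ z ∈ S, ⁅⁅x, y⁆, z⁆ = 1 := by
  intro x hx y hy z hz
  have h1 : ⁅⁅x, y⁆, z⁆ ∈ S.lowerCentralSeries 2 := by
    rw [Subgroup.lowerCentralSeries_succ]
    refine Subgroup.commutator_mem_commutator ?_ hz
    rw [Subgroup.lowerCentralSeries_succ]
    exact Subgroup.commutator_mem_commutator hx hy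
  rw [hcl, Subgroup.mem_bot] at h1
  exact h1

/-- The factorization. -/
theorem normalizer_thompson_sup (hsol : IsPSolvable 2 G) (hS4 : ¬ Involves (Equiv.Perm (Fin 4)) G)
    (S : Sylow 2 G)
    (hcl : ∀ x ∈ (S : Subgroup G), ∀ y ∈ (S : Subgroup G), ∀ z ∈ (S : Subgroup G), ⁅⁅x, y⁆, z⁆ = 1) :
    normalizer ((thompsonSubgroupOf 2 (S : Subgroup G)) : Set G) ⊔ pPrimeCore 2 G = ⊤ := by
  classical
  haveI : Fact (Nat.Prime 2) := ⟨Nat.prime_two⟩
  set K := pPrimeCore 2 G with hK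
  haveI hKn : K.Normal := pPrimeCore_normal 2 G
  have hKc : (Nat.card K).Coprime 2 := pPrimeCore_coprime 2
  let π : G →* G ⧸ K := QuotientGroup.mk' K
  have hπ : Function.Surjective π := QuotientGroup.mk'_surjective K
  have hπk : π.ker = K := QuotientGroup.ker_mk' K
  -- `2`-subgroups meet `K` trivially
  have hinf : ∀ H : Subgroup G, IsPGroup 2 H → H ⊓ π.ker = ⊥ := by
    intro H hH
    rw [hπk]
    apply Subgroup.inf_eq_bot_of_coprime
    obtain ⟨n, hn⟩ := IsPGroup.iff_card.mp hH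
    rw [hn]
    exact Nat.Coprime.pow_left n hKc.symm
  have hSp : IsPGroup 2 (S : Subgroup G) := S.isPGroup'
  let Sb : Sylow 2 (G ⧸ K) := S.mapSurjective hπ
  have hSb : (Sb : Subgroup (G ⧸ K)) = (S : Subgroup G).map π := rfl
  have hclb : ∀ x ∈ (Sb : Subgroup (G ⧸ K)), ∀ y ∈ (Sb : Subgroup (G ⧸ K)),
      ∀ z ∈ (Sb : Subgroup (G ⧸ K)), ⁅⁅x, y⁆, z⁆ = 1 := by
    rw [hSb]
    rintro _ ⟨x, hx, rfl⟩ _ ⟨y, hy, rfl⟩ _ ⟨z, hz, rfl⟩
    rw [← map_commutatorElement, ← map_commutatorElement, hcl x hx y hy z hz, map_one]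
  have hS4b : ¬ Involves (Equiv.Perm (Fin 4)) (G ⧸ K) := fun h =>
    hS4 (Cfsg.Agent.Lib.PGroup.SFourSection.involves_of_surjective π hπ h)
  have hsolb : IsPSolvable 2 (G ⧸ K) := isPSolvable_quotient hsol K
  have h0b : pPrimeCore 2 (G ⧸ K) = ⊥ := pPrimeCore_quotient 2
  set Qb := pCore 2 (G ⧸ K) with hQb
  haveI hQbn : Qb.Normal := pCore_normal 2 _
  have hQbS : Qb ≤ Sb := pCore_le_sylow Sb
  -- images of members of the family are members of the family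
  have hfam : ∀ A ∈ gMaxEA 2 (S : Subgroup G), A.map π ∈ gMaxEA 2 (Sb : Subgroup (G ⧸ K)) := by
    intro A hA
    refine ⟨Subgroup.map_mono hA.1, ea_map _ hA.2.1, fun Eb hEb hEe => ?_⟩
    rw [card_map_eq_of_inf_ker (hinf A (hSp.to_le hA.1))]
    set E := (S : Subgroup G) ⊓ Eb.comap π with hE
    have hEp : IsPGroup 2 E := hSp.to_le inf_le_left
    have hEmap : E.map π = Eb := by
      apply le_antisymm
      · rintro _ ⟨x, hx, rfl⟩
        exact hx.2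
      · intro b hb
        obtain ⟨s, hs, rfl⟩ := hEb hb
        exact ⟨s, ⟨hs, hb⟩, rfl⟩
    have hinj : ∀ x ∈ E, ∀ y ∈ E, π x = π y → x = y := by
      intro x hx y hy hxy
      have h0 : x * y⁻¹ ∈ π.ker := by
        rw [MonoidHom.mem_ker, map_mul, map_inv, hxy, mul_inv_cancel]
      have h1 : x * y⁻¹ ∈ E ⊓ π.ker := ⟨E.mul_mem hx (E.inv_mem hy), h0⟩
      rw [hinf E hEp, Subgroup.mem_bot] at h1
      exact mul_inv_eq_one.mp h1
    have hEe' : IsElementaryAbelian 2 E := by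
      refine ⟨⟨⟨?_⟩⟩, ?_⟩
      · rintro ⟨x, hx⟩ ⟨y, hy⟩
        apply Subtype.ext
        apply hinj _ (E.mul_mem hx hy) _ (E.mul_mem hy hx)
        rw [map_mul, map_mul]
        exact ea_comm hEe hx.2 hy.2
      · intro x hx
        apply hinj _ (E.pow_mem hx 2) _ E.one_mem
        rw [map_pow, map_one]
        exact hEe.2 _ hx.2
    have h2 := hA.2.2 E inf_le_left hEe'
    rw [← hEmap, card_map_eq_of_inf_ker (hinf E hEp)]
    exact h2
  have hAQb : ∀ A ∈ gMaxEA 2 (S : Subgroup G), A.map π ≤ Qb := fun A hA =>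
    le_pCore_of_mem_gMaxEA hsolb h0b hS4b Sb hclb (hfam A hA)
  -- the subgroups
  set L : Subgroup G := Qb.comap π with hL
  haveI hLn : L.Normal := Subgroup.Normal.comap hQbn π
  set Q₁ : Subgroup G := (S : Subgroup G) ⊓ L with hQ₁
  have hQ₁S : Q₁ ≤ S := inf_le_left
  have hJ : thompsonSubgroupOf 2 (S : Subgroup G) ≤ Q₁ := by
    rw [thompsonSubgroupOf_le_iff]
    intro A hA
    refine le_inf hA.1 ?_
    rw [← Subgroup.map_le_iff_le_comap]
    exact hAQb A hA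
  have hJeq := thompsonSubgroupOf_eq_of_le hQ₁S hJ
  have hNN : normalizer (Q₁ : Set G) ≤ normalizer ((thompsonSubgroupOf 2 (S : Subgroup G)) : Set G) := by
    rw [← hJeq]
    exact normalizer_le_normalizer_thompson Q₁
  -- `Q₁` maps onto `Qb`
  have hQ₁map : Q₁.map π = Qb := by
    apply le_antisymm
    · rintro _ ⟨x, hx, rfl⟩
      exact hx.2
    · intro b hb
      obtain ⟨s, hs, rfl⟩ := hQbS hb
      exact ⟨s, ⟨hs, hb⟩, rfl⟩
  have hQ₁c : Nat.card Q₁ = Nat.card Qb := by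
    rw [← hQ₁map, card_map_eq_of_inf_ker (hinf Q₁ (hSp.to_le hQ₁S))]
  have hQ₁L : Q₁ ≤ L := inf_le_right
  -- `Q₁` is a Sylow subgroup of `L`
  have hQ'p : IsPGroup 2 (Q₁.subgroupOf L) := by
    intro x
    obtain ⟨k, hk⟩ := hSp ⟨x.1.1, hQ₁S x.2⟩
    have h := congrArg Subtype.val hk
    exact ⟨k, Subtype.ext (Subtype.ext h)⟩
  obtain ⟨P, hP⟩ := hQ'p.exists_le_sylow
  set P' : Subgroup G := (P : Subgroup L).map L.subtype with hP'
  have hP'L : P' ≤ L := Subgroup.map_subtype_le _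
  have hP'p : IsPGroup 2 P' := P.isPGroup'.map L.subtype
  have hQ₁P' : Q₁ ≤ P' := by
    intro x hx
    exact ⟨⟨x, hQ₁L hx⟩, hP hx, rfl⟩
  have hP'eq : Q₁ = P' := by
    apply Subgroup.eq_of_le_of_card_ge hQ₁P'
    rw [hQ₁c, ← card_map_eq_of_inf_ker (hinf P' hP'p)]
    apply Subgroup.card_le_of_le
    rw [Subgroup.map_le_iff_le_comap]
    exact hP'L
  have hfr := Sylow.normalizer_sup_eq_top P
  have hfr' : normalizer (Q₁ : Set G) ⊔ L = ⊤ := by
    rw [hP'eq, hP']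
    exact hfr
  have hLle : L ≤ K ⊔ Q₁ := by
    intro x hx
    have h1 : π x ∈ Q₁.map π := by
      rw [hQ₁map]; exact hx
    obtain ⟨q, hq, hqx⟩ := h1
    have h2 : x * q⁻¹ ∈ K := by
      rw [← hπk, MonoidHom.mem_ker, map_mul, map_inv, hqx, mul_inv_cancel]
    have h3 : x = (x * q⁻¹) * q := by group
    rw [h3]
    exact Subgroup.mul_mem_sup h2 hq
  rw [eq_top_iff, ← hfr']
  refine sup_le (hNN.trans le_sup_left) (hLle.trans (sup_le le_sup_right ?_))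
  exact (Subgroup.le_normalizer.trans hNN).trans le_sup_left

end main

end Cfsg.Agent.Lib.PGroup.SFourFree
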