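import Mathlib
import Cfsg.Prelude.Def_Transfer
import Cfsg.Prelude.Def_Solvable
import Cfsg.Agent.Lib.PGroup.LargeExtraspecial

/-!
# Singular subgroups in the large extraspecial setting

`U` is singular when it is elementary abelian, all its non-identity elements are conjugates of `z`
and they are pairwise orthogonal.  The elements of `Q_u` act on `U` as transvections with centre
`u`, and every transvection arises.
-/

namespace Cfsg.Agent.Lib.PGroup.SingularSubgroup

open Subgroup Cfsg.Agent.Lib.PGroup.LargeExtraspecial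
open scoped commutatorElement

variable {G : Type*} [Group G] [Finite G]

omit [Finite G] in
theorem conj_conj_inv (g x : G) : g * (g⁻¹ * x * g) * g⁻¹ = x := by group

theorem mem_o2c_conj_iff {x g z : G} : x ∈ o2c (g * z * g⁻¹) ↔ g⁻¹ * x * g ∈ o2c z := by
  constructor
  · intro h
    have := conj_mem_o2c h g⁻¹
    have h1 : g⁻¹ * (g * z * g⁻¹) * g⁻¹⁻¹ = z := by group
    have h2 : g⁻¹ * x * g⁻¹⁻¹ = g⁻¹ * x * g := by group
    rwa [h1, h2] at this
  · intro h
    have := conj_mem_o2c h g
    rwa [conj_conj_inv] at this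

/-- The large extraspecial structure is transported by conjugation. -/
theorem large_conj {z : G} (L : Large (o2c z) z) (g : G) :
    Large (o2c (g * z * g⁻¹)) (g * z * g⁻¹) where
  z_mem := conj_mem_o2c L.z_mem g
  z_sq := by
    calc g * z * g⁻¹ * (g * z * g⁻¹) = g * (z * z) * g⁻¹ := by group
      _ = 1 := by rw [L.z_sq]; group
  z_ne := by
    intro h
    apply L.z_ne
    have : z = g⁻¹ * (g * z * g⁻¹) * g := by group
    rw [this, h]; group
  z_comm := fun x hx => comm_of_mem_o2c hx
  center := by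
    intro y hy hyc
    have h1 : g⁻¹ * y * g ∈ o2c z := mem_o2c_conj_iff.mp hy
    have h2 := L.center _ h1 (by
      intro x hx
      have h3 := hyc (g * x * g⁻¹) (conj_mem_o2c hx g)
      calc x * (g⁻¹ * y * g) = g⁻¹ * ((g * x * g⁻¹) * y) * g := by group
        _ = g⁻¹ * (y * (g * x * g⁻¹)) * g := by rw [h3]
        _ = (g⁻¹ * y * g) * x := by group)
    rcases h2 with h2 | h2
    · left
      have : y = g * (g⁻¹ * y * g) * g⁻¹ := by group
      rw [this, h2]; group
    · right
      have : y = g * (g⁻¹ * y * g) * g⁻¹ := by group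
      rw [this, h2]
  comm := by
    intro x hx y hy
    have h1 : g⁻¹ * x * g ∈ o2c z := mem_o2c_conj_iff.mp hx
    have h2 : g⁻¹ * y * g ∈ o2c z := mem_o2c_conj_iff.mp hy
    rcases L.comm _ h1 _ h2 with h | h
    · left
      calc x * y = g * ((g⁻¹ * x * g) * (g⁻¹ * y * g)) * g⁻¹ := by group
        _ = g * ((g⁻¹ * y * g) * (g⁻¹ * x * g)) * g⁻¹ := by rw [h]
        _ = y * x := by group
    · right
      calc x * y = g * ((g⁻¹ * x * g) * (g⁻¹ * y * g)) * g⁻¹ := by group
        _ = g * (z * ((g⁻¹ * y * g) * (g⁻¹ * x * g))) * g⁻¹ := by rw [h]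
        _ = g * z * g⁻¹ * (y * x) := by group
  sq := by
    intro x hx
    have h1 : g⁻¹ * x * g ∈ o2c z := mem_o2c_conj_iff.mp hx
    have h3 : x * x = g * ((g⁻¹ * x * g) * (g⁻¹ * x * g)) * g⁻¹ := by group
    rcases L.sq _ h1 with h | h
    · left
      rw [h3, h]; group
    · right
      rw [h3, h]
  self := by
    intro c hc
    rw [mem_o2c_conj_iff]
    apply L.self
    intro x hx
    have h3 := hc (g * x * g⁻¹) (conj_mem_o2c hx g)
    calc (g⁻¹ * c * g) * x = g⁻¹ * (c * (g * x * g⁻¹)) * g := by group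
      _ = g⁻¹ * ((g * x * g⁻¹) * c) * g := by rw [h3]
      _ = x * (g⁻¹ * c * g) := by group

namespace Large'

variable {Q : Subgroup G} {z : G}

omit [Finite G] in
theorem comm_mem_center (L : Large Q z) (x y : ↥Q) : ⁅x, y⁆ ∈ center ↥Q := by
  have hzc : (⟨z, L.z_mem⟩ : ↥Q) ∈ center ↥Q := by
    rw [mem_center_iff]
    rintro ⟨v, hv⟩
    exact Subtype.ext (L.z_comm v hv)
  rcases L.comm x x.2 y y.2 with h | h
  · have : ⁅x, y⁆ = 1 := by
      rw [commutatorElement_eq_one_iff_mul_comm]
      exact Subtype.ext h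
    rw [this]
    exact one_mem _
  · have : ⁅x, y⁆ = ⟨z, L.z_mem⟩ := by
      apply Subtype.ext
      change (x : G) * y * (x : G)⁻¹ * (y : G)⁻¹ = z
      rw [h]
      group
    rw [this]
    exact hzc

omit [Finite G] in
theorem card_center (L : Large Q z) : Nat.card (center ↥Q) = 2 := by
  have hzc : (⟨z, L.z_mem⟩ : ↥Q) ∈ center ↥Q := by
    rw [mem_center_iff]
    rintro ⟨v, hv⟩
    exact Subtype.ext (L.z_comm v hv)
  rw [Nat.card_eq_two_iff' (1 : center ↥Q)]
  refine ⟨⟨⟨z, L.z_mem⟩, hzc⟩, ?_, ?_⟩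
  · intro h
    exact L.z_ne (congrArg (fun v : center ↥Q => ((v : ↥Q) : G)) h)
  · rintro ⟨⟨y, hy⟩, hyc⟩ hne
    have h2 := L.center y hy (by
      intro x hx
      exact congrArg (fun t : ↥Q => (t : G)) (mem_center_iff.mp hyc ⟨x, hx⟩))
    rcases h2 with h2 | h2
    · exfalso
      apply hne
      apply Subtype.ext
      apply Subtype.ext
      exact h2
    · apply Subtype.ext
      apply Subtype.ext
      exact h2

/-- Nondegeneracy: if `z ∈ K ≤ Q` and `v ∈ Q ∖ K`, some `y ∈ Q` centralizes `K` with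
`y v y⁻¹ = z v`. -/
theorem exists_comm_of_notMem (L : Large Q z) (hp : IsPGroup 2 Q) {K : Subgroup G} (hzK : z ∈ K)
    (hKQ : K ≤ Q) {v : G} (hv : v ∈ Q) (hvK : v ∉ K) :
    ∃ y ∈ Q, (∀ k ∈ K, y * k = k * y) ∧ y * v = z * (v * y) := by
  have hprime : Fact (Nat.Prime 2) := ⟨Nat.prime_two⟩
  have hc := comm_mem_center L
  have hZ := card_center L
  set K₁ : Subgroup ↥Q := K.subgroupOf Q with hK₁
  set K₂ : Subgroup ↥Q := K₁ ⊔ zpowers ⟨v, hv⟩ with hK₂
  have hcenter : center ↥Q ≤ K₁ := by
    rintro ⟨y, hy⟩ hyc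
    rw [hK₁, mem_subgroupOf]
    change y ∈ K
    have h2 := L.center y hy (by
      intro x hx
      exact congrArg (fun t : ↥Q => (t : G)) (mem_center_iff.mp hyc ⟨x, hx⟩))
    rcases h2 with h2 | h2
    · rw [h2]; exact one_mem _
    · rw [h2]; exact hzK
  have h12 : K₁ ≤ K₂ := le_sup_left
  have hvK₂ : (⟨v, hv⟩ : ↥Q) ∈ K₂ := mem_sup_right (mem_zpowers _)
  have hvK₁ : (⟨v, hv⟩ : ↥Q) ∉ K₁ := by
    rw [hK₁, mem_subgroupOf]
    exact hvK
  have hlt : K₁ < K₂ := lt_of_le_of_ne h12 (fun h => hvK₁ (h ▸ hvK₂))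
  have hcardlt : Nat.card K₁ < Nat.card K₂ :=
    lt_of_le_of_ne (Subgroup.card_le_of_le h12)
      (fun h => hlt.ne (Subgroup.eq_of_le_of_card_ge h12 h.ge))
  have hd1 := Extraspecial.card_mul_card_inf_center hp hc hZ K₁
  have hd2 := Extraspecial.card_mul_card_inf_center hp hc hZ K₂
  rw [inf_eq_right.mpr hcenter] at hd1
  rw [inf_eq_right.mpr (hcenter.trans h12)] at hd2
  have heq : Nat.card (centralizer (K₁ : Set ↥Q)) * Nat.card K₁ =
      Nat.card (centralizer (K₂ : Set ↥Q)) * Nat.card K₂ := by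
    rw [← hd1, ← hd2]
  have hCle : centralizer (K₂ : Set ↥Q) ≤ centralizer (K₁ : Set ↥Q) :=
    centralizer_le (fun x hx => h12 hx)
  have hCne : centralizer (K₂ : Set ↥Q) ≠ centralizer (K₁ : Set ↥Q) := by
    intro h
    rw [h] at heq
    have hpos : 0 < Nat.card (centralizer (K₁ : Set ↥Q)) := Nat.card_pos
    have := Nat.eq_of_mul_eq_mul_left hpos heq
    omega
  obtain ⟨y, hy1, hy2⟩ := SetLike.exists_of_lt (lt_of_le_of_ne hCle hCne)
  have hy1' : ∀ k ∈ K₁, k * y = y * k := fun k hk => (mem_centralizer_iff.mp hy1) k hk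
  refine ⟨y, y.2, ?_, ?_⟩
  · intro k hk
    have := hy1' ⟨k, hKQ hk⟩ (by rw [hK₁, mem_subgroupOf]; exact hk)
    exact (congrArg (fun t : ↥Q => (t : G)) this).symm
  · rcases L.comm y y.2 v hv with h | h
    · exfalso
      apply hy2
      rw [mem_centralizer_iff]
      have hK₂le : K₂ ≤ centralizer ({y} : Set ↥Q) := by
        refine sup_le ?_ ?_
        · intro k hk
          rw [mem_centralizer_singleton_iff]
          exact hy1' k hk
        · rw [zpowers_le, mem_centralizer_singleton_iff]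
          exact Subtype.ext h.symm
      intro k hk
      exact mem_centralizer_singleton_iff.mp (hK₂le hk)
    · exact h

end Large'

/-! ## Singular subgroups -/

/-- A singular subgroup in the large extraspecial setting. -/
structure Singular (z : G) (U : Subgroup G) : Prop where
  L : Large (o2c z) z
  sq : ∀ u ∈ U, u * u = 1
  conj : ∀ u ∈ U, u ≠ 1 → ∃ g : G, g * z * g⁻¹ = u
  orth : ∀ u ∈ U, ∀ v ∈ U, u ≠ 1 → v ≠ 1 → v ∈ o2c u

namespace Singular

variable {z : G} {U : Subgroup G}

theorem large (S : Singular z U) {u : G} (hu : u ∈ U) (h1 : u ≠ 1) : Large (o2c u) u := by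
  obtain ⟨g, rfl⟩ := S.conj u hu h1
  exact large_conj S.L g

theorem le_o2c (S : Singular z U) {u : G} (hu : u ∈ U) (h1 : u ≠ 1) : U ≤ o2c u := by
  intro v hv
  by_cases hv1 : v = 1
  · rw [hv1]; exact one_mem _
  · exact S.orth u hu v hv h1 hv1

omit [Finite G] in
theorem comm (S : Singular z U) {u v : G} (hu : u ∈ U) (hv : v ∈ U) : u * v = v * u := by
  have h1 := S.sq _ (mul_mem hu hv)
  have h2 := S.sq _ hu
  have h3 := S.sq _ hv
  calc u * v = u * (u * v * (u * v)) * v := by rw [h1]; group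
    _ = (u * u) * v * u * (v * v) := by group
    _ = v * u := by rw [h2, h3]; group

/-- Elements of `Q_u` normalize `U`. -/
theorem conj_mem (S : Singular z U) {u y v : G} (hu : u ∈ U) (h1 : u ≠ 1) (hy : y ∈ o2c u)
    (hv : v ∈ U) : y * v * y⁻¹ ∈ U := by
  have L := S.large hu h1
  rcases L.comm y hy v (S.le_o2c hu h1 hv) with h | h
  · rw [h]
    simpa using hv
  · rw [h]
    have : u * (v * y) * y⁻¹ = u * v := by group
    rw [this]
    exact mul_mem hu hv

/-- The join of the `Q_u`. -/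
def join (U : Subgroup G) : Subgroup G := ⨆ u ∈ ((U : Set G) \ {1}), o2c u

/-- The intersection of the `Q_u`. -/
def core (U : Subgroup G) : Subgroup G := ⨅ u ∈ ((U : Set G) \ {1}), o2c u

theorem mem_join {U : Subgroup G} {u y : G} (hu : u ∈ U) (h1 : u ≠ 1) (hy : y ∈ o2c u) :
    y ∈ join U :=
  (le_iSup₂_of_le (f := fun u (_ : u ∈ ((U : Set G) \ {1})) => o2c u) u ⟨hu, h1⟩ le_rfl) hy

theorem mem_core {U : Subgroup G} {x : G} : x ∈ core U ↔ ∀ u ∈ U, u ≠ 1 → x ∈ o2c u := by
  simp [core, mem_iInf]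

theorem join_le_normalizer (S : Singular z U) : join U ≤ normalizer (U : Set G) := by
  refine iSup₂_le ?_
  rintro u ⟨hu, h1⟩
  exact le_normalizer_of_forall (fun y hy v hv => S.conj_mem hu h1 hy hv)

theorem le_core (S : Singular z U) : U ≤ core U := by
  intro v hv
  rw [mem_core]
  intro u hu h1
  exact S.le_o2c hu h1 hv

theorem core_le_join {u : G} (hu : u ∈ U) (h1 : u ≠ 1) : core U ≤ join U := by
  intro x hx
  exact mem_join hu h1 (mem_core.mp hx u hu h1)

/-- `Q_u` realizes the transvections with centre `u`. -/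
theorem exists_transvection (S : Singular z U) {c v : G} (hc : c ∈ U) (h1 : c ≠ 1) {K : Subgroup G}
    (hcK : c ∈ K) (hKU : K ≤ U) (hvU : v ∈ U) (hvK : v ∉ K) :
    ∃ y ∈ o2c c, (∀ k ∈ K, y * k * y⁻¹ = k) ∧ y * v * y⁻¹ = c * v := by
  obtain ⟨y, hy, hyK, hyv⟩ := Large'.exists_comm_of_notMem (S.large hc h1) (o2c_isPGroup c) hcK
    (hKU.trans (S.le_o2c hc h1)) (S.le_o2c hc h1 hvU) hvK
  refine ⟨y, hy, fun k hk => ?_, ?_⟩
  · rw [hyK k hk]; group
  · rw [hyv]; group

/-- Conjugation by `y ∈ Q_c` as an automorphism of `U`. -/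
def conjEquiv (S : Singular z U) {c y : G} (hc : c ∈ U) (h1 : c ≠ 1) (hy : y ∈ o2c c) :
    ↥U ≃* ↥U where
  toFun x := ⟨y * x * y⁻¹, S.conj_mem hc h1 hy x.2⟩
  invFun x := ⟨y⁻¹ * x * y⁻¹⁻¹, S.conj_mem hc h1 (inv_mem hy) x.2⟩
  left_inv x := by
    apply Subtype.ext
    change y⁻¹ * (y * x * y⁻¹) * y⁻¹⁻¹ = x
    group
  right_inv x := by
    apply Subtype.ext
    change y * (y⁻¹ * x * y⁻¹⁻¹) * y⁻¹ = x
    group
  map_mul' a b := by
    apply Subtype.ext
    change y * (a * b) * y⁻¹ = (y * a * y⁻¹) * (y * b * y⁻¹)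
    group

omit [Finite G] in
theorem exists_K {A : Type*} [Group A] (hA : ∀ x : A, x * x = 1) (F : Subgroup A) (c : A) :
    ∃ K : Subgroup A, F ≤ K ∧ c ∈ K ∧ ∀ x ∈ K, x ∈ F ∨ x * c ∈ F := by
  have hcomm : ∀ x y : A, x * y = y * x := by
    intro x y
    calc x * y = x * (x * y * (x * y)) * y := by rw [hA]; group
      _ = (x * x) * y * x * (y * y) := by group
      _ = y * x := by rw [hA, hA]; group
  have hinv : ∀ x : A, x⁻¹ = x := fun x => inv_eq_of_mul_eq_one_left (hA x)
  refine ⟨{ carrier := {x | x ∈ F ∨ x * c ∈ F}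
            one_mem' := Or.inl (one_mem _)
            mul_mem' := ?_
            inv_mem' := ?_ }, fun x hx => Or.inl hx, Or.inr (by
              change c * c ∈ F
              rw [hA]; exact one_mem _), fun x hx => hx⟩
  · rintro x y (hx | hx) (hy | hy)
    · exact Or.inl (mul_mem hx hy)
    · right
      rw [mul_assoc]
      exact mul_mem hx hy
    · right
      have : x * y * c = x * c * y := by
        rw [mul_assoc, hcomm y c, mul_assoc]
      rw [this]
      exact mul_mem hx hy
    · left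
      have : x * y = x * c * (y * c) := by
        rw [hcomm y c, mul_assoc, ← mul_assoc c c y, hA, one_mul]
      rw [this]
      exact mul_mem hx hy
  · intro x hx
    rw [hinv]
    exact hx

/-- Every automorphism of a singular subgroup is induced by the join of the `Q_u`. -/
theorem exists_conj_eq (S : Singular z U) (φ : ↥U ≃* ↥U) :
    ∃ g ∈ join U, ∀ u : ↥U, g * (u : G) * g⁻¹ = ((φ u : ↥U) : G) := by
  classical
  have hA : ∀ x : ↥U, x * x = 1 := fun x => Subtype.ext (S.sq x x.2)
  have hcommA : ∀ x y : ↥U, x * y = y * x := fun x y => Subtype.ext (S.comm x.2 y.2)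
  let fix : (↥U ≃* ↥U) → Subgroup ↥U := fun φ =>
    { carrier := {x | φ x = x}
      one_mem' := map_one φ
      mul_mem' := fun {a b} ha hb => by
        change φ (a * b) = a * b
        rw [map_mul, show φ a = a from ha, show φ b = b from hb]
      inv_mem' := fun {a} ha => by
        change φ a⁻¹ = a⁻¹
        rw [map_inv, show φ a = a from ha] }
  have key : ∀ n : ℕ, ∀ φ : ↥U ≃* ↥U, Nat.card ↥U - Nat.card ↥(fix φ) = n →
      ∃ g ∈ join U, ∀ u : ↥U, g * (u : G) * g⁻¹ = ((φ u : ↥U) : G) := by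
    intro n
    induction n using Nat.strong_induction_on with
    | _ n ih =>
      intro φ hn
      by_cases hall : ∀ x, φ x = x
      · exact ⟨1, one_mem _, fun u => by simp [hall u]⟩
      push Not at hall
      obtain ⟨v, hv⟩ := hall
      have hvU : (v : G) ∈ U := v.2
      set v' := φ v with hv'
      set c : ↥U := v * v' with hc
      have hc1 : c ≠ 1 := by
        intro h
        apply hv
        have : v' = v * (v * v') := by
          rw [← mul_assoc, hA, one_mul]
        rw [this, ← hc, h, mul_one]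
      obtain ⟨K, hFK, hcK, hK⟩ := exists_K hA (fix φ) c
      have hv'K : v' ∉ K := by
        intro h
        rcases hK v' h with h1 | h1
        · apply hv
          have h2 : φ v' = v' := h1
          exact φ.injective h2
        · have h2 : v' * c = v := by
            rw [hc, hcommA v v', ← mul_assoc, hA, one_mul]
          rw [h2] at h1
          exact hv h1
      have hcG : (c : G) ≠ 1 := fun h => hc1 (Subtype.ext h)
      have hKm : (c : G) ∈ K.map U.subtype := ⟨c, hcK, rfl⟩
      have hv'm : (v' : G) ∉ K.map U.subtype := by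
        rintro ⟨x, hx, hxv⟩
        have : x = v' := Subtype.ext hxv
        exact hv'K (this ▸ hx)
      obtain ⟨y, hy, hyK, hyv⟩ := S.exists_transvection c.2 hcG hKm (map_subtype_le K) v'.2 hv'm
      have hyv' : y * (v' : G) * y⁻¹ = v := by
        rw [hyv]
        have : c * v' = v := by
          rw [hc, mul_assoc, hA, mul_one]
        exact congrArg Subtype.val this
      let τ := S.conjEquiv c.2 hcG hy
      have hτ : ∀ x : ↥U, ((τ x : ↥U) : G) = y * x * y⁻¹ := fun _ => rfl
      let φ' : ↥U ≃* ↥U := φ.trans τ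
      have hφ' : ∀ x : ↥U, ((φ' x : ↥U) : G) = y * ((φ x : ↥U) : G) * y⁻¹ := fun _ => rfl
      -- the fixed points increase
      have hfixle : fix φ ≤ fix φ' := by
        intro x hx
        have hxφ : φ x = x := hx
        apply Subtype.ext
        rw [hφ', hxφ]
        exact hyK _ ⟨x, hFK hx, rfl⟩
      have hvfix : v ∈ fix φ' := by
        apply Subtype.ext
        rw [hφ']
        exact hyv'
      have hvnot : v ∉ fix φ := hv
      have hlt : fix φ < fix φ' := lt_of_le_of_ne hfixle (fun h => hvnot (h ▸ hvfix))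
      have hcard : Nat.card ↥(fix φ) < Nat.card ↥(fix φ') :=
        lt_of_le_of_ne (Subgroup.card_le_of_le hfixle)
          (fun h => hlt.ne (Subgroup.eq_of_le_of_card_ge hfixle h.ge))
      have hcardU : Nat.card ↥(fix φ') ≤ Nat.card ↥U := Subgroup.card_le_card_group _
      obtain ⟨g', hg', hg'eq⟩ := ih (Nat.card ↥U - Nat.card ↥(fix φ')) (by omega) φ' rfl
      refine ⟨y⁻¹ * g', mul_mem (inv_mem (mem_join c.2 hcG hy)) hg', fun u => ?_⟩
      have h3 := hg'eq u
      rw [hφ'] at h3
      calc y⁻¹ * g' * (u : G) * (y⁻¹ * g')⁻¹ = y⁻¹ * (g' * (u : G) * g'⁻¹) * y := by group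
        _ = y⁻¹ * (y * ((φ u : ↥U) : G) * y⁻¹) * y := by rw [h3]
        _ = ((φ u : ↥U) : G) := by group
  exact key _ φ rfl

/-! ### The action on the core -/

/-- Elements of `join U` act trivially on `core U / U`. -/
theorem comm_mem_of_mem_join (S : Singular z U) {g x : G} (hg : g ∈ join U) (hx : x ∈ core U) :
    g * x * g⁻¹ * x⁻¹ ∈ U := by
  let stab : Subgroup G :=
    { carrier := {g | (∀ v ∈ U, g * v * g⁻¹ ∈ U ∧ g⁻¹ * v * g ∈ U) ∧
        ∀ x ∈ core U, g * x * g⁻¹ * x⁻¹ ∈ U ∧ g⁻¹ * x * g * x⁻¹ ∈ U}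
      one_mem' := by
        refine ⟨fun v hv => by simpa using hv, fun x _ => by simp [one_mem]⟩
      mul_mem' := by
        rintro a b ⟨ha1, ha2⟩ ⟨hb1, hb2⟩
        refine ⟨fun v hv => ⟨?_, ?_⟩, fun x hx => ⟨?_, ?_⟩⟩
        · have := (ha1 _ (hb1 v hv).1).1
          have h : a * b * v * (a * b)⁻¹ = a * (b * v * b⁻¹) * a⁻¹ := by group
          rw [h]; exact this
        · have := (hb1 _ (ha1 v hv).2).2
          have h : (a * b)⁻¹ * v * (a * b) = b⁻¹ * (a⁻¹ * v * a) * b := by group
          rw [h]; exact this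
        · have h1 := (ha1 _ (hb2 x hx).1).1
          have h2 := (ha2 x hx).1
          have h : a * b * x * (a * b)⁻¹ * x⁻¹ =
              (a * (b * x * b⁻¹ * x⁻¹) * a⁻¹) * (a * x * a⁻¹ * x⁻¹) := by group
          rw [h]; exact mul_mem h1 h2
        · have h1 := (hb1 _ (ha2 x hx).2).2
          have h2 := (hb2 x hx).2
          have h : (a * b)⁻¹ * x * (a * b) * x⁻¹ =
              (b⁻¹ * (a⁻¹ * x * a * x⁻¹) * b) * (b⁻¹ * x * b * x⁻¹) := by group
          rw [h]; exact mul_mem h1 h2
      inv_mem' := by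
        rintro a ⟨ha1, ha2⟩
        refine ⟨fun v hv => ⟨?_, ?_⟩, fun x hx => ⟨?_, ?_⟩⟩
        · simpa using (ha1 v hv).2
        · simpa using (ha1 v hv).1
        · simpa using (ha2 x hx).2
        · simpa using (ha2 x hx).1 }
  have hle : join U ≤ stab := by
    refine iSup₂_le ?_
    rintro u ⟨hu, h1⟩ y hy
    have L := S.large hu h1
    have haux : ∀ y ∈ o2c u, ∀ x ∈ core U, y * x * y⁻¹ * x⁻¹ ∈ U := by
      intro y hy x hx
      rcases L.comm y hy x (mem_core.mp hx u hu h1) with h | h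
      · rw [h]; simp [one_mem]
      · rw [h]
        have : u * (x * y) * y⁻¹ * x⁻¹ = u := by group
        rw [this]; exact hu
    refine ⟨fun v hv => ⟨S.conj_mem hu h1 hy hv, ?_⟩, fun x hx => ⟨haux y hy x hx, ?_⟩⟩
    · simpa using S.conj_mem hu h1 (inv_mem hy) hv
    · simpa using haux y⁻¹ (inv_mem hy) x hx
  exact ((hle hg).2 x hx).1

/-- The centralizer of `U` in `join U` is transitive on the cosets `x U`. -/
theorem exists_conj_eq_mul (S : Singular z U) {x u : G} (hx : x ∈ core U) (hxU : x ∉ U)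
    (hu : u ∈ U) : ∃ g ∈ join U ⊓ centralizer (U : Set G), g * x * g⁻¹ = x * u := by
  by_cases h1 : u = 1
  · exact ⟨1, one_mem _, by simp [h1]⟩
  have L := S.large hu h1
  obtain ⟨y, hy, hyU, hyx⟩ := Large'.exists_comm_of_notMem L (o2c_isPGroup u) hu
    (S.le_o2c hu h1) (mem_core.mp hx u hu h1) hxU
  refine ⟨y, ⟨mem_join hu h1 hy, ?_⟩, ?_⟩
  · refine mem_centralizer_iff.mpr ?_
    intro k hk
    exact (hyU k hk).symm
  · rw [hyx, ← mul_assoc, ← L.z_comm x (mem_core.mp hx u hu h1)]
    group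

/-! ### The core from generators -/

/-- `Q_s ∩ Q_t ≤ Q_{st}`. -/
theorem mem_o2c_mul (S : Singular z U) {s t x : G} (hs : s ∈ U) (ht : t ∈ U) (hs1 : s ≠ 1)
    (ht1 : t ≠ 1) (hst : s ≠ t) (hxs : x ∈ o2c s) (hxt : x ∈ o2c t) : x ∈ o2c (s * t) := by
  have L := S.large hs hs1
  have hst1 : s * t ≠ 1 := by
    intro h
    apply hst
    have h2 := S.sq s hs
    calc s = s * (t * t) := by rw [S.sq t ht, mul_one]
      _ = (s * t) * t := by group
      _ = t := by rw [h, one_mul]
  obtain ⟨y, hy, hyt⟩ := L.exists_noncomm (S.le_o2c hs hs1 ht) ht1 hst.symm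
  have h1 := conj_mem_o2c hxt y
  have h2 : y * t * y⁻¹ = s * t := by
    rw [hyt]; group
  rw [h2] at h1
  have hsm : s ∈ o2c (s * t) := S.le_o2c (mul_mem hs ht) hst1 hs
  rcases L.comm y hy x hxs with h | h
  · rw [h] at h1
    simpa using h1
  · rw [h] at h1
    have : x = s⁻¹ * (s * (x * y) * y⁻¹) := by group
    rw [this]
    exact mul_mem (inv_mem hsm) h1

/-- The core of `U` is the intersection of the `Q_t` over a generating set. -/
theorem core_eq_iInf (S : Singular z U) {T : Set G} (hT : closure T = U) (hT1 : (1 : G) ∉ T) :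
    core U = ⨅ t ∈ T, o2c t := by
  apply le_antisymm
  · refine le_iInf₂ fun t ht => ?_
    intro x hx
    refine mem_core.mp hx t (hT ▸ subset_closure ht) ?_
    rintro rfl
    exact hT1 ht
  · intro x hx
    simp only [mem_iInf] at hx
    rw [mem_core]
    have key : ∀ u ∈ closure T, u = 1 ∨ x ∈ o2c u := by
      intro u hu
      induction hu using closure_induction with
      | mem u hu => exact Or.inr (hx u hu)
      | one => exact Or.inl rfl
      | mul a b ha hb iha ihb =>
        rw [hT] at ha hb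
        rcases iha with rfl | iha
        · simpa using ihb
        rcases ihb with rfl | ihb
        · simpa using Or.inr iha
        by_cases h1a : a = 1
        · subst h1a; simpa using Or.inr ihb
        by_cases h1b : b = 1
        · subst h1b; simpa using Or.inr iha
        by_cases hab : a = b
        · left
          rw [hab]
          exact S.sq b hb
        · exact Or.inr (S.mem_o2c_mul ha hb h1a h1b hab iha ihb)
      | inv a ha iha =>
        rw [hT] at ha
        have : a⁻¹ = a := inv_eq_of_mul_eq_one_left (S.sq a ha)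
        rw [this]
        exact iha
    intro u hu h1
    exact (key u (hT ▸ hu)).resolve_left h1

end Singular

end Cfsg.Agent.Lib.PGroup.SingularSubgroup
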