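import Mathlib
import Cfsg.Agent.S3807
import Cfsg.Agent.Lib.PGroup.MaximalClass
import Cfsg.Agent.Lib.PGroup.Basic
import Cfsg.Agent.Lib.PGroup.CyclicMax2
import Cfsg.Agent.Lib.PGroup.Critical

/-!
# Soft subgroups of finite `p`-groups (Héthelyi)

`E` is soft in `P` when it is abelian, contains its centralizer, has index `p` in its normalizer and
index at least `p²` in `P`.  We prove: the overgroups of `E` form a chain, all normalizer steps have
index `p`, and the `i`-th member of the tower has class `i + 1` unless it is `P`.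

The proof is an induction on `|P|`, through `P/Y` for a central `Y` of order `p` (`E/Y` is soft
when `Y ≠ N(E)'`, and `N(E)/Y` is soft when `Y = N(E)'`).
-/

set_option autoImplicit false
set_option linter.unusedSectionVars false

namespace Cfsg.Agent.Lib.PGroup.Soft

open Subgroup
open scoped commutatorElement

universe u

/-- Soft subgroups. -/
structure Soft (p : ℕ) {P : Type u} [Group P] (E : Subgroup P) : Prop where
  ab : ∀ a ∈ E, ∀ b ∈ E, a * b = b * a
  cent : centralizer (E : Set P) ≤ E
  norm : E.relIndex (normalizer (E : Set P)) = p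
  idx : p ^ 2 ≤ E.index

section basics

variable {P : Type u} [Group P] [Finite P] {p : ℕ} [hp : Fact p.Prime] {E : Subgroup P}

lemma Soft.T_ne_top (hE : Soft p E) : normalizer (E : Set P) ≠ ⊤ := by
  intro h
  have h1 := hE.norm
  rw [h, relIndex_top_right] at h1
  have h2 := hE.idx
  rw [h1] at h2
  have := hp.out.two_le
  nlinarith

lemma Soft.ne_bot (hE : Soft p E) : E ≠ ⊥ := by
  intro h
  have h1 := hE.cent
  have h2 := hE.idx
  have h3 : centralizer (E : Set P) = ⊤ := by
    rw [h]; simp
  rw [h3, top_le_iff] at h1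
  rw [h1, index_top] at h2
  have := hp.out.two_le
  nlinarith

lemma Soft.center_le (hE : Soft p E) : center P ≤ E := by
  refine le_trans ?_ hE.cent
  intro z hz
  rw [mem_centralizer_iff]
  intro a _
  exact (mem_center_iff.mp hz a)

lemma Soft.decomp (hE : Soft p E) {x : P} (hxT : x ∈ normalizer (E : Set P)) (hxE : x ∉ E) :
    ∀ s ∈ normalizer (E : Set P), ∃ a ∈ E, ∃ k : ℕ, s = a * x ^ k := by
  intro s hs
  set T := normalizer (E : Set P) with hT
  haveI hN : (E.subgroupOf T).Normal := (normal_subgroupOf_iff_le_normalizer le_normalizer).mpr le_rfl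
  obtain ⟨a, ha, k, h⟩ := Cfsg.Agent.S3807.exists_decomp (p := p) (E.subgroupOf T) hE.norm
    (⟨x, hxT⟩ : ↥T) (by rw [mem_subgroupOf]; exact hxE) ⟨s, hs⟩
  refine ⟨a, mem_subgroupOf.mp ha, k, ?_⟩
  have := congrArg Subtype.val h
  simpa using this

/-- A proper overgroup of `E` contains `N(E)`. -/
lemma Soft.T_le_of_lt (hP : IsPGroup p P) (hE : Soft p E) {K : Subgroup P} (hEK : E < K) :
    normalizer (E : Set P) ≤ K := by
  obtain ⟨x, hxK, hxE, hxT⟩ :=
    Cfsg.Agent.Lib.PGroup.Basic.exists_mem_normalizer_of_lt (hP.to_subgroup K) hEK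
  intro s hs
  obtain ⟨a, ha, k, rfl⟩ := hE.decomp hxT hxE s hs
  exact K.mul_mem (hEK.le ha) (K.pow_mem hxK k)

/-- Membership in a conjugate. -/
lemma mem_map_conj {F : Subgroup P} {g x : P} :
    x ∈ F.map (MulAut.conj g).toMonoidHom ↔ g⁻¹ * x * g ∈ F := by
  constructor
  · rintro ⟨y, hy, rfl⟩
    have : g⁻¹ * ((MulAut.conj g).toMonoidHom y) * g = y := by
      simp [MulAut.conj_apply]; group
    rw [this]; exact hy
  · intro h
    refine ⟨_, h, ?_⟩
    simp [MulAut.conj_apply]; group

lemma card_map_conj (F : Subgroup P) (g : P) :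
    Nat.card ↥(F.map (MulAut.conj g).toMonoidHom) = Nat.card F :=
  Nat.card_congr (F.equivMapOfInjective _ (MulAut.conj g).injective).toEquiv.symm

lemma Soft.conj_le (E : Subgroup P) {g : P}
    (hg : g ∈ normalizer ((normalizer (E : Set P) : Subgroup P) : Set P)) :
    E.map (MulAut.conj g).toMonoidHom ≤ normalizer (E : Set P) := by
  rintro _ ⟨a, ha, rfl⟩
  have h1 : a ∈ normalizer (E : Set P) := le_normalizer ha
  exact (mem_normalizer_iff.mp hg a).mp h1

/-- The lines of `N(E)`: abelian subgroups of index `p`. -/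
abbrev Lines (p : ℕ) (T : Subgroup P) : Type u :=
  {B : Subgroup ↥T // IsMulCommutative ↥B ∧ B.index = p}

lemma Soft.conj_mem_lines (hE : Soft p E) {g : P}
    (hg : g ∈ normalizer ((normalizer (E : Set P) : Subgroup P) : Set P)) :
    IsMulCommutative ↥((E.map (MulAut.conj g).toMonoidHom).subgroupOf (normalizer (E : Set P))) ∧
      ((E.map (MulAut.conj g).toMonoidHom).subgroupOf (normalizer (E : Set P))).index = p := by
  set T := normalizer (E : Set P) with hT
  have hle := Soft.conj_le E hg
  constructor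
  · refine ⟨⟨fun a b => ?_⟩⟩
    apply Subtype.ext
    apply Subtype.ext
    obtain ⟨a, ha⟩ := a
    obtain ⟨b, hb⟩ := b
    have ha' := mem_subgroupOf.mp ha
    have hb' := mem_subgroupOf.mp hb
    obtain ⟨x, hx, hxe⟩ := ha'
    obtain ⟨y, hy, hye⟩ := hb'
    change (a : P) * b = b * a
    rw [← hxe, ← hye]
    simp only [MulEquiv.coe_toMonoidHom, ← map_mul]
    rw [hE.ab x hx y hy]
  · have h1 := Cfsg.Agent.Lib.PGroup.Critical.card_eq_mul_relIndex hle
    have h2 := Cfsg.Agent.Lib.PGroup.Critical.card_eq_mul_relIndex (le_normalizer : E ≤ normalizer (E : Set P))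
    rw [hE.norm, ← hT] at h2
    rw [card_map_conj, h2] at h1
    have hpos : 0 < Nat.card E := Nat.card_pos
    exact (Nat.eq_of_mul_eq_mul_left hpos h1).symm

/-- The derived group of `N(E)` has order `p`, and `N(E)` has `p + 1` lines. -/
lemma Soft.derived (hP : IsPGroup p P) (hE : Soft p E) :
    Nat.card ↥(commutator ↥(normalizer (E : Set P))) = p ∧
      Nat.card (Lines p (normalizer (E : Set P))) = p + 1 := by
  set T := normalizer (E : Set P) with hT
  have hna : ¬ IsMulCommutative ↥T := by
    intro hab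
    have hle : T ≤ E := by
      refine le_trans ?_ hE.cent
      intro t ht
      rw [mem_centralizer_iff]
      intro a ha
      have := hab.is_comm.comm ⟨a, le_normalizer ha⟩ ⟨t, ht⟩
      simpa using congrArg Subtype.val this
    have h1 : E.relIndex T = 1 := relIndex_eq_one.mpr hle
    rw [hE.norm] at h1
    exact hp.out.one_lt.ne' h1
  have hAab : IsMulCommutative ↥(E.subgroupOf T) := by
    refine ⟨⟨fun a b => ?_⟩⟩
    apply Subtype.ext
    apply Subtype.ext
    exact hE.ab _ (mem_subgroupOf.mp a.2) _ (mem_subgroupOf.mp b.2)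
  obtain ⟨-, h | h⟩ := Cfsg.Agent.S3807.result p (hP.to_subgroup T) hna (E.subgroupOf T) hAab hE.norm
  · exact ⟨h.1, h.2.2.2⟩
  · exfalso
    obtain ⟨-, huniq⟩ := h
    have hTtop : T < ⊤ := lt_top_iff_ne_top.mpr hE.T_ne_top
    obtain ⟨g, -, hgT, hgN⟩ := Cfsg.Agent.Lib.PGroup.Basic.exists_mem_normalizer_of_lt
      (hP.to_subgroup ⊤) hTtop
    apply hgT
    obtain ⟨h1, h2⟩ := hE.conj_mem_lines hgN
    have h3 := huniq _ h1 h2
    apply Cfsg.Agent.Lib.PGroup.MaximalClass.mem_normalizer_of_conj_mem
    intro y hy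
    have h4 : g * y * g⁻¹ ∈ (E.map (MulAut.conj g).toMonoidHom) := by
      rw [mem_map_conj]; simpa [mul_assoc] using hy
    have h5 : (⟨g * y * g⁻¹, Soft.conj_le E hgN h4⟩ : ↥T) ∈
        (E.map (MulAut.conj g).toMonoidHom).subgroupOf T := mem_subgroupOf.mpr h4
    rw [h3] at h5
    exact mem_subgroupOf.mp h5

/-- `|N(N(E)) : N(E)| = p`. -/
lemma Soft.norm_T (hP : IsPGroup p P) (hE : Soft p E) :
    (normalizer (E : Set P)).relIndex (normalizer ((normalizer (E : Set P) : Subgroup P) : Set P)) = p := by
  classical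
  set T := normalizer (E : Set P) with hT
  set N := normalizer ((T : Subgroup P) : Set P) with hN
  have hcount := (hE.derived hP).2
  rw [← hT] at hcount
  let φ : ↥N → Lines p T := fun g =>
    ⟨(E.map (MulAut.conj (g : P)).toMonoidHom).subgroupOf T, hE.conj_mem_lines g.2⟩
  have hφ : ∀ a b : ↥N, φ a = φ b ↔ (a : P)⁻¹ * b ∈ T := by
    intro a b
    constructor
    · intro h
      have h1 := congrArg Subtype.val h
      have h2 : (E.map (MulAut.conj (a : P)).toMonoidHom) = (E.map (MulAut.conj (b : P)).toMonoidHom) := by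
        have ha := Soft.conj_le E a.2
        have hb := Soft.conj_le E b.2
        have h3 := (subgroupOf_inj (H₁ := E.map (MulAut.conj (a : P)).toMonoidHom)
          (H₂ := E.map (MulAut.conj (b : P)).toMonoidHom) (K := T)).mp h1
        rwa [inf_eq_left.mpr ha, inf_eq_left.mpr hb] at h3
      apply Cfsg.Agent.Lib.PGroup.MaximalClass.mem_normalizer_of_conj_mem
      intro y hy
      have h4 : (b : P) * y * (b : P)⁻¹ ∈ E.map (MulAut.conj (b : P)).toMonoidHom := by
        rw [mem_map_conj]; simpa [mul_assoc] using hy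
      rw [← h2, mem_map_conj] at h4
      have e : (a : P)⁻¹ * b * y * ((a : P)⁻¹ * b)⁻¹ = (a : P)⁻¹ * ((b : P) * y * (b : P)⁻¹) * a := by group
      rw [e]; exact h4
    · intro h
      apply Subtype.ext
      change (E.map (MulAut.conj (a : P)).toMonoidHom).subgroupOf T = (E.map (MulAut.conj (b : P)).toMonoidHom).subgroupOf T
      congr 1
      ext x
      rw [mem_map_conj, mem_map_conj]
      have h1 := mem_normalizer_iff.mp h ((a : P)⁻¹ * x * a)
      have e : (a : P)⁻¹ * b * ((b : P)⁻¹ * x * b) * ((a : P)⁻¹ * b)⁻¹ = (a : P)⁻¹ * x * a := by group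
      have h2 := mem_normalizer_iff.mp h ((b : P)⁻¹ * x * b)
      rw [e] at h2
      exact h2.symm
  -- the index is at most `p + 1`
  have hle : T.relIndex N ≤ p + 1 := by
    rw [← hcount]
    unfold relIndex index
    apply Nat.card_le_card_of_injective
      (Quotient.lift (s := QuotientGroup.leftRel (T.subgroupOf N)) φ (by
        intro a b hab
        have hab' : (QuotientGroup.leftRel (T.subgroupOf N)) a b := hab
        rw [QuotientGroup.leftRel_apply, mem_subgroupOf] at hab'
        exact (hφ a b).mpr (by simpa using hab')))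
    intro x y
    induction x using QuotientGroup.induction_on with | _ a => ?_
    induction y using QuotientGroup.induction_on with | _ b => ?_
    intro h
    have h1 : φ a = φ b := h
    rw [QuotientGroup.eq, mem_subgroupOf]
    simpa using (hφ a b).mp h1
  -- it is a nontrivial power of `p`
  have hTtop : T < ⊤ := lt_top_iff_ne_top.mpr hE.T_ne_top
  obtain ⟨g, -, hgT, hgN⟩ := Cfsg.Agent.Lib.PGroup.Basic.exists_mem_normalizer_of_lt
    (hP.to_subgroup ⊤) hTtop
  have hne : T.relIndex N ≠ 1 := by
    intro h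
    rw [relIndex_eq_one] at h
    exact hgT (h hgN)
  have hdvd : T.relIndex N ∣ Nat.card N := relIndex_dvd_card T N
  obtain ⟨k, hk⟩ := (hP.to_subgroup N).exists_card_eq
  rw [hk] at hdvd
  obtain ⟨j, hj, hje⟩ := (Nat.dvd_prime_pow hp.out).mp hdvd
  rw [hje] at hle hne ⊢
  have hp2 := hp.out.two_le
  rcases j with _ | _ | j
  · simp at hne
  · simp
  · exfalso
    have h1 : p ^ 2 ≤ p ^ (j + 1 + 1) := Nat.pow_le_pow_right hp.out.pos (by omega)
    nlinarith

end basics

section quotient

variable {P : Type u} [Group P] [Finite P] {p : ℕ} [hp : Fact p.Prime] {E : Subgroup P}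

/-- The overgroups-of-`E` data. -/
structure Tower (p : ℕ) {P : Type u} [Group P] (E : Subgroup P) : Prop where
  chain : ∀ K L : Subgroup P, E ≤ K → E ≤ L → K ≤ L ∨ L ≤ K
  step : ∀ K : Subgroup P, E ≤ K → K ≠ ⊤ → K.relIndex (normalizer (K : Set P)) = p

variable (Y : Subgroup P) [hY : Y.Normal]

local notation "π" => QuotientGroup.mk' Y

lemma mem_normalizer_map {K : Subgroup P} (hYK : Y ≤ K) {x : P} :
    π x ∈ normalizer ((K.map π : Subgroup (P ⧸ Y)) : Set (P ⧸ Y)) ↔ x ∈ normalizer (K : Set P) := by
  have hcomap : ∀ y, π y ∈ K.map π ↔ y ∈ K := by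
    intro y
    constructor
    · rintro ⟨z, hz, hzy⟩
      have h1 : z⁻¹ * y ∈ Y := by
        rw [← QuotientGroup.eq_one_iff]
        have : ((z⁻¹ * y : P) : P ⧸ Y) = (π z)⁻¹ * π y := rfl
        rw [this, ← hzy]; simp
      have : y = z * (z⁻¹ * y) := by group
      rw [this]
      exact K.mul_mem hz (hYK h1)
    · intro h; exact ⟨y, h, rfl⟩
  constructor
  · intro h
    apply Cfsg.Agent.Lib.PGroup.MaximalClass.mem_normalizer_of_conj_mem
    intro y hy
    have h1 := (mem_normalizer_iff.mp h (π y)).mp ((hcomap y).mpr hy)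
    have h2 : π x * π y * (π x)⁻¹ = π (x * y * x⁻¹) := by simp
    rw [h2] at h1
    exact (hcomap _).mp h1
  · intro h
    rw [mem_normalizer_iff]
    intro q
    obtain ⟨y, rfl⟩ := QuotientGroup.mk'_surjective Y q
    have h2 : π x * π y * (π x)⁻¹ = π (x * y * x⁻¹) := by simp
    rw [h2, hcomap, hcomap]
    exact mem_normalizer_iff.mp h y

lemma normalizer_map {K : Subgroup P} (hYK : Y ≤ K) :
    normalizer ((K.map π : Subgroup (P ⧸ Y)) : Set (P ⧸ Y)) = (normalizer (K : Set P)).map π := by
  ext q
  obtain ⟨y, rfl⟩ := QuotientGroup.mk'_surjective Y q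
  rw [mem_normalizer_map Y hYK]
  constructor
  · intro h; exact ⟨y, h, rfl⟩
  · rintro ⟨z, hz, hzy⟩
    have h1 : z⁻¹ * y ∈ Y := by
      rw [← QuotientGroup.eq_one_iff]
      have : ((z⁻¹ * y : P) : P ⧸ Y) = (π z)⁻¹ * π y := rfl
      rw [this, ← hzy]; simp
    have : y = z * (z⁻¹ * y) := by group
    rw [this]
    exact (normalizer (K : Set P)).mul_mem hz (le_normalizer (hYK h1))

lemma ker_pi : (π).ker = Y := QuotientGroup.ker_mk' Y

lemma relIndex_map_pi {K L : Subgroup P} (hK : Y ≤ K) (hL : Y ≤ L) :
    (K.map π).relIndex (L.map π) = K.relIndex L := by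
  rw [relIndex_map_map, ker_pi, sup_eq_left.mpr hK, sup_eq_left.mpr hL]

lemma index_map_pi {K : Subgroup P} (hK : Y ≤ K) : (K.map π).index = K.index :=
  index_map_eq _ (QuotientGroup.mk'_surjective Y) (by rw [ker_pi]; exact hK)

lemma map_le_map_iff_pi {K L : Subgroup P} (hL : Y ≤ L) : K.map π ≤ L.map π ↔ K ≤ L := by
  rw [map_le_iff_le_comap, comap_map_eq_self (by rw [ker_pi]; exact hL)]

lemma map_ne_top_pi {K : Subgroup P} (hK : Y ≤ K) (h : K ≠ ⊤) : K.map π ≠ ⊤ := by
  intro h2
  apply h
  have := comap_map_eq_self (f := π) (H := K) (by rw [ker_pi]; exact hK)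
  rw [h2, comap_top] at this
  exact this.symm

lemma Tower.lift {W : Subgroup P} (hYW : Y ≤ W) (h : Tower p (W.map π)) : Tower p W := by
  constructor
  · intro K L hK hL
    have hYK := hYW.trans hK
    have hYL := hYW.trans hL
    rcases h.chain (K.map π) (L.map π) (map_mono hK) (map_mono hL) with h1 | h1
    · left; exact (map_le_map_iff_pi Y hYL).mp h1
    · right; exact (map_le_map_iff_pi Y hYK).mp h1
  · intro K hK hne
    have hYK := hYW.trans hK
    have h1 := h.step (K.map π) (map_mono hK) (map_ne_top_pi Y hYK hne)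
    rw [normalizer_map Y hYK, relIndex_map_pi Y hYK (hYK.trans le_normalizer)] at h1
    exact h1

/-- Descent I: `E/Y` is soft when `N(E)'` is not inside `Y`. -/
lemma Soft.descent_one (hE : Soft p E) (hYE : Y ≤ E)
    (hT : ¬ ⁅normalizer (E : Set P), normalizer (E : Set P)⁆ ≤ Y) : Soft p (E.map π) := by
  set T := normalizer (E : Set P) with hTdef
  constructor
  · rintro _ ⟨a, ha, rfl⟩ _ ⟨b, hb, rfl⟩
    rw [← map_mul, ← map_mul, hE.ab a ha b hb]
  · intro q hq
    obtain ⟨x, rfl⟩ := QuotientGroup.mk'_surjective Y q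
    have hc : ∀ a ∈ E, ⁅a, x⁆ ∈ Y := by
      intro a ha
      have h1 := (mem_centralizer_iff.mp hq) (π a) ⟨a, ha, rfl⟩
      rw [← QuotientGroup.eq_one_iff, commutatorElement_def]
      have e : ((a * x * a⁻¹ * x⁻¹ : P) : P ⧸ Y) = π a * π x * (π a)⁻¹ * (π x)⁻¹ := rfl
      rw [e, h1]; group
    have hxT : x ∈ T := by
      apply Cfsg.Agent.Lib.PGroup.MaximalClass.mem_normalizer_of_conj_mem
      intro a ha
      have h1 := hc a ha
      have h2 : x * a * x⁻¹ = (⁅a, x⁆)⁻¹ * a := by
        rw [commutatorElement_def]; group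
      rw [h2]
      exact E.mul_mem (E.inv_mem (hYE h1)) ha
    by_cases hxE : x ∈ E
    · exact ⟨x, hxE, rfl⟩
    exfalso
    apply hT
    rw [commutator_le]
    intro s hs u hu
    obtain ⟨a, ha, k, rfl⟩ := hE.decomp hxT hxE s hs
    obtain ⟨b, hb, l, rfl⟩ := hE.decomp hxT hxE u hu
    rw [← QuotientGroup.eq_one_iff]
    have c1 : ∀ a ∈ E, Commute (π a) (π x) := by
      intro a ha
      have h1 := hc a ha
      rw [← QuotientGroup.eq_one_iff, commutatorElement_def] at h1
      have e : ((a * x * a⁻¹ * x⁻¹ : P) : P ⧸ Y) = π a * π x * (π a)⁻¹ * (π x)⁻¹ := rfl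
      rw [e] at h1
      have h5 := mul_inv_eq_one.mp h1
      rw [mul_inv_eq_iff_eq_mul] at h5
      exact h5
    have c2 : Commute (π a) (π b) := by
      have := congrArg π (hE.ab a ha b hb)
      exact (by simpa using this : π a * π b = π b * π a)
    have key : Commute (π (a * x ^ k)) (π (b * x ^ l)) := by
      rw [map_mul, map_mul, map_pow, map_pow]
      exact (c2.mul_right ((c1 a ha).pow_right l)).mul_left
        (((c1 b hb).pow_right k).symm.mul_right ((Commute.refl (π x)).pow_pow k l))
    have e3 : ((⁅a * x ^ k, b * x ^ l⁆ : P) : P ⧸ Y) =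
        π (a * x ^ k) * π (b * x ^ l) * (π (a * x ^ k))⁻¹ * (π (b * x ^ l))⁻¹ := rfl
    rw [e3, key.eq, mul_inv_cancel_right, mul_inv_cancel]
  · rw [normalizer_map Y hYE, relIndex_map_pi Y hYE (hYE.trans le_normalizer)]
    exact hE.norm
  · rw [index_map_pi Y hYE]
    exact hE.idx

/-- Descent II: `N(E)/N(E)'` is soft when `N(N(E))` is proper. -/
lemma Soft.descent_two (hP : IsPGroup p P) (hE : Soft p E) (hYE : Y ≤ E)
    (hT : ⁅normalizer (E : Set P), normalizer (E : Set P)⁆ ≤ Y)
    (hT2 : normalizer ((normalizer (E : Set P) : Subgroup P) : Set P) ≠ ⊤) :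
    Soft p ((normalizer (E : Set P)).map π) := by
  set T := normalizer (E : Set P) with hTdef
  have hYT : Y ≤ T := hYE.trans le_normalizer
  constructor
  · rintro _ ⟨a, ha, rfl⟩ _ ⟨b, hb, rfl⟩
    have h1 : ⁅a, b⁆ ∈ Y := hT (commutator_mem_commutator ha hb)
    rw [← QuotientGroup.eq_one_iff, commutatorElement_def] at h1
    have e : ((a * b * a⁻¹ * b⁻¹ : P) : P ⧸ Y) = π a * π b * (π a)⁻¹ * (π b)⁻¹ := rfl
    rw [e] at h1
    have h5 := mul_inv_eq_one.mp h1
    rw [mul_inv_eq_iff_eq_mul] at h5
    exact h5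
  · intro q hq
    obtain ⟨x, rfl⟩ := QuotientGroup.mk'_surjective Y q
    refine ⟨x, ?_, rfl⟩
    apply Cfsg.Agent.Lib.PGroup.MaximalClass.mem_normalizer_of_conj_mem
    intro a ha
    have h1 := (mem_centralizer_iff.mp hq) (π a) ⟨a, le_normalizer ha, rfl⟩
    have h2 : ⁅a, x⁆ ∈ Y := by
      rw [← QuotientGroup.eq_one_iff, commutatorElement_def]
      have e : ((a * x * a⁻¹ * x⁻¹ : P) : P ⧸ Y) = π a * π x * (π a)⁻¹ * (π x)⁻¹ := rfl
      rw [e, h1]; group
    have h3 : x * a * x⁻¹ = (⁅a, x⁆)⁻¹ * a := by
      rw [commutatorElement_def]; group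
    rw [h3]
    exact E.mul_mem (E.inv_mem (hYE h2)) ha
  · rw [normalizer_map Y hYT, relIndex_map_pi Y hYT (hYT.trans le_normalizer)]
    exact hE.norm_T hP
  · rw [index_map_pi Y hYT]
    have h1 := relIndex_mul_index (le_normalizer : T ≤ normalizer (T : Set P))
    rw [hE.norm_T hP] at h1
    rw [← h1, pow_two]
    apply Nat.mul_le_mul_left
    -- a proper subgroup of a `p`-group has index at least `p`
    obtain ⟨k, hk⟩ := (hP.to_subgroup ⊤ : IsPGroup p ↥(⊤ : Subgroup P)).exists_card_eq
    have hd : (normalizer (T : Set P)).index ∣ Nat.card P := index_dvd_card _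
    rw [card_top] at hk
    rw [hk] at hd
    obtain ⟨j, -, hje⟩ := (Nat.dvd_prime_pow hp.out).mp hd
    rw [hje]
    rcases j with _ | j
    · exfalso
      rw [pow_zero, index_eq_one] at hje
      exact hT2 hje
    · calc p = p ^ 1 := (pow_one p).symm
        _ ≤ _ := Nat.pow_le_pow_right hp.out.pos (by omega)

/-- `N(E)` is minimal above `E`: a tower for `N(E)` gives a tower for `E`. -/
lemma Tower.of_T (hP : IsPGroup p P) (hE : Soft p E) (h : Tower p (normalizer (E : Set P))) :
    Tower p E := by
  constructor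
  · intro K L hK hL
    by_cases h1 : E = K
    · left; rw [← h1]; exact hL
    by_cases h2 : E = L
    · right; rw [← h2]; exact hK
    exact h.chain K L (hE.T_le_of_lt hP (lt_of_le_of_ne hK h1)) (hE.T_le_of_lt hP (lt_of_le_of_ne hL h2))
  · intro K hK hne
    by_cases h1 : E = K
    · rw [← h1]; exact hE.norm
    exact h.step K (hE.T_le_of_lt hP (lt_of_le_of_ne hK h1)) hne

/-- A tower when `N(N(E)) = P`. -/
lemma Tower.of_top (hP : IsPGroup p P) (hE : Soft p E)
    (h : normalizer ((normalizer (E : Set P) : Subgroup P) : Set P) = ⊤) :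
    Tower p (normalizer (E : Set P)) := by
  set T := normalizer (E : Set P) with hTdef
  have h1 := hE.norm_T hP
  rw [← hTdef, h, relIndex_top_right] at h1
  have hmax : ∀ K : Subgroup P, T ≤ K → K = T ∨ K = ⊤ := by
    intro K hK
    have h2 := relIndex_mul_index hK
    rw [h1] at h2
    have h3 : K.index ∣ p := ⟨_, (by rw [mul_comm]; exact h2.symm)⟩
    rcases (Nat.dvd_prime hp.out).mp h3 with h4 | h4
    · right; exact index_eq_one.mp h4
    · left
      rw [h4] at h2
      have h5 : T.relIndex K = 1 := by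
        have := hp.out.pos
        nlinarith
      exact le_antisymm (relIndex_eq_one.mp h5) hK
  constructor
  · intro K L hK hL
    rcases hmax K hK with rfl | rfl
    · left; exact hL
    · rcases hmax L hL with rfl | rfl
      · right; exact hK
      · left; exact le_rfl
  · intro K hK hne
    rcases hmax K hK with rfl | rfl
    · rw [h]; rw [relIndex_top_right]; exact h1
    · exact absurd rfl hne

end quotient

/-- A central subgroup of order `p` in `E`. -/
lemma Soft.exists_central {P : Type u} [Group P] [Finite P] {p : ℕ} [hp : Fact p.Prime] {E : Subgroup P}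
    (hP : IsPGroup p P) (hE : Soft p E) :
    ∃ Y : Subgroup P, Y.Normal ∧ Y ≤ center P ∧ Y ≤ E ∧ Nat.card Y = p := by
  haveI : Nontrivial P := by
    by_contra hcon
    rw [not_nontrivial_iff_subsingleton] at hcon
    have h2 := hE.idx
    have : E.index = 1 := by
      rw [index_eq_one]
      ext x
      simp [Subsingleton.elim x 1, E.one_mem]
    rw [this] at h2
    have := hp.out.two_le
    nlinarith
  obtain ⟨z, hz, hzo⟩ := Cfsg.Agent.Lib.PGroup.CyclicMax2.exists_central_order_p hP
  refine ⟨zpowers z, ?_, ?_, ?_, by rw [Nat.card_zpowers, hzo]⟩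
  · constructor
    intro n hn g
    have : g * n * g⁻¹ = n := by
      have hnc : n ∈ center P := (zpowers_le.mpr hz) hn
      rw [(mem_center_iff.mp hnc g)]
      group
    rw [this]; exact hn
  · exact zpowers_le.mpr hz
  · exact zpowers_le.mpr (hE.center_le hz)

/-- The main structure theorem: chain and index `p` steps. -/
theorem tower_of_soft {p : ℕ} [hp : Fact p.Prime] (n : ℕ) :
    ∀ (P : Type u) [Group P] [Finite P] (E : Subgroup P), IsPGroup p P → Soft p E → Nat.card P = n →
      Tower p E := by
  induction n using Nat.strong_induction_on with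
  | _ n ih =>
    intro P _ _ E hP hE hn
    obtain ⟨Y, hYn, hYc, hYE, hYcard⟩ := hE.exists_central hP
    haveI := hYn
    have hcardq : Nat.card (P ⧸ Y) < n := by
      have h1 := Y.card_mul_index
      rw [index_eq_card, hYcard, hn] at h1
      rw [← h1]
      have hpos : 0 < Nat.card (P ⧸ Y) := Nat.card_pos
      have := hp.out.two_le
      nlinarith
    have hPq : IsPGroup p (P ⧸ Y) := IsPGroup.to_quotient hP Y
    by_cases hT : ⁅normalizer (E : Set P), normalizer (E : Set P)⁆ ≤ Y
    · apply Tower.of_T hP hE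
      by_cases hT2 : normalizer ((normalizer (E : Set P) : Subgroup P) : Set P) = ⊤
      · exact Tower.of_top hP hE hT2
      · exact Tower.lift Y (hYE.trans le_normalizer)
          (ih _ hcardq _ _ hPq (hE.descent_two Y hP hYE hT hT2) rfl)
    · exact Tower.lift Y hYE (ih _ hcardq _ _ hPq (hE.descent_one Y hYE hT) rfl)

section upper

variable {P : Type u} [Group P] [Finite P] {p : ℕ} [hp : Fact p.Prime] {E : Subgroup P}

/-- A subgroup of `E` normalized by `N(K)` is centralized by `K`. -/
lemma central_of_norm (hP : IsPGroup p P) (hE : Soft p E) {K : Subgroup P} (hEK : E ≤ K) (hK : K ≠ ⊤)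
    {V : Subgroup P} (hVE : V ≤ E)
    (hVN : ∀ g ∈ normalizer (K : Set P), ∀ v ∈ V, g * v * g⁻¹ ∈ V) :
    ∀ v ∈ V, ∀ k ∈ K, k * v = v * k := by
  have hT := tower_of_soft (p := p) _ P E hP hE rfl
  set C := centralizer (V : Set P) with hC
  have hEC : E ≤ C := by
    intro e he
    rw [hC, mem_centralizer_iff]
    intro v hv
    exact hE.ab v (hVE hv) e he
  have hKC : K ≤ C := by
    rcases hT.chain K C hEK hEC with h | h
    · exact h
    · by_contra hcon
      have hCK : C < K := lt_of_le_not_ge h hcon
      have hCtop : C ≠ ⊤ := fun h2 => hcon (by rw [h2]; exact le_top)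
      have hs := hT.step C hEC hCtop
      have hNN : normalizer (K : Set P) ≤ normalizer (C : Set P) := by
        intro g hg
        apply Cfsg.Agent.Lib.PGroup.MaximalClass.mem_normalizer_of_conj_mem
        intro c hc
        rw [hC, mem_centralizer_iff]
        intro v hv
        have h1 := hVN g⁻¹ (inv_mem hg) v hv
        rw [inv_inv] at h1
        have h2 := (mem_centralizer_iff.mp hc) _ h1
        calc v * (g * c * g⁻¹) = g * ((g⁻¹ * v * g) * c) * g⁻¹ := by group
          _ = g * (c * (g⁻¹ * v * g)) * g⁻¹ := by rw [h2]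
          _ = _ := by group
      have hKlt : K < normalizer (K : Set P) := by
        have hlt : K < ⊤ := lt_top_iff_ne_top.mpr hK
        obtain ⟨g, -, hgK, hgN⟩ := Cfsg.Agent.Lib.PGroup.Basic.exists_mem_normalizer_of_lt
          (hP.to_subgroup ⊤) hlt
        exact lt_of_le_of_ne le_normalizer (fun h3 => hgK (by rw [h3]; exact hgN))
      have hKN : K ≤ normalizer (C : Set P) := hKlt.le.trans hNN
      have hm := relIndex_mul_relIndex C K (normalizer (C : Set P)) hCK.le hKN
      rw [hs] at hm
      have h4 : C.relIndex K ∣ p := ⟨_, hm.symm⟩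
      rcases (Nat.dvd_prime hp.out).mp h4 with h5 | h5
      · exact hcon (relIndex_eq_one.mp h5)
      · rw [h5] at hm
        have h6 : K.relIndex (normalizer (C : Set P)) = 1 := by
          have := hp.out.pos
          nlinarith
        rw [relIndex_eq_one] at h6
        exact absurd (hNN.trans h6) (not_le_of_gt hKlt)
  intro v hv k hk
  exact (mem_centralizer_iff.mp (hKC hk)) v hv |>.symm

lemma lcs_conj_mem (K : Subgroup P) (i : ℕ) {g : P} (hg : g ∈ normalizer (K : Set P)) {v : P}
    (hv : v ∈ K.lowerCentralSeries i) : g * v * g⁻¹ ∈ K.lowerCentralSeries i := by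
  have hKg : K.map (MulAut.conj g).toMonoidHom = K := by
    ext x
    rw [mem_map_conj]
    have := mem_normalizer_iff.mp hg (g⁻¹ * x * g)
    have e : g * (g⁻¹ * x * g) * g⁻¹ = x := by group
    rw [e] at this
    exact this
  have h1 := map_lowerCentralSeries K (MulAut.conj g).toMonoidHom i
  rw [hKg] at h1
  rw [← h1]
  exact ⟨v, hv, by simp [MulAut.conj_apply]⟩

theorem upper_of_soft {p : ℕ} [hp : Fact p.Prime] (n : ℕ) :
    ∀ (P : Type u) [Group P] [Finite P] (E : Subgroup P), IsPGroup p P → Soft p E → Nat.card P = n →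
      ∀ (K : Subgroup P) (i : ℕ), E ≤ K → K ≠ ⊤ → 1 ≤ i → K.index * p ^ i = E.index →
        K.lowerCentralSeries (i + 1) = ⊥ := by
  induction n using Nat.strong_induction_on with
  | _ n ih =>
    intro P _ _ E hP hE hn K i hEK hK hi hidx
    have hpp := hp.out
    obtain ⟨Y, hYn, hYc, hYE, hYcard⟩ := hE.exists_central hP
    haveI := hYn
    have hcardq : Nat.card (P ⧸ Y) < n := by
      have h1 := Y.card_mul_index
      rw [index_eq_card, hYcard, hn] at h1
      rw [← h1]
      have hpos : 0 < Nat.card (P ⧸ Y) := Nat.card_pos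
      have := hpp.two_le
      nlinarith
    have hPq : IsPGroup p (P ⧸ Y) := IsPGroup.to_quotient hP Y
    have hYK : Y ≤ K := hYE.trans hEK
    set π := QuotientGroup.mk' Y with hπ
    have hYcomm : ∀ y ∈ Y, ∀ g : P, g * y = y * g := fun y hy g => mem_center_iff.mp (hYc hy) g
    by_cases hT : ⁅normalizer (E : Set P), normalizer (E : Set P)⁆ ≤ Y
    · -- Case II
      set T := normalizer (E : Set P) with hTdef
      have hne : E ≠ K := by
        rintro rfl
        have : p ^ i = 1 := by
          have hpos : 0 < E.index := Nat.pos_of_ne_zero index_ne_zero_of_finite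
          nlinarith
        have h2 : 1 < p ^ i := Nat.one_lt_pow (by omega) hpp.one_lt
        omega
      have hTK : T ≤ K := hE.T_le_of_lt hP (lt_of_le_of_ne hEK hne)
      have hEidx : E.index = p * T.index := by
        have := relIndex_mul_index (le_normalizer : E ≤ normalizer (E : Set P))
        rw [hE.norm] at this
        exact this.symm
      obtain ⟨j, rfl⟩ : ∃ j, i = j + 1 := ⟨i - 1, by omega⟩
      have hidx2 : K.index * p ^ j = T.index := by
        have hp0 := hpp.pos
        apply Nat.eq_of_mul_eq_mul_left hp0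
        rw [← hEidx, ← hidx, pow_succ]; ring
      rcases Nat.eq_zero_or_pos j with rfl | hj
      · -- `K = N(E)`
        have hKT : K = T := by
          simp only [pow_zero, mul_one] at hidx2
          have h2 := relIndex_mul_index hTK
          rw [hidx2] at h2
          have hpos : 0 < T.index := Nat.pos_of_ne_zero index_ne_zero_of_finite
          have h3 : T.relIndex K = 1 := by
            have : T.relIndex K * T.index = 1 * T.index := by rw [h2, one_mul]
            exact Nat.eq_of_mul_eq_mul_right hpos this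
          exact le_antisymm (relIndex_eq_one.mp h3) hTK
        rw [hKT]
        change ⁅⁅T, T⁆, T⁆ = ⊥
        rw [commutator_eq_bot_iff_le_centralizer]
        intro z hz
        rw [mem_centralizer_iff]
        intro g _
        exact hYcomm z (hT hz) g
      · -- `K` is above `N(N(E))`
        have hTow := tower_of_soft (p := p) _ P E hP hE rfl
        have hT2 : normalizer ((T : Subgroup P) : Set P) ≠ ⊤ := by
          intro htop
          have hTne : T ≠ K := by
            rintro rfl
            have h3 : 1 < p ^ j := Nat.one_lt_pow (by omega) hpp.one_lt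
            have hpos : 0 < T.index := Nat.pos_of_ne_zero index_ne_zero_of_finite
            nlinarith
          have h1 := hE.norm_T hP
          rw [← hTdef, htop, relIndex_top_right] at h1
          have h2 := relIndex_mul_index hTK
          rw [h1] at h2
          have h3 : K.index ∣ p := ⟨_, (by rw [mul_comm]; exact h2.symm)⟩
          rcases (Nat.dvd_prime hpp).mp h3 with h4 | h4
          · exact hK (index_eq_one.mp h4)
          · rw [h4] at h2
            have h5 : T.relIndex K = 1 := by
              have := hpp.pos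
              nlinarith
            exact hTne (le_antisymm hTK (relIndex_eq_one.mp h5))
        have hsoft := hE.descent_two Y hP hYE hT hT2
        have hTY : Y ≤ T := hYE.trans le_normalizer
        have hbot := ih _ hcardq _ _ hPq hsoft rfl (K.map π) j (map_mono hTK) (map_ne_top_pi Y hYK hK) hj
          (by rw [index_map_pi Y hYK, index_map_pi Y hTY]; exact hidx2)
        rw [← map_lowerCentralSeries] at hbot
        have hle : K.lowerCentralSeries (j + 1) ≤ Y := by
          rw [Subgroup.map_eq_bot_iff] at hbot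
          rw [hπ, ker_pi] at hbot
          exact hbot
        rw [Subgroup.lowerCentralSeries_succ, commutator_eq_bot_iff_le_centralizer]
        intro z hz
        rw [mem_centralizer_iff]
        intro g _
        exact hYcomm z (hle hz) g
    · -- Case I
      have hsoft := hE.descent_one Y hYE hT
      have hbot := ih _ hcardq _ _ hPq hsoft rfl (K.map π) i (map_mono hEK) (map_ne_top_pi Y hYK hK) hi
        (by rw [index_map_pi Y hYK, index_map_pi Y hYE]; exact hidx)
      have hVE : K.lowerCentralSeries i ≤ E := by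
        intro v hv
        have h1 : π v ∈ (K.map π).lowerCentralSeries i := by
          rw [← map_lowerCentralSeries]; exact ⟨v, hv, rfl⟩
        have h2 : π v ∈ centralizer ((E.map π : Subgroup (P ⧸ Y)) : Set (P ⧸ Y)) := by
          rw [mem_centralizer_iff]
          rintro _ ⟨e, he, rfl⟩
          rw [Subgroup.lowerCentralSeries_succ, commutator_eq_bot_iff_le_centralizer] at hbot
          have h3 := (mem_centralizer_iff.mp (hbot h1)) (π e) ⟨e, hEK he, rfl⟩
          exact h3
        obtain ⟨z, hz, hzv⟩ := hsoft.cent h2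
        have h4 : z⁻¹ * v ∈ Y := by
          rw [← QuotientGroup.eq_one_iff]
          have : ((z⁻¹ * v : P) : P ⧸ Y) = (π z)⁻¹ * π v := rfl
          rw [this, ← hzv, inv_mul_cancel]
        have : v = z * (z⁻¹ * v) := by group
        rw [this]
        exact E.mul_mem hz (hYE h4)
      have hcen := central_of_norm hP hE hEK hK hVE (fun g hg v hv => lcs_conj_mem K i hg hv)
      rw [Subgroup.lowerCentralSeries_succ, commutator_eq_bot_iff_le_centralizer]
      intro z hz
      rw [mem_centralizer_iff]
      intro g hg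
      exact hcen z hz g hg

/-- The lower bound on the class. -/
lemma card_le_of_ucs (hP : IsPGroup p P) (hE : Soft p E) {K : Subgroup P} (hEK : E ≤ K) (hK : K ≠ ⊤)
    [Group.IsNilpotent ↥K] (j : ℕ) :
    Nat.card ↥(((Subgroup.upperCentralSeries ↥K (j + 1)).map K.subtype) ⊔ E) ≤ Nat.card E * p ^ j := by
  have hTow := tower_of_soft (p := p) _ P E hP hE rfl
  induction j with
  | zero =>
    rw [pow_zero, mul_one]
    apply Subgroup.card_le_of_le
    refine sup_le ?_ le_rfl
    rintro _ ⟨z, hz, rfl⟩
    apply hE.cent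
    rw [mem_centralizer_iff]
    intro a ha
    have h1 : z ∈ center ↥K := by
      rw [← Subgroup.upperCentralSeries_one]; exact hz
    have := (mem_center_iff.mp h1) ⟨a, hEK ha⟩
    exact congrArg Subtype.val this
  | succ j ih =>
    set D := ((Subgroup.upperCentralSeries ↥K (j + 1)).map K.subtype) ⊔ E with hD
    have hDK : D ≤ K := by
      refine sup_le ?_ hEK
      rintro _ ⟨z, -, rfl⟩
      exact z.2
    have hDne : D ≠ ⊤ := by
      intro h
      rw [h, top_le_iff] at hDK
      exact hK hDK
    have hED : E ≤ D := le_sup_right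
    have hstep := hTow.step D hED hDne
    have hle : ((Subgroup.upperCentralSeries ↥K (j + 1 + 1)).map K.subtype) ⊔ E ≤ normalizer (D : Set P) := by
      refine sup_le ?_ (hED.trans le_normalizer)
      rintro _ ⟨z, hz, rfl⟩
      apply Cfsg.Agent.Lib.PGroup.MaximalClass.mem_normalizer_of_conj_mem
      intro d hd
      have h1 := Subgroup.mem_upperCentralSeries_succ_iff.mp hz ⟨d, hDK hd⟩
      have h2 : ((⁅z, ⟨d, hDK hd⟩⁆ : ↥K) : P) ∈ D := by
        apply Subgroup.mem_sup_left
        exact ⟨_, h1, rfl⟩
      have e : K.subtype z * d * (K.subtype z)⁻¹ = ((⁅z, ⟨d, hDK hd⟩⁆ : ↥K) : P) * d := by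
        simp [commutatorElement_def]
      rw [e]
      exact D.mul_mem h2 hd
    have h1 := Cfsg.Agent.Lib.PGroup.Critical.card_eq_mul_relIndex (le_normalizer : D ≤ normalizer (D : Set P))
    rw [hstep] at h1
    calc _ ≤ Nat.card ↥(normalizer (D : Set P)) := Subgroup.card_le_of_le hle
      _ = Nat.card D * p := h1
      _ ≤ Nat.card E * p ^ j * p := Nat.mul_le_mul_right _ ih
      _ = _ := by rw [pow_succ]; ring

end upper

end Cfsg.Agent.Lib.PGroup.Soft
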