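import Cfsg.Agent.Lib.PGroup.OffPair
import Cfsg.Prelude.Def_PLocal
import Mathlib

/-!
# The conjugation representation on an elementary abelian normalized subgroup

Bridge between `V P : Subgroup G` with `P ≤ N(V)`, `V` elementary abelian, and the representation of `↥P` on the
`𝔽_p`-module `VMod p V hV`, a copy of `↥V` written additively.
-/

set_option autoImplicit false
set_option linter.unusedSectionVars false

namespace Cfsg.Agent.Lib.PGroup.VRep

open Cfsg.Agent.Lib.PGroup.OffPair

variable {G : Type*} [Group G] {p : ℕ} [hp : Fact p.Prime] {V P : Subgroup G}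

/-- The additive copy of an elementary abelian subgroup. -/
def VMod (p : ℕ) (V : Subgroup G) (_ : Cfsg.IsElementaryAbelian p V) : Type _ := ↥V

namespace VMod

variable {hV : Cfsg.IsElementaryAbelian p V}

/-- The group element. -/
def val (w : VMod p V hV) : G := (show ↥V from w).1

theorem mem (w : VMod p V hV) : val w ∈ V := (show ↥V from w).2

/-- From the group. -/
def mk (hV : Cfsg.IsElementaryAbelian p V) (v : G) (hv : v ∈ V) : VMod p V hV := (⟨v, hv⟩ : ↥V)

@[simp] theorem val_mk (v : G) (hv : v ∈ V) : val (mk hV v hv) = v := rfl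

theorem ext' {u v : VMod p V hV} (h : val u = val v) : u = v := Subtype.ext h

instance : Zero (VMod p V hV) := ⟨mk hV 1 V.one_mem⟩
instance : Add (VMod p V hV) := ⟨fun u v => mk hV (val u * val v) (V.mul_mem u.mem v.mem)⟩
instance : Neg (VMod p V hV) := ⟨fun u => mk hV (val u)⁻¹ (V.inv_mem u.mem)⟩

instance : AddCommGroup (VMod p V hV) where
  add_assoc u v w := ext' (mul_assoc (val u) (val v) (val w))
  zero_add u := ext' (one_mul (val u))
  add_zero u := ext' (mul_one (val u))
  nsmul := nsmulRec
  zsmul := zsmulRec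
  neg_add_cancel u := ext' (inv_mul_cancel (val u))
  add_comm u v := by
    apply ext'
    have := hV.1.is_comm.comm (⟨val u, u.mem⟩ : V) ⟨val v, v.mem⟩
    exact congrArg Subtype.val this

@[simp] theorem val_add (u v : VMod p V hV) : val (u + v) = val u * val v := rfl
@[simp] theorem val_zero : val (0 : VMod p V hV) = 1 := rfl
@[simp] theorem val_neg (u : VMod p V hV) : val (-u) = (val u)⁻¹ := rfl
@[simp] theorem val_sub (u v : VMod p V hV) : val (u - v) = val u * (val v)⁻¹ := by
  rw [sub_eq_add_neg, val_add, val_neg]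

theorem val_nsmul (u : VMod p V hV) (k : ℕ) : val (k • u) = val u ^ k := by
  induction k with
  | zero => simp
  | succ k ih =>
    rw [succ_nsmul, val_add, ih, pow_succ]

theorem val_mul_comm (u v : VMod p V hV) : val u * val v = val v * val u := by
  rw [← val_add, add_comm, val_add]

instance : Module (ZMod p) (VMod p V hV) :=
  AddCommGroup.zmodModule (fun x => by
    apply ext'
    rw [val_nsmul, val_zero]
    exact hV.2 _ x.mem)

instance [Finite G] : Finite (VMod p V hV) := inferInstanceAs (Finite ↥V)

theorem card_eq : Nat.card (VMod p V hV) = Nat.card V := rfl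

end VMod

open VMod

variable {hV : Cfsg.IsElementaryAbelian p V}

/-- The conjugation action, additive. -/
def conjAdd (hV : Cfsg.IsElementaryAbelian p V) (hPV : P ≤ Subgroup.normalizer (V : Set G)) (g : ↥P) :
    VMod p V hV →+ VMod p V hV where
  toFun w := mk hV ((g : G) * val w * (g : G)⁻¹)
    ((Subgroup.mem_normalizer_iff.1 (hPV g.2) _).1 w.mem)
  map_zero' := by
    apply ext'
    simp
  map_add' u v := by
    apply ext'
    simp only [val_mk, val_add]
    group

/-- The conjugation representation. -/
def vRep (hV : Cfsg.IsElementaryAbelian p V) (hPV : P ≤ Subgroup.normalizer (V : Set G)) :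
    Representation (ZMod p) ↥P (VMod p V hV) where
  toFun g := (conjAdd hV hPV g).toZModLinearMap p
  map_one' := by
    apply LinearMap.ext
    intro w
    apply ext'
    show ((1 : ↥P) : G) * val w * ((1 : ↥P) : G)⁻¹ = val w
    simp
  map_mul' g h := by
    apply LinearMap.ext
    intro w
    apply ext'
    show ((g * h : ↥P) : G) * val w * ((g * h : ↥P) : G)⁻¹ = (g : G) * ((h : G) * val w * (h : G)⁻¹) * (g : G)⁻¹
    simp only [Subgroup.coe_mul]
    group

variable (hPV : P ≤ Subgroup.normalizer (V : Set G))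

@[simp] theorem val_vRep (g : ↥P) (w : VMod p V hV) :
    val (vRep hV hPV g w) = (g : G) * val w * (g : G)⁻¹ := rfl

theorem mem_fx_iff (D : Subgroup ↥P) (w : VMod p V hV) :
    w ∈ fx (vRep hV hPV) D ↔ val w ∈ V ⊓ Subgroup.centralizer ((D.map P.subtype : Subgroup G) : Set G) := by
  constructor
  · intro h
    refine ⟨w.mem, Subgroup.mem_centralizer_iff.2 ?_⟩
    rintro _ ⟨d, hd, rfl⟩
    have h2 : (d : G) * val w * (d : G)⁻¹ = val w := congrArg val (h d hd)
    exact mul_inv_eq_iff_eq_mul.1 h2
  · rintro ⟨_, h⟩ d hd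
    apply ext'
    have h1 := Subgroup.mem_centralizer_iff.1 h (d : G) ⟨d, hd, rfl⟩
    show (d : G) * val w * (d : G)⁻¹ = val w
    rw [h1]
    group

theorem card_fx (D : Subgroup ↥P) :
    Nat.card (fx (vRep hV hPV) D) =
      Nat.card ↥(V ⊓ Subgroup.centralizer ((D.map P.subtype : Subgroup G) : Set G)) := by
  refine Nat.card_congr ⟨fun w => ⟨val w.1, (mem_fx_iff hPV D w.1).1 w.2⟩,
    fun v => ⟨mk hV v.1 v.2.1, (mem_fx_iff hPV D _).2 v.2⟩, fun w => ?_, fun v => ?_⟩
  · apply Subtype.ext
    rfl
  · apply Subtype.ext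
    rfl

theorem vRep_injective (hfaith : P ⊓ Subgroup.centralizer (V : Set G) = ⊥) :
    Function.Injective (vRep hV hPV) := by
  rw [injective_iff_map_eq_one]
  intro g hg
  have h1 : (g : G) ∈ P ⊓ Subgroup.centralizer (V : Set G) := by
    refine ⟨g.2, Subgroup.mem_centralizer_iff.2 ?_⟩
    intro v hv
    have h2 := congrArg (fun f : Module.End (ZMod p) (VMod p V hV) => f (mk hV v hv)) hg
    have h3 : (g : G) * v * (g : G)⁻¹ = v := congrArg val h2
    exact (mul_inv_eq_iff_eq_mul.1 h3).symm
  rw [hfaith] at h1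
  exact Subtype.ext h1

end Cfsg.Agent.Lib.PGroup.VRep
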