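import Mathlib
import Cfsg.Prelude.Def_Solvable
import Cfsg.Agent.Lib.PGroup.ZStarCor
import Cfsg.Agent.Lib.Basic.SylowUtil

/-!
# `2`-automorphisms centralizing an abelian Sylow `2`-subgroup are inner (conditional on `Z*`)
-/

set_option autoImplicit false

namespace Cfsg.Agent.Lib.PGroup.ZStarAut

universe u

open Subgroup
open Cfsg.Agent.Lib.PGroup.ZStarCor

/-- Product over an orbit of odd length: a fixed point congruent to an odd power of `a`. -/
theorem exists_invariant_prod_aux {A K : Type*} [CommGroup A] [Finite A] [Group K] [Finite K]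
    (σ : K →* MulAut A) (B : Subgroup A) (a : A) (hB : ∀ k : K, σ k a * a⁻¹ ∈ B) (L : Subgroup K)
    (hL : ∀ k ∈ L, σ k a = a) (hodd : ¬ 2 ∣ L.index) :
    ∃ τ : A, (∀ k, σ k τ = τ) ∧ ∃ m : ℕ, Odd m ∧ τ * (a ^ m)⁻¹ ∈ B := by
  classical
  letI : MulAction K A := MulAction.compHom A σ
  have hsmul : ∀ (k : K) (x : A), k • x = σ k x := fun _ _ => rfl
  let X : Finset A := (Set.toFinite (MulAction.orbit K a)).toFinset
  have hX : ∀ x : A, x ∈ X ↔ ∃ k : K, σ k a = x := by
    intro x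
    simp only [X, Set.Finite.mem_toFinset, MulAction.mem_orbit_iff, hsmul]
  refine ⟨∏ x ∈ X, x, ?_, X.card, ?_, ?_⟩
  · intro k
    rw [map_prod]
    refine Finset.prod_equiv (σ k).toEquiv ?_ (fun _ _ => rfl)
    intro x
    rw [hX, hX]
    constructor
    · rintro ⟨k', rfl⟩
      refine ⟨k * k', ?_⟩
      simp [map_mul]
    · rintro ⟨k', hk'⟩
      refine ⟨k⁻¹ * k', ?_⟩
      have h1 : σ k x = σ k' a := hk'.symm
      rw [map_mul, MulAut.mul_apply, ← h1, map_inv]
      simp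
  · have h1 : (MulAction.stabilizer K a).index = X.card := by
      rw [MulAction.index_stabilizer, Set.ncard_eq_toFinset_card _ (Set.toFinite _)]
    have h2 : L ≤ MulAction.stabilizer K a := fun k hk => hL k hk
    have h3 : X.card ∣ L.index := h1 ▸ Subgroup.index_dvd_of_le h2
    rw [← Nat.not_even_iff_odd, even_iff_two_dvd]
    exact fun h4 => hodd (h4.trans h3)
  · let q : A →* A ⧸ B := QuotientGroup.mk' B
    have hq : ∀ x : A, q x = 1 ↔ x ∈ B := fun x => QuotientGroup.eq_one_iff x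
    rw [← hq, map_mul, map_inv, map_pow, map_prod]
    have h1 : ∏ x ∈ X, q x = ∏ _x ∈ X, q a := by
      refine Finset.prod_congr rfl ?_
      intro x hx
      obtain ⟨k, rfl⟩ := (hX x).mp hx
      have h2 := (hq _).mpr (hB k)
      rw [map_mul, map_inv] at h2
      exact eq_of_mul_inv_eq_one h2
    rw [h1, Finset.prod_const]
    group

/-- Abstract form: `Γ = I ⟨α⟩`, `C_Γ(I) = 1`, `O(I) = 1`, `I` has an abelian Sylow `2`-subgroup
centralized by the `2`-element `α`.  Then `α ∈ I`. -/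
theorem mem_range_of_centralizes (hZ : ZStarProp.{u}) {G Γ : Type u} [Group G] [Finite G] [Group Γ] [Finite Γ]
    (ι : G →* Γ) (hι : Function.Injective ι) (hn : ι.range.Normal)
    (hcent : centralizer (ι.range : Set Γ) = ⊥) (hcore : Cfsg.pPrimeCore 2 G = ⊥) (P : Sylow 2 G)
    (hab : IsMulCommutative (P : Subgroup G)) {α : Γ} {j : ℕ} (hα : orderOf α = 2 ^ j)
    (hαc : ∀ x ∈ (P : Subgroup G), α * ι x = ι x * α) (hgen : zpowers α ⊔ ι.range = ⊤) :
    α ∈ ι.range := by
  classical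
  set I := ι.range with hI
  set Q : Subgroup Γ := (P : Subgroup G).map ι with hQ
  have hQI : Q ≤ I := fun y ⟨x, _, hx⟩ => ⟨x, hx⟩
  have hQ2 : IsPGroup 2 Q := P.isPGroup'.map ι
  have hαQ : α ∈ centralizer (Q : Set Γ) := by
    rw [Subgroup.mem_centralizer_iff]
    rintro _ ⟨x, hx, rfl⟩
    exact (hαc x hx).symm
  have hzC : zpowers α ≤ centralizer (Q : Set Γ) := zpowers_le.mpr hαQ
  have hzN : zpowers α ≤ normalizer (Q : Set Γ) := by
    intro y hy
    rw [Subgroup.mem_normalizer_iff]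
    intro n
    have hc := fun m (hm : m ∈ Q) => (Subgroup.mem_centralizer_iff.mp (hzC hy)) m hm
    constructor
    · intro hn'
      have : y * n * y⁻¹ = n := by
        rw [← hc n hn']
        group
      rw [this]
      exact hn'
    · intro hn'
      have h1 := hc _ hn'
      have h2 : n = y * n * y⁻¹ := by
        have h3 : y * (y * n * y⁻¹) = (y * n * y⁻¹) * y := h1.symm ▸ rfl
        have h4 : y * (y * n * y⁻¹) = y * (y * n) * y⁻¹ := by group
        have h5 : (y * n * y⁻¹) * y = y * n := by group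
        rw [h4, h5] at h3
        have h6 : y * n * y⁻¹ = n := by
          have := mul_left_cancel (a := y) (b := y * n * y⁻¹) (c := n) (by
            calc y * (y * n * y⁻¹) = y * (y * n) * y⁻¹ := by group
              _ = y * n := h3)
          exact this
        exact h6.symm
      rw [h2]
      exact hn'
  have hz2 : IsPGroup 2 (zpowers α) := by
    rw [IsPGroup.iff_card]
    exact ⟨j, by rw [Nat.card_zpowers, hα]⟩
  have hS0 : IsPGroup 2 (zpowers α ⊔ Q : Subgroup Γ) := hz2.to_sup_of_normal_right' hQ2 hzN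
  obtain ⟨S, hS⟩ := hS0.exists_le_sylow
  have hαS : α ∈ S := hS (le_sup_left (a := zpowers α) (b := Q) (mem_zpowers α))
  have hQS : Q ≤ S := le_sup_right.trans hS
  have hzS : zpowers α ≤ S := le_sup_left.trans hS
  -- `S ∩ I = Q`
  have hSI : ∀ g : G, ι g ∈ S → ι g ∈ Q := by
    intro g hg
    have h1 : IsPGroup 2 ((S : Subgroup Γ).comap ι) := S.isPGroup'.comap_of_injective ι hι
    have h2 : (P : Subgroup G) ≤ (S : Subgroup Γ).comap ι := fun x hx => hQS ⟨x, hx, rfl⟩
    have h3 := P.is_maximal' h1 h2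
    have h4 : g ∈ (S : Subgroup Γ).comap ι := hg
    rw [h3] at h4
    exact ⟨g, h4, rfl⟩
  have hIn : zpowers α ≤ normalizer (I : Set Γ) := fun y _ => by
    rw [Subgroup.mem_normalizer_iff]
    intro n
    exact (hn.mem_comm_iff (a := y * n) (b := y⁻¹) |>.trans (by simp)).symm
  have hdec : ∀ x : Γ, ∃ b ∈ zpowers α, ∃ i ∈ I, x = b * i := by
    intro x
    have hx : x ∈ zpowers α ⊔ I := hgen ▸ Subgroup.mem_top x
    exact Cfsg.Agent.Lib.Fusion.GroupSylow.exists_mul_of_mem_sup hIn hx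
  -- decomposition of elements of `S`
  have hSdec : ∀ s ∈ S, ∃ b ∈ zpowers α, ∃ i ∈ Q, s = b * i := by
    intro s hs
    obtain ⟨b, hb, i, hi, rfl⟩ := hdec s
    refine ⟨b, hb, i, ?_, rfl⟩
    obtain ⟨g, rfl⟩ := hi
    apply hSI
    have h1 : b⁻¹ * (b * ι g) ∈ S := S.mul_mem (S.inv_mem (hzS hb)) hs
    simpa using h1
  -- `S` is abelian
  have hSab : ∀ x ∈ S, ∀ y ∈ S, x * y = y * x := by
    intro x hx y hy
    obtain ⟨b₁, hb₁, i₁, hi₁, rfl⟩ := hSdec x hx
    obtain ⟨b₂, hb₂, i₂, hi₂, rfl⟩ := hSdec y hy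
    have h1 : b₁ * b₂ = b₂ * b₁ := by
      obtain ⟨k₁, rfl⟩ := mem_zpowers_iff.mp hb₁
      obtain ⟨k₂, rfl⟩ := mem_zpowers_iff.mp hb₂
      exact (Commute.refl α).zpow_zpow k₁ k₂
    have h2 : i₁ * b₂ = b₂ * i₁ := (Subgroup.mem_centralizer_iff.mp (hzC hb₂)) i₁ hi₁
    have h3 : b₁ * i₂ = i₂ * b₁ := ((Subgroup.mem_centralizer_iff.mp (hzC hb₁)) i₂ hi₂).symm
    have h4 : i₁ * i₂ = i₂ * i₁ := by
      obtain ⟨x₁, hx₁, rfl⟩ := hi₁
      obtain ⟨x₂, hx₂, rfl⟩ := hi₂
      have : x₁ * x₂ = x₂ * x₁ := by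
        have := mul_comm' (⟨x₁, hx₁⟩ : (P : Subgroup G)) ⟨x₂, hx₂⟩
        exact congrArg (P : Subgroup G).subtype this
      rw [← map_mul, ← map_mul, this]
    calc b₁ * i₁ * (b₂ * i₂) = b₁ * (i₁ * b₂) * i₂ := by group
      _ = b₁ * (b₂ * i₁) * i₂ := by rw [h2]
      _ = (b₁ * b₂) * (i₁ * i₂) := by group
      _ = (b₂ * b₁) * (i₂ * i₁) := by rw [h1, h4]
      _ = b₂ * (b₁ * i₂) * i₁ := by group
      _ = b₂ * (i₂ * b₁) * i₁ := by rw [h3]
      _ = b₂ * i₂ * (b₁ * i₁) := by group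
  by_contra hαI
  -- the orbit product
  set H : Subgroup Γ := (S : Subgroup Γ) with hH
  let N : Subgroup Γ := normalizer (H : Set Γ)
  have hSN : H ≤ N := Subgroup.le_normalizer
  letI cg : CommGroup H :=
    { (inferInstance : Group H) with mul_comm := fun a b => Subtype.ext (hSab a a.2 b b.2) }
  let σ : N →* MulAut H := H.normalizerMonoidHom
  have hσ : ∀ (k : N) (x : H), ((σ k x : H) : Γ) = (k : Γ) * x * (k : Γ)⁻¹ := fun _ _ => rfl
  let a : H := ⟨α, hαS⟩
  have hkey : ∀ k : Γ, k * α * k⁻¹ * α⁻¹ ∈ I := by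
    intro k
    obtain ⟨b, hb, i, hi, rfl⟩ := hdec k
    have hbα : b * α = α * b := by
      obtain ⟨k₁, rfl⟩ := mem_zpowers_iff.mp hb
      exact ((Commute.refl α).zpow_left k₁)
    have h1 : b * i * α * (b * i)⁻¹ * α⁻¹ = b * (i * (α * i⁻¹ * α⁻¹)) * b⁻¹ := by
      have h2 : b⁻¹ * α⁻¹ = α⁻¹ * b⁻¹ := by
        rw [← mul_inv_rev, ← mul_inv_rev, hbα]
      calc b * i * α * (b * i)⁻¹ * α⁻¹ = b * i * α * i⁻¹ * (b⁻¹ * α⁻¹) := by group
        _ = b * i * α * i⁻¹ * (α⁻¹ * b⁻¹) := by rw [h2]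
        _ = _ := by group
    rw [h1]
    exact hn.conj_mem _ (I.mul_mem hi (hn.conj_mem _ (I.inv_mem hi) α)) b
  have hB : ∀ k : N, σ k a * a⁻¹ ∈ Q.subgroupOf H := by
    intro k
    rw [Subgroup.mem_subgroupOf]
    push_cast
    rw [hσ]
    obtain ⟨g, hg⟩ := hkey k
    have h1 : (k : Γ) * α * (k : Γ)⁻¹ * α⁻¹ ∈ H :=
      H.mul_mem ((Subgroup.mem_normalizer_iff.mp k.2 α).mp hαS) (H.inv_mem hαS)
    rw [← hg] at h1 ⊢
    exact hSI g h1
  have hL : ∀ k ∈ H.subgroupOf N, σ k a = a := by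
    intro k hk
    apply Subtype.ext
    rw [hσ]
    have h1 := hSab k (Subgroup.mem_subgroupOf.mp hk) α hαS
    show (k : Γ) * α * (k : Γ)⁻¹ = α
    rw [h1]
    group
  have hodd : ¬ 2 ∣ (H.subgroupOf N).index := by
    intro h2
    have h3 := Subgroup.relIndex_mul_index hSN
    have h4 : (H.subgroupOf N).index = H.relIndex N := rfl
    exact S.not_dvd_index (h3 ▸ Dvd.dvd.mul_right (h4 ▸ h2) _)
  obtain ⟨τ, hτ, m, hm, hτm⟩ := exists_invariant_prod_aux σ (Q.subgroupOf H) a hB (H.subgroupOf N) hL hodd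
  have hτne : τ ≠ 1 := by
    rintro rfl
    apply hαI
    have h1 : ((a ^ m)⁻¹ : H) ∈ Q.subgroupOf H := by simpa using hτm
    have h2 : α ^ m ∈ Q := by
      have := Subgroup.inv_mem _ h1
      rw [inv_inv, Subgroup.mem_subgroupOf] at this
      exact this
    have hc : m.Coprime (orderOf α) := by
      rw [hα]
      exact Nat.Coprime.pow_right j (Nat.coprime_two_right.mpr hm)
    obtain ⟨e, he⟩ := exists_pow_eq_self_of_coprime hc
    rw [← he]
    exact I.pow_mem (hQI h2) e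
  -- the involution
  obtain ⟨e, he⟩ := (IsPGroup.iff_orderOf.mp S.isPGroup') τ
  have he0 : e ≠ 0 := by
    rintro rfl
    rw [pow_zero, orderOf_eq_one_iff] at he
    exact hτne he
  obtain ⟨e, rfl⟩ := Nat.exists_eq_succ_of_ne_zero he0
  set t : Γ := (τ : Γ) ^ 2 ^ e with ht
  have hτo : orderOf (τ : Γ) = 2 ^ (e + 1) := by
    rw [Subgroup.orderOf_coe]
    exact he
  have hto : orderOf t = 2 := by
    rw [ht, orderOf_pow_of_dvd (by positivity) (by rw [hτo]; exact Dvd.intro _ (pow_succ 2 e).symm), hτo, pow_succ]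
    simp
  have htS : t ∈ S := S.pow_mem τ.2 _
  have hinv : ∀ n ∈ N, n * t * n⁻¹ = t := by
    intro n hn'
    have h1 := hτ ⟨n, hn'⟩
    have h2 : n * (τ : Γ) * n⁻¹ = τ := by
      have := congrArg (Subtype.val) h1
      rwa [hσ] at this
    rw [ht, ← MulAut.conj_apply, map_pow, MulAut.conj_apply, h2]
  have hiso : ∀ g : Γ, g * t * g⁻¹ ∈ S → g * t * g⁻¹ = t := by
    intro g hg
    obtain ⟨n, hnN, hn'⟩ := Cfsg.Agent.Lib.Basic.SylowUtil.burnside_fusion S ({t} : Set Γ) g
      (by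
        rintro x rfl y hy
        exact hSab _ htS y hy)
      (by
        rintro x rfl y hy
        exact hSab _ hg y hy)
    have h1 := hn' t rfl
    rw [← h1]
    exact hinv n hnN
  have hcomm := comm_mem_oddCore hZ S hto htS hiso
  -- `O(Γ) = 1`
  have hO : Cfsg.oddCore Γ = ⊥ := by
    rw [eq_bot_iff]
    intro k hk
    have hkn : (Cfsg.oddCore Γ).Normal := inferInstance
    have h1 : ∀ g : G, ι g ∈ Cfsg.oddCore Γ → g = 1 := by
      intro g hg
      have h2 : ((Cfsg.oddCore Γ).comap ι).Normal := hkn.comap ι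
      have h3 : (Nat.card ((Cfsg.oddCore Γ).comap ι)).Coprime 2 := by
        have h4 : Nat.card ((Cfsg.oddCore Γ).comap ι) ∣ Nat.card (Cfsg.oddCore Γ) := by
          refine Subgroup.card_dvd_of_injective ((ι.comp ((Cfsg.oddCore Γ).comap ι).subtype).codRestrict (Cfsg.oddCore Γ) (fun x => x.2)) ?_
          intro x y hxy
          apply Subtype.ext
          apply hι
          exact congrArg Subtype.val hxy
        exact Nat.Coprime.coprime_dvd_left h4 (Cfsg.Agent.Lib.Solvable.PSeries.pPrimeCore_coprime 2)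
      have h5 := Cfsg.Agent.Lib.Basic.PCore.le_pPrimeCore h2 h3
      rw [hcore] at h5
      exact (Subgroup.mem_bot.mp (h5 hg))
    have h6 : k ∈ centralizer (I : Set Γ) := by
      rw [Subgroup.mem_centralizer_iff]
      rintro _ ⟨g, rfl⟩
      have h7 : k * ι g * k⁻¹ * (ι g)⁻¹ ∈ Cfsg.oddCore Γ := by
        have h70 : k * ι g * k⁻¹ * (ι g)⁻¹ = k * (ι g * k⁻¹ * (ι g)⁻¹) := by group
        rw [h70]
        exact (Cfsg.oddCore Γ).mul_mem hk (hkn.conj_mem _ ((Cfsg.oddCore Γ).inv_mem hk) _)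
      have h8 : k * ι g * k⁻¹ * (ι g)⁻¹ ∈ I :=
        I.mul_mem (hn.conj_mem _ ⟨g, rfl⟩ k) (I.inv_mem ⟨g, rfl⟩)
      obtain ⟨g', hg'⟩ := h8
      rw [← hg'] at h7
      have h9 := h1 g' h7
      rw [h9, map_one] at hg'
      have h10 : k * ι g * k⁻¹ = ι g := (eq_of_mul_inv_eq_one hg'.symm)
      calc ι g * k = (k * ι g * k⁻¹) * k := by rw [h10]
        _ = k * ι g := by group
    rw [hcent] at h6
    exact h6
  rw [hO] at hcomm
  have htc : t ∈ centralizer (I : Set Γ) := by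
    rw [Subgroup.mem_centralizer_iff]
    rintro _ ⟨g, rfl⟩
    have h1 := hcomm (ι g)
    rw [Subgroup.mem_bot] at h1
    have h2 : t * ι g * t⁻¹ = ι g := eq_of_mul_inv_eq_one h1
    calc ι g * t = (t * ι g * t⁻¹) * t := by rw [h2]
      _ = t * ι g := by group
  rw [hcent, Subgroup.mem_bot] at htc
  rw [htc, orderOf_one] at hto
  exact absurd hto (by norm_num)

/-- **A `2`-automorphism centralizing an abelian Sylow `2`-subgroup is inner**, conditional on `Z*`. -/
theorem inner_of_centralizes (hZ : ZStarProp.{u}) {G : Type u} [Group G] [Finite G] (hZ0 : Subgroup.center G = ⊥)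
    (hcore : Cfsg.pPrimeCore 2 G = ⊥) (P : Sylow 2 G) (hab : IsMulCommutative (P : Subgroup G))
    (α : MulAut G) (h2 : ∃ j : ℕ, orderOf α = 2 ^ j) (hfix : ∀ x ∈ (P : Subgroup G), α x = x) :
    ∃ g : G, ∀ x : G, α x = g * x * g⁻¹ := by
  classical
  haveI : Finite (MulAut G) := Finite.of_injective (fun f : MulAut G => (f : G → G)) (fun f g h => MulEquiv.ext (congrFun h))
  obtain ⟨j, hj⟩ := h2
  let ι₀ : G →* MulAut G := MulAut.conj
  have hconj : ∀ (β : MulAut G) (g : G), β * ι₀ g * β⁻¹ = ι₀ (β g) := by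
    intro β g
    ext x
    simp [ι₀, MulAut.conj_apply]
  let M : Subgroup (MulAut G) := zpowers α ⊔ ι₀.range
  let ι : G →* M := ι₀.codRestrict M (fun g => (le_sup_right (a := zpowers α) (b := ι₀.range)) ⟨g, rfl⟩)
  have hι : Function.Injective ι := by
    intro x y hxy
    have h1 : ι₀ x = ι₀ y := congrArg Subtype.val hxy
    have h2 : y⁻¹ * x ∈ Subgroup.center G := by
      rw [Subgroup.mem_center_iff]
      intro g
      have h3 := congrArg (fun f : MulAut G => f g) h1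
      simp only [ι₀, MulAut.conj_apply] at h3
      have h4 : x * g = y * g * y⁻¹ * x := by
        rw [← h3]
        group
      calc g * (y⁻¹ * x) = y⁻¹ * (y * g * y⁻¹ * x) := by group
        _ = y⁻¹ * (x * g) := by rw [h4]
        _ = y⁻¹ * x * g := by group
    rw [hZ0, Subgroup.mem_bot] at h2
    exact (eq_of_inv_mul_eq_one h2).symm ▸ rfl
  have hn : ι.range.Normal := by
    constructor
    rintro _ ⟨g, rfl⟩ a
    refine ⟨(a : MulAut G) g, ?_⟩
    apply Subtype.ext
    exact (hconj a g).symm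
  have hcent : centralizer (ι.range : Set M) = ⊥ := by
    rw [eq_bot_iff]
    intro a ha
    rw [Subgroup.mem_bot]
    apply Subtype.ext
    ext g
    have h1 := (Subgroup.mem_centralizer_iff.mp ha) (ι g) ⟨g, rfl⟩
    have h2 : ι₀ g * (a : MulAut G) = (a : MulAut G) * ι₀ g := congrArg Subtype.val h1
    have h3 : (a : MulAut G) * ι₀ g * (a : MulAut G)⁻¹ = ι₀ g := by
      rw [← h2]
      group
    rw [hconj] at h3
    have h4 : ι₀ ((a : MulAut G) g) = ι₀ g := h3
    have h5 : ι ((a : MulAut G) g) = ι g := Subtype.ext h4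
    have := hι h5
    simpa using this
  let α' : M := ⟨α, (le_sup_left (a := zpowers α) (b := ι₀.range)) (mem_zpowers α)⟩
  have hα' : orderOf α' = 2 ^ j := by
    rw [Subgroup.orderOf_mk, hj]
  have hαc : ∀ x ∈ (P : Subgroup G), α' * ι x = ι x * α' := by
    intro x hx
    apply Subtype.ext
    show α * ι₀ x = ι₀ x * α
    have h1 := hconj α x
    rw [hfix x hx] at h1
    calc α * ι₀ x = (α * ι₀ x * α⁻¹) * α := by group
      _ = ι₀ x * α := by rw [h1]
  have hgen : zpowers α' ⊔ ι.range = ⊤ := by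
    rw [eq_top_iff]
    rintro ⟨y, hy⟩ -
    have hnorm : zpowers α ≤ normalizer (ι₀.range : Set (MulAut G)) := fun β _ => by
      rw [Subgroup.mem_normalizer_iff]
      intro n
      constructor
      · rintro ⟨g, rfl⟩
        exact ⟨β g, (hconj β g).symm⟩
      · rintro ⟨g, hg⟩
        refine ⟨β⁻¹ g, ?_⟩
        have h3 := hconj β⁻¹ g
        rw [hg] at h3
        rw [← h3]
        simp only [inv_inv]
        group
    obtain ⟨a, ha, b, hb, rfl⟩ := Cfsg.Agent.Lib.Fusion.GroupSylow.exists_mul_of_mem_sup hnorm hy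
    obtain ⟨k, rfl⟩ := mem_zpowers_iff.mp ha
    obtain ⟨g, rfl⟩ := hb
    have h4 : (⟨α ^ k * ι₀ g, hy⟩ : M) = α' ^ k * ι g := rfl
    rw [h4]
    exact Subgroup.mul_mem _ (le_sup_left (a := zpowers α') (b := ι.range) (Subgroup.zpow_mem _ (mem_zpowers α') k))
      (le_sup_right (a := zpowers α') (b := ι.range) ⟨g, rfl⟩)
  obtain ⟨g, hg⟩ := mem_range_of_centralizes hZ ι hι hn hcent hcore P hab hα' hαc hgen
  refine ⟨g, fun x => ?_⟩
  have h1 : ι₀ g = α := congrArg Subtype.val hg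
  rw [← h1]
  rfl

end Cfsg.Agent.Lib.PGroup.ZStarAut
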