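import Mathlib
import Cfsg.Prelude.Def_FusionSystem
import Cfsg.Prelude.Def_Transfer
import Cfsg.Agent.Lib.PGroup.ZStarCor
import Cfsg.Agent.Lib.Basic.SylowUtil

/-!
# The `Z*`-theorem in fusion language and direct consequences (all conditional on `ZStarProp`)
-/

set_option autoImplicit false

namespace Cfsg.Agent.Lib.PGroup.ZStarFus

universe u

open Subgroup
open Cfsg.Agent.Lib.PGroup.ZStarCor

variable {G : Type u} [Group G] [Finite G]

/-- A `2`-subgroup of a group with a `2`-subgroup `P₁` normalizing an odd subgroup `O'`: conjugacy by `O'` of maps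
congruent to the identity modulo `O'`. -/
theorem exists_conj_of_congr (O' : Subgroup G) (hodd : (Nat.card O').Coprime 2) (P₁ P₂ : Subgroup G)
    (h1 : IsPGroup 2 P₁) (h2 : IsPGroup 2 P₂) (hn : P₁ ≤ normalizer (O' : Set G)) (hle : P₂ ≤ P₁ ⊔ O')
    (φ : G → G) (hφ : ∀ x ∈ P₁, φ x ∈ P₂ ∧ φ x * x⁻¹ ∈ O') :
    ∃ w ∈ O', ∀ x ∈ P₁, w * x * w⁻¹ = φ x := by
  classical
  -- an odd element which is a `2`-element is trivial
  have htriv : ∀ y ∈ O', ∀ k : ℕ, y ^ 2 ^ k = 1 → y = 1 := by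
    intro y hy k hk
    have h3 : orderOf y ∣ 2 ^ k := orderOf_dvd_of_pow_eq_one hk
    have h4 : orderOf y ∣ Nat.card O' := by
      have := orderOf_dvd_natCard (⟨y, hy⟩ : O')
      rwa [Subgroup.orderOf_mk] at this
    exact orderOf_eq_one_iff.mp
      (Nat.Coprime.eq_one_of_dvd ((Nat.Coprime.coprime_dvd_left h4 hodd).pow_right k) h3)
  set T : Subgroup G := P₁ ⊔ O' with hT
  have hP₁T : P₁ ≤ T := le_sup_left
  have hOT : O' ≤ T := le_sup_right
  have hp : IsPGroup 2 (P₁.subgroupOf T) :=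
    IsPGroup.of_injective h1 (Subgroup.subgroupOfEquivOfLe hP₁T).toMonoidHom
      (Subgroup.subgroupOfEquivOfLe hP₁T).injective
  obtain ⟨Y, hY⟩ := hp.exists_le_sylow
  -- `Y = P₁`
  have hYle : ∀ y : T, y ∈ (Y : Subgroup T) → (y : G) ∈ P₁ := by
    intro y hy
    obtain ⟨a, ha, b, hb, hab⟩ := Cfsg.Agent.Lib.Fusion.GroupSylow.exists_mul_of_mem_sup hn y.2
    have hbY : (⟨b, hOT hb⟩ : T) ∈ (Y : Subgroup T) := by
      have h3 : (⟨a, hP₁T ha⟩ : T) ∈ (Y : Subgroup T) := hY (Subgroup.mem_subgroupOf.mpr ha)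
      have h4 : (⟨b, hOT hb⟩ : T) = (⟨a, hP₁T ha⟩ : T)⁻¹ * y := by
        apply Subtype.ext
        push_cast
        rw [hab]
        group
      rw [h4]
      exact Subgroup.mul_mem _ (Subgroup.inv_mem _ h3) hy
    obtain ⟨k, hk⟩ := (IsPGroup.iff_orderOf.mp Y.isPGroup') ⟨_, hbY⟩
    rw [Subgroup.orderOf_mk, Subgroup.orderOf_mk] at hk
    have hb1 : b = 1 := by
      refine htriv b hb k ?_
      rw [← hk]
      exact pow_orderOf_eq_one b
    rw [hab, hb1, mul_one]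
    exact ha
  have hW : IsPGroup 2 (P₂.subgroupOf T) :=
    IsPGroup.of_injective h2 (Subgroup.subgroupOfEquivOfLe hle).toMonoidHom
      (Subgroup.subgroupOfEquivOfLe hle).injective
  obtain ⟨t, ht⟩ := Cfsg.Agent.Lib.Transfer.Frobenius.exists_conj_mem_of_isPGroup Y hW
  obtain ⟨a, ha, b, hb, hab⟩ := Cfsg.Agent.Lib.Fusion.GroupSylow.exists_mul_of_mem_sup hn t.2
  refine ⟨b⁻¹, O'.inv_mem hb, ?_⟩
  intro x hx
  obtain ⟨hx2, hxO⟩ := hφ x hx
  have h5 := hYle _ (ht ⟨φ x, hle hx2⟩ (Subgroup.mem_subgroupOf.mpr hx2))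
  have h6 : ((t * ⟨φ x, hle hx2⟩ * t⁻¹ : T) : G) = a * (b * φ x * b⁻¹) * a⁻¹ := by
    push_cast
    rw [hab]
    group
  rw [h6] at h5
  have h7 : b * φ x * b⁻¹ ∈ P₁ := by
    have h8 := P₁.mul_mem (P₁.mul_mem (P₁.inv_mem ha) h5) ha
    have h9 : a⁻¹ * (a * (b * φ x * b⁻¹) * a⁻¹) * a = b * φ x * b⁻¹ := by group
    rwa [h9] at h8
  -- the difference lies in `P₁ ∩ O'`
  set d := b * φ x * b⁻¹ * x⁻¹ with hd
  have hdP : d ∈ P₁ := P₁.mul_mem h7 (P₁.inv_mem hx)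
  have hdO : d ∈ O' := by
    have h10 : d = b * (φ x * x⁻¹) * (x * b⁻¹ * x⁻¹) := by
      rw [hd]
      group
    rw [h10]
    refine O'.mul_mem (O'.mul_mem hb hxO) ?_
    have hxn := hn hx
    rw [Subgroup.mem_normalizer_iff] at hxn
    exact (hxn _).mp (O'.inv_mem hb)
  obtain ⟨k, hk⟩ := (IsPGroup.iff_orderOf.mp h1) ⟨d, hdP⟩
  rw [Subgroup.orderOf_mk] at hk
  have hd1 : d = 1 := htriv d hdO k (by rw [← hk]; exact pow_orderOf_eq_one d)
  have h11 : b * φ x * b⁻¹ = x := eq_of_mul_inv_eq_one hd1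
  calc b⁻¹ * x * b⁻¹⁻¹ = b⁻¹ * (b * φ x * b⁻¹) * b⁻¹⁻¹ := by rw [h11]
    _ = φ x := by group

/-- For a `2`-subgroup `Z` central modulo `O(G)`, and a homomorphism induced by conjugation from `P ≤ C_G(Z)` into
`C_G(Z)`, the conjugating element can be taken in `C_G(Z)`. -/
theorem exists_centralizer_conj (Z : Subgroup G) (hZ2 : IsPGroup 2 Z)
    (hcomm : ∀ x ∈ Z, ∀ g : G, x * g * x⁻¹ * g⁻¹ ∈ Cfsg.oddCore G)
    (P : Subgroup G) (hP2 : IsPGroup 2 P) (hPC : P ≤ centralizer (Z : Set G)) (g : G)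
    (hgC : ∀ x ∈ P, g * x * g⁻¹ ∈ centralizer (Z : Set G)) :
    ∃ c ∈ centralizer (Z : Set G), ∀ x ∈ P, c * x * c⁻¹ = g * x * g⁻¹ := by
  classical
  set C := centralizer (Z : Set G) with hC
  set O := Cfsg.oddCore G with hOdef
  have hOn : O.Normal := inferInstance
  obtain ⟨o, ho, c, hc, rfl⟩ := exists_core_mul_centralizer Z hZ2 hcomm g
  set O' : Subgroup G := O ⊓ C with hO'
  have hodd : (Nat.card O').Coprime 2 := by
    have h1 : Nat.card O' ∣ Nat.card O := Subgroup.card_dvd_of_le inf_le_left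
    exact Nat.Coprime.coprime_dvd_left h1 (Cfsg.Agent.Lib.Solvable.PSeries.pPrimeCore_coprime 2)
  let P₁ : Subgroup G := P.map (MulAut.conj c).toMonoidHom
  let P₂ : Subgroup G := P.map (MulAut.conj (o * c)).toMonoidHom
  have hP₁C : P₁ ≤ C := by
    rintro _ ⟨x, hx, rfl⟩
    exact C.mul_mem (C.mul_mem hc (hPC hx)) (C.inv_mem hc)
  have hP₂C : P₂ ≤ C := by
    rintro _ ⟨x, hx, rfl⟩
    exact hgC x hx
  have hn : P₁ ≤ normalizer (O' : Set G) := by
    intro x hx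
    rw [Subgroup.mem_normalizer_iff]
    intro n
    have hxC := hP₁C hx
    constructor
    · rintro ⟨h1, h2⟩
      exact ⟨hOn.conj_mem n h1 x, C.mul_mem (C.mul_mem hxC h2) (C.inv_mem hxC)⟩
    · rintro ⟨h1, h2⟩
      refine ⟨?_, ?_⟩
      · have h3 := hOn.conj_mem _ h1 x⁻¹
        have h4 : x⁻¹ * (x * n * x⁻¹) * x⁻¹⁻¹ = n := by group
        rwa [h4] at h3
      · have h3 := C.mul_mem (C.mul_mem (C.inv_mem hxC) h2) hxC
        have h4 : x⁻¹ * (x * n * x⁻¹) * x = n := by group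
        rwa [h4] at h3
  have hkey : ∀ x₁ ∈ P₁, o * x₁ * o⁻¹ ∈ P₂ ∧ o * x₁ * o⁻¹ * x₁⁻¹ ∈ O' := by
    rintro _ ⟨x, hx, rfl⟩
    have h1 : o * ((MulAut.conj c).toMonoidHom x) * o⁻¹ = (MulAut.conj (o * c)).toMonoidHom x := by
      simp only [MulEquiv.coe_toMonoidHom, MulAut.conj_apply]
      group
    rw [h1]
    refine ⟨⟨x, hx, rfl⟩, ?_, ?_⟩
    · rw [← h1]
      have h2 : o * (MulAut.conj c).toMonoidHom x * o⁻¹ * ((MulAut.conj c).toMonoidHom x)⁻¹
          = o * ((MulAut.conj c).toMonoidHom x * o⁻¹ * ((MulAut.conj c).toMonoidHom x)⁻¹) := by group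
      rw [h2]
      exact O.mul_mem ho (hOn.conj_mem _ (O.inv_mem ho) _)
    · exact C.mul_mem (hP₂C ⟨x, hx, rfl⟩) (C.inv_mem (hP₁C ⟨x, hx, rfl⟩))
  have hle : P₂ ≤ P₁ ⊔ O' := by
    rintro _ ⟨x, hx, rfl⟩
    obtain ⟨h1, h2⟩ := hkey _ ⟨x, hx, rfl⟩
    have h3 : (MulAut.conj (o * c)).toMonoidHom x
        = (o * ((MulAut.conj c).toMonoidHom x) * o⁻¹ * ((MulAut.conj c).toMonoidHom x)⁻¹)
          * (MulAut.conj c).toMonoidHom x := by
      simp only [MulEquiv.coe_toMonoidHom, MulAut.conj_apply]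
      group
    rw [h3]
    exact (P₁ ⊔ O').mul_mem (le_sup_right (a := P₁) h2) (le_sup_left (b := O') ⟨x, hx, rfl⟩)
  have hP₁2 : IsPGroup 2 P₁ := hP2.map _
  have hP₂2 : IsPGroup 2 P₂ := hP2.map _
  obtain ⟨w, hw, hwx⟩ := exists_conj_of_congr O' hodd P₁ P₂ hP₁2 hP₂2 hn hle (fun x => o * x * o⁻¹)
    (fun x hx => hkey x hx)
  refine ⟨w * c, C.mul_mem hw.2 hc, ?_⟩
  intro x hx
  have := hwx ((MulAut.conj c).toMonoidHom x) ⟨x, hx, rfl⟩
  simp only [MulEquiv.coe_toMonoidHom, MulAut.conj_apply] at this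
  calc w * c * x * (w * c)⁻¹ = w * (c * x * c⁻¹) * w⁻¹ := by group
    _ = o * (c * x * c⁻¹) * o⁻¹ := this
    _ = o * c * x * (o * c)⁻¹ := by group

/-- **`Z(F_S(G)) = S ∩ Z*(G)`**, conditional on `Z*`. -/
theorem fusion_center_eq (hZ : ZStarProp.{u}) (S : Sylow 2 G) :
    (Cfsg.groupFusionSystem (S : Subgroup G)).center =
      (S : Subgroup G) ⊓ (Subgroup.center (G ⧸ Cfsg.oddCore G)).comap (QuotientGroup.mk' (Cfsg.oddCore G)) := by
  classical
  set O := Cfsg.oddCore G with hOdef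
  have hOn : O.Normal := inferInstance
  set T : Subgroup G := (S : Subgroup G) ⊓ (Subgroup.center (G ⧸ O)).comap (QuotientGroup.mk' O) with hT
  have hTS : T ≤ S := inf_le_left
  have hTcomm : ∀ x ∈ T, ∀ g : G, x * g * x⁻¹ * g⁻¹ ∈ O := by
    intro x hx g
    have h1 : QuotientGroup.mk' O x ∈ Subgroup.center (G ⧸ O) := hx.2
    have h2 := Subgroup.mem_center_iff.mp h1 (QuotientGroup.mk' O g)
    rw [← QuotientGroup.eq_one_iff]
    have h3 : ((x * g * x⁻¹ * g⁻¹ : G) : G ⧸ O) =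
        QuotientGroup.mk' O x * QuotientGroup.mk' O g * (QuotientGroup.mk' O x)⁻¹ * (QuotientGroup.mk' O g)⁻¹ := by
      simp
    rw [h3, ← h2]
    group
  have hT2 : IsPGroup 2 T := (S : Sylow 2 G).isPGroup'.to_le hTS
  have hSC : (S : Subgroup G) ≤ centralizer (T : Set G) := by
    intro s hs
    rw [Subgroup.mem_centralizer_iff]
    intro x hx
    have h1 := hTcomm x hx s⁻¹
    have h2 : x * s⁻¹ * x⁻¹ * s⁻¹⁻¹ ∈ (S : Subgroup G) :=
      S.mul_mem (S.mul_mem (S.mul_mem (hTS hx) (S.inv_mem hs)) (S.inv_mem (hTS hx))) (S.inv_mem (S.inv_mem hs))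
    obtain ⟨k, hk⟩ := (IsPGroup.iff_orderOf.mp S.isPGroup') ⟨_, h2⟩
    rw [Subgroup.orderOf_mk] at hk
    have h3 := eq_one_of_mem_oddCore h1 (a := k) (by rw [← hk]; exact pow_orderOf_eq_one _)
    have h4 : x * s⁻¹ * x⁻¹ * s = 1 := by simpa using h3
    have h5 : x * s⁻¹ = s⁻¹ * x := by
      have h6 : x * s⁻¹ * x⁻¹ = s⁻¹ := eq_inv_of_mul_eq_one_left h4
      calc x * s⁻¹ = (x * s⁻¹ * x⁻¹) * x := by group
        _ = s⁻¹ * x := by rw [h6]
    calc x * s = s * (s⁻¹ * x) * s := by group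
      _ = s * (x * s⁻¹) * s := by rw [h5]
      _ = s * x := by group
  apply le_antisymm
  · -- every central subgroup lies in `T`
    apply sSup_le
    rintro Q ⟨hQS, hQ⟩
    intro x hx
    have hxS : x ∈ (S : Subgroup G) := hQS hx
    refine ⟨hxS, ?_⟩
    -- fixed by every map
    have hfix : ∀ y ∈ Q, ∀ (R : Subgroup G) (hyR : y ∈ R) (g : G), R ≤ S → (∀ r ∈ R, g * r * g⁻¹ ∈ S) →
        g * y * g⁻¹ = y := by
      intro y hy R hyR g hRS hg
      obtain ⟨ψ, -, hψ1, hψ2⟩ := hQ R (Cfsg.conjHom R g) ⟨hRS, fun r => hg r r.2, g, fun r => rfl⟩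
      have h1 := hψ1 ⟨y, hyR⟩
      have h2 := hψ2 ⟨y, hy⟩
      have h3 : Subgroup.inclusion (le_sup_left : R ≤ R ⊔ Q) ⟨y, hyR⟩ =
          Subgroup.inclusion (le_sup_right : Q ≤ R ⊔ Q) ⟨y, hy⟩ := rfl
      rw [h3, h2] at h1
      exact h1.symm
    have hcc : ∀ s ∈ S, s * x * s⁻¹ = x := fun s hs =>
      hfix x hx S hxS s le_rfl (fun r hr => S.mul_mem (S.mul_mem hs hr) (S.inv_mem hs))
    have hw : ∀ y ∈ zpowers x, ∀ g : G, g * y * g⁻¹ ∈ S → g * y * g⁻¹ ∈ zpowers y := by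
      intro y hy g hg
      have hyQ : y ∈ Q := (zpowers_le.mpr hx) hy
      have h1 : g * y * g⁻¹ = y := by
        refine hfix y hyQ (zpowers y) (mem_zpowers y) g ?_ ?_
        · rw [zpowers_le]
          exact hQS hyQ
        · rintro _ ⟨k, rfl⟩
          have h2 : g * (fun n : ℤ => y ^ n) k * g⁻¹ = (g * y * g⁻¹) ^ k := by
            show g * y ^ k * g⁻¹ = _
            rw [← MulAut.conj_apply, map_zpow, MulAut.conj_apply]
          rw [h2]
          exact Subgroup.zpow_mem _ hg k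
      rw [h1]
      exact mem_zpowers y
    show QuotientGroup.mk' O x ∈ Subgroup.center (G ⧸ O)
    rw [Subgroup.mem_center_iff]
    intro q
    obtain ⟨g, rfl⟩ := QuotientGroup.mk'_surjective O q
    have h1 := comm_mem_of_weakly_closed hZ S hxS hcc hw g
    rw [← QuotientGroup.eq_one_iff] at h1
    have h2 : ((x * g * x⁻¹ * g⁻¹ : G) : G ⧸ O) =
        QuotientGroup.mk' O x * QuotientGroup.mk' O g * (QuotientGroup.mk' O x)⁻¹ * (QuotientGroup.mk' O g)⁻¹ := by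
      simp
    rw [h2] at h1
    have h3 : QuotientGroup.mk' O x * QuotientGroup.mk' O g * (QuotientGroup.mk' O x)⁻¹ = QuotientGroup.mk' O g :=
      eq_of_mul_inv_eq_one h1
    have h4 : QuotientGroup.mk' O g * QuotientGroup.mk' O x = QuotientGroup.mk' O x * QuotientGroup.mk' O g := by
      calc QuotientGroup.mk' O g * QuotientGroup.mk' O x
          = (QuotientGroup.mk' O x * QuotientGroup.mk' O g * (QuotientGroup.mk' O x)⁻¹) * QuotientGroup.mk' O x := by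
            rw [h3]
        _ = QuotientGroup.mk' O x * QuotientGroup.mk' O g := by group
    exact h4
  · -- `T` is central
    apply le_sSup
    refine ⟨hTS, ?_⟩
    rintro P φ ⟨hPS, hφS, g, hg⟩
    have hg' : ∀ x ∈ P, g * x * g⁻¹ ∈ centralizer (T : Set G) := by
      intro x hx
      have h1 := hφS ⟨x, hx⟩
      rw [hg] at h1
      exact hSC h1
    obtain ⟨c, hc, hcx⟩ := exists_centralizer_conj T hT2 hTcomm P (S.isPGroup'.to_le hPS)
      (hPS.trans hSC) g hg'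
    have hmem : ∀ y ∈ P ⊔ T, c * y * c⁻¹ ∈ (S : Subgroup G) := by
      intro y hy
      have hle : (P ⊔ T).map (MulAut.conj c).toMonoidHom ≤ S := by
        rw [Subgroup.map_sup, sup_le_iff]
        constructor
        · rintro _ ⟨x, hx, rfl⟩
          have h1 := hφS ⟨x, hx⟩
          rw [hg] at h1
          have h2 := hcx x hx
          simp only [MulEquiv.coe_toMonoidHom, MulAut.conj_apply]
          rw [h2]
          exact h1
        · rintro _ ⟨x, hx, rfl⟩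
          simp only [MulEquiv.coe_toMonoidHom, MulAut.conj_apply]
          have h3 : c * x = x * c := ((Subgroup.mem_centralizer_iff.mp hc) x hx).symm
          rw [h3]
          simpa using hTS hx
      exact hle ⟨y, hy, rfl⟩
    refine ⟨Cfsg.conjHom (P ⊔ T) c, ⟨sup_le hPS hTS, fun y => hmem y y.2, c, fun y => rfl⟩, ?_, ?_⟩
    · intro x
      have h1 := hcx x x.2
      rw [hg]
      exact h1
    · intro x
      show c * (x : G) * c⁻¹ = x
      have h3 : c * (x : G) = x * c := ((Subgroup.mem_centralizer_iff.mp hc) x x.2).symm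
      rw [h3]
      group

end Cfsg.Agent.Lib.PGroup.ZStarFus
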